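import Mathlib
import Cfsg.Prelude.Def_Characters
import Cfsg.Prelude.Def_OddOrderChar

/-!
# Peterfalvi (12.7) = S1540, character-theoretic core: definitions (helper74)

`dadeAvg R ν a` is the Dade restriction `ρ(ν)(a) = |R a|⁻¹ ∑_{u ∈ R a} ν (a u)`;
`dadeSupp A R` is the Dade support: the elements of `G` conjugate into some coset `a · R a`,
`a ∈ A` (the set appearing in the frozen statement S1525).
-/

set_option autoImplicit false

namespace Cfsg.Agent.Lib.Helper74.PF127

open Cfsg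
open scoped ComplexConjugate

/-- The Dade average `ρ(ν)(a) = |R a|⁻¹ ∑_{u ∈ R a} ν (a u)`. -/
noncomputable def dadeAvg {G : Type*} [Group G] (R : G → Subgroup G) (ν : G → ℂ) (a : G) : ℂ :=
  (Nat.card (R a) : ℂ)⁻¹ * ∑ᶠ u ∈ (R a : Set G), ν (a * u)

/-- The Dade support of `(A, R)`. -/
def dadeSupp {G : Type*} [Group G] (A : Set G) (R : G → Subgroup G) : Set G :=
  {g | ∃ a ∈ A, ∃ u ∈ R a, ∃ y : G, y * g * y⁻¹ = a * u}

theorem dadeAvg_bot {G : Type*} [Group G] (R : G → Subgroup G) (ν : G → ℂ) (a : G)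
    (h : R a = ⊥) : dadeAvg R ν a = ν a := by
  unfold dadeAvg
  rw [h]
  simp

open scoped Classical in
/-- The Dade restriction of `ν` to `L`: `dadeAvg` on `A`, zero outside `A`. -/
noncomputable def dadeRes {G : Type*} [Group G] (A : Set G) (L : Subgroup G) (R : G → Subgroup G)
    (ν : G → ℂ) : L → ℂ :=
  fun l => if (l : G) ∈ A then dadeAvg R ν (l : G) else 0

theorem dadeRes_of_mem {G : Type*} [Group G] (A : Set G) (L : Subgroup G) (R : G → Subgroup G)
    (ν : G → ℂ) (l : L) (hl : (l : G) ∈ A) : dadeRes A L R ν l = dadeAvg R ν (l : G) := by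
  unfold dadeRes
  rw [if_pos hl]

theorem dadeRes_of_not_mem {G : Type*} [Group G] (A : Set G) (L : Subgroup G)
    (R : G → Subgroup G) (ν : G → ℂ) (l : L) (hl : (l : G) ∉ A) : dadeRes A L R ν l = 0 := by
  unfold dadeRes
  rw [if_neg hl]

end Cfsg.Agent.Lib.Helper74.PF127
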