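import Mathlib
import Cfsg.Agent.Lib.Helper78.CharMore

set_option autoImplicit false

namespace Cfsg.Agent.Lib.Helper74

open Cfsg Cfsg.Agent.Lib.Helper78
open scoped ComplexConjugate

universe u

variable {G : Type u} [Group G] [Fintype G]

/-- A class function with integer multiplicities, norm one and positive degree is an
irreducible character. -/
theorem isIrrCharacter_of_int_coeff {ψ : G → ℂ} (hcf : IsClassFunction G ψ)
    (hint : ∀ χ : IrrCharacter G, ∃ n : ℤ, classInner ψ (χ : G → ℂ) = n)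
    (hnorm : classInner ψ ψ = 1) (hpos : 0 < (ψ 1).re) : IsIrrCharacter G ψ := by
  classical
  choose m hm using hint
  have hP := classInner_eq_sum_mul_conj ψ hcf
  rw [hnorm] at hP
  simp only [hm, map_intCast] at hP
  have hN : ∑ χ : IrrCharacter G, m χ * m χ = 1 := by
    have : ((∑ χ : IrrCharacter G, m χ * m χ : ℤ) : ℂ) = 1 := by
      push_cast; exact hP.symm
    exact_mod_cast this
  have hex : ∃ χ, m χ ≠ 0 := by
    by_contra hall
    simp only [not_exists, not_not] at hall
    simp [hall] at hN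
  obtain ⟨χ₀, hχ₀⟩ := hex
  have hle : ∀ χ, m χ * m χ ≤ 1 := by
    intro χ
    rw [← hN]
    exact Finset.single_le_sum (f := fun χ => m χ * m χ) (fun _ _ => mul_self_nonneg _)
      (Finset.mem_univ χ)
  have hrest : ∀ χ, χ ≠ χ₀ → m χ = 0 := by
    intro χ hne
    by_contra hpos'
    have h2 : m χ₀ * m χ₀ + m χ * m χ ≤ ∑ φ : IrrCharacter G, m φ * m φ := by
      have := Finset.add_le_sum (f := fun φ => m φ * m φ) (s := Finset.univ)
        (fun _ _ => mul_self_nonneg _) (Finset.mem_univ χ₀) (Finset.mem_univ χ) hne.symm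
      simpa using this
    rw [hN] at h2
    have h3 : 0 < m χ * m χ := mul_self_pos.mpr hpos'
    have h4 : 0 < m χ₀ * m χ₀ := mul_self_pos.mpr hχ₀
    omega
  have hψ : ψ = (m χ₀ : ℂ) • (χ₀ : G → ℂ) := by
    conv_lhs => rw [classFunction_eq_sum_irr hcf]
    rw [Finset.sum_eq_single χ₀]
    · rw [hm]
    · intro χ _ hne
      rw [hm, hrest χ hne]; simp
    · intro h; exact absurd (Finset.mem_univ χ₀) h
  have hm₀ : m χ₀ = 1 ∨ m χ₀ = -1 := by
    have h1 := hle χ₀
    have h2 : 0 < m χ₀ * m χ₀ := mul_self_pos.mpr hχ₀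
    have h3 : m χ₀ * m χ₀ = 1 := by omega
    rcases mul_self_eq_one_iff.mp h3 with h | h
    · exact Or.inl h
    · exact Or.inr h
  have hdeg : 0 < ((χ₀ : G → ℂ) 1).re := by
    rw [IsCharacter.apply_one_eq_charDegree (IsIrrCharacter.isCharacter χ₀.2)]
    have := IsIrrCharacter.charDegree_pos χ₀.2
    simpa using this
  rcases hm₀ with h | h
  · rw [hψ, h]
    simpa using χ₀.2
  · exfalso
    rw [hψ, h] at hpos
    simp at hpos
    linarith

end Cfsg.Agent.Lib.Helper74
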