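import Mathlib
import Cfsg.Prelude.Def_Solvable
import Cfsg.Agent.S0034
import Cfsg.Agent.Lib.Helper75.Clifford
import Cfsg.Agent.Lib.Helper74.GenIrr

set_option autoImplicit false

namespace Cfsg.Agent.Lib.Helper74

open Cfsg Cfsg.Agent.Lib.Helper78 Cfsg.Agent.Lib.Helper75
open scoped ComplexConjugate Pointwise

universe u

section TI

variable {G : Type u} [Group G] [Fintype G] (H : Subgroup G)

/-- the inner product of two characters is a natural number -/
theorem IsCharacter.exists_nat_classInner_char {χ ψ : G → ℂ} (hχ : IsCharacter G χ)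
    (hψ : IsCharacter G ψ) : ∃ n : ℕ, classInner χ ψ = n := by
  rw [classInner_eq_sum_mul_conj ψ (IsCharacter.isClassFunction hχ)]
  choose a ha using fun φ => IsCharacter.exists_nat_classInner hχ φ
  choose b hb using fun φ => IsCharacter.exists_nat_classInner hψ φ
  refine ⟨∑ φ, a φ * b φ, ?_⟩
  simp [ha, hb]

theorem classInner_one_one : classInner (1 : G → ℂ) (1 : G → ℂ) = 1 :=
  classInner_irr_self (isIrrCharacter_one (G := G))

/-- Induction from a TI subgroup: values on nonidentity elements of `H`. -/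
theorem indFun_of_mem_of_TI (hTI : ∀ g : G, g ∉ H → H ⊓ (MulAut.conj g • H) = ⊥) {θ : H → ℂ}
    (hθ : IsClassFunction H θ) {h : G} (hh : h ∈ H) (h1 : h ≠ 1) :
    indFun H θ h = θ ⟨h, hh⟩ := by
  classical
  unfold indFun
  have key : ∀ x : G, extendByZero H θ (x⁻¹ * h * x) = if x ∈ H then θ ⟨h, hh⟩ else 0 := by
    intro x
    split_ifs with hx
    · rw [extendByZero_of_mem H θ (H.mul_mem (H.mul_mem (H.inv_mem hx) hh) hx)]
      have := hθ ⟨h, hh⟩ (⟨x, hx⟩⁻¹ : H)
      rw [inv_inv] at this
      exact this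
    · apply extendByZero_of_not_mem
      intro hmem
      have : h ∈ H ⊓ MulAut.conj x • H := ⟨hh, Cfsg.Agent.S0034.mem_conj_smul_iff.mpr hmem⟩
      rw [hTI x hx, Subgroup.mem_bot] at this
      exact h1 this
  simp only [key]
  rw [Finset.sum_ite, Finset.sum_const_zero, add_zero, Finset.sum_const, nsmul_eq_mul]
  have hc : (Finset.univ.filter (· ∈ H)).card = Nat.card H :=
    (Nat.subtype_card _ (by simp)).symm
  rw [hc]
  have hH : (Nat.card H : ℂ) ≠ 0 := by
    have : Nat.card H ≠ 0 := Nat.card_pos.ne'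
    exact_mod_cast this
  field_simp

/-- Induction from a subgroup vanishes off the conjugates of the subgroup. -/
theorem indFun_of_forall_not_mem_conj (θ : H → ℂ) {g : G}
    (hg : ∀ x : G, g ∉ MulAut.conj x • H) : indFun H θ g = 0 := by
  unfold indFun
  rw [Finset.sum_eq_zero, mul_zero]
  intro x _
  apply extendByZero_of_not_mem
  intro hmem
  exact hg x (Cfsg.Agent.S0034.mem_conj_smul_iff.mpr hmem)

/-- The map of class functions `ψ ↦ (ψ - ψ(1) 1_H)^G + ψ(1) 1_G` used in the proof of
Frobenius' theorem. -/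
noncomputable def frobStar (ψ : H → ℂ) : G → ℂ :=
  indFun H (ψ - ψ 1 • (1 : H → ℂ)) + ψ 1 • (1 : G → ℂ)

theorem isClassFunction_frobStar (ψ : H → ℂ) : IsClassFunction G (frobStar H ψ) := by
  apply isClassFunction_add (isClassFunction_indFun H _)
  intro g h
  rfl

theorem frobStar_one (ψ : H → ℂ) : frobStar H ψ 1 = ψ 1 := by
  unfold frobStar
  rw [Pi.add_apply, indFun_one]
  simp

theorem frobStar_of_mem (hTI : ∀ g : G, g ∉ H → H ⊓ (MulAut.conj g • H) = ⊥) {ψ : H → ℂ}
    (hψ : IsClassFunction H ψ) {h : G} (hh : h ∈ H) : frobStar H ψ h = ψ ⟨h, hh⟩ := by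
  by_cases h1 : h = 1
  · subst h1
    rw [frobStar_one]
    rfl
  · unfold frobStar
    rw [Pi.add_apply, indFun_of_mem_of_TI H hTI _ hh h1]
    · simp
    · apply isClassFunction_sub hψ
      intro g h
      rfl

theorem frobStar_of_mem_kernel (ψ : H → ℂ) {g : G} (hg : g ∈ frobeniusKernel H) :
    frobStar H ψ g = ψ 1 := by
  rcases hg with rfl | hg
  · exact frobStar_one H ψ
  · unfold frobStar
    rw [Pi.add_apply, indFun_of_forall_not_mem_conj H _ hg]
    simp

end TI

end Cfsg.Agent.Lib.Helper74
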