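import Mathlib
import Cfsg.Agent.Lib.Helper75.Clifford2
import Cfsg.Agent.Lib.Helper81.BrauerPerm
import Cfsg.Agent.Lib.Helper74.FrobTI

set_option autoImplicit false

namespace Cfsg.Agent.Lib.Helper74

open Cfsg Cfsg.Agent.Lib.Helper78 Cfsg.Agent.Lib.Helper75 Cfsg.Agent.Lib.Helper81
open scoped ComplexConjugate

universe u

section FrobGroup

variable {G : Type u} [Group G]

/-- In `G = K ⋊ H` with `H` acting fixed-point-freely, every element `k h` with `1 ≠ h ∈ H`
is a `K`-conjugate of `h`. -/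
theorem exists_conj_eq_mul_of_fpf [Finite G] (K H : Subgroup G) [hK : K.Normal]
    (hfpf : ∀ h ∈ H, h ≠ 1 → ∀ k ∈ K, h * k = k * h → k = 1)
    {h : G} (hh : h ∈ H) (h1 : h ≠ 1) {k : G} (hk : k ∈ K) :
    ∃ x ∈ K, k * h = x⁻¹ * h * x := by
  let φ : K → K := fun x => ⟨(x : G)⁻¹ * (h * x * h⁻¹),
    K.mul_mem (K.inv_mem x.2) (hK.conj_mem x x.2 h)⟩
  have hinj : Function.Injective φ := by
    intro x z hxz
    have h2 : (x : G)⁻¹ * (h * x * h⁻¹) = (z : G)⁻¹ * (h * z * h⁻¹) := congrArg Subtype.val hxz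
    have h3 : h * ((x : G) * (z : G)⁻¹) = ((x : G) * (z : G)⁻¹) * h := by
      have h4 : (z : G) * (x : G)⁻¹ * h * (x : G) = h * (z : G) := by
        have := congrArg (fun t => (z : G) * t * h) h2
        have e1 : (z : G) * ((x : G)⁻¹ * (h * x * h⁻¹)) * h = (z : G) * (x : G)⁻¹ * h * (x : G) := by
          group
        have e2 : (z : G) * ((z : G)⁻¹ * (h * z * h⁻¹)) * h = h * (z : G) := by group
        rw [e1, e2] at this
        exact this
      have h5 : h = (x : G) * (z : G)⁻¹ * h * (z : G) * (x : G)⁻¹ := by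
        have := congrArg (fun t => (x : G) * (z : G)⁻¹ * t * (x : G)⁻¹) h4
        have e1 : (x : G) * (z : G)⁻¹ * ((z : G) * (x : G)⁻¹ * h * (x : G)) * (x : G)⁻¹ = h := by group
        have e2 : (x : G) * (z : G)⁻¹ * (h * (z : G)) * (x : G)⁻¹
            = (x : G) * (z : G)⁻¹ * h * (z : G) * (x : G)⁻¹ := by group
        rw [e1, e2] at this
        exact this
      calc h * ((x : G) * (z : G)⁻¹)
          = ((x : G) * (z : G)⁻¹ * h * (z : G) * (x : G)⁻¹) * ((x : G) * (z : G)⁻¹) := by rw [← h5]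
        _ = (x : G) * (z : G)⁻¹ * h := by group
    have h6 := hfpf h hh h1 _ (K.mul_mem x.2 (K.inv_mem z.2)) h3
    apply Subtype.ext
    exact mul_inv_eq_one.mp h6
  have hsurj : Function.Surjective φ := Finite.injective_iff_surjective.mp hinj
  obtain ⟨x, hx⟩ := hsurj ⟨k, hk⟩
  refine ⟨x, x.2, ?_⟩
  have : (x : G)⁻¹ * (h * x * h⁻¹) = k := congrArg Subtype.val hx
  rw [← this]
  group

/-- In a Frobenius group `G = K ⋊ H` the centralizer of a nonidentity element of the kernel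
lies in the kernel. -/
theorem centralizer_le_of_fpf [Finite G] (K H : Subgroup G) [hK : K.Normal] (hKH' : K ⊔ H = ⊤)
    (hfpf : ∀ h ∈ H, h ≠ 1 → ∀ k ∈ K, h * k = k * h → k = 1)
    {n : G} (hn : n ∈ K) (hn1 : n ≠ 1) : Subgroup.centralizer ({n} : Set G) ≤ K := by
  intro g hg
  rw [Subgroup.mem_centralizer_singleton_iff] at hg
  have hgtop : g ∈ K ⊔ H := by rw [hKH']; exact Subgroup.mem_top g
  obtain ⟨k, hk, h, hh, rfl⟩ := Subgroup.mem_sup_of_normal_left.mp hgtop
  by_cases h1 : h = 1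
  · subst h1
    simpa using hk
  · exfalso
    obtain ⟨x, hx, hxe⟩ := exists_conj_eq_mul_of_fpf K H hfpf hh h1 hk
    rw [hxe] at hg
    -- `h` commutes with `x n x⁻¹`
    have hc : h * (x * n * x⁻¹) = (x * n * x⁻¹) * h := by
      have := congrArg (fun t => x * t * x⁻¹) hg
      have e1 : x * (x⁻¹ * h * x * n) * x⁻¹ = h * (x * n * x⁻¹) := by group
      have e2 : x * (n * (x⁻¹ * h * x)) * x⁻¹ = (x * n * x⁻¹) * h := by group
      rw [e1, e2] at this
      exact this
    have := hfpf h hh h1 _ (hK.conj_mem n hn x) hc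
    apply hn1
    have e : n = x⁻¹ * (x * n * x⁻¹) * x := by group
    rw [e, this]
    group

end FrobGroup

end Cfsg.Agent.Lib.Helper74
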