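import Mathlib
import Cfsg.Agent.Lib.Helper74.FrobGroup

set_option autoImplicit false

namespace Cfsg.Agent.Lib.Helper74

open Cfsg Cfsg.Agent.Lib.Helper78 Cfsg.Agent.Lib.Helper75 Cfsg.Agent.Lib.Helper81
open scoped ComplexConjugate

universe u

section Inertia

variable {G : Type u} [Group G] [Fintype G] (N : Subgroup G) [hN : N.Normal]

/-- If centralizers of nonidentity elements of the normal subgroup `N` lie in `N`, then an element
outside `N` fixes no nonprincipal irreducible character of `N`. -/
theorem eq_one_of_conjFun_eq_of_centralizer_le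
    (hC : ∀ n ∈ N, n ≠ 1 → Subgroup.centralizer ({n} : Set G) ≤ N)
    {g : G} (hg : g ∉ N) {θ : N → ℂ} (hθ : IsIrrCharacter N θ) (hfix : conjFun N g θ = θ) :
    θ = fun _ => 1 := by
  classical
  have : Fintype N := Fintype.ofFinite N
  let a : IrrCharacter N → IrrCharacter N := fun χ =>
    ⟨conjFun N g (χ : N → ℂ), isIrrCharacter_conjFun N χ.2 g⟩
  let b : N → N := fun y => ⟨g⁻¹ * y * g, by
    have := hN.conj_mem y y.2 g⁻¹
    rwa [inv_inv] at this⟩
  have hb : Function.Bijective b := by
    refine Function.bijective_iff_has_inverse.mpr ⟨fun y => ⟨g * y * g⁻¹, hN.conj_mem y y.2 g⟩, ?_, ?_⟩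
    · intro y
      apply Subtype.ext
      show g * (g⁻¹ * (y : G) * g) * g⁻¹ = y
      group
    · intro y
      apply Subtype.ext
      show g⁻¹ * (g * (y : G) * g⁻¹) * g = y
      group
  have hab : ∀ (χ : IrrCharacter N) (y : N), (a χ : N → ℂ) (b y) = (χ : N → ℂ) y := by
    intro χ y
    show conjFun N g (χ : N → ℂ) (b y) = _
    rw [conjFun_apply]
    apply congrArg
    apply Subtype.ext
    show g * (g⁻¹ * (y : G) * g) * g⁻¹ = y
    group
  have hcount := brauer_perm_count a b hb hab
  -- the right-hand side counts `|N|` pairs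
  have hrhs : Nat.card {p : N × N // p.2 * p.1 * p.2⁻¹ = b p.1} = Nat.card N := by
    refine Nat.card_congr ⟨fun p => p.1.2, fun k => ⟨(1, k), ?_⟩, ?_, ?_⟩
    · apply Subtype.ext
      show ((k * 1 * k⁻¹ : N) : G) = g⁻¹ * ((1 : N) : G) * g
      simp
    · rintro ⟨⟨y, k⟩, hp⟩
      have hy : y = 1 := by
        by_contra hy1
        have hp' : (k : G) * y * (k : G)⁻¹ = g⁻¹ * y * g := congrArg Subtype.val hp
        have hcomm : g * k ∈ Subgroup.centralizer ({(y : G)} : Set G) := by
          rw [Subgroup.mem_centralizer_singleton_iff]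
          have := congrArg (fun t => g * t * (k : G)) hp'
          have e1 : g * ((k : G) * y * (k : G)⁻¹) * (k : G) = g * k * y := by group
          have e2 : g * (g⁻¹ * (y : G) * g) * (k : G) = y * (g * k) := by group
          rw [e1, e2] at this
          exact this
        have hyN : (y : G) ≠ 1 := fun h => hy1 (Subtype.ext h)
        have hgk := hC y y.2 hyN hcomm
        apply hg
        have : g = (g * k) * (k : G)⁻¹ := by group
        rw [this]
        exact N.mul_mem hgk (N.inv_mem k.2)
      subst hy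
      rfl
    · intro k
      rfl
  rw [hrhs] at hcount
  have hNne : (Nat.card N : ℂ) ≠ 0 := by
    have : Nat.card N ≠ 0 := Nat.card_pos.ne'
    exact_mod_cast this
  have hone : Nat.card {χ : IrrCharacter N // a χ = χ} = 1 := by
    have : (Nat.card {χ : IrrCharacter N // a χ = χ} : ℂ) = 1 := by
      have h2 : (Nat.card {χ : IrrCharacter N // a χ = χ} : ℂ) * (Nat.card N : ℂ)
          = 1 * (Nat.card N : ℂ) := by rw [hcount, one_mul]
      exact mul_right_cancel₀ hNne h2
    exact_mod_cast this
  have hsub : Subsingleton {χ : IrrCharacter N // a χ = χ} :=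
    (Nat.card_eq_one_iff_unique.mp hone).1
  let one' : IrrCharacter N := ⟨fun _ => 1, isIrrCharacter_one⟩
  have h1fix : a one' = one' := by
    apply Subtype.ext
    rfl
  have hθfix : a ⟨θ, hθ⟩ = ⟨θ, hθ⟩ := by
    apply Subtype.ext
    exact hfix
  have := hsub.elim ⟨⟨θ, hθ⟩, hθfix⟩ ⟨one', h1fix⟩
  exact congrArg (fun x => (x.1 : N → ℂ)) this

end Inertia

end Cfsg.Agent.Lib.Helper74
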