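import Mathlib
import Cfsg.Agent.Lib.Helper74.FrobInertia

set_option autoImplicit false

namespace Cfsg.Agent.Lib.Helper74

open Cfsg Cfsg.Agent.Lib.Helper78 Cfsg.Agent.Lib.Helper75 Cfsg.Agent.Lib.Helper81
open scoped ComplexConjugate

universe u

section Induced

variable {G : Type u} [Group G] [Fintype G] (N : Subgroup G) [hN : N.Normal]

/-- If centralizers of nonidentity elements of the normal subgroup `N` lie in `N`, every
nonprincipal irreducible character of `N` induces irreducibly to `G`. -/
theorem isIrrCharacter_indFun_of_centralizer_le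
    (hC : ∀ n ∈ N, n ≠ 1 → Subgroup.centralizer ({n} : Set G) ≤ N)
    {θ : N → ℂ} (hθ : IsIrrCharacter N θ) (hθ1 : θ ≠ fun _ => 1) :
    IsIrrCharacter G (indFun N θ) := by
  classical
  have : Fintype N := Fintype.ofFinite N
  have hT : ∀ g : G, g ∈ N ↔ conjFun N g θ = θ := by
    intro g
    constructor
    · intro hg
      exact conjFun_of_mem N (IsCharacter.isClassFunction (IsIrrCharacter.isCharacter hθ)) ⟨g, hg⟩
    · intro hfix
      by_contra hg
      exact hθ1 (eq_one_of_conjFun_eq_of_centralizer_le N hC hg hθ hfix)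
  apply isIrrCharacter_of_int_coeff (isClassFunction_indFun N θ)
  · intro χ
    rw [frobenius_reciprocity N θ (isClassFunction_irr χ)]
    obtain ⟨n, hn⟩ := IsCharacter.exists_nat_classInner_char (IsIrrCharacter.isCharacter hθ)
      (isCharacter_res N (IsIrrCharacter.isCharacter χ.2))
    exact ⟨n, by rw [hn]; simp⟩
  · rw [classInner_indFun_self N N hθ hT]
    have hNne : (Nat.card N : ℂ) ≠ 0 := by
      have : Nat.card N ≠ 0 := Nat.card_pos.ne'
      exact_mod_cast this
    exact div_self hNne
  · rw [indFun_one, IsCharacter.apply_one_eq_charDegree (IsIrrCharacter.isCharacter hθ)]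
    have h1 := IsIrrCharacter.charDegree_pos hθ
    have h2 : 0 < N.index := Nat.pos_of_ne_zero Subgroup.index_ne_zero_of_finite
    have : (0 : ℝ) < (N.index : ℝ) * (charDegree θ : ℝ) := by positivity
    have e : ((N.index : ℂ) * (charDegree θ : ℂ)).re = (N.index : ℝ) * (charDegree θ : ℝ) := by
      simp
    rw [e]
    exact this

/-- If centralizers of nonidentity elements of the normal subgroup `N` lie in `N`, every
irreducible character of `G` whose kernel does not contain `N` is induced from `N`. -/
theorem exists_eq_indFun_of_centralizer_le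
    (hC : ∀ n ∈ N, n ≠ 1 → Subgroup.centralizer ({n} : Set G) ≤ N)
    {χ : G → ℂ} (hχ : IsIrrCharacter G χ) (hker : ∃ n ∈ N, χ n ≠ χ 1) :
    ∃ φ : N → ℂ, IsIrrCharacter N φ ∧ χ = indFun N φ := by
  classical
  have : Fintype N := Fintype.ofFinite N
  have hres : IsCharacter N (fun n : N => χ n) := isCharacter_res N (IsIrrCharacter.isCharacter hχ)
  -- some nonprincipal constituent of the restriction
  have hex : ∃ φ : IrrCharacter N, (φ : N → ℂ) ≠ (fun _ => 1) ∧
      classInner (fun n : N => χ n) (φ : N → ℂ) ≠ 0 := by
    by_contra hall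
    push Not at hall
    obtain ⟨n, hn, hne⟩ := hker
    apply hne
    have hexp := IsCharacter.eq_sum_irr hres
    let one' : IrrCharacter N := ⟨fun _ => 1, isIrrCharacter_one⟩
    have hsum : (fun n : N => χ n) =
        classInner (fun n : N => χ n) (one' : N → ℂ) • (one' : N → ℂ) := by
      conv_lhs => rw [hexp]
      rw [Finset.sum_eq_single one']
      · intro φ _ hφ
        have hφ1 : (φ : N → ℂ) ≠ fun _ => 1 := fun h => hφ (Subtype.ext h)
        by_contra h0
        have h00 : classInner (fun n : N => χ n) (φ : N → ℂ) ≠ 0 := by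
          intro h
          apply h0
          rw [h, zero_smul]
        exact h00 (hall φ hφ1)
      · intro h; exact absurd (Finset.mem_univ _) h
    have e1 := congrFun hsum ⟨n, hn⟩
    have e2 := congrFun hsum 1
    simp only [Pi.smul_apply, smul_eq_mul, one'] at e1 e2
    change χ n = _ at e1
    change χ 1 = _ at e2
    rw [e1, e2]
  obtain ⟨φ, hφ1, hφne⟩ := hex
  refine ⟨φ, φ.2, ?_⟩
  have hirr := isIrrCharacter_indFun_of_centralizer_le N hC φ.2 hφ1
  have hip : classInner (indFun N (φ : N → ℂ)) χ ≠ 0 := by
    rw [frobenius_reciprocity N _ (IsCharacter.isClassFunction (IsIrrCharacter.isCharacter hχ)),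
      ← classInner_conj_symm]
    simpa using hφne
  rw [classInner_irr hirr hχ] at hip
  by_contra hne
  apply hip
  rw [if_neg (fun h => hne h.symm)]

end Induced

end Cfsg.Agent.Lib.Helper74
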