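import Cfsg.Agent.Lib.Helper74.BrauerFowler
import Cfsg.Agent.Lib.Helper79.Integrality

/-!
# Groups of odd order: real characters and `|G| ≡ k(G) mod 16` (helper74)

* `eq_one_of_real_of_odd_card` is exactly the statement of S0161.
* `card_modEq_card_conjClasses_of_odd` is exactly the statement of S0162.
-/

set_option autoImplicit false

namespace Cfsg.Agent.Lib.Helper74

open Cfsg Cfsg.Agent.Lib.Helper78

variable {G : Type*} [Group G]

/-- In a group of odd order, only the identity is conjugate to its inverse. -/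
theorem eq_one_of_isConj_inv_of_odd [Finite G] (hodd : Odd (Nat.card G)) {g : G}
    (hg : IsConj g g⁻¹) : g = 1 := by
  obtain ⟨x, hx⟩ := isConj_iff.mp hg
  -- x² commutes with g
  have h2 : x ^ 2 * g = g * x ^ 2 := by
    have h3 : x * g = g⁻¹ * x := by
      calc x * g = x * g * x⁻¹ * x := by group
        _ = g⁻¹ * x := by rw [hx]
    have h5 : x * g⁻¹ * x⁻¹ = g := by
      have := congrArg Inv.inv hx
      simpa [mul_assoc] using this
    have h4 : x * g⁻¹ = g * x := by
      calc x * g⁻¹ = x * g⁻¹ * x⁻¹ * x := by group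
        _ = g * x := by rw [h5]
    calc x ^ 2 * g = x * (x * g) := by rw [sq, mul_assoc]
      _ = x * (g⁻¹ * x) := by rw [h3]
      _ = (x * g⁻¹) * x := by rw [mul_assoc]
      _ = g * x * x := by rw [h4]
      _ = g * x ^ 2 := by rw [sq, mul_assoc]
  -- x is a power of x², since x has odd order
  have hxodd : Odd (orderOf x) := by
    have hdvd : orderOf x ∣ Nat.card G := orderOf_dvd_natCard x
    exact Odd.of_dvd_nat hodd hdvd
  obtain ⟨k, hk⟩ := hxodd
  have hx' : x = (x ^ 2) ^ (k + 1) := by
    rw [← pow_mul]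
    have : 2 * (k + 1) = orderOf x + 1 := by omega
    rw [this, pow_succ, pow_orderOf_eq_one, one_mul]
  have hcomm : Commute x g := by
    rw [hx']
    exact (Commute.pow_left h2 (k + 1))
  have hgg : g = g⁻¹ := by
    rw [← hx, hcomm.eq, mul_inv_cancel_right]
  have hg2 : g ^ 2 = 1 := by
    rw [sq]
    nth_rewrite 2 [hgg]
    exact mul_inv_cancel g
  have hgodd : Odd (orderOf g) := Odd.of_dvd_nat hodd (orderOf_dvd_natCard g)
  have hdvd2 : orderOf g ∣ 2 := orderOf_dvd_of_pow_eq_one hg2
  have : orderOf g = 1 := by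
    rcases (Nat.dvd_prime Nat.prime_two).mp hdvd2 with h | h
    · exact h
    · rw [h] at hgodd; exact absurd hgodd (by decide)
  exact orderOf_eq_one_iff.mp this

/-- Statement S0161: in a group of odd order, a real-valued irreducible character is
trivial. -/
theorem eq_one_of_real_of_odd_card [Finite G] (hodd : Odd (Nat.card G)) (χ : Cfsg.IrrCharacter G)
    (hreal : ∀ g : G, ((χ : G → ℂ) g).im = 0) : (χ : G → ℂ) = fun _ => 1 := by
  classical
  have := Fintype.ofFinite G
  have h1 := card_real_irr_eq_card_real_classes (G := G)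
  -- only one real class
  have h2 : Nat.card {C : ConjClasses G // ∀ g : G, ConjClasses.mk g = C → IsConj g g⁻¹} = 1 := by
    rw [Nat.card_eq_one_iff_unique]
    refine ⟨⟨?_⟩, ⟨⟨ConjClasses.mk 1, ?_⟩⟩⟩
    · rintro ⟨C, hC⟩ ⟨D, hD⟩
      apply Subtype.ext
      obtain ⟨c, rfl⟩ := ConjClasses.mk_surjective C
      obtain ⟨d, rfl⟩ := ConjClasses.mk_surjective D
      have hc1 : c = 1 := eq_one_of_isConj_inv_of_odd hodd (hC c rfl)
      have hd1 : d = 1 := eq_one_of_isConj_inv_of_odd hodd (hD d rfl)
      show ConjClasses.mk c = ConjClasses.mk d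
      rw [hc1, hd1]
    · intro g hg
      have : g = 1 := by
        have := ConjClasses.mk_eq_mk_iff_isConj.mp hg
        exact isConj_one_left.mp this
      rw [this, inv_one]
  rw [h2, card_real_irr_eq_succ] at h1
  have h3 : (realNonprincipal G).card = 0 := by omega
  by_contra hne
  have : χ ∈ realNonprincipal G := (mem_realNonprincipal χ).mpr ⟨hne, hreal⟩
  rw [Finset.card_eq_zero] at h3
  rw [h3] at this
  exact absurd this (Finset.notMem_empty _)


theorem charDegree_conjIrrChar (χ : IrrCharacter G) :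
    charDegree ((conjIrrChar χ : IrrCharacter G) : G → ℂ) = charDegree (χ : G → ℂ) := by
  simp [charDegree, conjIrrChar]

theorem conjIrrChar_conjIrrChar (χ : IrrCharacter G) : conjIrrChar (conjIrrChar χ) = χ := by
  apply Subtype.ext
  funext g
  simp [conjIrrChar]

theorem sq_sub_one_mul_two_zmod16 (d : ℕ) (hd : Odd d) :
    (((d : ZMod 16)) ^ 2 - 1) + (((d : ZMod 16)) ^ 2 - 1) = 0 := by
  obtain ⟨k, rfl⟩ := hd
  have h : ((2 * k + 1) ^ 2 - 1 + ((2 * k + 1) ^ 2 - 1) : ℤ) = 16 * (k * (k + 1) / 2) := by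
    have h2 : (2 : ℤ) ∣ k * (k + 1) := by
      have := Int.even_mul_succ_self k
      exact even_iff_two_dvd.mp this
    obtain ⟨m, hm⟩ := h2
    rw [hm, Int.mul_ediv_cancel_left _ (by norm_num : (2 : ℤ) ≠ 0)]
    nlinarith
  have h' : (((2 * k + 1) ^ 2 - 1 + ((2 * k + 1) ^ 2 - 1) : ℤ) : ZMod 16)
      = ((16 * (k * (k + 1) / 2) : ℤ) : ZMod 16) := by rw [h]
  push_cast at h' ⊢
  rw [h']
  have : (16 : ZMod 16) = 0 := by decide
  rw [this, zero_mul]

/-- Statement S0162: for a group of odd order, `|G| ≡ k(G) mod 16`. -/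
theorem card_modEq_card_conjClasses_of_odd [Finite G] (hodd : Odd (Nat.card G)) :
    Nat.card G ≡ Nat.card (ConjClasses G) [MOD 16] := by
  classical
  have := Fintype.ofFinite G
  rw [← card_irrCharacter, ← sum_irr_charDegree_sq (G := G), Nat.card_eq_fintype_card,
    ← Finset.card_univ]
  rw [← ZMod.natCast_eq_natCast_iff]
  push_cast
  rw [Finset.card_eq_sum_ones, ← sub_eq_zero]
  push_cast
  rw [← Finset.sum_sub_distrib]
  -- split off the principal character
  rw [← Finset.add_sum_erase _ _ (Finset.mem_univ (oneIrr : IrrCharacter G))]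
  have hd1 : charDegree ((oneIrr : IrrCharacter G) : G → ℂ) = 1 := by
    simp [charDegree, oneIrr]
  rw [hd1]
  simp only [Nat.cast_one, one_pow, sub_self, zero_add]
  apply Finset.sum_involution (fun χ _ => conjIrrChar χ)
  · intro χ hχ
    rw [charDegree_conjIrrChar]
    apply sq_sub_one_mul_two_zmod16
    have hdvd := Cfsg.Agent.Lib.Helper79.irr_charDegree_dvd_card χ
    exact Odd.of_dvd_nat hodd hdvd
  · intro χ hχ _ heq
    have hχ1 : χ ≠ oneIrr := (Finset.mem_erase.mp hχ).1
    apply hχ1
    rw [eq_oneIrr_iff]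
    exact eq_one_of_real_of_odd_card hodd χ ((conjIrrChar_eq_self_iff χ).mp heq)
  · intro χ hχ
    rw [Finset.mem_erase]
    refine ⟨?_, Finset.mem_univ _⟩
    intro h
    have hχ1 : χ ≠ oneIrr := (Finset.mem_erase.mp hχ).1
    apply hχ1
    have := congrArg conjIrrChar h
    rw [conjIrrChar_conjIrrChar] at this
    rw [this]
    apply Subtype.ext
    funext g
    simp [conjIrrChar, oneIrr]
  · intro χ _
    exact conjIrrChar_conjIrrChar χ

end Cfsg.Agent.Lib.Helper74
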