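import Mathlib
import Cfsg.Agent.Lib.Helper78.CharMore
import Cfsg.Agent.Lib.Helper77.Linear

set_option autoImplicit false

namespace Cfsg.Agent.Lib.Helper74

open Cfsg Cfsg.Agent.Lib.Helper78

universe u

section ZHom

variable {A : Type u} [Group A]

/-- the complex-valued function of a homomorphism to `ℂˣ` -/
def homFun (lam : A →* ℂˣ) : A → ℂ := fun a => ((lam a : ℂˣ) : ℂ)

theorem homFun_apply (lam : A →* ℂˣ) (a : A) : homFun lam a = ((lam a : ℂˣ) : ℂ) := rfl

theorem homFun_one : homFun (1 : A →* ℂˣ) = 1 := by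
  funext a; simp [homFun]

theorem homFun_mul (lam mu : A →* ℂˣ) : homFun (lam * mu) = homFun lam * homFun mu := by
  funext a; simp [homFun]

/-- the submonoid of functions of the form `homFun lam` -/
def homFunSubmonoid (A : Type u) [Group A] : Submonoid (A → ℂ) where
  carrier := Set.range (homFun : (A →* ℂˣ) → A → ℂ)
  one_mem' := ⟨1, homFun_one⟩
  mul_mem' := by
    rintro _ _ ⟨l, rfl⟩ ⟨m, rfl⟩
    exact ⟨l * m, homFun_mul l m⟩

/-- the ring of integer combinations of homomorphisms `A →* ℂˣ` -/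
def zhomRing (A : Type u) [Group A] : Subring (A → ℂ) :=
  Subring.closure (Set.range (homFun : (A →* ℂˣ) → A → ℂ))

/-- `f` is an integer combination of homomorphisms `A →* ℂˣ` -/
def IsZHom (f : A → ℂ) : Prop := f ∈ zhomRing A

theorem isZHom_homFun (lam : A →* ℂˣ) : IsZHom (homFun lam) :=
  Subring.subset_closure ⟨lam, rfl⟩

/-- the explicit integer combination attached to a list -/
def zhomSum (l : List ((A →* ℂˣ) × ℤ)) : A → ℂ :=
  (l.map fun t => (t.2 : ℂ) • homFun t.1).sum

theorem zhomSum_nil : zhomSum ([] : List ((A →* ℂˣ) × ℤ)) = 0 := rfl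

theorem zhomSum_append (l₁ l₂ : List ((A →* ℂˣ) × ℤ)) :
    zhomSum (l₁ ++ l₂) = zhomSum l₁ + zhomSum l₂ := by
  simp [zhomSum]

theorem zhomSum_neg (l : List ((A →* ℂˣ) × ℤ)) :
    zhomSum (l.map fun t => (t.1, -t.2)) = - zhomSum l := by
  induction l with
  | nil => simp [zhomSum]
  | cons t l ih =>
    simp only [zhomSum, List.map_cons, List.sum_cons] at ih ⊢
    rw [ih]
    simp only [Int.cast_neg, neg_smul, neg_add_rev]
    abel

/-- every element of `zhomRing` is an explicit integer combination -/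
theorem exists_list_of_isZHom {f : A → ℂ} (hf : IsZHom f) :
    ∃ l : List ((A →* ℂˣ) × ℤ), f = zhomSum l := by
  unfold IsZHom zhomRing at hf
  rw [Subring.mem_closure_iff] at hf
  have hM : (Submonoid.closure (Set.range (homFun : (A →* ℂˣ) → A → ℂ)) : Set (A → ℂ))
      = Set.range (homFun : (A →* ℂˣ) → A → ℂ) := by
    have := Submonoid.closure_eq (homFunSubmonoid A)
    rw [show (Set.range (homFun : (A →* ℂˣ) → A → ℂ)) = (homFunSubmonoid A : Set (A → ℂ)) from rfl,
      this]
  rw [hM] at hf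
  induction hf using AddSubgroup.closure_induction with
  | mem x hx =>
    obtain ⟨lam, rfl⟩ := hx
    exact ⟨[(lam, 1)], by simp [zhomSum]⟩
  | zero => exact ⟨[], rfl⟩
  | add x y _ _ hx hy =>
    obtain ⟨l₁, rfl⟩ := hx
    obtain ⟨l₂, rfl⟩ := hy
    exact ⟨l₁ ++ l₂, (zhomSum_append l₁ l₂).symm⟩
  | neg x _ hx =>
    obtain ⟨l, rfl⟩ := hx
    exact ⟨_, (zhomSum_neg l).symm⟩

theorem IsZHom.add {f g : A → ℂ} (hf : IsZHom f) (hg : IsZHom g) : IsZHom (f + g) :=
  Subring.add_mem _ hf hg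

theorem IsZHom.sub {f g : A → ℂ} (hf : IsZHom f) (hg : IsZHom g) : IsZHom (f - g) :=
  Subring.sub_mem _ hf hg

theorem IsZHom.mul {f g : A → ℂ} (hf : IsZHom f) (hg : IsZHom g) : IsZHom (f * g) :=
  Subring.mul_mem _ hf hg

theorem isZHom_zero : IsZHom (0 : A → ℂ) := Subring.zero_mem _

theorem isZHom_one : IsZHom (1 : A → ℂ) := Subring.one_mem _

theorem IsZHom.natCast_smul {f : A → ℂ} (hf : IsZHom f) (n : ℕ) : IsZHom ((n : ℂ) • f) := by
  have : (n : ℂ) • f = n • f := by
    funext a; simp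
  rw [this]
  exact nsmul_mem hf n

theorem IsZHom.intCast_smul {f : A → ℂ} (hf : IsZHom f) (n : ℤ) : IsZHom ((n : ℂ) • f) := by
  have : (n : ℂ) • f = n • f := by
    funext a; simp
  rw [this]
  exact zsmul_mem hf n

theorem isZHom_sum {ι : Type*} (s : Finset ι) (f : ι → A → ℂ) (h : ∀ i ∈ s, IsZHom (f i)) :
    IsZHom (∑ i ∈ s, f i) :=
  Subring.sum_mem _ h

/-- characters of commutative groups are integer (indeed natural) combinations of homomorphisms -/
theorem IsCharacter.isZHom_of_comm [Fintype A] [IsMulCommutative A] {χ : A → ℂ}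
    (hχ : IsCharacter A χ) : IsZHom χ := by
  obtain ⟨m, hm⟩ := (isCharacter_iff_exists_nat_combination χ).mp hχ
  rw [hm]
  apply isZHom_sum
  intro ψ _
  apply IsZHom.natCast_smul
  have h1 : (ψ : A → ℂ) 1 = 1 := IsIrrCharacter.map_one_of_comm ψ.2
  obtain ⟨lam, hlam⟩ := Cfsg.Agent.Lib.Helper77.exists_monoidHom_of_degree_one
    (IsIrrCharacter.isCharacter ψ.2) h1
  have : (ψ : A → ℂ) = homFun lam := funext hlam
  rw [this]
  exact isZHom_homFun lam

end ZHom

end Cfsg.Agent.Lib.Helper74
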