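import Mathlib
import Cfsg.Agent.Lib.Helper74.ZHom
import Cfsg.Agent.Lib.Helper75.Clifford

set_option autoImplicit false

namespace Cfsg.Agent.Lib.Helper74

open Cfsg Cfsg.Agent.Lib.Helper78 Cfsg.Agent.Lib.Helper75

universe u

section ArtinK

/-- `|A|` times the indicator function of the generators of `A` -/
noncomputable def genInd (A : Type u) [Group A] : A → ℂ := by
  classical exact fun a => if Subgroup.zpowers a = ⊤ then (Nat.card A : ℂ) else 0

theorem genInd_apply (A : Type u) [Group A] [DecidableEq (Subgroup A)] (a : A) :
    genInd A a = if Subgroup.zpowers a = ⊤ then (Nat.card A : ℂ) else 0 := by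
  unfold genInd
  congr

variable {G : Type u} [Group G]

theorem zpowers_subtype_eq_top_iff (A : Subgroup G) (a : A) :
    Subgroup.zpowers a = ⊤ ↔ Subgroup.zpowers (a : G) = A := by
  constructor
  · intro h
    have := congrArg (Subgroup.map A.subtype) h
    rw [MonoidHom.map_zpowers, ← MonoidHom.range_eq_map, Subgroup.range_subtype] at this
    exact this
  · intro h
    apply Subgroup.map_injective A.subtype_injective
    rw [MonoidHom.map_zpowers, ← MonoidHom.range_eq_map, Subgroup.range_subtype]
    exact h

theorem extendByZero_genInd_mul [DecidableEq (Subgroup G)] (A : Subgroup G) (f : G → ℂ) (y : G) :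
    extendByZero A (fun a : A => genInd A a * f a) y
      = if Subgroup.zpowers y = A then (Nat.card A : ℂ) * f y else 0 := by
  classical
  by_cases hy : y ∈ A
  · rw [extendByZero_of_mem A _ hy, genInd_apply]
    simp only [zpowers_subtype_eq_top_iff A ⟨y, hy⟩]
    split_ifs <;> simp
  · rw [extendByZero_of_not_mem A _ hy, if_neg]
    intro h
    apply hy
    rw [← h]
    exact Subgroup.mem_zpowers y

/-- the key identity behind Artin's induction theorem -/
theorem sum_indFun_genInd_mul [Fintype G] [Fintype (Subgroup G)] {f : G → ℂ}
    (hf : IsClassFunction G f) :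
    ∑ A : Subgroup G, indFun A (fun a : A => genInd A a * f a) = (Nat.card G : ℂ) • f := by
  classical
  funext g
  rw [Finset.sum_apply, Pi.smul_apply, smul_eq_mul]
  have h1 : ∀ A : Subgroup G, indFun A (fun a : A => genInd A a * f a) g
      = ∑ x : G, if Subgroup.zpowers (x⁻¹ * g * x) = A then f g else 0 := by
    intro A
    unfold indFun
    simp only [extendByZero_genInd_mul]
    rw [Finset.mul_sum]
    apply Finset.sum_congr rfl
    intro x _
    have hA : (Nat.card A : ℂ) ≠ 0 := by
      have : Nat.card A ≠ 0 := Nat.card_pos.ne'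
      exact_mod_cast this
    have hfx : f (x⁻¹ * g * x) = f g := by
      have := hf g x⁻¹
      rwa [inv_inv] at this
    split_ifs
    · rw [hfx]; field_simp
    · simp
  simp only [h1]
  rw [Finset.sum_comm]
  simp only [Finset.sum_ite_eq, Finset.mem_univ, if_true]
  rw [Finset.sum_const, Finset.card_univ, nsmul_eq_mul, Nat.card_eq_fintype_card]

end ArtinK

end Cfsg.Agent.Lib.Helper74
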