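import Mathlib
import Cfsg.Agent.Lib.Helper74.ArtinK
import Cfsg.Agent.S0148

set_option autoImplicit false

namespace Cfsg.Agent.Lib.Helper74

open Cfsg Cfsg.Agent.Lib.Helper78 Cfsg.Agent.Lib.Helper75

universe u

section IndLinear

variable {G : Type u} [Group G]

theorem extendByZero_add (H : Subgroup G) (f g : H → ℂ) :
    extendByZero H (f + g) = extendByZero H f + extendByZero H g := by
  funext y
  by_cases hy : y ∈ H
  · simp [extendByZero_of_mem H _ hy]
  · simp [extendByZero_of_not_mem H _ hy]

theorem extendByZero_smul (H : Subgroup G) (c : ℂ) (f : H → ℂ) :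
    extendByZero H (c • f) = c • extendByZero H f := by
  funext y
  by_cases hy : y ∈ H
  · simp [extendByZero_of_mem H _ hy]
  · simp [extendByZero_of_not_mem H _ hy]

theorem extendByZero_zero (H : Subgroup G) : extendByZero H (0 : H → ℂ) = 0 := by
  funext y
  by_cases hy : y ∈ H
  · simp [extendByZero_of_mem H _ hy]
  · simp [extendByZero_of_not_mem H _ hy]

variable [Fintype G]

theorem indFun_add (H : Subgroup G) (f g : H → ℂ) :
    indFun H (f + g) = indFun H f + indFun H g := by
  funext y
  simp only [indFun, extendByZero_add, Pi.add_apply, Finset.sum_add_distrib, mul_add]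

theorem indFun_smul (H : Subgroup G) (c : ℂ) (f : H → ℂ) :
    indFun H (c • f) = c • indFun H f := by
  funext y
  simp only [indFun, extendByZero_smul, Pi.smul_apply, smul_eq_mul, ← Finset.mul_sum]
  ring

theorem indFun_zero (H : Subgroup G) : indFun H (0 : H → ℂ) = 0 := by
  funext y
  simp [indFun, extendByZero_zero]

theorem indFun_list_sum (H : Subgroup G) (l : List (H → ℂ)) :
    indFun H l.sum = (l.map (indFun H)).sum := by
  induction l with
  | nil => simp [indFun_zero]
  | cons f l ih => rw [List.sum_cons, indFun_add, ih, List.map_cons, List.sum_cons]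

/-- In a commutative group, inducing an integer combination of homomorphisms gives an integer
combination of homomorphisms. -/
theorem IsZHom.indFun [IsMulCommutative G] (H : Subgroup G) {φ : H → ℂ} (hφ : IsZHom φ) :
    IsZHom (indFun H φ) := by
  obtain ⟨l, rfl⟩ := exists_list_of_isZHom hφ
  unfold zhomSum
  rw [indFun_list_sum, List.map_map]
  -- each summand is an integer multiple of an induced linear character
  have : ∀ l' : List ((H →* ℂˣ) × ℤ),
      IsZHom (l'.map ((Cfsg.indFun H) ∘ fun t => (t.2 : ℂ) • homFun t.1)).sum := by
    intro l'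
    induction l' with
    | nil => simpa using isZHom_zero
    | cons t l' ih =>
      rw [List.map_cons, List.sum_cons]
      refine IsZHom.add ?_ ih
      rw [Function.comp_apply, indFun_smul]
      apply IsZHom.intCast_smul
      apply IsCharacter.isZHom_of_comm
      exact Cfsg.Agent.S0148.result H _
        (IsIrrCharacter.isCharacter (Cfsg.Agent.Lib.Helper77.isIrrCharacter_of_monoidHom t.1))
  exact this l

end IndLinear

end Cfsg.Agent.Lib.Helper74
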