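import Mathlib
import Cfsg.Prelude.Def_OddOrderChar
import Cfsg.Agent.Lib.Helper74.FrobInduced
import Cfsg.Agent.Lib.Helper74.IndLinear
import Cfsg.Agent.Lib.Helper3.Induction
import Cfsg.Agent.Lib.Helper26.IrrFactsInst
import Cfsg.Agent.Lib.Helper79.Schur
import Cfsg.Agent.Lib.Helper3.Integrality
import Cfsg.Agent.S0148

set_option autoImplicit false
set_option linter.unusedSectionVars false

namespace Cfsg.Agent.Lib.Helper74

open Cfsg Cfsg.Agent.Lib.Helper78 Cfsg.Agent.Lib.Helper75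
open scoped ComplexConjugate

universe u

section TIFN

variable {G : Type u} [Group G] [Fintype G] {K : Subgroup G}

local notation "NK" => Subgroup.normalizer (K : Set G)

variable (K) in
/-- the irreducible characters of `N_G(K)` that are not trivial on `K` -/
def tifnS : Set (↥NK → ℂ) :=
  {χ : ↥NK → ℂ | IsIrrCharacter ↥NK χ ∧ ∃ k : ↥NK, (k : G) ∈ K ∧ χ k ≠ χ 1}

theorem tifn_centralizer_le (hC : ∀ k ∈ K, k ≠ 1 → Subgroup.centralizer ({k} : Set G) ≤ K) :
    ∀ n ∈ K.subgroupOf NK, n ≠ 1 →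
      Subgroup.centralizer ({n} : Set ↥NK) ≤ K.subgroupOf NK := by
  intro n hn hn1 x hx
  rw [Subgroup.mem_subgroupOf] at hn ⊢
  have hn1' : (n : G) ≠ 1 := fun h => hn1 (Subtype.ext h)
  apply hC (n : G) hn hn1'
  rw [Subgroup.mem_centralizer_singleton_iff] at hx ⊢
  have := congrArg Subtype.val hx
  simpa using this

variable [Fintype ↥(Subgroup.normalizer (K : Set G))]

/-- a relevant character is induced from `K` -/
theorem tifnS_exists_eq_indFun
    (hC : ∀ k ∈ K, k ≠ 1 → Subgroup.centralizer ({k} : Set G) ≤ K)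
    {χ : ↥NK → ℂ} (hχ : χ ∈ tifnS K) :
    ∃ φ : ↥(K.subgroupOf NK) → ℂ, IsIrrCharacter ↥(K.subgroupOf NK) φ ∧
      χ = indFun (K.subgroupOf NK) φ := by
  obtain ⟨hirr, k, hk, hne⟩ := hχ
  exact exists_eq_indFun_of_centralizer_le (K.subgroupOf NK) (tifn_centralizer_le hC) hirr
    ⟨k, Subgroup.mem_subgroupOf.mpr hk, hne⟩

/-- a relevant character vanishes off `K` -/
theorem tifnS_vanish
    (hC : ∀ k ∈ K, k ≠ 1 → Subgroup.centralizer ({k} : Set G) ≤ K)
    {χ : ↥NK → ℂ} (hχ : χ ∈ tifnS K) (x : ↥NK) (hx : (x : G) ∉ K) : χ x = 0 := by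
  obtain ⟨φ, -, rfl⟩ := tifnS_exists_eq_indFun hC hχ
  apply indFun_of_forall_not_mem_conj
  intro y hy
  rw [Subgroup.Normal.conj_smul_eq_self] at hy
  exact hx (Subgroup.mem_subgroupOf.mp hy)

/-- relevant characters are not principal -/
theorem tifnS_classInner_one {χ : ↥NK → ℂ} (hχ : χ ∈ tifnS K) :
    classInner χ (1 : ↥NK → ℂ) = 0 := by
  obtain ⟨hirr, k, hk, hne⟩ := hχ
  apply classInner_irr_ne hirr isIrrCharacter_one
  intro h
  apply hne
  rw [h]

theorem tifnS_isClassFunction {χ : ↥NK → ℂ} (hχ : χ ∈ tifnS K) : IsClassFunction ↥NK χ :=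
  IsCharacter.isClassFunction (IsIrrCharacter.isCharacter hχ.1)

/-- members of the integer span vanish off `K` -/
theorem zspan_tifnS_vanish
    (hC : ∀ k ∈ K, k ≠ 1 → Subgroup.centralizer ({k} : Set G) ≤ K)
    {α : ↥NK → ℂ} (hα : α ∈ zspan (tifnS K)) (x : ↥NK) (hx : (x : G) ∉ K) : α x = 0 := by
  unfold zspan at hα
  induction hα using Submodule.span_induction with
  | mem χ hχ => exact tifnS_vanish hC hχ x hx
  | zero => rfl
  | add a b _ _ ha hb => rw [Pi.add_apply, ha, hb, add_zero]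
  | smul n a _ ha => rw [Pi.smul_apply, ha, smul_zero]

theorem zspan_tifnS_isClassFunction
    {α : ↥NK → ℂ} (hα : α ∈ zspan (tifnS K)) : IsClassFunction ↥NK α := by
  unfold zspan at hα
  induction hα using Submodule.span_induction with
  | mem χ hχ => exact tifnS_isClassFunction hχ
  | zero => intro g h; rfl
  | add a b _ _ ha hb => exact isClassFunction_add ha hb
  | smul n a _ ha =>
    intro g h
    rw [Pi.smul_apply, Pi.smul_apply, ha g h]

theorem zspan_tifnS_classInner_one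
    {α : ↥NK → ℂ} (hα : α ∈ zspan (tifnS K)) : classInner α (1 : ↥NK → ℂ) = 0 := by
  unfold zspan at hα
  induction hα using Submodule.span_induction with
  | mem χ hχ => exact tifnS_classInner_one hχ
  | zero => exact classInner_zero_left _
  | add a b _ _ ha hb => rw [classInner_add_left, ha, hb, add_zero]
  | smul n a _ ha =>
    rw [Cfsg.Agent.Lib.Helper26.classInner_zsmul_left, ha, mul_zero]

theorem mem_zspan_of_mem {X : Type u} {S : Set (X → ℂ)} {χ : X → ℂ} (h : χ ∈ S) : χ ∈ zspan S :=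
  Submodule.subset_span h

theorem zspan_add {X : Type u} {S : Set (X → ℂ)} {a b : X → ℂ} (ha : a ∈ zspan S)
    (hb : b ∈ zspan S) : a + b ∈ zspan S :=
  Submodule.add_mem _ ha hb

theorem zspan_zsmul {X : Type u} {S : Set (X → ℂ)} {a : X → ℂ} (ha : a ∈ zspan S) (n : ℤ) :
    n • a ∈ zspan S :=
  Submodule.smul_mem _ n ha

/-- the degree-zero combination `ξ(1) χ - χ(1) ξ` -/
noncomputable def tifnBeta (χ ξ : ↥NK → ℂ) : ↥NK → ℂ :=
  (charDegree ξ : ℤ) • χ + (-(charDegree χ : ℤ)) • ξ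

theorem tifnBeta_apply (χ ξ : ↥NK → ℂ) (x : ↥NK) :
    tifnBeta χ ξ x = (charDegree ξ : ℂ) * χ x - (charDegree χ : ℂ) * ξ x := by
  simp [tifnBeta]
  ring

theorem tifnBeta_mem_zspan {χ ξ : ↥NK → ℂ} (hχ : χ ∈ tifnS K) (hξ : ξ ∈ tifnS K) :
    tifnBeta χ ξ ∈ zspan (tifnS K) :=
  zspan_add (zspan_zsmul (mem_zspan_of_mem hχ) _) (zspan_zsmul (mem_zspan_of_mem hξ) _)

theorem tifnBeta_one {χ ξ : ↥NK → ℂ} (hχ : χ ∈ tifnS K) (hξ : ξ ∈ tifnS K) :
    tifnBeta χ ξ 1 = 0 := by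
  rw [tifnBeta_apply, IsCharacter.apply_one_eq_charDegree (IsIrrCharacter.isCharacter hχ.1),
    IsCharacter.apply_one_eq_charDegree (IsIrrCharacter.isCharacter hξ.1)]
  ring

theorem tifnBeta_mem_zspanOn {χ ξ : ↥NK → ℂ} (hχ : χ ∈ tifnS K) (hξ : ξ ∈ tifnS K) :
    tifnBeta χ ξ ∈ zspanOn (tifnS K) ({1}ᶜ : Set ↥NK) := by
  refine ⟨tifnBeta_mem_zspan hχ hξ, ?_⟩
  intro x hx
  have : x = 1 := by simpa using hx
  rw [this]
  exact tifnBeta_one hχ hξ

end TIFN

end Cfsg.Agent.Lib.Helper74
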