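import Mathlib
import Cfsg.Prelude.Def_OddOrderChar
import Cfsg.Prelude.Def_OddOrderLocal
import Cfsg.Agent.Lib.Helper74.TIFN
import Cfsg.Agent.Lib.Helper74.FrobGroup
import Cfsg.Agent.Lib.Helper74.OddOrder
import Cfsg.Agent.Lib.Helper26.ZSpan
import Cfsg.Agent.S1514

/-!
# Set-up lemmas for Sibley's coherence theorem (helper74)

`H ≤ L ≤ G`, `H` a TI-subset of `G` with set normaliser `L`, `L = H ⋊ W₁` a Frobenius group.
`K := H.subgroupOf L`, `S := inducedIrrAbove K ⊥`, `τ := indFun L`.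

* `indFun_apply_of_TI`, `classInner_indFun_indFun_of_TI`: induction from the normaliser of a
  TI-subset on class functions supported on the subset.
* `frobK_centralizer_le` etc.: Frobenius facts in `↥L`.
* `sibleyS_*`: the members of `S` are irreducible, non-real, vanish off `K`.
* `isLinearIsometryOn_indFun`: `τ` is a linear isometry on `zspanOn S {1}ᶜ`.
* `exists_coherenceSystem`: a coherence system `(S, τ, R)`.
-/

set_option autoImplicit false
set_option linter.unusedSectionVars false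

namespace Cfsg.Agent.Lib.Helper74

open Cfsg Cfsg.Agent.Lib.Helper78 Cfsg.Agent.Lib.Helper75
open scoped ComplexConjugate Pointwise

universe u

section TIInd

variable {G : Type u} [Group G] [Fintype G] (H L : Subgroup G) [Fintype L]

/-- Induction from the normaliser `L` of the TI-subset `H`: for a class function `α` of `L`
supported on `H` minus the identity, `Ind α` agrees with `α` on `H`. -/
theorem indFun_apply_of_TI (hTI : IsTISubset (H : Set G))
    (hN : Subgroup.normalizer (H : Set G) = L) {α : L → ℂ} (hα : IsClassFunction L α)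
    (hsupp : ∀ x : L, (x : G) ∉ H → α x = 0) (h1 : α 1 = 0) (h : L) (hh : (h : G) ∈ H) :
    indFun L α (h : G) = α h := by
  classical
  by_cases hone : h = 1
  · subst hone
    rw [Subgroup.coe_one, indFun_one, h1, mul_zero]
  have hone' : (h : G) ≠ 1 := fun hc => hone (Subtype.ext hc)
  unfold indFun
  have key : ∀ x : G, extendByZero L α (x⁻¹ * (h : G) * x) = if x ∈ L then α h else 0 := by
    intro x
    split_ifs with hx
    · rw [extendByZero_of_mem L α (L.mul_mem (L.mul_mem (L.inv_mem hx) h.2) hx)]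
      have := hα h (⟨x, hx⟩⁻¹ : L)
      rw [inv_inv] at this
      exact this
    · by_cases hmem : x⁻¹ * (h : G) * x ∈ L
      · rw [extendByZero_of_mem L α hmem]
        apply hsupp
        intro hH
        have hx' : x⁻¹ ∉ Subgroup.normalizer (H : Set G) := by
          rw [hN]
          intro hc
          apply hx
          have := L.inv_mem hc
          rwa [inv_inv] at this
        have := hTI x⁻¹ hx' (h : G) hh (by rw [inv_inv]; exact hH)
        exact hone' this
      · exact extendByZero_of_not_mem L α hmem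
  simp only [key]
  rw [Finset.sum_ite, Finset.sum_const_zero, add_zero, Finset.sum_const, nsmul_eq_mul]
  have hc : (Finset.univ.filter (· ∈ L)).card = Nat.card L :=
    (Nat.subtype_card _ (by simp)).symm
  rw [hc]
  have hL : (Nat.card L : ℂ) ≠ 0 := by
    have : Nat.card L ≠ 0 := Nat.card_pos.ne'
    exact_mod_cast this
  field_simp

/-- Induction from the normaliser of a TI-subset is an isometry on class functions supported on
the subset minus the identity. -/
theorem classInner_indFun_indFun_of_TI (hTI : IsTISubset (H : Set G))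
    (hN : Subgroup.normalizer (H : Set G) = L) {α β : L → ℂ}
    (hsuppα : ∀ x : L, (x : G) ∉ H → α x = 0)
    (hβ : IsClassFunction L β) (hsuppβ : ∀ x : L, (x : G) ∉ H → β x = 0) (hβ1 : β 1 = 0) :
    classInner (indFun L α) (indFun L β) = classInner α β := by
  rw [frobenius_reciprocity L α (isClassFunction_indFun L β)]
  unfold classInner
  congr 1
  apply Finset.sum_congr rfl
  intro x _
  by_cases hx : (x : G) ∈ H
  · show α x * conj (indFun L β (x : G)) = _
    rw [indFun_apply_of_TI H L hTI hN hβ hsuppβ hβ1 x hx]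
  · rw [hsuppα x hx, zero_mul, zero_mul]

/-- members of the integer span of characters vanishing off `H` are class functions vanishing
off `H` whose induced function is a generalized character. -/
theorem zspan_props_of_vanish (S : Set (L → ℂ)) (hS : ∀ χ ∈ S, IsCharacter L χ)
    (hvan : ∀ χ ∈ S, ∀ x : L, (x : G) ∉ H → χ x = 0) {α : L → ℂ} (hα : α ∈ zspan S) :
    IsClassFunction L α ∧ (∀ x : L, (x : G) ∉ H → α x = 0) ∧
      IsGeneralizedCharacter G (indFun L α) := by
  have F := Cfsg.Agent.Lib.Helper26.irrFacts G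
  unfold zspan at hα
  induction hα using Submodule.span_induction with
  | mem χ hχ =>
    exact ⟨IsCharacter.isClassFunction (hS χ hχ), hvan χ hχ,
      Cfsg.Agent.Lib.Helper26.isGeneralizedCharacter_of_isCharacter
        (Cfsg.Agent.S0148.result L χ (hS χ hχ))⟩
  | zero =>
    refine ⟨fun g h => rfl, fun x _ => rfl, ?_⟩
    rw [indFun_zero]
    exact Cfsg.Agent.Lib.Helper26.gen_zero
  | add a b _ _ ha hb =>
    refine ⟨isClassFunction_add ha.1 hb.1, fun x hx => ?_, ?_⟩
    · rw [Pi.add_apply, ha.2.1 x hx, hb.2.1 x hx, add_zero]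
    · rw [indFun_add]
      exact F.gen_add ha.2.2 hb.2.2
  | smul n a _ ha =>
    have e1 : n • a = (n : ℂ) • a := by ext x; simp
    refine ⟨?_, fun x hx => ?_, ?_⟩
    · intro g h
      show (n • a) (h * g * h⁻¹) = (n • a) g
      rw [Pi.smul_apply, Pi.smul_apply, ha.1 g h]
    · rw [Pi.smul_apply, ha.2.1 x hx, smul_zero]
    · rw [e1, indFun_smul]
      have e2 : (n : ℂ) • indFun L a = n • indFun L a := by ext x; simp
      rw [e2]
      exact F.gen_zsmul n ha.2.2

/-- (T1 of helper64's plan) induction from `L = N_G(H)`, `H` a TI-subset, is a linear isometry on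
the integer combinations, vanishing at `1`, of characters of `L` that vanish off `H`. -/
theorem indFun_isometry_of_TI (hHL : H ≤ L) (hTI : Cfsg.IsTISubset (H : Set G))
    (hN : Subgroup.normalizer (H : Set G) = L)
    (S : Set (L → ℂ)) (hS : ∀ χ ∈ S, Cfsg.IsCharacter L χ)
    (hvan : ∀ χ ∈ S, ∀ x : L, (x : G) ∉ H → χ x = 0) :
    Cfsg.IsLinearIsometryOn (Cfsg.zspanOn S {1}ᶜ) (fun α : L → ℂ => Cfsg.indFun L α) ∧
      (∀ α ∈ Cfsg.zspanOn S {1}ᶜ, Cfsg.indFun L α 1 = 0) := by
  have hone : ∀ α ∈ zspanOn S ({1}ᶜ : Set L), α 1 = 0 := fun α hα => hα.2 1 (by simp)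
  refine ⟨⟨?_, ?_, ?_, ?_⟩, ?_⟩
  · intro α _ β _
    exact indFun_add L α β
  · intro α _ n
    have e1 : n • α = (n : ℂ) • α := by ext x; simp
    have e2 : (n : ℂ) • indFun L α = n • indFun L α := by ext x; simp
    show indFun L (n • α) = n • indFun L α
    rw [e1, indFun_smul, e2]
  · intro α hα β hβ
    have pa := zspan_props_of_vanish H L S hS hvan hα.1
    have pb := zspan_props_of_vanish H L S hS hvan hβ.1
    exact classInner_indFun_indFun_of_TI H L hTI hN pa.2.1 pb.1 pb.2.1 (hone β hβ)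
  · intro α hα
    exact (zspan_props_of_vanish H L S hS hvan hα.1).2.2
  · intro α hα
    rw [indFun_one, hone α hα, mul_zero]

end TIInd

section Setup

variable {G : Type u} [Group G] [Fintype G] (H L W₁ : Subgroup G) [Fintype L]

/-- `K = H.subgroupOf L` is normal in `L`. -/
theorem subgroupOf_normal_of_conj (hHn : ∀ x ∈ L, ∀ h ∈ H, x * h * x⁻¹ ∈ H) :
    (H.subgroupOf L).Normal := by
  refine ⟨fun n hn g => ?_⟩
  rw [Subgroup.mem_subgroupOf] at hn ⊢
  exact hHn g g.2 n hn

theorem subgroupOf_sup_eq_top (hHL : H ≤ L) (hW₁L : W₁ ≤ L) (hsup : H ⊔ W₁ = L) :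
    H.subgroupOf L ⊔ W₁.subgroupOf L = ⊤ := by
  rw [← Subgroup.subgroupOf_sup hHL hW₁L, hsup, Subgroup.subgroupOf_self]

theorem subgroupOf_fpf (hfpf : ∀ w ∈ W₁, w ≠ 1 → ∀ h ∈ H, w * h = h * w → h = 1) :
    ∀ w ∈ W₁.subgroupOf L, w ≠ 1 → ∀ k ∈ H.subgroupOf L, w * k = k * w → k = 1 := by
  intro w hw hw1 k hk hwk
  rw [Subgroup.mem_subgroupOf] at hw hk
  apply Subtype.ext
  apply hfpf (w : G) hw (fun hc => hw1 (Subtype.ext hc)) (k : G) hk
  have := congrArg Subtype.val hwk
  simpa using this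

/-- Frobenius: centralisers of non-identity elements of the kernel lie in the kernel. -/
theorem frobK_centralizer_le (hHL : H ≤ L) (hW₁L : W₁ ≤ L)
    (hHn : ∀ x ∈ L, ∀ h ∈ H, x * h * x⁻¹ ∈ H) (hsup : H ⊔ W₁ = L)
    (hfpf : ∀ w ∈ W₁, w ≠ 1 → ∀ h ∈ H, w * h = h * w → h = 1) :
    ∀ n ∈ H.subgroupOf L, n ≠ 1 →
      Subgroup.centralizer ({n} : Set ↥L) ≤ H.subgroupOf L := by
  intro n hn hn1
  haveI := subgroupOf_normal_of_conj H L hHn
  exact centralizer_le_of_fpf (H.subgroupOf L) (W₁.subgroupOf L)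
    (subgroupOf_sup_eq_top H L W₁ hHL hW₁L hsup) (subgroupOf_fpf H L W₁ hfpf) hn hn1

/-- the kernel is a proper subgroup of `L` -/
theorem subgroupOf_lt_top (hW₁L : W₁ ≤ L) (hW1 : W₁ ≠ ⊥) (hinf : H ⊓ W₁ = ⊥) :
    H.subgroupOf L < ⊤ := by
  rw [lt_top_iff_ne_top]
  intro htop
  apply hW1
  rw [eq_bot_iff]
  intro w hw
  have hwL : w ∈ L := hW₁L hw
  have : (⟨w, hwL⟩ : L) ∈ H.subgroupOf L := by rw [htop]; trivial
  rw [Subgroup.mem_subgroupOf] at this
  have hmem : w ∈ H ⊓ W₁ := ⟨this, hw⟩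
  rwa [hinf] at hmem

/-- the kernel is nontrivial -/
theorem subgroupOf_ne_bot (hHL : H ≤ L) (hH1 : H ≠ ⊥) : H.subgroupOf L ≠ ⊥ := by
  intro hbot
  apply hH1
  rw [eq_bot_iff]
  intro h hh
  have : (⟨h, hHL hh⟩ : L) ∈ H.subgroupOf L := by rw [Subgroup.mem_subgroupOf]; exact hh
  rw [hbot, Subgroup.mem_bot] at this
  have := congrArg Subtype.val this
  simpa using this

/-- the index of the kernel is the order of the complement -/
theorem index_subgroupOf_eq_card (hHL : H ≤ L) (hW₁L : W₁ ≤ L)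
    (hHn : ∀ x ∈ L, ∀ h ∈ H, x * h * x⁻¹ ∈ H) (hinf : H ⊓ W₁ = ⊥) (hsup : H ⊔ W₁ = L) :
    (H.subgroupOf L).index = Nat.card W₁ := by
  haveI := subgroupOf_normal_of_conj H L hHn
  have hdisj : Disjoint (H.subgroupOf L) (W₁.subgroupOf L) := by
    rw [Subgroup.disjoint_def]
    intro x hx hx'
    rw [Subgroup.mem_subgroupOf] at hx hx'
    have hmem : (x : G) ∈ H ⊓ W₁ := ⟨hx, hx'⟩
    rw [hinf, Subgroup.mem_bot] at hmem
    exact Subtype.ext hmem
  have hmul : ((H.subgroupOf L : Subgroup L) : Set L) * ((W₁.subgroupOf L : Subgroup L) : Set L)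
      = Set.univ := by
    rw [← Subgroup.normal_mul, subgroupOf_sup_eq_top H L W₁ hHL hW₁L hsup]
    rfl
  have hc := (Subgroup.isComplement'_of_disjoint_and_mul_eq_univ hdisj hmul).symm
  rw [hc.index_eq_card]
  exact Nat.card_congr (Subgroup.subgroupOfEquivOfLe hW₁L).toEquiv

end Setup

section SibleyS

variable {Λ : Type u} [Group Λ] [Fintype Λ] (K : Subgroup Λ) [hK : K.Normal]

theorem mem_inducedIrrAbove_bot_iff {φ : Λ → ℂ} :
    φ ∈ inducedIrrAbove K ⊥ ↔
      ∃ θ : K → ℂ, IsIrrCharacter K θ ∧ θ ≠ (fun _ => 1) ∧ φ = indFun K θ := by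
  constructor
  · rintro ⟨θ, h1, h2, -, h4⟩
    exact ⟨θ, h1, h2, h4⟩
  · rintro ⟨θ, h1, h2, h4⟩
    refine ⟨θ, h1, h2, ?_, h4⟩
    intro a ha
    rw [Subgroup.mem_bot] at ha
    have : a = 1 := Subtype.ext ha
    rw [this]

theorem extendByZero_conjFun (θ : K → ℂ) (y : Λ) :
    extendByZero K (conjFun θ) y = conj (extendByZero K θ y) := by
  by_cases hy : y ∈ K
  · rw [extendByZero_of_mem K _ hy, extendByZero_of_mem K _ hy]
    rfl
  · rw [extendByZero_of_not_mem K _ hy, extendByZero_of_not_mem K _ hy, map_zero]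

theorem conjFun_indFun (θ : K → ℂ) : conjFun (indFun K θ) = indFun K (conjFun θ) := by
  funext g
  unfold conjFun indFun
  rw [map_mul, map_inv₀, Complex.conj_natCast, map_sum]
  congr 1
  apply Finset.sum_congr rfl
  intro x _
  exact (extendByZero_conjFun K θ _).symm

theorem conjFun_conjFun {X : Type u} (χ : X → ℂ) : conjFun (conjFun χ) = χ := by
  funext x
  simp [conjFun]

variable (hC : ∀ n ∈ K, n ≠ 1 → Subgroup.centralizer ({n} : Set Λ) ≤ K)

include hC in
theorem sibleyS_isIrrCharacter {φ : Λ → ℂ} (hφ : φ ∈ inducedIrrAbove K ⊥) :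
    IsIrrCharacter Λ φ := by
  obtain ⟨θ, h1, h2, rfl⟩ := (mem_inducedIrrAbove_bot_iff K).mp hφ
  exact isIrrCharacter_indFun_of_centralizer_le K hC h1 h2

theorem sibleyS_vanish {φ : Λ → ℂ} (hφ : φ ∈ inducedIrrAbove K ⊥) (x : Λ) (hx : x ∉ K) :
    φ x = 0 := by
  obtain ⟨θ, -, -, rfl⟩ := (mem_inducedIrrAbove_bot_iff K).mp hφ
  apply indFun_of_forall_not_mem_conj
  intro y hy
  rw [Subgroup.Normal.conj_smul_eq_self] at hy
  exact hx hy

theorem sibleyS_conj_mem {φ : Λ → ℂ} (hφ : φ ∈ inducedIrrAbove K ⊥) :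
    conjFun φ ∈ inducedIrrAbove K ⊥ := by
  obtain ⟨θ, h1, h2, rfl⟩ := (mem_inducedIrrAbove_bot_iff K).mp hφ
  rw [mem_inducedIrrAbove_bot_iff]
  refine ⟨conjFun θ, Cfsg.Agent.Lib.Helper81.isIrrCharacter_conj h1, ?_, conjFun_indFun K θ⟩
  intro hc
  apply h2
  have := congrArg conjFun hc
  rw [conjFun_conjFun] at this
  rw [this]
  funext x
  simp [conjFun]

include hC in
theorem sibleyS_conj_ne (hodd : Odd (Nat.card Λ)) (hKtop : K < ⊤) {φ : Λ → ℂ}
    (hφ : φ ∈ inducedIrrAbove K ⊥) : conjFun φ ≠ φ := by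
  intro hc
  have hirr := sibleyS_isIrrCharacter K hC hφ
  have hreal : ∀ g : Λ, (φ g).im = 0 := by
    intro g
    have := congrFun hc g
    unfold conjFun at this
    exact Complex.conj_eq_iff_im.mp this
  have h1 := eq_one_of_real_of_odd_card hodd ⟨φ, hirr⟩ hreal
  obtain ⟨x, -, hx⟩ := SetLike.exists_of_lt hKtop
  have h2 := sibleyS_vanish K hφ x hx
  have h3 := congrFun h1 x
  simp only at h3
  rw [h2] at h3
  exact zero_ne_one h3

theorem exists_irr_ne_one (X : Type u) [Group X] [Fintype X] (hX : Nontrivial X) :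
    ∃ θ : X → ℂ, IsIrrCharacter X θ ∧ θ ≠ (fun _ => 1) := by
  classical
  have h1 : Nat.card (IrrCharacter X) = Nat.card (ConjClasses X) := card_irrCharacter
  have h2 : Nontrivial (ConjClasses X) := by
    obtain ⟨a, ha⟩ := exists_ne (1 : X)
    refine ⟨⟨ConjClasses.mk a, ConjClasses.mk 1, ?_⟩⟩
    intro hc
    rw [ConjClasses.mk_eq_mk_iff_isConj] at hc
    exact ha (isConj_one_left.mp hc)
  have h3 : 1 < Nat.card (IrrCharacter X) := by
    rw [h1]
    exact Finite.one_lt_card_iff_nontrivial.mpr h2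
  have h4 : Nontrivial (IrrCharacter X) := Finite.one_lt_card_iff_nontrivial.mp h3
  obtain ⟨θ, hθ⟩ := exists_ne (⟨fun _ => 1, isIrrCharacter_one⟩ : IrrCharacter X)
  exact ⟨θ.1, θ.2, fun hc => hθ (Subtype.ext hc)⟩

theorem sibleyS_nonempty (hK1 : K ≠ ⊥) : (inducedIrrAbove K ⊥).Nonempty := by
  classical
  have hnt : Nontrivial K := (Subgroup.nontrivial_iff_ne_bot K).mpr hK1
  haveI : Fintype K := Fintype.ofFinite K
  obtain ⟨θ, h1, h2⟩ := exists_irr_ne_one K hnt
  exact ⟨indFun K θ, (mem_inducedIrrAbove_bot_iff K).mpr ⟨θ, h1, h2, rfl⟩⟩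

end SibleyS

section Main

variable {G : Type u} [Group G] [Fintype G] (H L W₁ : Subgroup G) [Fintype L]

/-- Under the hypotheses of Sibley's theorem (S1524), induction from `L` is a linear isometry on
`zspanOn S {1}ᶜ`, `S = inducedIrrAbove (H.subgroupOf L) ⊥`, with values vanishing at `1`. -/
theorem sibley_isLinearIsometryOn (hHL : H ≤ L)
    (hHn : ∀ x ∈ L, ∀ h ∈ H, x * h * x⁻¹ ∈ H)
    (hTI : IsTISubset (H : Set G)) (hN : Subgroup.normalizer (H : Set G) = L)
    (hC : ∀ n ∈ H.subgroupOf L, n ≠ 1 →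
      Subgroup.centralizer ({n} : Set ↥L) ≤ H.subgroupOf L) :
    IsLinearIsometryOn (zspanOn (inducedIrrAbove (H.subgroupOf L) ⊥) {1}ᶜ)
        (fun α : L → ℂ => indFun L α) ∧
      (∀ α ∈ zspanOn (inducedIrrAbove (H.subgroupOf L) ⊥) ({1}ᶜ : Set L), indFun L α 1 = 0) := by
  haveI := subgroupOf_normal_of_conj H L hHn
  apply indFun_isometry_of_TI H L hHL hTI hN
  · intro χ hχ
    exact IsIrrCharacter.isCharacter (sibleyS_isIrrCharacter (H.subgroupOf L) hC hχ)
  · intro χ hχ x hx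
    apply sibleyS_vanish (H.subgroupOf L) hχ x
    rw [Subgroup.mem_subgroupOf]
    exact hx

/-- Under the hypotheses of Sibley's theorem (S1524) there is a coherence system
`(S, Ind_L^G, R)` with `S = inducedIrrAbove (H.subgroupOf L) ⊥`. -/
theorem sibley_exists_coherenceSystem (hodd : Odd (Nat.card L)) (hHL : H ≤ L) (hW₁L : W₁ ≤ L)
    (hH1 : H ≠ ⊥) (hW1 : W₁ ≠ ⊥) (hHn : ∀ x ∈ L, ∀ h ∈ H, x * h * x⁻¹ ∈ H)
    (hinf : H ⊓ W₁ = ⊥) (hsup : H ⊔ W₁ = L)
    (hfpf : ∀ w ∈ W₁, w ≠ 1 → ∀ h ∈ H, w * h = h * w → h = 1)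
    (hTI : IsTISubset (H : Set G)) (hN : Subgroup.normalizer (H : Set G) = L) :
    ∃ R : (L → ℂ) → Finset (G → ℂ),
      IsCoherenceSystem (inducedIrrAbove (H.subgroupOf L) ⊥) (fun α : L → ℂ => indFun L α) R := by
  haveI := subgroupOf_normal_of_conj H L hHn
  have hC := frobK_centralizer_le H L W₁ hHL hW₁L hHn hsup hfpf
  have hiso := sibley_isLinearIsometryOn H L hHL hHn hTI hN hC
  apply Cfsg.Agent.S1514.result (inducedIrrAbove (H.subgroupOf L) ⊥)
    (sibleyS_nonempty (H.subgroupOf L) (subgroupOf_ne_bot H L hHL hH1))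
    (fun χ hχ => sibleyS_isIrrCharacter (H.subgroupOf L) hC hχ)
    (fun χ hχ => ⟨sibleyS_conj_mem (H.subgroupOf L) hχ,
      sibleyS_conj_ne (H.subgroupOf L) hC hodd (subgroupOf_lt_top H L W₁ hW₁L hW1 hinf) hχ⟩)
    (fun α : L → ℂ => indFun L α) hiso.1 hiso.2

end Main

end Cfsg.Agent.Lib.Helper74
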