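import Mathlib
import Cfsg.Prelude.Def_OddOrderChar
import Cfsg.Prelude.Def_OddOrderLocal
import Cfsg.Agent.Lib.Helper74.SibleySetup
import Cfsg.Agent.Lib.Helper3.Dade
import Cfsg.Agent.S1500
import Cfsg.Agent.S1501
import Cfsg.Agent.S1518

/-!
# Peterfalvi section 12, part A (helper74): the Dade isometry on `ℤ[S, L#]` for a Frobenius
type-I subgroup.

Generic part: `L ≤ G`, `(A, L, R)` a Dade set-up, `S` a set of characters of `L` vanishing off a
set `X ⊆ G` with `X \ {1} ⊆ A`.  Then the Dade map is a linear isometry on `zspanOn S {1}ᶜ` with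
values vanishing at `1`; and when `R a = ⊥` on `A` it agrees there with induction from `L`.
-/

set_option autoImplicit false
set_option linter.unusedSectionVars false

namespace Cfsg.Agent.Lib.Helper74.PF12

open Cfsg Cfsg.Agent.Lib.Helper78 Cfsg.Agent.Lib.Helper75 Cfsg.Agent.Lib.Helper74
open scoped ComplexConjugate

universe u

section DadeLinear

variable {G : Type u} [Group G] (A : Set G) (L : Subgroup G) (R : G → Subgroup G)

theorem dade_add (α β : L → ℂ) :
    dadeIsometry A L R (α + β) = dadeIsometry A L R α + dadeIsometry A L R β := by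
  funext g
  unfold dadeIsometry
  simp only [Pi.add_apply]
  split_ifs <;> simp

theorem dade_zsmul (n : ℤ) (α : L → ℂ) :
    dadeIsometry A L R (n • α) = n • dadeIsometry A L R α := by
  funext g
  unfold dadeIsometry
  simp only [Pi.smul_apply]
  split_ifs <;> simp

theorem dade_sub (α β : L → ℂ) :
    dadeIsometry A L R (α - β) = dadeIsometry A L R α - dadeIsometry A L R β := by
  funext g
  unfold dadeIsometry
  simp only [Pi.sub_apply]
  split_ifs <;> simp

end DadeLinear

section DadeIsom

variable {G : Type u} [Group G] [Fintype G] {A : Set G} {L : Subgroup G} [Fintype L]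
  {R : G → Subgroup G}

/-- members of the integer span of characters of `L` vanishing off `X` are class functions,
generalized characters, and vanish off `X`. -/
theorem zspan_props (X : Set G) (S : Set (L → ℂ)) (hS : ∀ χ ∈ S, IsCharacter L χ)
    (hvan : ∀ χ ∈ S, ∀ x : L, (x : G) ∉ X → χ x = 0) {α : L → ℂ} (hα : α ∈ zspan S) :
    IsClassFunction L α ∧ (∀ x : L, (x : G) ∉ X → α x = 0) ∧ IsGeneralizedCharacter L α := by
  have F := Cfsg.Agent.Lib.Helper26.irrFacts L
  unfold zspan at hα
  induction hα using Submodule.span_induction with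
  | mem χ hχ =>
    exact ⟨IsCharacter.isClassFunction (hS χ hχ), hvan χ hχ,
      Cfsg.Agent.Lib.Helper26.isGeneralizedCharacter_of_isCharacter (hS χ hχ)⟩
  | zero =>
    exact ⟨fun g h => rfl, fun x _ => rfl, Cfsg.Agent.Lib.Helper26.gen_zero⟩
  | add a b _ _ ha hb =>
    refine ⟨isClassFunction_add ha.1 hb.1, fun x hx => ?_, F.gen_add ha.2.2 hb.2.2⟩
    rw [Pi.add_apply, ha.2.1 x hx, hb.2.1 x hx, add_zero]
  | smul n a _ ha =>
    refine ⟨?_, fun x hx => ?_, F.gen_zsmul n ha.2.2⟩
    · intro g h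
      show (n • a) (h * g * h⁻¹) = (n • a) g
      rw [Pi.smul_apply, Pi.smul_apply, ha.1 g h]
    · rw [Pi.smul_apply, ha.2.1 x hx, smul_zero]

/-- The Dade map is a linear isometry on the integer combinations, vanishing at `1`, of
characters of `L` vanishing off `X`, when `X \ {1} ⊆ A`. -/
theorem dade_isLinearIsometryOn (hD : DadeHypothesis A L R) (X : Set G)
    (hXA : ∀ x ∈ X, x ≠ 1 → x ∈ A)
    (S : Set (L → ℂ)) (hS : ∀ χ ∈ S, IsCharacter L χ)
    (hvan : ∀ χ ∈ S, ∀ x : L, (x : G) ∉ X → χ x = 0) :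
    IsLinearIsometryOn (zspanOn S {1}ᶜ) (dadeIsometry A L R) ∧
      (∀ α ∈ zspanOn S ({1}ᶜ : Set L), dadeIsometry A L R α 1 = 0) := by
  have hone : ∀ α ∈ zspanOn S ({1}ᶜ : Set L), α 1 = 0 := fun α hα => hα.2 1 (by simp)
  have hoffA : ∀ α ∈ zspanOn S ({1}ᶜ : Set L), ∀ x : L, (x : G) ∉ A → α x = 0 := by
    intro α hα x hx
    by_cases h1 : x = 1
    · rw [h1]; exact hone α hα
    · by_cases hxX : (x : G) ∈ X
      · exfalso
        exact hx (hXA _ hxX (fun hc => h1 (Subtype.ext hc)))
      · exact (zspan_props X S hS hvan hα.1).2.1 x hxX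
  refine ⟨⟨?_, ?_, ?_, ?_⟩, ?_⟩
  · intro α _ β _
    exact dade_add A L R α β
  · intro α _ n
    exact dade_zsmul A L R n α
  · intro α hα β hβ
    have pa := zspan_props X S hS hvan hα.1
    have pb := zspan_props X S hS hvan hβ.1
    exact (Cfsg.Agent.S1500.result A L R hD α pa.1 (hoffA α hα)).1 β pb.1 (hoffA β hβ)
  · intro α hα
    have pa := zspan_props X S hS hvan hα.1
    exact Cfsg.Agent.S1501.result A L R hD α pa.2.2 (hoffA α hα)
  · intro α _
    exact Cfsg.Agent.S1518.dade_one' hD α

end DadeIsom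

end Cfsg.Agent.Lib.Helper74.PF12
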