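import Mathlib
import Cfsg.Prelude.Def_OddOrderChar
import Cfsg.Prelude.Def_OddOrderLocal
import Cfsg.Agent.Lib.Helper74.PFTwelveA
import Cfsg.Agent.Lib.Helper74.FrobInduced
import Cfsg.Agent.Lib.Helper25.CharBasic

/-!
# Peterfalvi section 12, part B (helper74): generic tools for (12.6).

* `sibleyS_eq_setOf`: for `K ⊴ Λ` with `C_Λ(n) ≤ K` for `n ∈ K#`, the set of characters induced
  from nonprincipal irreducible characters of `K` is the set of irreducible characters of `Λ`
  not containing `K` in their kernel.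
* `dade_eq_indFun`: when `R a = ⊥` on `A`, the Dade map is induction from `L` on class functions
  vanishing off `A`.
* `card_dvd_exponent_of_sylow_cyclic`: a finite group with cyclic Sylow subgroups has order
  dividing its exponent.
-/

set_option autoImplicit false
set_option linter.unusedSectionVars false

namespace Cfsg.Agent.Lib.Helper74.PF12

open Cfsg Cfsg.Agent.Lib.Helper78 Cfsg.Agent.Lib.Helper75 Cfsg.Agent.Lib.Helper74
open scoped ComplexConjugate

universe u

section SetEq

variable {Λ : Type u} [Group Λ] [Fintype Λ] (K : Subgroup Λ) [hK : K.Normal]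

/-- the induced function of the principal character of a normal subgroup is constant on it -/
theorem indFun_one_apply_mem (n : Λ) (hn : n ∈ K) :
    indFun K (fun _ : K => (1 : ℂ)) n = indFun K (fun _ : K => (1 : ℂ)) 1 := by
  unfold indFun
  congr 1
  apply Finset.sum_congr rfl
  intro x _
  have h1 : x⁻¹ * n * x ∈ K := by
    have := hK.conj_mem n hn x⁻¹
    simpa using this
  have h2 : x⁻¹ * 1 * x ∈ K := by simp [K.one_mem]
  rw [extendByZero_of_mem K _ h1, extendByZero_of_mem K _ h2]

/-- strengthened form of `exists_eq_indFun_of_centralizer_le`: the inducing character is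
nonprincipal. -/
theorem exists_eq_indFun_ne_one
    (hC : ∀ n ∈ K, n ≠ 1 → Subgroup.centralizer ({n} : Set Λ) ≤ K)
    {χ : Λ → ℂ} (hχ : IsIrrCharacter Λ χ) (hker : ∃ n ∈ K, χ n ≠ χ 1) :
    ∃ φ : K → ℂ, IsIrrCharacter K φ ∧ φ ≠ (fun _ => 1) ∧ χ = indFun K φ := by
  obtain ⟨φ, hφ, hχφ⟩ := exists_eq_indFun_of_centralizer_le K hC hχ hker
  refine ⟨φ, hφ, ?_, hχφ⟩
  intro h1
  obtain ⟨n, hn, hne⟩ := hker
  apply hne
  rw [hχφ, h1]
  exact indFun_one_apply_mem K n hn

theorem sibleyS_eq_setOf
    (hC : ∀ n ∈ K, n ≠ 1 → Subgroup.centralizer ({n} : Set Λ) ≤ K) :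
    inducedIrrAbove K ⊥ =
      {χ : Λ → ℂ | IsIrrCharacter Λ χ ∧ ∃ h ∈ K, χ h ≠ χ 1} := by
  classical
  haveI : Fintype K := Fintype.ofFinite K
  ext χ
  constructor
  · intro hχ
    have hirr := sibleyS_isIrrCharacter K hC hχ
    refine ⟨hirr, ?_⟩
    by_contra hcon
    push Not at hcon
    obtain ⟨θ, hθ, hθ1, rfl⟩ := (mem_inducedIrrAbove_bot_iff K).mp hχ
    have h1 : classInner (indFun K θ) (indFun K θ) = 1 := classInner_irr_self hirr
    rw [frobenius_reciprocity K θ (isClassFunction_indFun K θ)] at h1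
    have h2 : (fun h : K => indFun K θ (h : Λ)) =
        (indFun K θ 1) • (fun _ : K => (1 : ℂ)) := by
      funext h
      simp only [Pi.smul_apply, smul_eq_mul, mul_one]
      exact hcon h h.2
    rw [h2, classInner_smul_right,
      classInner_irr_ne hθ isIrrCharacter_one hθ1, mul_zero] at h1
    exact zero_ne_one h1
  · rintro ⟨hirr, hker⟩
    obtain ⟨φ, hφ, hφ1, rfl⟩ := exists_eq_indFun_ne_one K hC hirr hker
    exact (mem_inducedIrrAbove_bot_iff K).mpr ⟨φ, hφ, hφ1, rfl⟩

end SetEq

section DadeInd

variable {G : Type u} [Group G] [Fintype G] {A : Set G} {L : Subgroup G} [Fintype L]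
  {R : G → Subgroup G}

/-- When all `R a` are trivial the Dade map is ordinary induction on class functions of `L`
vanishing off `A`. -/
theorem dade_eq_indFun (hD : DadeHypothesis A L R) (hR : ∀ a ∈ A, R a = ⊥)
    (α : L → ℂ) (hα : IsClassFunction L α) (hαA : ∀ x : L, (x : G) ∉ A → α x = 0) :
    dadeIsometry A L R α = indFun L α := by
  have hcf : IsClassFunction G (dadeIsometry A L R α - indFun L α) := by
    intro g h
    have h1 := Cfsg.Agent.Lib.Helper3.Dade.dade_isClassFunction hD hα g h
    have h2 := isClassFunction_indFun L α g h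
    simp only [Pi.sub_apply]
    rw [h1, h2]
  have key : ∀ χ : G → ℂ, IsClassFunction G χ →
      classInner (dadeIsometry A L R α - indFun L α) χ = 0 := by
    intro χ hχ
    rw [Cfsg.Agent.Lib.Helper25.classInner_sub_left, frobenius_reciprocity L α hχ]
    have := (Cfsg.Agent.S1500.result A L R hD α hα hαA).2 χ (fun a : L => χ a) hχ ?_
    · rw [this, sub_self]
    · intro a ha
      rw [hR a ha]
      have hc : Nat.card (⊥ : Subgroup G) = 1 := Subgroup.card_bot
      rw [hc]
      have hs : ((⊥ : Subgroup G) : Set G) = {1} := Subgroup.coe_bot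
      rw [hs, finsum_mem_singleton]
      simp
  have h0 := Cfsg.Agent.Lib.Helper26.classInner_self_eq_zero (key _ hcf)
  exact sub_eq_zero.mp h0

end DadeInd

section Exponent

/-- A finite group all of whose Sylow subgroups are cyclic has order dividing its exponent. -/
theorem card_dvd_exponent_of_sylow_cyclic (U : Type u) [Group U] [Finite U]
    (h : ∀ (q : ℕ) [Fact q.Prime] (Q : Sylow q U), IsCyclic Q) :
    Nat.card U ∣ Monoid.exponent U := by
  have hcard : Nat.card U ≠ 0 := Nat.card_pos.ne'
  have hexp : Monoid.exponent U ≠ 0 := Monoid.exponent_ne_zero_of_finite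
  rw [← Nat.factorization_prime_le_iff_dvd hcard hexp]
  intro q hq
  haveI := Fact.mk hq
  obtain ⟨Q⟩ : Nonempty (Sylow q U) := inferInstance
  haveI := h q Q
  obtain ⟨g, hg⟩ := IsCyclic.exists_ofOrder_eq_natCard (α := (Q : Subgroup U))
  have h1 : Nat.card (Q : Subgroup U) = q ^ (Nat.card U).factorization q :=
    Sylow.card_eq_multiplicity Q
  have h2 : orderOf (g : U) = orderOf g := Subgroup.orderOf_coe g
  have h3 : orderOf (g : U) ∣ Monoid.exponent U := Monoid.order_dvd_exponent _
  rw [h2, hg, h1] at h3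
  exact (hq.pow_dvd_iff_le_factorization hexp).mp h3

end Exponent

end Cfsg.Agent.Lib.Helper74.PF12
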