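import Cfsg.Agent.Lib.Helper74.SchurOrth
import Mathlib.RingTheory.SimpleModule.Basic

/-!
# Transport of a finite-dimensional representation to coordinates `Fin n → k` (helper74)
-/

set_option autoImplicit false

namespace Cfsg.Agent.Lib.Helper74

variable {G : Type*} [Group G] {k : Type*} [Field k]

/-- Irreducibility transfers along an equivalence of representations. -/
theorem isIrreducible_of_equiv {V W : Type*} [AddCommGroup V] [Module k V] [AddCommGroup W]
    [Module k W] {ρ : Representation k G V} {σ : Representation k G W} (φ : ρ.Equiv σ)
    [ρ.IsIrreducible] : σ.IsIrreducible := by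
  rw [Representation.irreducible_iff_isSimpleModule_asModule]
  let f := Representation.IntertwiningMap.equivLinearMapAsModule ρ σ φ.toIntertwiningMap
  let g := Representation.IntertwiningMap.equivLinearMapAsModule σ ρ φ.symm.toIntertwiningMap
  have hfg : f.comp g = LinearMap.id := by
    ext x
    exact φ.apply_symm_apply x
  have hgf : g.comp f = LinearMap.id := by
    ext x
    exact φ.symm_apply_apply x
  exact IsSimpleModule.congr (LinearEquiv.ofLinearMap g f hgf hfg)

/-- Transport of a representation on a finite-dimensional space to coordinates. -/
noncomputable def toCoord {V : Type*} [AddCommGroup V] [Module k V] [FiniteDimensional k V]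
    (ρ : Representation k G V) : Representation k G (Fin (Module.finrank k V) → k) where
  toFun g := (Module.finBasis k V).equivFun.conj (ρ g)
  map_one' := by
    rw [map_one]
    exact LinearEquiv.conj_id _
  map_mul' g h := by
    rw [map_mul]
    exact LinearEquiv.conj_comp _ _ _

/-- The coordinate representation is equivalent to the original one. -/
noncomputable def toCoordEquiv {V : Type*} [AddCommGroup V] [Module k V] [FiniteDimensional k V]
    (ρ : Representation k G V) : ρ.Equiv (toCoord ρ) :=
  Representation.Equiv.mk (Module.finBasis k V).equivFun (fun g => by
    ext v
    simp [toCoord, LinearEquiv.conj_apply])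

theorem toCoord_character {V : Type*} [AddCommGroup V] [Module k V] [FiniteDimensional k V]
    (ρ : Representation k G V) : (toCoord ρ).character = ρ.character :=
  (Representation.char_iso (toCoordEquiv ρ)).symm

theorem toCoord_isIrreducible {V : Type*} [AddCommGroup V] [Module k V] [FiniteDimensional k V]
    (ρ : Representation k G V) [ρ.IsIrreducible] : (toCoord ρ).IsIrreducible :=
  isIrreducible_of_equiv (toCoordEquiv ρ)

end Cfsg.Agent.Lib.Helper74
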