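import Cfsg.Agent.Lib.Helper74.Coord

/-!
# A representation with the character of an irreducible one is equivalent to it (helper74)
-/

set_option autoImplicit false

namespace Cfsg.Agent.Lib.Helper74

variable {G : Type*} [Group G] {k : Type*} [Field k]

/-- A representation with the same character as an irreducible representation is equivalent to
it. -/
theorem equiv_of_character_eq [Fintype G] [IsAlgClosed k] [CharZero k]
    {V W : Type*} [AddCommGroup V] [Module k V] [FiniteDimensional k V]
    [AddCommGroup W] [Module k W] [FiniteDimensional k W]
    (ρ : Representation k G V) [ρ.IsIrreducible] (σ : Representation k G W)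
    (h : σ.character = ρ.character) : Nonempty (ρ.Equiv σ) := by
  have hGne : (Nat.card G : k) ≠ 0 := by
    have : Nat.card G ≠ 0 := Nat.card_pos.ne'
    exact_mod_cast this
  have : Invertible (Nat.card G : k) := invertibleOfNonzero hGne
  have h1 := Representation.card_inv_mul_sum_char_mul_char_eq_finrank ρ σ
  have h2 := Representation.char_orthonormal ρ ρ
  rw [if_pos ⟨Representation.Equiv.refl ρ⟩] at h2
  rw [h, h2] at h1
  have h3 : Module.finrank k (Representation.IntertwiningMap ρ σ) = 1 := by
    exact_mod_cast h1.symm
  obtain ⟨T, hT⟩ := (Module.finrank_pos_iff_exists_ne_zero (R := k)).mp (by rw [h3]; exact one_pos)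
  have hinj : Function.Injective T := by
    rcases Representation.IsIrreducible.injective_or_eq_zero T with h | h
    · exact h
    · exact absurd h hT
  have hdim : Module.finrank k V = Module.finrank k W := by
    have := congrFun h 1
    rw [Representation.char_one, Representation.char_one] at this
    exact_mod_cast this.symm
  have hbij : Function.Bijective T :=
    ⟨hinj, (LinearMap.injective_iff_surjective_of_finrank_eq_finrank hdim).mp hinj⟩
  exact ⟨T.ofBijective hbij⟩

end Cfsg.Agent.Lib.Helper74
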