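import Mathlib
import Cfsg.Agent.Lib.Helper75.Clifford
import Cfsg.Agent.Lib.Helper78.CharMore

set_option autoImplicit false
set_option linter.unusedSectionVars false

namespace Cfsg.Agent.Lib.Helper74

open Cfsg Cfsg.Agent.Lib.Helper78 Cfsg.Agent.Lib.Helper75
open scoped ComplexConjugate

universe u

section KerSum

variable {G : Type u} [Group G] [Fintype G] (N : Subgroup G) [hN : N.Normal] [Fintype N]

/-- If the principal character of the normal subgroup `N` is a constituent of `χ|_N`
(`χ` irreducible) then `N` is in the kernel of `χ`. -/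
theorem apply_eq_apply_one_of_classInner_res_one_ne_zero {χ : G → ℂ} (hχ : IsIrrCharacter G χ)
    (hne : classInner (fun n : N => χ n) (fun _ : N => (1 : ℂ)) ≠ 0) (n : G) (hn : n ∈ N) :
    χ n = χ 1 := by
  classical
  have hres : IsCharacter N (fun n : N => χ n) :=
    isCharacter_res N (IsIrrCharacter.isCharacter hχ)
  have hexp := IsCharacter.eq_sum_irr hres
  let one' : IrrCharacter N := ⟨fun _ => 1, isIrrCharacter_one⟩
  have hsum : (fun n : N => χ n) =
      classInner (fun n : N => χ n) (one' : N → ℂ) • (one' : N → ℂ) := by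
    conv_lhs => rw [hexp]
    rw [Finset.sum_eq_single one']
    · intro φ _ hφ
      have hφ1 : (fun _ : N => (1 : ℂ)) ≠ (φ : N → ℂ) := fun h => hφ (Subtype.ext h.symm)
      rw [clifford_orthogonal N hχ isIrrCharacter_one φ.2 hne, zero_smul]
      intro g hg
      apply hφ1
      rw [← hg]
      rfl
    · intro h; exact absurd (Finset.mem_univ _) h
  have e1 := congrFun hsum ⟨n, hn⟩
  have e2 := congrFun hsum 1
  simp only [Pi.smul_apply, smul_eq_mul, one'] at e1 e2
  change χ n = _ at e1
  change χ 1 = _ at e2
  rw [e1, e2]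

/-- The sum of the squares of the degrees of the irreducible characters with the normal subgroup
`N` in their kernel is the index of `N`. -/
theorem sum_sq_degree_of_kernel_ge
    [DecidablePred fun χ : IrrCharacter G => ∀ n ∈ N, (χ : G → ℂ) n = (χ : G → ℂ) 1] :
    ∑ χ ∈ Finset.univ.filter (fun χ : IrrCharacter G => ∀ n ∈ N, (χ : G → ℂ) n = (χ : G → ℂ) 1),
      ((χ : G → ℂ) 1) ^ 2 = (N.index : ℂ) := by
  classical
  have hNne : (Nat.card N : ℂ) ≠ 0 := by
    exact_mod_cast (Nat.card_pos (α := N)).ne'
  -- double sum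
  have h1 : ∑ χ : IrrCharacter G, (χ : G → ℂ) 1 * ∑ n : N, (χ : G → ℂ) n = (Nat.card G : ℂ) := by
    simp_rw [Finset.mul_sum]
    rw [Finset.sum_comm, Finset.sum_eq_single (1 : N)]
    · have := sum_irr_apply_one_sq (G := G)
      rw [← this]
      apply Finset.sum_congr rfl
      intro χ _
      rw [sq]
      rfl
    · intro n _ hn1
      have hn1' : (n : G) ≠ 1 := fun h => hn1 (Subtype.ext h)
      have h := second_orthogonality_of_not_isConj (G := G) (g := (n : G)) (h := 1) (by
        intro hc
        apply hn1'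
        have := hc.symm
        rw [isConj_iff] at this
        obtain ⟨c, hc⟩ := this
        rw [← hc]; simp)
      rw [← h]
      apply Finset.sum_congr rfl
      intro χ _
      rw [IsCharacter.apply_one_eq_charDegree (IsIrrCharacter.isCharacter χ.2),
        Complex.conj_natCast]
      ring
    · intro h; exact absurd (Finset.mem_univ _) h
  have h2 : ∀ χ : IrrCharacter G, (χ : G → ℂ) 1 * ∑ n : N, (χ : G → ℂ) n =
      if ∀ n ∈ N, (χ : G → ℂ) n = (χ : G → ℂ) 1 then (Nat.card N : ℂ) * ((χ : G → ℂ) 1) ^ 2
      else 0 := by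
    intro χ
    split_ifs with h
    · have : ∑ n : N, (χ : G → ℂ) n = ∑ _n : N, (χ : G → ℂ) 1 :=
        Finset.sum_congr rfl (fun n _ => h n n.2)
      rw [this, Finset.sum_const, Finset.card_univ, nsmul_eq_mul, ← Nat.card_eq_fintype_card]
      ring
    · have h0 : classInner (fun n : N => (χ : G → ℂ) n) (fun _ : N => (1 : ℂ)) = 0 := by
        by_contra hne
        exact h (fun n hn => apply_eq_apply_one_of_classInner_res_one_ne_zero N χ.2 hne n hn)
      unfold classInner at h0
      simp only [map_one, mul_one] at h0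
      rcases mul_eq_zero.mp h0 with h0 | h0
      · exact absurd h0 (inv_ne_zero hNne)
      · rw [h0, mul_zero]
  rw [Finset.sum_congr rfl (fun χ _ => h2 χ), ← Finset.sum_filter, ← Finset.mul_sum] at h1
  have hidx : (Nat.card N : ℂ) * (N.index : ℂ) = (Nat.card G : ℂ) := by
    exact_mod_cast N.card_mul_index
  rw [← hidx] at h1
  exact mul_left_cancel₀ hNne h1

end KerSum

end Cfsg.Agent.Lib.Helper74
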