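import Mathlib
import Cfsg.Agent.Lib.Helper74.FrobTI
import Cfsg.Agent.Lib.Helper77.CenterIrr

set_option autoImplicit false

namespace Cfsg.Agent.Lib.Helper74

open Cfsg Cfsg.Agent.Lib.Helper78 Cfsg.Agent.Lib.Helper75
open scoped ComplexConjugate Pointwise

universe u

section Star

variable {G : Type u} [Group G] [Fintype G] (H : Subgroup G) [Fintype H]

/-- inner product of `frobStar ψ` with a class function -/
theorem classInner_frobStar_left (ψ : H → ℂ) {f : G → ℂ} (hf : IsClassFunction G f) :
    classInner (frobStar H ψ) f =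
      classInner ψ (fun h : H => f h) - ψ 1 * classInner (1 : H → ℂ) (fun h : H => f h)
        + ψ 1 * classInner (1 : G → ℂ) f := by
  unfold frobStar
  rw [classInner_add_left, frobenius_reciprocity H _ hf, classInner_smul_left, sub_eq_add_neg,
    classInner_add_left, ← neg_smul, classInner_smul_left]
  ring

/-- `frobStar ψ` has integer multiplicities when `ψ` is a character. -/
theorem classInner_frobStar_int {ψ : H → ℂ} (hψ : IsCharacter H ψ) (χ : IrrCharacter G) :
    ∃ n : ℤ, classInner (frobStar H ψ) (χ : G → ℂ) = n := by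
  rw [classInner_frobStar_left H ψ (isClassFunction_irr χ)]
  have hχH : IsCharacter H (fun h : H => (χ : G → ℂ) h) :=
    isCharacter_res H (IsIrrCharacter.isCharacter χ.2)
  obtain ⟨a, ha⟩ := IsCharacter.exists_nat_classInner_char hψ hχH
  obtain ⟨b, hb⟩ := IsCharacter.exists_nat_classInner_char
    (IsIrrCharacter.isCharacter (isIrrCharacter_one (G := H))) hχH
  obtain ⟨c, hc⟩ := IsCharacter.exists_nat_classInner_char
    (IsIrrCharacter.isCharacter (isIrrCharacter_one (G := G))) (IsIrrCharacter.isCharacter χ.2)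
  obtain ⟨d, hd⟩ := IsCharacter.exists_apply_one hψ
  refine ⟨(a : ℤ) - d * b + d * c, ?_⟩
  have hb' : classInner (1 : H → ℂ) (fun h : H => (χ : G → ℂ) h) = b := hb
  have hc' : classInner (1 : G → ℂ) (χ : G → ℂ) = c := hc
  rw [ha, hb', hc', hd]
  push_cast
  ring

/-- `ψ ↦ frobStar ψ` is an isometry on class functions of a TI subgroup. -/
theorem classInner_frobStar_frobStar (hTI : ∀ g : G, g ∉ H → H ⊓ (MulAut.conj g • H) = ⊥)
    {ψ : H → ℂ} (hψ : IsClassFunction H ψ) :
    classInner (frobStar H ψ) (frobStar H ψ) = classInner ψ ψ := by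
  have hres : (fun h : H => frobStar H ψ h) = ψ := by
    funext h
    exact frobStar_of_mem H hTI hψ h.2
  have h1G : IsClassFunction G (1 : G → ℂ) := fun _ _ => rfl
  have hres1 : (fun h : H => (1 : G → ℂ) h) = (1 : H → ℂ) := rfl
  -- ⟨1_G, ψ*⟩ = ⟨1_H, ψ⟩
  have hone : classInner (1 : G → ℂ) (frobStar H ψ) = classInner (1 : H → ℂ) ψ := by
    rw [← classInner_conj_symm, classInner_frobStar_left H ψ h1G, hres1, classInner_one_one,
      classInner_one_one, ← classInner_conj_symm ψ 1]
    congr 1
    ring
  rw [classInner_frobStar_left H ψ (isClassFunction_frobStar H ψ), hres, hone]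
  ring

theorem isIrrCharacter_frobStar (hTI : ∀ g : G, g ∉ H → H ⊓ (MulAut.conj g • H) = ⊥)
    {φ : H → ℂ} (hφ : IsIrrCharacter H φ) : IsIrrCharacter G (frobStar H φ) := by
  apply isIrrCharacter_of_int_coeff (isClassFunction_frobStar H φ)
    (classInner_frobStar_int H (IsIrrCharacter.isCharacter hφ))
  · rw [classInner_frobStar_frobStar H hTI (IsCharacter.isClassFunction (IsIrrCharacter.isCharacter hφ)),
      classInner_irr_self hφ]
  · rw [frobStar_one, IsCharacter.apply_one_eq_charDegree (IsIrrCharacter.isCharacter hφ)]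
    have := IsIrrCharacter.charDegree_pos hφ
    simpa using this

end Star

end Cfsg.Agent.Lib.Helper74
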