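import Mathlib
import Cfsg.Agent.Lib.Helper74.FrobStar

set_option autoImplicit false

namespace Cfsg.Agent.Lib.Helper74

open Cfsg Cfsg.Agent.Lib.Helper78 Cfsg.Agent.Lib.Helper75 Cfsg.Agent.Lib.Helper77
open scoped ComplexConjugate Pointwise

universe u

section Thm

variable {G : Type u} [Group G] [Finite G] (H : Subgroup G)

/-- **Frobenius' theorem**. -/
theorem frobenius_theorem (hH : Cfsg.IsFrobeniusComplement H) :
    ∃ N : Subgroup G, (N : Set G) = Cfsg.frobeniusKernel H ∧ N.Normal ∧
      Subgroup.IsComplement' N H := by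
  classical
  have : Fintype G := Fintype.ofFinite G
  have hTI := hH.2.2
  -- the irreducible characters `φ*`
  let star : IrrCharacter H → IrrCharacter G := fun φ =>
    ⟨frobStar H (φ : H → ℂ), isIrrCharacter_frobStar H hTI φ.2⟩
  let M : Subgroup G := ⨅ φ : IrrCharacter H, irrKer (star φ)
  have hMn : M.Normal := Subgroup.normal_iInf_normal (fun φ => irrKer_normal (star φ))
  have hmemM : ∀ g : G, g ∈ M ↔ ∀ φ : IrrCharacter H,
      frobStar H (φ : H → ℂ) g = (φ : H → ℂ) 1 := by
    intro g
    simp only [M, Subgroup.mem_iInf, mem_irrKer]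
    apply forall_congr'
    intro φ
    show frobStar H (φ : H → ℂ) g = frobStar H (φ : H → ℂ) 1 ↔ _
    rw [frobStar_one]
  -- the Frobenius kernel is contained in `M`
  have hKM : Cfsg.frobeniusKernel H ⊆ (M : Set G) := by
    intro g hg
    exact (hmemM g).mpr (fun φ => frobStar_of_mem_kernel H _ hg)
  -- `M ∩ H = 1`
  have hdisj : Disjoint M H := by
    rw [Subgroup.disjoint_def]
    intro h hM hh
    have hconj : IsConj (⟨h, hh⟩ : H) 1 := by
      apply isConj_of_forall_irr_eq
      intro φ
      rw [← frobStar_of_mem H hTI (isClassFunction_irr φ) hh]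
      exact (hmemM h).mp hM φ
    have : (⟨h, hh⟩ : H) = 1 := by
      rw [isConj_one_left] at hconj
      exact hconj
    exact congrArg Subtype.val this
  -- counting
  have hcardK : Nat.card (Cfsg.frobeniusKernel H) = H.index := Cfsg.Agent.S0034.card_kernel H hH
  have hinj : Function.Injective (fun p : M × H => (p.1 : G) * (p.2 : G)) :=
    Subgroup.mul_injective_of_disjoint hdisj
  have hle : Nat.card M * Nat.card H ≤ Nat.card G := by
    rw [← Nat.card_prod]
    exact Nat.card_le_card_of_injective _ hinj
  have hHpos : 0 < Nat.card H := Nat.card_pos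
  have hMle : Nat.card M ≤ H.index := by
    have := H.card_mul_index
    rw [← this, mul_comm (Nat.card H)] at hle
    exact Nat.le_of_mul_le_mul_right hle hHpos
  have hKle : Nat.card (Cfsg.frobeniusKernel H) ≤ Nat.card M :=
    Nat.card_mono (Set.toFinite _) hKM
  have hMK : (M : Set G) = Cfsg.frobeniusKernel H := by
    symm
    apply Set.eq_of_subset_of_ncard_le hKM _ (Set.toFinite _)
    rw [← Nat.card_coe_set_eq, ← Nat.card_coe_set_eq]
    show Nat.card M ≤ _
    omega
  refine ⟨M, hMK, hMn, ?_⟩
  apply Subgroup.isComplement'_of_card_mul_and_disjoint _ hdisj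
  have hM : Nat.card M = H.index := le_antisymm hMle (hcardK ▸ hKle)
  rw [hM, mul_comm]
  exact H.card_mul_index

end Thm

end Cfsg.Agent.Lib.Helper74
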