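import Mathlib
import Cfsg.Agent.S0923
import Cfsg.Agent.S0936
import Cfsg.Agent.Lib.Helper78.SMTOrtho

set_option autoImplicit false
set_option linter.unusedSectionVars false

namespace Cfsg.Agent.Lib.Helper74

open Cfsg Cfsg.Agent.Lib.Helper78 Cfsg.Agent.Lib.Helper16

section PrincipalSMT

variable {G : Type*} [Group G] [Finite G] {p : ℕ} [Fact p.Prime] {M : Ideal AlgInt}

theorem isPBlock_principalBlock (H : Type*) [Group H] (M : Ideal AlgInt) :
    IsPBlock M (principalBlock M H) :=
  ⟨⟨fun _ => 1, isIrrCharacter_one⟩, rfl⟩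

theorem one_mem_principalBlock (hM : IsPModular p M) (H : Type*) [Group H] :
    (⟨fun _ => 1, isIrrCharacter_one⟩ : IrrCharacter H) ∈ principalBlock M H := by
  have : M.IsPrime := hM.2.1.isPrime
  exact self_mem_blockOf hM.2.1.ne_top (⟨fun _ => 1, isIrrCharacter_one⟩ : IrrCharacter H)

theorem isClassFunction_twist_centralizer (x : G) {χ : G → ℂ} (hχ : IsClassFunction G χ) :
    IsClassFunction (Subgroup.centralizer ({x} : Set G))
      (fun c : Subgroup.centralizer ({x} : Set G) => χ (x * (c : G))) := by
  intro c h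
  show χ (x * ((h * c * h⁻¹ : Subgroup.centralizer ({x} : Set G)) : G)) = χ (x * (c : G))
  have hcomm : (h : G) * x = x * (h : G) :=
    (Subgroup.mem_centralizer_singleton_iff.mp h.2)
  have : x * ((h * c * h⁻¹ : Subgroup.centralizer ({x} : Set G)) : G) =
      (h : G) * (x * (c : G)) * (h : G)⁻¹ := by
    push_cast
    rw [← mul_assoc, ← mul_assoc, ← mul_assoc, hcomm]
  rw [this, hχ]

/-- For `χ` outside the principal block, the principal-block part of `c ↦ χ (x c)` vanishes on the
`p`-regular elements of the centralizer of the `p`-element `x`. -/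
theorem principal_blockPart_twist_eq_zero (hM : IsPModular p M) (x : G)
    (hx : ∃ k : ℕ, orderOf x = p ^ k) (χ : IrrCharacter G) (hχ : χ ∉ principalBlock M G)
    (y : Subgroup.centralizer ({x} : Set G)) (hy : ¬ p ∣ orderOf y) :
    blockPart (principalBlock M (Subgroup.centralizer ({x} : Set G)))
      (fun c : Subgroup.centralizer ({x} : Set G) => (χ : G → ℂ) (x * (c : G))) y = 0 := by
  have : M.IsPrime := hM.2.1.isPrime
  apply Cfsg.Agent.S0923.result p M hM x hx (blockOf M (χ : G → ℂ)) (isPBlock_blockOf χ) χ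
    (self_mem_blockOf hM.2.1.ne_top χ) _ (isPBlock_principalBlock _ M) _ y hy
  intro h
  have h2 := (Cfsg.Agent.S0936.result p M hM (Subgroup.centralizer ({x} : Set G))
    (principalBlock M (Subgroup.centralizer ({x} : Set G))) ⟨_, h⟩).mpr rfl
  have h3 := isInducedBlock_unique h h2
  apply hχ
  rw [← h3]
  exact self_mem_blockOf hM.2.1.ne_top χ

/-- For `χ` in the principal block, `χ (x y)` is the principal-block part of `c ↦ χ (x c)` at the
`p`-regular element `y` of the centralizer of the `p`-element `x`. -/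
theorem principal_blockPart_twist_eq (hM : IsPModular p M) (x : G)
    (hx : ∃ k : ℕ, orderOf x = p ^ k) (χ : IrrCharacter G) (hχ : χ ∈ principalBlock M G)
    (y : Subgroup.centralizer ({x} : Set G)) (hy : ¬ p ∣ orderOf y) :
    blockPart (principalBlock M (Subgroup.centralizer ({x} : Set G)))
      (fun c : Subgroup.centralizer ({x} : Set G) => (χ : G → ℂ) (x * (c : G))) y =
      (χ : G → ℂ) (x * (y : G)) := by
  classical
  have : M.IsPrime := hM.2.1.isPrime
  have : Fintype G := Fintype.ofFinite G
  have : Fintype (Subgroup.centralizer ({x} : Set G)) := Fintype.ofFinite _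
  set ϑ : Subgroup.centralizer ({x} : Set G) → ℂ :=
    fun c : Subgroup.centralizer ({x} : Set G) => (χ : G → ℂ) (x * (c : G)) with hϑ
  have hcf : IsClassFunction (Subgroup.centralizer ({x} : Set G)) ϑ :=
    isClassFunction_twist_centralizer x (isClassFunction_irr χ)
  have hexp := congrFun (classFunction_eq_sum_irr hcf) y
  simp only [Finset.sum_apply, Pi.smul_apply, smul_eq_mul] at hexp
  have hsplit := Finset.sum_filter_add_sum_filter_not (Finset.univ :
    Finset (IrrCharacter (Subgroup.centralizer ({x} : Set G))))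
    (fun ξ => ξ ∈ principalBlock M (Subgroup.centralizer ({x} : Set G)))
    (fun ξ => classInner ϑ (ξ : Subgroup.centralizer ({x} : Set G) → ℂ) *
      (ξ : Subgroup.centralizer ({x} : Set G) → ℂ) y)
  have hzero : ∑ ξ ∈ Finset.univ.filter (fun ξ : IrrCharacter (Subgroup.centralizer ({x} : Set G)) =>
      ξ ∈ (principalBlock M (Subgroup.centralizer ({x} : Set G)))ᶜ),
      classInner ϑ (ξ : Subgroup.centralizer ({x} : Set G) → ℂ) *
        (ξ : Subgroup.centralizer ({x} : Set G) → ℂ) y = 0 := by
    convert sum_eq_zero_of_forall_block (M := M)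
      ((principalBlock M (Subgroup.centralizer ({x} : Set G)))ᶜ) ?_
      (fun ξ => classInner ϑ (ξ : Subgroup.centralizer ({x} : Set G) → ℂ) *
        (ξ : Subgroup.centralizer ({x} : Set G) → ℂ) y) ?_ using 2
    · ext ξ
      simp only [Finset.mem_filter, Finset.mem_univ, true_and]
    · intro ξ ξ' hξ hs hξ'
      apply hξ
      have h1 : SameBlock M (fun _ : Subgroup.centralizer ({x} : Set G) => (1 : ℂ))
          (ξ' : Subgroup.centralizer ({x} : Set G) → ℂ) := hξ'
      exact sameBlock_trans h1 (sameBlock_symm hs)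
    · intro ξ₀ hξ₀
      rw [← blockPart_apply]
      apply Cfsg.Agent.S0923.result p M hM x hx (principalBlock M G)
        (isPBlock_principalBlock _ M) χ hχ _ (isPBlock_blockOf ξ₀) _ y hy
      intro h
      have h2 := (Cfsg.Agent.S0936.result p M hM (Subgroup.centralizer ({x} : Set G))
        _ ⟨_, h⟩).mp h
      apply hξ₀
      rw [← h2]
      exact self_mem_blockOf hM.2.1.ne_top ξ₀
  rw [blockPart_apply]
  have hzero' : ∑ ξ ∈ Finset.univ.filter (fun ξ : IrrCharacter (Subgroup.centralizer ({x} : Set G)) =>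
      ¬ ξ ∈ principalBlock M (Subgroup.centralizer ({x} : Set G))),
      classInner ϑ (ξ : Subgroup.centralizer ({x} : Set G) → ℂ) *
        (ξ : Subgroup.centralizer ({x} : Set G) → ℂ) y = 0 := hzero
  rw [hzero', add_zero] at hsplit
  rw [hsplit, ← hexp]

end PrincipalSMT

end Cfsg.Agent.Lib.Helper74
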