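import Mathlib
import Cfsg.Prelude.Def_Characters
import Cfsg.Agent.Lib.Helper3.BrElem

set_option autoImplicit false

namespace Cfsg.Agent.Lib.Helper74

open Cfsg

section PComplement

variable {E : Type*} [Group E] [Finite E]

omit [Finite E] in
/-- an element whose order is coprime to the index of a normal subgroup lies in it -/
theorem mem_of_coprime_orderOf_index (K : Subgroup E) [K.Normal] {e : E}
    (h : (orderOf e).Coprime K.index) : e ∈ K := by
  rw [← QuotientGroup.eq_one_iff (N := K)]
  have h1 : orderOf ((e : E ⧸ K)) ∣ orderOf e := orderOf_map_dvd (QuotientGroup.mk' K) e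
  have h2 : orderOf ((e : E ⧸ K)) ∣ K.index := by
    rw [Subgroup.index_eq_card]; exact orderOf_dvd_natCard _
  have h3 := Nat.dvd_gcd h1 h2
  rw [Nat.Coprime] at h
  rw [h] at h3
  exact orderOf_eq_one_iff.mp (Nat.dvd_one.mp h3)

/-- for a normal `p`-complement `K`: the `p`-regular elements are exactly those of `K` -/
theorem not_dvd_orderOf_iff_mem {p : ℕ} (hp : p.Prime) (K : Subgroup E) [K.Normal]
    (hK : (Nat.card K).Coprime p) {c : ℕ} (hc : K.index = p ^ c) (e : E) :
    ¬ p ∣ orderOf e ↔ e ∈ K := by
  constructor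
  · intro h
    apply mem_of_coprime_orderOf_index
    rw [hc]
    exact Nat.Coprime.pow_right _ ((Nat.Prime.coprime_iff_not_dvd hp).mpr h).symm
  · intro he hdvd
    have h1 : orderOf e ∣ Nat.card K := Subgroup.orderOf_dvd_natCard K he
    have h2 : p ∣ Nat.card K := hdvd.trans h1
    have := Nat.Coprime.eq_one_of_dvd hK.symm h2
    exact hp.one_lt.ne' this

/-- an elementary group has a normal `p`-complement, for every prime `p` -/
theorem exists_normal_pcomplement_of_isElementary {p q : ℕ} (hp : p.Prime) (hq : q.Prime)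
    (hE : IsElementary q E) :
    ∃ K : Subgroup E, K.Normal ∧ (Nat.card K).Coprime p ∧ ∃ c : ℕ, K.index = p ^ c := by
  obtain ⟨x, hx, hcop, k, hk⟩ := hE
  have hZn : (Subgroup.zpowers x).Normal :=
    Cfsg.Agent.Lib.Helper3.zpowers_normal_of_mem_center hx
  by_cases hpq : q = p
  · subst hpq
    exact ⟨Subgroup.zpowers x, hZn, by rw [Nat.card_zpowers]; exact hcop, k, hk⟩
  · have : Fact p.Prime := ⟨hp⟩
    obtain ⟨P⟩ : Nonempty (Sylow p E) := inferInstance
    have hPZ : (P : Subgroup E) ≤ Subgroup.zpowers x := by
      intro u hu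
      apply mem_of_coprime_orderOf_index
      rw [hk]
      obtain ⟨n, hn⟩ := P.isPGroup' ⟨u, hu⟩
      have h1 : orderOf u ∣ p ^ n := by
        apply orderOf_dvd_of_pow_eq_one
        have := congrArg Subtype.val hn
        simpa using this
      apply Nat.Coprime.coprime_dvd_left h1
      apply Nat.Coprime.pow
      exact (Nat.coprime_primes hp hq).mpr (Ne.symm hpq)
    have hPc : (P : Subgroup E) ≤ Subgroup.center E := by
      intro u hu
      obtain ⟨i, rfl⟩ := Subgroup.mem_zpowers_iff.mp (hPZ hu)
      exact Subgroup.zpow_mem _ hx i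
    have hP : Subgroup.normalizer ((P : Subgroup E) : Set E) ≤
        Subgroup.centralizer ((P : Subgroup E) : Set E) := by
      intro g _
      rw [Subgroup.mem_centralizer_iff]
      intro u hu
      exact (Subgroup.mem_center_iff.mp (hPc hu) g).symm
    refine ⟨(MonoidHom.transferSylow P hP).ker, inferInstance, ?_, ?_⟩
    · exact ((Nat.Prime.coprime_iff_not_dvd hp).mpr
        (MonoidHom.not_dvd_card_ker_transferSylow P hP)).symm
    · have h1 := (MonoidHom.ker_transferSylow_isComplement' P hP).symm.index_eq_card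
      rw [h1]
      exact ⟨_, P.card_eq_multiplicity⟩

end PComplement

end Cfsg.Agent.Lib.Helper74
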