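import Mathlib
import Cfsg.Agent.Lib.Helper74.PComplement
import Cfsg.Agent.Lib.Helper26.IrrFactsInst
import Cfsg.Agent.Lib.Helper79.Integrality
import Cfsg.Agent.Lib.Helper3.Regular
import Cfsg.Agent.Lib.Helper3.Integrality
import Cfsg.Agent.Lib.Helper81.IrrTwist
import Cfsg.Agent.S0164

/-!
# `|G|_p χ` on `p`-regular elements (helper74)

* `isGeneralizedCharacter_pReg`: `|G|_p χ̃` is a generalized character (via Brauer's
  characterization of characters, S0164);
* `pow_factorization_dvd_classInner_pReg`: its multiplicities are divisible by `χ(1)_p`.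
-/

set_option autoImplicit false

namespace Cfsg.Agent.Lib.Helper74

open Cfsg
open scoped ComplexConjugate

universe u

section Indicator

variable {E : Type u} [Group E] [Finite E]

/-- `p^a` times the indicator of the `p`-regular elements is a character of a group with a normal
`p`-complement of index `p^c`, `c ≤ a` -/
theorem isCharacter_pRegIndicator {p : ℕ} (hp : p.Prime) (K : Subgroup E) [K.Normal]
    (hK : (Nat.card K).Coprime p) {c a : ℕ} (hc : K.index = p ^ c) (hca : c ≤ a) :
    IsCharacter E (fun e => if p ∣ orderOf e then (0 : ℂ) else ((p ^ a : ℕ) : ℂ)) := by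
  classical
  have : Fintype E := Fintype.ofFinite E
  have : Fintype (E ⧸ K) := Fintype.ofFinite _
  have hreg : IsCharacter (E ⧸ K) (Representation.leftRegular ℂ (E ⧸ K)).character :=
    Cfsg.Agent.Lib.Helper3.isCharacter_character _
  have h1 := Cfsg.Agent.Lib.Helper81.isCharacter_comp hreg (QuotientGroup.mk' K)
  have h2 := (Cfsg.Agent.Lib.Helper26.irrFacts E).nsmul_char (p ^ (a - c)) h1
  convert h2 using 1
  funext e
  rw [Pi.smul_apply, Function.comp_apply, Cfsg.Agent.Lib.Helper3.leftRegular_character,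
    QuotientGroup.mk'_apply]
  have hiff : ((e : E ⧸ K) = 1) ↔ ¬ p ∣ orderOf e := by
    rw [QuotientGroup.eq_one_iff, not_dvd_orderOf_iff_mem hp K hK hc e]
  by_cases h : p ∣ orderOf e
  · rw [if_pos h, if_neg (fun h' => (hiff.mp h') h), smul_zero]
  · rw [if_neg h, if_pos (hiff.mpr h), ← Subgroup.index_eq_card, hc, nsmul_eq_mul,
      ← Nat.cast_mul, ← pow_add, Nat.sub_add_cancel hca]

end Indicator

section PReg

variable {G : Type u} [Group G] [Finite G]

/-- `|G|_p χ` on `p`-regular elements, `0` elsewhere, is a generalized character -/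
theorem isGeneralizedCharacter_pReg {p : ℕ} (hp : p.Prime) {χ : G → ℂ} (hχ : IsCharacter G χ) :
    IsGeneralizedCharacter G (fun x => if p ∣ orderOf x then (0 : ℂ) else
      ((p ^ (Nat.card G).factorization p : ℕ) : ℂ) * χ x) := by
  classical
  have hcl := Cfsg.Agent.Lib.Helper80.isClassFunction_of_isCharacter hχ
  apply Cfsg.Agent.S0164.result
  · intro g h
    have ho : orderOf (h * g * h⁻¹) = orderOf g := by
      have := orderOf_injective (MulAut.conj h).toMonoidHom (MulAut.conj h).injective g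
      simpa using this
    simp only [ho, hcl g h]
  · intro E q hq hE
    obtain ⟨K, hKn, hK, c, hc⟩ := exists_normal_pcomplement_of_isElementary hp hq hE
    have hca : c ≤ (Nat.card G).factorization p := by
      have h1 : p ^ c ∣ Nat.card G := by
        rw [← hc]
        exact (K.index_dvd_card).trans (Subgroup.card_subgroup_dvd_card E)
      exact (hp.pow_dvd_iff_le_factorization Nat.card_pos.ne').mp h1
    have h1 := isCharacter_pRegIndicator hp K hK hc hca
    have h2 := Cfsg.Agent.Lib.Helper80.isCharacter_restrict E hχ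
    have h3 := Cfsg.Agent.Lib.Helper80.isCharacter_mul h1 h2
    refine ⟨_, 0, h3, Cfsg.Agent.Lib.Helper80.isCharacter_zero, ?_⟩
    rw [sub_zero]
    funext e
    rw [Pi.mul_apply, Subgroup.orderOf_coe]
    split_ifs <;> simp

end PReg

section Weighted

variable {G : Type*} [Group G] [Fintype G] {V : Type*} [AddCommGroup V] [Module ℂ V]

/-- for an irreducible `ρ` and a class function `c` with algebraic integer values,
`(∑ c(g) χ(g)) / χ(1)` is an algebraic integer -/
theorem isIntegral_sum_mul_char_div (ρ : Representation ℂ G V) [FiniteDimensional ℂ V]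
    [ρ.IsIrreducible] (c : G → ℂ) (hc : ∀ g, IsIntegral ℤ (c g))
    (hcl : ∀ g h, c (h * g * h⁻¹) = c g) :
    IsIntegral ℤ ((∑ g, c g * ρ.character g) / (Module.finrank ℂ V : ℂ)) := by
  classical
  set T : V →ₗ[ℂ] V := ∑ g : G, c g • ρ g with hT
  have hcomm : ∀ h, T ∘ₗ ρ h = ρ h ∘ₗ T := by
    intro h
    rw [hT, ← Module.End.mul_eq_comp, ← Module.End.mul_eq_comp, Finset.sum_mul, Finset.mul_sum]
    rw [← Equiv.sum_comp (Equiv.mulLeft h |>.trans (Equiv.mulRight h⁻¹))]
    apply Finset.sum_congr rfl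
    intro g _
    simp only [Equiv.trans_apply, Equiv.coe_mulLeft, Equiv.coe_mulRight]
    rw [smul_mul_assoc, mul_smul_comm, ← map_mul, ← map_mul, hcl]
    congr 2
    group
  have h1 := Cfsg.Agent.Lib.Helper79.eq_smul_id_of_comm ρ T hcomm
  have htr : LinearMap.trace ℂ V T = ∑ g, c g * ρ.character g := by
    rw [hT, map_sum]
    apply Finset.sum_congr rfl
    intro g _
    rw [map_smul, smul_eq_mul]
    rfl
  rw [htr] at h1
  apply Cfsg.Agent.Lib.Helper79.isIntegral_of_sum_smul_eq_smul ρ c hc
  convert h1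

end Weighted

/-- an integer quotient `z / n` which is an algebraic integer: `n ∣ z` -/
theorem int_dvd_of_isIntegral_div {z : ℤ} {n : ℕ} (hn : n ≠ 0)
    (h : IsIntegral ℤ ((z : ℂ) / (n : ℂ))) : (n : ℤ) ∣ z := by
  have h1 : ((z : ℂ) / (n : ℂ)) = (((z : ℚ) / (n : ℚ) : ℚ) : ℂ) := by
    push_cast; rfl
  rw [h1] at h
  obtain ⟨k, hk⟩ := Cfsg.Agent.Lib.Helper3.exists_int_of_isIntegral_ratCast _ h
  have hnq : (n : ℚ) ≠ 0 := by exact_mod_cast hn
  have h3 : (z : ℚ) = (n : ℚ) * k := by
    field_simp at hk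
    linarith
  have h4 : z = (n : ℤ) * k := by exact_mod_cast h3
  exact ⟨k, h4⟩

section Div

variable {G : Type u} [Group G] [Fintype G]

/-- the multiplicities of `|G|_p χ̃` are divisible by `χ(1)_p` -/
theorem pow_factorization_dvd_classInner_pReg {p : ℕ} (hp : p.Prime) (χ ψ : IrrCharacter G)
    (N : ℤ)
    (hN : classInner (fun x => if p ∣ orderOf x then (0 : ℂ) else
      ((p ^ (Nat.card G).factorization p : ℕ) : ℂ) * (χ : G → ℂ) x) (ψ : G → ℂ) = N) :
    ((p ^ (charDegree (χ : G → ℂ)).factorization p : ℕ) : ℤ) ∣ N := by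
  classical
  obtain ⟨n, ρ, hirr, hχ⟩ := χ.2
  have hdeg : charDegree (χ : G → ℂ) = n := by
    rw [← hχ]; exact Cfsg.Agent.Lib.Helper79.charDegree_of_rep ρ
  have hn0 : n ≠ 0 := by
    have := Cfsg.Agent.Lib.Helper79.irr_charDegree_pos χ
    omega
  set a := (Nat.card G).factorization p with ha
  set m := Nat.card G / p ^ a with hm
  have hGm : Nat.card G = p ^ a * m := (Nat.ordProj_mul_ordCompl_eq_self (Nat.card G) p).symm
  have hmcop : Nat.Coprime p m := Nat.coprime_ordCompl hp Nat.card_pos.ne'
  set c : G → ℂ := fun g => if p ∣ orderOf g then 0 else conj ((ψ : G → ℂ) g) with hc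
  have hcint : ∀ g, IsIntegral ℤ (c g) := by
    intro g
    rw [hc]
    dsimp only
    split_ifs
    · exact isIntegral_zero
    · exact map_isIntegral_int (starRingEnd ℂ) (Cfsg.Agent.Lib.Helper79.isIntegral_irr ψ g)
  have hψcl := Cfsg.Agent.Lib.Helper80.isClassFunction_of_isCharacter
    (Cfsg.Agent.Lib.Helper80.isCharacter_of_isIrr ψ.2)
  have hccl : ∀ g h, c (h * g * h⁻¹) = c g := by
    intro g h
    have ho : orderOf (h * g * h⁻¹) = orderOf g := by
      have := orderOf_injective (MulAut.conj h).toMonoidHom (MulAut.conj h).injective g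
      simpa using this
    rw [hc]
    simp only [ho, hψcl g h]
  have hint := isIntegral_sum_mul_char_div ρ c hcint hccl
  rw [hχ] at hint
  have hfr : Module.finrank ℂ (Fin n → ℂ) = n := by simp
  rw [hfr] at hint
  -- relate to the inner product
  have hS : (∑ g, c g * (χ : G → ℂ) g) = ((m * N : ℤ) : ℂ) := by
    unfold classInner at hN
    have h1 : ∀ g : G, (if p ∣ orderOf g then (0 : ℂ) else
        ((p ^ a : ℕ) : ℂ) * (χ : G → ℂ) g) * conj ((ψ : G → ℂ) g) =
        ((p ^ a : ℕ) : ℂ) * (c g * (χ : G → ℂ) g) := by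
      intro g
      rw [hc]
      dsimp only
      split_ifs <;> ring
    rw [Finset.sum_congr rfl fun g _ => h1 g, ← Finset.mul_sum, hGm] at hN
    have hp0 : (p : ℂ) ≠ 0 := by
      have := hp.ne_zero
      exact_mod_cast this
    have hm0 : (m : ℂ) ≠ 0 := by
      have : m ≠ 0 := by
        intro h0
        rw [h0, mul_zero] at hGm
        exact Nat.card_pos.ne' hGm
      exact_mod_cast this
    rw [Int.cast_mul, Int.cast_natCast, ← hN]
    push_cast
    field_simp
  rw [hS] at hint
  have hdvd := int_dvd_of_isIntegral_div hn0 hint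
  rw [hdeg]
  have h2 : ((p ^ n.factorization p : ℕ) : ℤ) ∣ (m : ℤ) * N :=
    dvd_trans (Int.natCast_dvd_natCast.mpr (Nat.ordProj_dvd n p)) hdvd
  have hcop : IsCoprime ((p ^ n.factorization p : ℕ) : ℤ) (m : ℤ) := by
    rw [Nat.isCoprime_iff_coprime]
    exact Nat.Coprime.pow_left _ hmcop
  exact hcop.dvd_of_dvd_mul_left h2

end Div

end Cfsg.Agent.Lib.Helper74
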