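import Mathlib
import Cfsg.Prelude.Def_Blocks
import Cfsg.Agent.Lib.Helper16.LocalRing

set_option autoImplicit false

namespace Cfsg.Agent.Lib.Helper74

open Cfsg Cfsg.Agent.Lib.Helper16

/-- A member of the principal block does not vanish at an element whose class has size prime to `p`. -/
theorem apply_ne_zero_of_mem_principalBlock {G : Type*} [Group G] {p : ℕ} {M : Ideal AlgInt}
    (hM : IsPModular p M) (ζ : IrrCharacter G) (hζ : ζ ∈ principalBlock M G) (z : G)
    (hz : ¬ p ∣ (Subgroup.centralizer ({z} : Set G)).index) : (ζ : G → ℂ) z ≠ 0 := by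
  intro h0
  have h : MemLocalIdeal M (centralChar (fun _ : G => (1 : ℂ)) z - centralChar (ζ : G → ℂ) z) :=
    hζ z
  unfold centralChar at h
  rw [h0, mul_zero, zero_div, sub_zero, mul_one, div_one] at h
  exact hz ((memLocalIdeal_natCast_iff hM _).mp h)

end Cfsg.Agent.Lib.Helper74
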