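import Mathlib
import Cfsg.Agent.S0939
import Cfsg.Agent.Lib.Helper74.PrincipalSMT
import Cfsg.Agent.Lib.Helper74.KerSum
import Cfsg.Agent.Lib.Helper78.SubsectionNorm
import Cfsg.Agent.Lib.Helper78.BlockSums
import Cfsg.Agent.Lib.Helper16.PIndex
import Cfsg.Agent.Lib.Helper76.PCore
import Cfsg.Prelude.Def_CaseTheorems

set_option autoImplicit false
set_option linter.unusedSectionVars false

namespace Cfsg.Agent.Lib.Helper74

open Cfsg Cfsg.Agent.Lib.Helper78 Cfsg.Agent.Lib.Helper16
open scoped ComplexConjugate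

section PrincipalNorm

theorem ofReal_finsum_mem_norm_sq {ι : Type*} [Fintype ι] (S : Set ι) [DecidablePred (· ∈ S)]
    (f : ι → ℂ) :
    ((∑ᶠ i ∈ S, ‖f i‖ ^ 2 : ℝ) : ℂ) = ∑ i ∈ Finset.univ.filter (· ∈ S), f i * conj (f i) := by
  rw [finsum_mem_eq_sum_filter_univ, Complex.ofReal_sum]
  apply Finset.sum_congr rfl
  intro i _
  rw [Complex.mul_conj, Complex.normSq_eq_norm_sq]

variable {G : Type*} [Group G] [Fintype G] {p : ℕ} [Fact p.Prime] {M : Ideal AlgInt}

theorem centralizer_singleton_eq_centralizer_zpowers (u : G) :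
    Subgroup.centralizer ({u} : Set G) = Subgroup.centralizer (Subgroup.zpowers u : Set G) := by
  ext g
  rw [mem_centralizer_zpowers_iff, Subgroup.mem_centralizer_singleton_iff]
  exact ⟨fun h => h.symm, fun h => h.symm⟩

open scoped Classical in
/-- helper78's kernel identity `sum_irr_blockPart_twist_mul_conj`, for any subgroup equal to the
centralizer of `⟨u⟩`. -/
theorem sum_irr_blockPart_twist_mul_conj_of_eq [hMp : M.IsPrime] (hM : IsPModular p M) (u : G)
    (hu : ∃ k : ℕ, orderOf u = p ^ k) (H : Subgroup G)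
    (hH : H = Subgroup.centralizer (Subgroup.zpowers u : Set G)) [Fintype H]
    {e : Set (IrrCharacter H)} (he : IsPBlock M e) (s : H) (hs : ¬ p ∣ orderOf s) :
    ∑ χ : IrrCharacter G, blockPart e (fun c : H => (χ : G → ℂ) (u * (c : G))) s *
      conj (blockPart e (fun c : H => (χ : G → ℂ) (u * (c : G))) s) = blockKernel e s s := by
  subst hH
  exact sum_irr_blockPart_twist_mul_conj hM u hu he s hs

open scoped Classical in
/-- Brauer: for a `p`-element `z` with centralizer `H` and `y ∈ H` `p`-regular,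
`∑_{ζ ∈ B₀(G)} |ζ(zy)|² = ∑_{χ ∈ B₀(H)} |χ(y)|²`. -/
theorem principal_sum_mul_conj_eq (hM : IsPModular p M) (z : G)
    (hz : ∃ k : ℕ, orderOf z = p ^ k) [Fintype (Subgroup.centralizer ({z} : Set G))]
    (y : Subgroup.centralizer ({z} : Set G)) (hy : ¬ p ∣ orderOf y) :
    ∑ ζ ∈ Finset.univ.filter (fun ζ : IrrCharacter G => ζ ∈ principalBlock M G),
      (ζ : G → ℂ) (z * (y : G)) * conj ((ζ : G → ℂ) (z * (y : G))) =
    ∑ χ ∈ Finset.univ.filter (fun χ : IrrCharacter (Subgroup.centralizer ({z} : Set G)) =>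
        χ ∈ principalBlock M (Subgroup.centralizer ({z} : Set G))),
      (χ : Subgroup.centralizer ({z} : Set G) → ℂ) y *
        conj ((χ : Subgroup.centralizer ({z} : Set G) → ℂ) y) := by
  have : M.IsPrime := hM.2.1.isPrime
  have h := sum_irr_blockPart_twist_mul_conj_of_eq hM z hz _
    (centralizer_singleton_eq_centralizer_zpowers z)
    (isPBlock_principalBlock (Subgroup.centralizer ({z} : Set G)) M) y hy
  unfold blockKernel at h
  rw [← h, Finset.sum_filter]
  apply Finset.sum_congr rfl
  intro ζ _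
  split_ifs with hζ
  · rw [principal_blockPart_twist_eq hM z hz ζ hζ y hy]
  · rw [principal_blockPart_twist_eq_zero hM z hz ζ hζ y hy, zero_mul]

open scoped Classical in
/-- If `H` has a normal `p`-complement then `∑_{χ ∈ B₀(H)} |χ(y)|² = |H|_p` for `p`-regular `y`. -/
theorem principal_sum_mul_conj_of_index {H : Type*} [Group H] [Fintype H] (hM : IsPModular p M)
    (hk : ∃ k : ℕ, (pPrimeCore p H).index = p ^ k) (y : H) (hy : ¬ p ∣ orderOf y) :
    ∑ χ ∈ Finset.univ.filter (fun χ : IrrCharacter H => χ ∈ principalBlock M H),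
      (χ : H → ℂ) y * conj ((χ : H → ℂ) y) = ((p ^ (Nat.card H).factorization p : ℕ) : ℂ) := by
  have hp : p.Prime := Fact.out
  obtain ⟨k, hk⟩ := hk
  have hB := Cfsg.Agent.S0939.result p M hM ⟨k, hk⟩
  have hyQ : y ∈ pPrimeCore p H := mem_of_not_dvd_orderOf_of_index (pPrimeCore p H) hk hy
  have : Fintype (pPrimeCore p H) := Fintype.ofFinite _
  have hsum := sum_sq_degree_of_kernel_ge (pPrimeCore p H)
  have hfac : (Nat.card H).factorization p = k := by
    have hcard : Nat.card (pPrimeCore p H) * (pPrimeCore p H).index = Nat.card H :=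
      (pPrimeCore p H).card_mul_index
    have hcop : (Nat.card (pPrimeCore p H)).Coprime p :=
      Cfsg.Agent.Lib.Helper76.pPrimeCore_coprime p
    rw [← hcard, hk, Nat.factorization_mul Nat.card_pos.ne' (pow_ne_zero _ hp.ne_zero),
      Finsupp.add_apply, Nat.factorization_eq_zero_of_not_dvd
        ((Nat.Prime.coprime_iff_not_dvd hp).mp hcop.symm), zero_add,
      Nat.factorization_pow, Finsupp.smul_apply, Nat.Prime.factorization_self hp, smul_eq_mul,
      mul_one]
  rw [hfac, ← hk, ← hsum]
  apply Finset.sum_congr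
  · ext χ
    simp only [Finset.mem_filter, Finset.mem_univ, true_and]
    rw [hB]
    rfl
  · intro χ hχ
    simp only [Finset.mem_filter, Finset.mem_univ, true_and] at hχ
    rw [hχ y hyQ, IsCharacter.apply_one_eq_charDegree (IsIrrCharacter.isCharacter χ.2),
      Complex.conj_natCast, sq]

end PrincipalNorm

end Cfsg.Agent.Lib.Helper74
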