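import Mathlib
import Cfsg.Prelude.Def_Local

/-!
# Holder of the on-demand equation lemmas of `Cfsg.upperPSeries` (helper74, on lead's decision #5176)

Lean writes `Cfsg.upperPSeries.eq_1`, `eq_2`, `eq_def` on demand into the first file that cites them.
`Lib/Helper63/PLen.lean` and `Lib/Helper25/PLength.lean` each held a copy (with different proofs), so
every statement whose closure contains both (all Bender–Glauberman / Peterfalvi rows) collided in the
grader's common check and had to be checked alone.  This file cites the three lemmas first; both
libraries import it, so only this one copy exists.  It imports nothing but Mathlib and the Prelude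
file that defines `upperPSeries`, and adds no instances or simp lemmas.
-/

set_option autoImplicit false

namespace Cfsg.Agent.Lib.Helper74.UpsEqDef

universe u

theorem upperPSeries_zero_eq (p : ℕ) (G : Type u) [Group G] :
    Cfsg.upperPSeries p G 0 = ⟨⊥, inferInstance⟩ := by
  rw [Cfsg.upperPSeries.eq_1]

theorem upperPSeries_succ_eq (p : ℕ) (G : Type u) [Group G] (n : ℕ) :
    Cfsg.upperPSeries p G (n + 1) = Cfsg.upperPSeries p G (n + 1) := by
  have _h2 := Cfsg.upperPSeries.eq_2 p G n
  rfl

theorem upperPSeries_def_eq (p : ℕ) (G : Type u) [Group G] (n : ℕ) :
    Cfsg.upperPSeries p G n = Cfsg.upperPSeries p G n := by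
  have _h3 := Cfsg.upperPSeries.eq_def p G n
  rfl

end Cfsg.Agent.Lib.Helper74.UpsEqDef
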