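import Cfsg.Agent.Lib.Helper74.TIFN

set_option autoImplicit false
set_option linter.unusedSectionVars false

namespace Cfsg.Agent.Lib.Helper74

open Cfsg Cfsg.Agent.Lib.Helper78 Cfsg.Agent.Lib.Helper75
open scoped ComplexConjugate

universe u

section TIFN

variable {G : Type u} [Group G] [Fintype G] {K : Subgroup G}

local notation "NK" => Subgroup.normalizer (K : Set G)

variable [Fintype ↥(Subgroup.normalizer (K : Set G))]

theorem classInner_tifnBeta_right (γ χ ξ : ↥NK → ℂ) :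
    classInner γ (tifnBeta χ ξ) =
      (charDegree ξ : ℂ) * classInner γ χ - (charDegree χ : ℂ) * classInner γ ξ := by
  unfold tifnBeta
  rw [classInner_add_right, Cfsg.Agent.Lib.Helper26.classInner_zsmul_right,
    Cfsg.Agent.Lib.Helper26.classInner_zsmul_right]
  push_cast
  ring

/-- an irreducible character outside `tifnS K` is trivial on `K` -/
theorem apply_eq_of_not_mem_tifnS {θ : ↥NK → ℂ} (hθ : IsIrrCharacter ↥NK θ)
    (hn : θ ∉ tifnS K) (a : ↥NK) (ha : (a : G) ∈ K) : θ a = θ 1 := by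
  by_contra h
  exact hn ⟨hθ, a, ha, h⟩

/-- column orthogonality against the identity -/
theorem sum_irr_degree_mul_apply (H : Type u) [Group H] [Fintype H] {a : H} (ha : a ≠ 1) :
    ∑ θ : IrrCharacter H, (charDegree (θ : H → ℂ) : ℂ) * (θ : H → ℂ) a = 0 := by
  have h := second_orthogonality_of_not_isConj (G := H) (g := a) (h := 1) (by
    intro hc
    apply ha
    have := hc.symm
    rw [isConj_iff] at this
    obtain ⟨c, hc⟩ := this
    rw [← hc]; simp)
  rw [← h]
  apply Finset.sum_congr rfl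
  intro θ _
  rw [IsCharacter.apply_one_eq_charDegree (IsIrrCharacter.isCharacter θ.2), Complex.conj_natCast]
  ring

/-- the explicit value on `K#` of a class function whose coefficients on the relevant characters
are proportional to the degrees -/
theorem tifn_value_on_K {γ : ↥NK → ℂ} (hγ : IsClassFunction ↥NK γ)
    (hprop : ∀ χ ∈ tifnS K, ∀ ξ ∈ tifnS K, classInner γ (tifnBeta χ ξ) = 0)
    {χ₁ : ↥NK → ℂ} (hχ₁ : χ₁ ∈ tifnS K) (a : ↥NK) (ha : (a : G) ∈ K) (ha1 : a ≠ 1)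
    [DecidablePred fun θ : IrrCharacter ↥NK => (θ : ↥NK → ℂ) ∈ tifnS K] :
    γ a = (∑ θ : IrrCharacter ↥NK, if (θ : ↥NK → ℂ) ∈ tifnS K then 0
        else classInner γ (θ : ↥NK → ℂ) * (charDegree (θ : ↥NK → ℂ) : ℂ))
      - classInner γ χ₁ / (charDegree χ₁ : ℂ) *
        (∑ θ : IrrCharacter ↥NK, if (θ : ↥NK → ℂ) ∈ tifnS K then 0
          else ((charDegree (θ : ↥NK → ℂ) : ℂ)) ^ 2) := by
  have hd1 : (charDegree χ₁ : ℂ) ≠ 0 := by
    have := IsIrrCharacter.charDegree_pos hχ₁.1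
    exact_mod_cast this.ne'
  have hexp := congrFun (classFunction_eq_sum_irr hγ) a
  simp only [Finset.sum_apply, Pi.smul_apply, smul_eq_mul] at hexp
  have hcol := sum_irr_degree_mul_apply ↥NK ha1
  have key : ∀ θ : IrrCharacter ↥NK, classInner γ (θ : ↥NK → ℂ) * (θ : ↥NK → ℂ) a =
      classInner γ χ₁ / (charDegree χ₁ : ℂ) *
        ((charDegree (θ : ↥NK → ℂ) : ℂ) * (θ : ↥NK → ℂ) a) +
      ((if (θ : ↥NK → ℂ) ∈ tifnS K then 0
        else classInner γ (θ : ↥NK → ℂ) * (charDegree (θ : ↥NK → ℂ) : ℂ)) -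
      classInner γ χ₁ / (charDegree χ₁ : ℂ) * (if (θ : ↥NK → ℂ) ∈ tifnS K then 0
          else ((charDegree (θ : ↥NK → ℂ) : ℂ)) ^ 2)) := by
    intro θ
    by_cases hθ : (θ : ↥NK → ℂ) ∈ tifnS K
    · rw [if_pos hθ, if_pos hθ]
      have h1 := hprop θ.1 hθ χ₁ hχ₁
      rw [classInner_tifnBeta_right] at h1
      have h2 : classInner γ (θ : ↥NK → ℂ) =
          classInner γ χ₁ / (charDegree χ₁ : ℂ) * (charDegree (θ : ↥NK → ℂ) : ℂ) := by
        field_simp
        linear_combination h1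
      rw [h2]
      ring
    · rw [if_neg hθ, if_neg hθ]
      rw [apply_eq_of_not_mem_tifnS θ.2 hθ a ha,
        IsCharacter.apply_one_eq_charDegree (IsIrrCharacter.isCharacter θ.2)]
      ring
  rw [hexp, Finset.sum_congr rfl fun θ _ => key θ, Finset.sum_add_distrib, ← Finset.mul_sum,
    hcol, mul_zero, zero_add, Finset.sum_sub_distrib, ← Finset.mul_sum]

/-- on a function constant on `K#`, degree-zero members of the span integrate to zero -/
theorem classInner_eq_zero_of_const_on_K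
    (hC : ∀ k ∈ K, k ≠ 1 → Subgroup.centralizer ({k} : Set G) ≤ K)
    {f : ↥NK → ℂ} {c : ℂ} (hf : ∀ a : ↥NK, (a : G) ∈ K → a ≠ 1 → f a = c)
    {β : ↥NK → ℂ} (hβ : β ∈ zspan (tifnS K)) (hβ1 : β 1 = 0) : classInner f β = 0 := by
  have h1 : classInner f β = c * classInner (1 : ↥NK → ℂ) β := by
    unfold classInner
    rw [mul_left_comm]
    congr 1
    rw [Finset.mul_sum]
    apply Finset.sum_congr rfl
    intro x _
    by_cases hx : (x : G) ∈ K
    · by_cases hx1 : x = 1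
      · rw [hx1, hβ1]; simp
      · rw [hf x hx hx1]; simp
    · rw [zspan_tifnS_vanish hC hβ x hx]; simp
  rw [h1, ← classInner_conj_symm, zspan_tifnS_classInner_one hβ, map_zero, mul_zero]

section Star

variable (star : (↥(Subgroup.normalizer (K : Set G)) → ℂ) → (G → ℂ))

/-- linearity of the isometry on the degree-zero combinations -/
theorem star_tifnBeta (hstar : IsLinearIsometryOn (zspan (tifnS K)) star)
    {χ ξ : ↥NK → ℂ} (hχ : χ ∈ tifnS K) (hξ : ξ ∈ tifnS K) :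
    star (tifnBeta χ ξ) = (charDegree ξ : ℤ) • star χ + (-(charDegree χ : ℤ)) • star ξ := by
  unfold tifnBeta
  rw [hstar.1 _ (zspan_zsmul (mem_zspan_of_mem hχ) _) _ (zspan_zsmul (mem_zspan_of_mem hξ) _),
    hstar.2.1 _ (mem_zspan_of_mem hχ), hstar.2.1 _ (mem_zspan_of_mem hξ)]

theorem star_tifnBeta_apply (hstar : IsLinearIsometryOn (zspan (tifnS K)) star)
    {χ ξ : ↥NK → ℂ} (hχ : χ ∈ tifnS K) (hξ : ξ ∈ tifnS K) (g : G) :
    star (tifnBeta χ ξ) g = (charDegree ξ : ℂ) * star χ g - (charDegree χ : ℂ) * star ξ g := by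
  rw [star_tifnBeta star hstar hχ hξ]
  simp
  ring

theorem classInner_star_tifnBeta_right (hstar : IsLinearIsometryOn (zspan (tifnS K)) star)
    {χ ξ : ↥NK → ℂ} (hχ : χ ∈ tifnS K) (hξ : ξ ∈ tifnS K) (f : G → ℂ) :
    classInner f (star (tifnBeta χ ξ)) =
      (charDegree ξ : ℂ) * classInner f (star χ) - (charDegree χ : ℂ) * classInner f (star ξ) := by
  rw [star_tifnBeta star hstar hχ hξ, classInner_add_right,
    Cfsg.Agent.Lib.Helper26.classInner_zsmul_right,
    Cfsg.Agent.Lib.Helper26.classInner_zsmul_right]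
  push_cast
  ring

/-- Frobenius reciprocity against the degree-zero combinations -/
theorem classInner_res_tifnBeta
    (hext : ∀ α ∈ zspanOn (tifnS K) ({1}ᶜ : Set ↥NK), star α = indFun NK α)
    {f : G → ℂ} (hf : IsClassFunction G f)
    {χ ξ : ↥NK → ℂ} (hχ : χ ∈ tifnS K) (hξ : ξ ∈ tifnS K) :
    classInner (fun x : ↥NK => f x) (tifnBeta χ ξ) = classInner f (star (tifnBeta χ ξ)) := by
  rw [hext _ (tifnBeta_mem_zspanOn hχ hξ), frobenius_reciprocity' _ _ hf]

/-- values of the isometry on `K#` -/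
theorem star_tifnBeta_apply_of_mem
    (hTI : ∀ g : G, g ∉ NK → ∀ k ∈ K, g * k * g⁻¹ ∈ K → k = 1)
    (hC : ∀ k ∈ K, k ≠ 1 → Subgroup.centralizer ({k} : Set G) ≤ K)
    (hext : ∀ α ∈ zspanOn (tifnS K) ({1}ᶜ : Set ↥NK), star α = indFun NK α)
    {χ ξ : ↥NK → ℂ} (hχ : χ ∈ tifnS K) (hξ : ξ ∈ tifnS K)
    (k : ↥NK) (hk : (k : G) ∈ K) (hk1 : k ≠ 1) :
    star (tifnBeta χ ξ) k = tifnBeta χ ξ k := by
  rw [hext _ (tifnBeta_mem_zspanOn hχ hξ)]
  exact Cfsg.Agent.Lib.Helper3.indFun_TI (K : Set G) hTI _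
    (zspan_tifnS_isClassFunction (tifnBeta_mem_zspan hχ hξ))
    (fun x hx => zspan_tifnS_vanish hC (tifnBeta_mem_zspan hχ hξ) x hx) k hk hk1

theorem star_isClassFunction (hstar : IsLinearIsometryOn (zspan (tifnS K)) star)
    {χ : ↥NK → ℂ} (hχ : χ ∈ tifnS K) : IsClassFunction G (star χ) := by
  obtain ⟨a, b, ha, hb, hab⟩ := hstar.2.2.2 χ (mem_zspan_of_mem hχ)
  rw [hab]
  exact isClassFunction_sub (IsCharacter.isClassFunction ha) (IsCharacter.isClassFunction hb)

/-- the image of a relevant character is `±` an irreducible character -/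
theorem star_eq_irr_or_neg (hstar : IsLinearIsometryOn (zspan (tifnS K)) star)
    {χ : ↥NK → ℂ} (hχ : χ ∈ tifnS K) :
    ∃ μ : G → ℂ, IsIrrCharacter G μ ∧ (star χ = μ ∨ star χ = -μ) := by
  apply (Cfsg.Agent.Lib.Helper26.irrFacts G).norm_one (hstar.2.2.2 χ (mem_zspan_of_mem hχ))
  rw [hstar.2.2.1 χ (mem_zspan_of_mem hχ) χ (mem_zspan_of_mem hχ), classInner_irr_self hχ.1]

end Star

end TIFN

end Cfsg.Agent.Lib.Helper74
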