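import Mathlib
import Cfsg.Agent.Lib.Helper74.SibleySetup
import Cfsg.Agent.S1521

/-!
# Sibley's coherence theorem, step 0 (helper74)

The group-theoretic inputs of `S1521`/`S1522` under the hypotheses of `S1524`, and the reduction
of `S1524` to the exceptional case (`H` a non-abelian `p`-group, `H/H'` a chief factor of small
order, `|W₁| ∤ p - 1`).
-/

set_option autoImplicit false
set_option linter.unusedSectionVars false

namespace Cfsg.Agent.Lib.Helper74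

open Cfsg Cfsg.Agent.Lib.Helper78 Cfsg.Agent.Lib.Helper75
open scoped ComplexConjugate Pointwise

universe u

section Abstract

variable {Λ : Type u} [Group Λ] [Finite Λ] (K W : Subgroup Λ) [hK : K.Normal]

/-- In a Frobenius group `Λ = K ⋊ W`, for a normal subgroup `H₁` with `[K,K] ≤ H₁ ≤ K`, the
quotient `Λ/H₁` is again Frobenius with kernel `K/H₁`: an element of `K` outside `H₁` is
centralised modulo `H₁` only from inside `K`. -/
theorem frob_quotient (hsup : K ⊔ W = ⊤)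
    (hfpf : ∀ w ∈ W, w ≠ 1 → ∀ k ∈ K, w * k = k * w → k = 1)
    (H₁ : Subgroup Λ) [hH₁ : H₁.Normal] (hcomm : ⁅K, K⁆ ≤ H₁) (hH₁K : H₁ ≤ K) :
    ∀ k ∈ K, k ∉ H₁ → ∀ x : Λ, x * k * x⁻¹ * k⁻¹ ∈ H₁ → x ∈ K := by
  intro k hk hkH₁ x hx
  by_contra hxK
  have hxtop : x ∈ K ⊔ W := by rw [hsup]; trivial
  obtain ⟨k', hk', w, hw, rfl⟩ := Subgroup.mem_sup_of_normal_left.mp hxtop
  have hw1 : w ≠ 1 := by
    rintro rfl
    apply hxK
    simpa using hk'
  -- `w k w⁻¹ k⁻¹ ∈ H₁`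
  set c : Λ := w * k * w⁻¹ with hc
  have hcK : c ∈ K := hK.conj_mem k hk w
  have h1 : k' * c * k'⁻¹ * k⁻¹ ∈ H₁ := by
    have : k' * w * k * (k' * w)⁻¹ * k⁻¹ = k' * c * k'⁻¹ * k⁻¹ := by
      rw [hc]; group
    rwa [this] at hx
  have h2 : k' * c * k'⁻¹ * c⁻¹ ∈ H₁ := by
    apply hcomm
    have := Subgroup.commutator_mem_commutator hk' hcK
    rwa [commutatorElement_def] at this
  have h3 : c * k⁻¹ ∈ H₁ := by
    have : c * k⁻¹ = (k' * c * k'⁻¹ * c⁻¹)⁻¹ * (k' * c * k'⁻¹ * k⁻¹) := by group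
    rw [this]
    exact H₁.mul_mem (H₁.inv_mem h2) h1
  -- the map `a ↦ w a w⁻¹ a⁻¹` on `H₁`
  let ψ : H₁ → H₁ := fun a => ⟨w * (a : Λ) * w⁻¹ * (a : Λ)⁻¹,
    H₁.mul_mem (hH₁.conj_mem a a.2 w) (H₁.inv_mem a.2)⟩
  have hinjΛ : ∀ a b : Λ, a ∈ K → b ∈ K → w * a * w⁻¹ * a⁻¹ = w * b * w⁻¹ * b⁻¹ → a = b := by
    intro a b ha hb hab
    have h4 : w * (b⁻¹ * a) = (b⁻¹ * a) * w := by
      have h5 : a * w⁻¹ * a⁻¹ = b * w⁻¹ * b⁻¹ := by
        have := congrArg (fun t => w⁻¹ * t) hab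
        simpa [mul_assoc] using this
      have h6 : b⁻¹ * a * w⁻¹ = w⁻¹ * (b⁻¹ * a) := by
        have := congrArg (fun t => b⁻¹ * t * a) h5
        simpa [mul_assoc] using this
      have : w * (b⁻¹ * a * w⁻¹) * w = w * (w⁻¹ * (b⁻¹ * a)) * w := by rw [h6]
      simpa [mul_assoc] using this
    have h7 := hfpf w hw hw1 (b⁻¹ * a) (K.mul_mem (K.inv_mem hb) ha) h4
    have : a = b * (b⁻¹ * a) := by group
    rw [this, h7, mul_one]
  have hψinj : Function.Injective ψ := by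
    intro a b hab
    apply Subtype.ext
    exact hinjΛ a b (hH₁K a.2) (hH₁K b.2) (congrArg Subtype.val hab)
  have hψsurj : Function.Surjective ψ := Finite.injective_iff_surjective.mp hψinj
  obtain ⟨a, ha⟩ := hψsurj ⟨c * k⁻¹, h3⟩
  have ha' : w * (a : Λ) * w⁻¹ * (a : Λ)⁻¹ = w * k * w⁻¹ * k⁻¹ := congrArg Subtype.val ha
  have := hinjΛ a k (hH₁K a.2) hk ha'
  apply hkH₁
  rw [← this]
  exact a.2

end Abstract

section Inputs

variable {G : Type u} [Group G] [Fintype G] (H L W₁ : Subgroup G) [Fintype L]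

theorem subgroupOf_isNilpotent (hHL : H ≤ L) (hnil : Group.IsNilpotent H) :
    Group.IsNilpotent (H.subgroupOf L) :=
  (Group.isNilpotent_congr (Subgroup.subgroupOfEquivOfLe hHL)).mpr hnil

theorem subgroupOf_isSolvable (hHL : H ≤ L) (hnil : Group.IsNilpotent H) :
    Group.IsSolvable (H.subgroupOf L) := by
  haveI := subgroupOf_isNilpotent H L hHL hnil
  infer_instance

theorem commutator_subgroupOf_lt (hHL : H ≤ L) (hH1 : H ≠ ⊥) (hnil : Group.IsNilpotent H) :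
    ⁅H.subgroupOf L, H.subgroupOf L⁆ < H.subgroupOf L := by
  haveI := subgroupOf_isSolvable H L hHL hnil
  have hne := subgroupOf_ne_bot H L hHL hH1
  rw [← Subgroup.nontrivial_iff_ne_bot] at hne
  rw [← (H.subgroupOf L).range_subtype, MonoidHom.range_eq_map, ← Subgroup.map_commutator,
    Subgroup.map_subtype_lt_map_subtype]
  exact Group.IsSolvable.commutator_lt_top_of_nontrivial (H.subgroupOf L)

/-- the Frobenius hypothesis `hfrob` of `S1521`/`S1522` (with `M = ⊥`, `H₁ = [K,K]`). -/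
theorem sibley_hfrob (hHL : H ≤ L) (hW₁L : W₁ ≤ L)
    (hHn : ∀ x ∈ L, ∀ h ∈ H, x * h * x⁻¹ ∈ H) (hsup : H ⊔ W₁ = L)
    (hfpf : ∀ w ∈ W₁, w ≠ 1 → ∀ h ∈ H, w * h = h * w → h = 1) :
    ∀ k ∈ H.subgroupOf L, k ∉ ⁅H.subgroupOf L, H.subgroupOf L⁆ → ∀ x : L,
      x * k * x⁻¹ * k⁻¹ ∈ ⁅H.subgroupOf L, H.subgroupOf L⁆ → x ∈ H.subgroupOf L := by
  haveI := subgroupOf_normal_of_conj H L hHn
  exact frob_quotient (H.subgroupOf L) (W₁.subgroupOf L)
    (subgroupOf_sup_eq_top H L W₁ hHL hW₁L hsup) (subgroupOf_fpf H L W₁ hfpf)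
    ⁅H.subgroupOf L, H.subgroupOf L⁆ le_rfl (Subgroup.commutator_le_left _ _)

/-- **Step 0 of Sibley's theorem**: under the hypotheses of `S1524`, either `S` is coherent or we
are in the exceptional case of `S1521` (with `M = ⊥`): all five `hgood` alternatives fail. -/
theorem sibley_step0 (hodd : Odd (Nat.card L)) (hHL : H ≤ L) (hW₁L : W₁ ≤ L)
    (hH1 : H ≠ ⊥) (hW1 : W₁ ≠ ⊥) (hnil : Group.IsNilpotent H)
    (hHn : ∀ x ∈ L, ∀ h ∈ H, x * h * x⁻¹ ∈ H)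
    (hinf : H ⊓ W₁ = ⊥) (hsup : H ⊔ W₁ = L)
    (hfpf : ∀ w ∈ W₁, w ≠ 1 → ∀ h ∈ H, w * h = h * w → h = 1)
    (τ : (L → ℂ) → (G → ℂ)) (R : (L → ℂ) → Finset (G → ℂ))
    (hS : IsCoherenceSystem (inducedIrrAbove (H.subgroupOf L) ⊥) τ R) :
    IsCoherent (inducedIrrAbove (H.subgroupOf L) ⊥) {1}ᶜ τ ∨
      ((¬ ∃ N : Subgroup L, N.Normal ∧ ⁅H.subgroupOf L, H.subgroupOf L⁆ < N ∧
          N < H.subgroupOf L) ∧
        ¬ (4 * (H.subgroupOf L).index ^ 2 + 1 <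
          (⁅H.subgroupOf L, H.subgroupOf L⁆).relIndex (H.subgroupOf L)) ∧
        (∃ p m : ℕ, p.Prime ∧ Nat.card (H.subgroupOf L) = p ^ m) ∧
        ¬ ⁅H.subgroupOf L, H.subgroupOf L⁆ ≤ ⊥ ∧
        ¬ ∃ p m : ℕ, p.Prime ∧ Nat.card (H.subgroupOf L) = p ^ m ∧
          (H.subgroupOf L).index ∣ p - 1) := by
  haveI hKn := subgroupOf_normal_of_conj H L hHn
  haveI hKnil := subgroupOf_isNilpotent H L hHL hnil
  have hsolv := subgroupOf_isSolvable H L hHL hnil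
  set K : Subgroup L := H.subgroupOf L with hKdef
  have hrel : (⊥ : Subgroup L).relIndex K = Nat.card K := Subgroup.relIndex_bot_left K
  by_cases hgood : (∃ N : Subgroup L, N.Normal ∧ ⁅K, K⁆ < N ∧ N < K) ∨
      4 * K.index ^ 2 + 1 < (⁅K, K⁆).relIndex K ∨
      (¬ ∃ p m : ℕ, p.Prime ∧ (⊥ : Subgroup L).relIndex K = p ^ m) ∨ ⁅K, K⁆ ≤ ⊥ ∨
      (∃ p m : ℕ, p.Prime ∧ (⊥ : Subgroup L).relIndex K = p ^ m ∧ K.index ∣ p - 1)
  · left
    exact Cfsg.Agent.S1521.result K hsolv τ R hS hodd ⊥ bot_le inferInstance ⁅K, K⁆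
      (sup_bot_eq _).symm (commutator_subgroupOf_lt H L hHL hH1 hnil)
      (subgroupOf_lt_top H L W₁ hW₁L hW1 hinf) (sibley_hfrob H L W₁ hHL hW₁L hHn hsup hfpf) hgood
  · right
    simp only [not_or, not_not, hrel] at hgood
    exact ⟨hgood.1, hgood.2.1, hgood.2.2.1, hgood.2.2.2.1, hgood.2.2.2.2⟩

end Inputs

end Cfsg.Agent.Lib.Helper74
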