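import Mathlib
import Cfsg.Prelude.Def_OddOrderChar
import Cfsg.Prelude.Def_OddOrderLocal
import Cfsg.Agent.Lib.Helper64.SibleyGroup
import Cfsg.Agent.Lib.Helper64.SibleySetup
import Cfsg.Agent.Lib.Helper74.SibleyStep0
import Cfsg.Agent.Lib.Helper74.TIFNStar
import Cfsg.Agent.Lib.Helper25.FeitFrob
import Cfsg.Agent.Lib.Helper25.FrobKernel
import Cfsg.Agent.S1517
import Cfsg.Agent.S1521
import Cfsg.Agent.S1522
import Cfsg.Agent.S1523

/-!
# Sibley's coherence theorem (S1524): structure of the exceptional case (helper74)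

Part (E) of helper64's plan.  `K = H.subgroupOf L` is a non-abelian `p`-group with `K/[K,K]` a chief
factor of `L`.

* (E1) `Z = Z(K)` (as a subgroup of `L`): `centerMap_*`, `three_le_card_of_odd`;
* (E2) `A = S([K,K])` : `sibleyA_*`;
* (E3) `B = S ∖ S(Z)` : `sibleyB_*`, `sibley_disjoint`;
* (T2) `exists_sylow_eq_of_not_dvd_index`;
* (E4) `sibley_h1523` : the `S1523` interface;
* `sibley_exc` : everything bundled under the hypotheses of `S1524`.
-/

set_option autoImplicit false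
set_option linter.unusedSectionVars false
set_option linter.style.haveILetI false

namespace Cfsg.Agent.Lib.Helper74

open Cfsg Cfsg.Agent.Lib.Helper78 Cfsg.Agent.Lib.Helper75 Cfsg.Agent.Lib.Helper25.CohDescent

universe u v

section Center

variable {Λ : Type u} [Group Λ] [Finite Λ] (K : Subgroup Λ) [hK : K.Normal]

theorem centerMap_normal : ((Subgroup.center K).map K.subtype).Normal := inferInstance

theorem centerMap_le : (Subgroup.center K).map K.subtype ≤ K := Subgroup.map_subtype_le _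

theorem centerMap_central : ∀ z ∈ (Subgroup.center K).map K.subtype, ∀ k ∈ K, z * k = k * z := by
  rintro z ⟨c, hc, rfl⟩ k hk
  have := Subgroup.mem_center_iff.mp hc ⟨k, hk⟩
  have h2 := congrArg Subtype.val this
  simpa using h2.symm

theorem centerMap_ne_bot (hK1 : K ≠ ⊥) (hnil : Group.IsNilpotent K) :
    (Subgroup.center K).map K.subtype ≠ ⊥ := by
  haveI : Nontrivial K := (Subgroup.nontrivial_iff_ne_bot K).mpr hK1
  intro h
  rw [Subgroup.map_eq_bot_iff_of_injective _ K.subtype_injective] at h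
  exact Group.IsNilpotent.center_ne_bot K h

theorem commutator_eq_map : ⁅K, K⁆ = (commutator K).map K.subtype := by
  rw [commutator_def, Subgroup.map_commutator, ← MonoidHom.range_eq_map, Subgroup.range_subtype]

theorem centerMap_le_commutator (hnil : Group.IsNilpotent K)
    (hx1 : ¬ ∃ N : Subgroup Λ, N.Normal ∧ ⁅K, K⁆ < N ∧ N < K) (hx4 : ¬ ⁅K, K⁆ ≤ ⊥) :
    (Subgroup.center K).map K.subtype ≤ ⁅K, K⁆ := by
  set Z := (Subgroup.center K).map K.subtype with hZ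
  haveI hZn : Z.Normal := centerMap_normal K
  haveI hCn : (⁅K, K⁆ : Subgroup Λ).Normal := Subgroup.commutator_normal K K
  have hNn : (Z ⊔ ⁅K, K⁆).Normal := Subgroup.sup_normal Z ⁅K, K⁆
  have hle1 : ⁅K, K⁆ ≤ Z ⊔ ⁅K, K⁆ := le_sup_right
  have hle2 : Z ⊔ ⁅K, K⁆ ≤ K := sup_le (centerMap_le K) (Subgroup.commutator_le_left K K)
  rcases hle1.eq_or_lt with heq | hlt
  · rw [heq]; exact le_sup_left
  · rcases hle2.eq_or_lt with heq2 | hlt2
    · exfalso
      apply hx4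
      have h1 : Subgroup.center K ⊔ commutator K = ⊤ := by
        apply Subgroup.map_injective K.subtype_injective
        rw [Subgroup.map_sup, ← commutator_eq_map, ← hZ, heq2, ← MonoidHom.range_eq_map,
          Subgroup.range_subtype]
      have h2 := Cfsg.Agent.Lib.Helper64.commutator_eq_bot_of_center_sup_commutator h1
      rw [commutator_eq_map, h2, Subgroup.map_bot]
    · exact absurd ⟨Z ⊔ ⁅K, K⁆, hNn, hlt, hlt2⟩ hx1

theorem three_le_card_of_odd (hodd : Odd (Nat.card Λ)) (Z : Subgroup Λ) (hZ1 : Z ≠ ⊥) :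
    3 ≤ Nat.card Z := by
  have h1 : Nat.card Z ∣ Nat.card Λ := Subgroup.card_subgroup_dvd_card Z
  have h2 : Odd (Nat.card Z) := Odd.of_dvd_nat hodd h1
  have h3 : Nat.card Z ≠ 1 := fun h => hZ1 (Subgroup.card_eq_one.mp h)
  have h4 : 0 < Nat.card Z := Nat.card_pos
  rcases h2 with ⟨k, hk⟩
  omega

end Center

section AB

variable {Λ : Type u} [Group Λ] [Fintype Λ] {G : Type v} [Group G] [Fintype G]
  (K : Subgroup Λ) [hK : K.Normal]
  (τ : (Λ → ℂ) → (G → ℂ)) (R : (Λ → ℂ) → Finset (G → ℂ))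

/-! ### The set `A = S([K,K])` -/

theorem sibleyA_subset : inducedIrrAbove K ⁅K, K⁆ ⊆ inducedIrrAbove K ⊥ :=
  inducedIrrAbove_subset_bot K _

theorem sibleyA_nonempty (hsolv : Group.IsSolvable K) (hlt : ⁅K, K⁆ < K) :
    (inducedIrrAbove K ⁅K, K⁆).Nonempty := by
  haveI : (⁅K, K⁆ : Subgroup Λ).Normal := Subgroup.commutator_normal K K
  obtain ⟨χ, hχ, -⟩ := exists_linear_mem K ⁅K, K⁆ hsolv hlt
  exact ⟨χ, hχ⟩

theorem sibleyA_degree {χ : Λ → ℂ} (hχ : χ ∈ inducedIrrAbove K ⁅K, K⁆) :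
    χ 1 = (K.index : ℂ) :=
  Cfsg.Agent.S1521.apply_one_of_mem_abelian K ⁅K, K⁆ (Subgroup.commutator_le_left K K) le_rfl hχ

theorem sibleyA_conj (hS : IsCoherenceSystem (inducedIrrAbove K ⊥) τ R) :
    ∀ ξ ∈ inducedIrrAbove K ⁅K, K⁆,
      conjFun ξ ∈ inducedIrrAbove K ⁅K, K⁆ ∧ conjFun ξ ≠ ξ := by
  intro ξ hξ
  exact ⟨conj_mem_inducedIrrAbove K _ hξ, hS.conj_ne ξ (sibleyA_subset K hξ)⟩

theorem sibleyA_coherent (hS : IsCoherenceSystem (inducedIrrAbove K ⊥) τ R)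
    (hsolv : Group.IsSolvable K) (hlt : ⁅K, K⁆ < K) :
    IsCoherent (inducedIrrAbove K ⁅K, K⁆) {1}ᶜ τ := by
  apply Cfsg.Agent.S1517.result _ τ R
    (Cfsg.Agent.S1521.isCoherenceSystem_subset hS (sibleyA_subset K) (sibleyA_nonempty K hsolv hlt)
      (fun χ hχ => (sibleyA_conj K τ R hS χ hχ).1))
  intro φ hφ ψ hψ
  rw [sibleyA_degree K hφ, sibleyA_degree K hψ]

/-! ### The set `B = S ∖ S(Z)` -/

variable (Z : Subgroup Λ) [hZ : Z.Normal]

theorem sibleyB_subset : inducedIrrAbove K ⊥ \ inducedIrrAbove K Z ⊆ inducedIrrAbove K ⊥ :=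
  Set.sdiff_subset

theorem sibleyB_conj (hS : IsCoherenceSystem (inducedIrrAbove K ⊥) τ R) :
    ∀ ξ ∈ inducedIrrAbove K ⊥ \ inducedIrrAbove K Z,
      conjFun ξ ∈ inducedIrrAbove K ⊥ \ inducedIrrAbove K Z ∧ conjFun ξ ≠ ξ := by
  intro ξ hξ
  refine ⟨⟨hS.conj_mem ξ hξ.1, ?_⟩, hS.conj_ne ξ hξ.1⟩
  intro h
  apply hξ.2
  have := conj_mem_inducedIrrAbove K Z h
  rwa [conjFun_conjFun] at this

theorem sibleyB_degree {η : Λ → ℂ} (hη : η ∈ inducedIrrAbove K ⊥ \ inducedIrrAbove K Z) :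
    ∃ f : ℕ, η 1 = (K.index : ℂ) * f := by
  obtain ⟨θ, hθ, h1, -, rfl⟩ := hη.1
  refine ⟨charDegree θ, ?_⟩
  rw [indFun_one, IsCharacter.apply_one_eq_charDegree (IsIrrCharacter.isCharacter hθ)]

theorem sibley_disjoint (hZc : Z ≤ ⁅K, K⁆) :
    Disjoint (inducedIrrAbove K ⁅K, K⁆) (inducedIrrAbove K ⊥ \ inducedIrrAbove K Z) := by
  rw [Set.disjoint_left]
  intro χ hχ hχ'
  exact hχ'.2 (Cfsg.Agent.Lib.Helper25.FeitFrob.inducedIrrAbove_anti K hZc hχ)

/-- there is an irreducible character nontrivial on a given nonidentity element -/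
theorem exists_irr_apply_ne (X : Type u) [Group X] [Fintype X] {a : X} (ha : a ≠ 1) :
    ∃ χ : X → ℂ, IsIrrCharacter X χ ∧ χ a ≠ χ 1 := by
  classical
  by_contra hcon
  have hall : ∀ θ : IrrCharacter X, (θ : X → ℂ) a = (θ : X → ℂ) 1 := by
    intro θ
    by_contra h
    exact hcon ⟨θ, θ.2, h⟩
  have h0 := sum_irr_degree_mul_apply X ha
  have h1 : ∑ θ : IrrCharacter X, (charDegree (θ : X → ℂ) : ℂ) * (θ : X → ℂ) a =
      ((∑ θ : IrrCharacter X, (charDegree (θ : X → ℂ)) ^ 2 : ℕ) : ℂ) := by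
    push_cast
    apply Finset.sum_congr rfl
    intro θ _
    rw [hall θ, IsCharacter.apply_one_eq_charDegree (IsIrrCharacter.isCharacter θ.2)]
    ring
  rw [h1, sum_irr_charDegree_sq] at h0
  have : Nat.card X ≠ 0 := Nat.card_pos.ne'
  exact this (by exact_mod_cast h0)

theorem sibleyB_nonempty (hZ1 : Z ≠ ⊥)
    (heq : inducedIrrAbove K ⊥ \ inducedIrrAbove K Z =
      {χ | IsIrrCharacter Λ χ ∧ ∃ z ∈ Z, χ z ≠ χ 1}) :
    (inducedIrrAbove K ⊥ \ inducedIrrAbove K Z).Nonempty := by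
  obtain ⟨z, hz, hz1⟩ := (Subgroup.ne_bot_iff_exists_ne_one).mp hZ1 |> fun ⟨z, hz1⟩ =>
    (⟨(z : Λ), z.2, fun h => hz1 (Subtype.ext h)⟩ : ∃ z : Λ, z ∈ Z ∧ z ≠ 1)
  obtain ⟨χ, hχ, hne⟩ := exists_irr_apply_ne Λ hz1
  refine ⟨χ, ?_⟩
  rw [heq]
  exact ⟨hχ, z, hz, hne⟩

end AB

/-- (T2) a `p`-subgroup `H` with `p ∤ [N_G(H) : H]` is a Sylow `p`-subgroup of `G`. -/
theorem exists_sylow_eq_of_not_dvd_index {G : Type*} [Group G] [Finite G] (p : ℕ) [Fact p.Prime]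
    (H : Subgroup G) (hp : IsPGroup p H)
    (hcop : ¬ p ∣ (H.subgroupOf (Subgroup.normalizer (H : Set G))).index) :
    ∃ P : Sylow p G, (P : Subgroup G) = H := by
  obtain ⟨P, hHP⟩ := hp.exists_le_sylow
  refine ⟨P, ?_⟩
  by_contra hne
  have hlt : H < P := lt_of_le_of_ne hHP (Ne.symm hne)
  haveI : Group.IsNilpotent P := P.2.isNilpotent
  have hnc := Group.normalizerCondition_of_isNilpotent (G := P) (H.subgroupOf P) (by
    rw [lt_top_iff_ne_top, Ne, Subgroup.subgroupOf_eq_top]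
    exact not_le_of_gt hlt)
  rw [← Subgroup.subgroupOf_normalizer_eq hHP] at hnc
  set M := Subgroup.normalizer (H : Set G) ⊓ P with hM
  have hHM : H < M := by
    refine lt_of_le_of_ne (le_inf Subgroup.le_normalizer hHP) ?_
    intro heq
    obtain ⟨x, hx, hx'⟩ := SetLike.exists_of_lt hnc
    rw [Subgroup.mem_subgroupOf] at hx hx'
    apply hx'
    rw [heq]
    exact ⟨hx, x.2⟩
  have hMN : M ≤ Subgroup.normalizer (H : Set G) := inf_le_left
  have hMp : IsPGroup p M := P.2.to_le inf_le_right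
  have h1 : H.relIndex M * M.relIndex (Subgroup.normalizer (H : Set G)) =
      H.relIndex (Subgroup.normalizer (H : Set G)) :=
    Subgroup.relIndex_mul_relIndex H M _ hHM.le hMN
  have h2 : p ∣ H.relIndex M := by
    obtain ⟨n, hn⟩ := hMp.index (H.subgroupOf M)
    have hn0 : n ≠ 0 := by
      rintro rfl
      rw [pow_zero, Subgroup.index_eq_one, Subgroup.subgroupOf_eq_top] at hn
      exact not_le_of_gt hHM hn
    show p ∣ (H.subgroupOf M).index
    rw [hn]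
    exact dvd_pow_self p hn0
  apply hcop
  show p ∣ H.relIndex (Subgroup.normalizer (H : Set G))
  rw [← h1]
  exact Dvd.dvd.mul_right h2 _

section E4

variable {G : Type u} [Group G] [Fintype G] (H L W₁ : Subgroup G) [Fintype L]

/-- (E4) the `S1523` interface for Sibley's theorem, in the form of hypothesis `h1523` of
`Helper64.key_divisibility` (with `c = Nat.card H`). -/
theorem sibley_h1523 (hodd : Odd (Nat.card L)) (hHL : H ≤ L) (hW₁L : W₁ ≤ L) (hH1 : H ≠ ⊥)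
    (hHn : ∀ x ∈ L, ∀ h ∈ H, x * h * x⁻¹ ∈ H) (hsup : H ⊔ W₁ = L)
    (hfpf : ∀ w ∈ W₁, w ≠ 1 → ∀ h ∈ H, w * h = h * w → h = 1)
    (hTI : IsTISubset (H : Set G)) (hN : Subgroup.normalizer (H : Set G) = L)
    (hx3 : ∃ p m : ℕ, p.Prime ∧ Nat.card (H.subgroupOf L) = p ^ m)
    (Z : Subgroup L) [hZn : Z.Normal] (hZ1 : Z ≠ ⊥) (hZK : Z ≤ H.subgroupOf L)
    (hZc : ∀ z ∈ Z, ∀ k ∈ H.subgroupOf L, z * k = k * z)
    (ψ : G → ℂ) (hψ : IsIrrCharacter G ψ)
    (hconst : ∀ z z' : L, z ∈ Z → z' ∈ Z → z ≠ 1 → z' ≠ 1 → ψ z = ψ z') :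
    ∀ z : L, z ∈ Z → z ≠ 1 →
      ∃ n d : ℤ, ψ z = n ∧ ψ 1 = d ∧ ((Nat.card H : ℕ) : ℤ) ∣ d - n := by
  haveI hKn := subgroupOf_normal_of_conj H L hHn
  have hC := frobK_centralizer_le H L W₁ hHL hW₁L hHn hsup hfpf
  have hCG := Cfsg.Agent.Lib.Helper64.centralizer_le_of_TI H L hHL hTI hN hC
  obtain ⟨p, m, hp, hcard⟩ := hx3
  haveI : Fact p.Prime := ⟨hp⟩
  have hcardH : Nat.card H = p ^ m := by
    rw [← hcard]
    exact (Nat.card_congr (Subgroup.subgroupOfEquivOfLe hHL).toEquiv).symm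
  have hpH : IsPGroup p H := IsPGroup.of_card hcardH
  have hm0 : m ≠ 0 := by
    rintro rfl
    rw [pow_zero] at hcardH
    exact hH1 (Subgroup.card_eq_one.mp hcardH)
  have hcop := Cfsg.Agent.Lib.Helper25.FrobKernel.coprime_card_index (H.subgroupOf L) hC
  have hndvd : ¬ p ∣ (H.subgroupOf (Subgroup.normalizer (H : Set G))).index := by
    rw [hN]
    intro hdvd
    have h1 : p ∣ Nat.card (H.subgroupOf L) := by rw [hcard]; exact dvd_pow_self p hm0
    have := Nat.dvd_gcd h1 hdvd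
    rw [hcop.gcd_eq_one] at this
    exact hp.one_lt.ne' (Nat.dvd_one.mp this)
  obtain ⟨P, hP⟩ := exists_sylow_eq_of_not_dvd_index p H hpH hndvd
  subst hP
  intro z hz hz1
  have hzH : (z : G) ∈ (P : Subgroup G) := Subgroup.mem_subgroupOf.mp (hZK hz)
  have hLH : ∀ y : G, y ∈ Z.map L.subtype → y ≠ 1 →
      Subgroup.normalizer ((P : Subgroup G) : Set G) ⊓ Subgroup.centralizer ({y} : Set G) =
        (P : Subgroup G) := by
    rintro y ⟨z', hz', rfl⟩ hy1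
    have hz'H : (z' : G) ∈ (P : Subgroup G) := Subgroup.mem_subgroupOf.mp (hZK hz')
    apply le_antisymm
    · exact inf_le_right.trans (hCG _ hz'H hy1)
    · apply le_inf Subgroup.le_normalizer
      intro h hh
      rw [Subgroup.mem_centralizer_singleton_iff]
      have := hZc z' hz' ⟨h, hHL hh⟩ (Subgroup.mem_subgroupOf.mpr hh)
      have h2 := congrArg Subtype.val this
      simpa using h2.symm
  refine Cfsg.Agent.S1523.result p P hTI (by rw [hN]; exact hodd) (Z.map L.subtype) ?_ ?_ ?_ ?_ ?_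
    ψ hψ ?_ (z : G) ⟨z, hz, rfl⟩ (fun h => hz1 (Subtype.ext h))
  · intro h
    apply hZ1
    rwa [Subgroup.map_eq_bot_iff_of_injective _ L.subtype_injective] at h
  · rintro y ⟨z', hz', rfl⟩
    exact Subgroup.mem_subgroupOf.mp (hZK hz')
  · rintro x hx y ⟨z', hz', rfl⟩
    rw [hN] at hx
    exact ⟨⟨x, hx⟩ * z' * ⟨x, hx⟩⁻¹, hZn.conj_mem z' hz' ⟨x, hx⟩, by simp⟩
  · rintro y ⟨z', hz', rfl⟩ h hh
    have := hZc z' hz' ⟨h, hHL hh⟩ (Subgroup.mem_subgroupOf.mpr hh)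
    have h2 := congrArg Subtype.val this
    simpa using h2
  · intro y hy y' hy' hy1 hy'1
    rw [hLH y hy hy1, hLH y' hy' hy'1]
  · rintro y ⟨z₁, hz₁, rfl⟩ y' ⟨z₂, hz₂, rfl⟩ h1 h2
    exact hconst z₁ z₂ hz₁ hz₂ (fun h => h1 (by rw [h]; rfl)) (fun h => h2 (by rw [h]; rfl))

end E4

section Bundle

variable {G : Type u} [Group G] [Fintype G] (H L W₁ : Subgroup G) [Fintype L]

/-- Everything about the exceptional case of Sibley's theorem, bundled: the centre `Z` of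
`K = H.subgroupOf L`, the coherent set `A = S([K,K])` of constant degree `[L:K]`, and the coherent set
`B = S ∖ S(Z)` of the irreducible characters of `L` nontrivial on `Z`. -/
theorem sibley_exc (hodd : Odd (Nat.card L)) (hHL : H ≤ L) (hW₁L : W₁ ≤ L)
    (hH1 : H ≠ ⊥) (hW1 : W₁ ≠ ⊥) (hnil : Group.IsNilpotent H)
    (hHn : ∀ x ∈ L, ∀ h ∈ H, x * h * x⁻¹ ∈ H)
    (hinf : H ⊓ W₁ = ⊥) (hsup : H ⊔ W₁ = L)
    (hfpf : ∀ w ∈ W₁, w ≠ 1 → ∀ h ∈ H, w * h = h * w → h = 1)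
    (τ : (L → ℂ) → (G → ℂ)) (R : (L → ℂ) → Finset (G → ℂ))
    (hS : IsCoherenceSystem (inducedIrrAbove (H.subgroupOf L) ⊥) τ R)
    (hx1 : ¬ ∃ N : Subgroup L, N.Normal ∧ ⁅H.subgroupOf L, H.subgroupOf L⁆ < N ∧
      N < H.subgroupOf L)
    (hx4 : ¬ ⁅H.subgroupOf L, H.subgroupOf L⁆ ≤ ⊥) :
    ∃ Z : Subgroup L, Z = (Subgroup.center (H.subgroupOf L)).map (H.subgroupOf L).subtype ∧
      Z.Normal ∧ Z ≠ ⊥ ∧ Z ≤ H.subgroupOf L ∧
      (∀ z ∈ Z, ∀ k ∈ H.subgroupOf L, z * k = k * z) ∧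
      Z ≤ ⁅H.subgroupOf L, H.subgroupOf L⁆ ∧ 3 ≤ Nat.card Z ∧
      -- the set `A`
      IsCoherent (inducedIrrAbove (H.subgroupOf L) ⁅H.subgroupOf L, H.subgroupOf L⁆) {1}ᶜ τ ∧
      (∀ χ ∈ inducedIrrAbove (H.subgroupOf L) ⁅H.subgroupOf L, H.subgroupOf L⁆,
        χ 1 = ((H.subgroupOf L).index : ℂ)) ∧
      inducedIrrAbove (H.subgroupOf L) ⁅H.subgroupOf L, H.subgroupOf L⁆ ⊆
        inducedIrrAbove (H.subgroupOf L) ⊥ ∧
      (inducedIrrAbove (H.subgroupOf L) ⁅H.subgroupOf L, H.subgroupOf L⁆).Nonempty ∧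
      (∀ ξ ∈ inducedIrrAbove (H.subgroupOf L) ⁅H.subgroupOf L, H.subgroupOf L⁆,
        conjFun ξ ∈ inducedIrrAbove (H.subgroupOf L) ⁅H.subgroupOf L, H.subgroupOf L⁆ ∧
          conjFun ξ ≠ ξ) ∧
      -- the set `B`
      (inducedIrrAbove (H.subgroupOf L) ⊥ \ inducedIrrAbove (H.subgroupOf L) Z =
        {χ | IsIrrCharacter L χ ∧ ∃ z ∈ Z, χ z ≠ χ 1}) ∧
      IsCoherent (inducedIrrAbove (H.subgroupOf L) ⊥ \ inducedIrrAbove (H.subgroupOf L) Z) {1}ᶜ τ ∧
      (inducedIrrAbove (H.subgroupOf L) ⊥ \ inducedIrrAbove (H.subgroupOf L) Z).Nonempty ∧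
      (∀ η ∈ inducedIrrAbove (H.subgroupOf L) ⊥ \ inducedIrrAbove (H.subgroupOf L) Z,
        ∃ f : ℕ, η 1 = ((H.subgroupOf L).index : ℂ) * f) ∧
      (∀ ξ ∈ inducedIrrAbove (H.subgroupOf L) ⊥ \ inducedIrrAbove (H.subgroupOf L) Z,
        conjFun ξ ∈ inducedIrrAbove (H.subgroupOf L) ⊥ \ inducedIrrAbove (H.subgroupOf L) Z ∧
          conjFun ξ ≠ ξ) ∧
      Disjoint (inducedIrrAbove (H.subgroupOf L) ⁅H.subgroupOf L, H.subgroupOf L⁆)
        (inducedIrrAbove (H.subgroupOf L) ⊥ \ inducedIrrAbove (H.subgroupOf L) Z) := by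
  haveI hKn := subgroupOf_normal_of_conj H L hHn
  haveI hKnil := subgroupOf_isNilpotent H L hHL hnil
  have hsolv := subgroupOf_isSolvable H L hHL hnil
  have hC := frobK_centralizer_le H L W₁ hHL hW₁L hHn hsup hfpf
  have hK1 := subgroupOf_ne_bot H L hHL hH1
  have hlt := commutator_subgroupOf_lt H L hHL hH1 hnil
  have hKL := subgroupOf_lt_top H L W₁ hW₁L hW1 hinf
  have hfrob := sibley_hfrob H L W₁ hHL hW₁L hHn hsup hfpf
  set K : Subgroup L := H.subgroupOf L with hKdef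
  haveI hZn : ((Subgroup.center K).map K.subtype).Normal := centerMap_normal K
  have hZ1 := centerMap_ne_bot K hK1 hKnil
  have hZK := centerMap_le K
  have hZc := centerMap_central K
  have hZle := centerMap_le_commutator K hKnil hx1 hx4
  obtain ⟨hBeq, hBcoh⟩ := Cfsg.Agent.S1522.result K hsolv τ R hS hodd hKnil hlt hKL hfrob
    ((Subgroup.center K).map K.subtype) hZ1 hZK hZc
    (fun χ hχ => sibleyS_isIrrCharacter K hC hχ.1)
  exact ⟨_, rfl, hZn, hZ1, hZK, hZc, hZle, three_le_card_of_odd hodd _ hZ1,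
    sibleyA_coherent K τ R hS hsolv hlt, fun χ hχ => sibleyA_degree K hχ, sibleyA_subset K,
    sibleyA_nonempty K hsolv hlt, sibleyA_conj K τ R hS, hBeq, hBcoh,
    sibleyB_nonempty K _ hZ1 hBeq, fun η hη => sibleyB_degree K _ hη, sibleyB_conj K τ R _ hS,
    sibley_disjoint K _ hZle⟩

end Bundle

end Cfsg.Agent.Lib.Helper74
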