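import Mathlib
import Cfsg.Agent.Lib.Helper74.PF127Defs
import Cfsg.Agent.Lib.Helper47.PF127Ext
import Cfsg.Agent.Lib.Helper74.IndLinear
import Cfsg.Agent.Lib.Helper75.Clifford
import Cfsg.Agent.Lib.Helper77.Linear
import Cfsg.Agent.Lib.Helper64.ZassInd

/-!
# Peterfalvi (12.7), module [CONG] (helper74)

The congruences: for a class function `Ψ` of `L` pairing integrally with the generalized characters
of `L` supported on `𝒜`, constant `= p i + n₀` on the cosets `x ^ i H`, the constant `n₀` is an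
integer and the Fourier coefficients of `Ψ|_{H ∖ 1}` at `x`-invariant linear characters are
congruent modulo `r`.
-/

set_option autoImplicit false
set_option linter.unusedSectionVars false
set_option linter.style.haveILetI false

namespace Cfsg.Agent.Lib.Helper74.PF127

open Cfsg Cfsg.Agent.Lib.Helper47.PF127Ext
open scoped ComplexConjugate

section Decomp

variable {L : Type*} [Group L] (H : Subgroup L) [H.Normal] (x : L) (r : ℕ)

theorem exists_decomp_of_mem_sup (hx : orderOf x = r) (hr : r.Prime) {k : L}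
    (hk : k ∈ H ⊔ Subgroup.zpowers x) : ∃ i < r, ∃ h : H, k = x ^ i * (h : L) := by
  rw [sup_comm] at hk
  have h1 : k ∈ ((Subgroup.zpowers x ⊔ H : Subgroup L) : Set L) := hk
  rw [Subgroup.mul_normal] at h1
  obtain ⟨z, hz, h, hh, rfl⟩ := Set.mem_mul.mp h1
  obtain ⟨j, rfl⟩ := Subgroup.mem_zpowers_iff.mp hz
  have hr0 : (0 : ℤ) < (r : ℤ) := by exact_mod_cast hr.pos
  refine ⟨(j % (r : ℤ)).toNat, ?_, ⟨h, hh⟩, ?_⟩
  · have h2 : j % (r : ℤ) < r := Int.emod_lt_of_pos j hr0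
    have h3 : 0 ≤ j % (r : ℤ) := Int.emod_nonneg j hr0.ne'
    omega
  · have h3 : 0 ≤ j % (r : ℤ) := Int.emod_nonneg j hr0.ne'
    have h4 : x ^ (j % (r : ℤ)).toNat = x ^ j := by
      rw [← zpow_natCast, Int.toNat_of_nonneg h3, ← hx, zpow_mod_orderOf]
    rw [h4]

theorem pow_mul_mem_sup (i : ℕ) (h : H) : x ^ i * (h : L) ∈ H ⊔ Subgroup.zpowers x :=
  Subgroup.mul_mem _ (Subgroup.mem_sup_right (Subgroup.pow_mem _ (Subgroup.mem_zpowers x) i))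
    (Subgroup.mem_sup_left h.2)

end Decomp

section Main

variable {L : Type*} [Group L] [Fintype L] (H : Subgroup L) [H.Normal] [Fintype H]

theorem indFun_sub (K : Subgroup L) (f g : K → ℂ) :
    indFun K (f - g) = indFun K f - indFun K g := by
  rw [sub_eq_add_neg, ← neg_one_smul ℂ g, Cfsg.Agent.Lib.Helper74.indFun_add,
    Cfsg.Agent.Lib.Helper74.indFun_smul, neg_one_smul, ← sub_eq_add_neg]

theorem sum_hom_conj_eq_zero (θ : H →* ℂˣ) (hθ1 : θ ≠ 1) :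
    ∑ h : H, conj ((θ h : ℂˣ) : ℂ) = 0 := by
  have h1 : ((Units.coeHom ℂ).comp θ) ≠ 1 := by
    intro h
    apply hθ1
    ext a
    have := DFunLike.congr_fun h a
    simpa using this
  have h2 := sum_hom_units_eq_zero ((Units.coeHom ℂ).comp θ) h1
  have h3 := congrArg conj h2
  rw [map_sum, map_zero] at h3
  simpa using h3

theorem card_sup_zpowers (x : L) (r : ℕ) (hr : r.Prime) (hx : orderOf x = r)
    (hcop : ¬ r ∣ Nat.card H) [Fintype ↥(H ⊔ Subgroup.zpowers x)] :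
    (Nat.card ↥(H ⊔ Subgroup.zpowers x) : ℂ) = (r : ℂ) * (Nat.card H : ℂ) := by
  have h := sum_sup_zpowers H x r hr hx hcop (fun _ => (1 : ℂ))
  simp only [Finset.sum_const, Finset.card_univ, nsmul_eq_mul, mul_one, Finset.card_range] at h
  rw [Nat.card_eq_fintype_card, Nat.card_eq_fintype_card, h]

/-- One instance of the integrality, for a fixed `r`-th root of unity `ζ`. -/
theorem cong_aux (x : L) (r : ℕ) (hr : r.Prime) (hx : orderOf x = r) (hcop : ¬ r ∣ Nat.card H)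
    (𝒜 : Set L) (h𝒜conj : ∀ a ∈ 𝒜, ∀ l : L, l * a * l⁻¹ ∈ 𝒜)
    (h𝒜H : ∀ h : L, h ∈ H → h ≠ 1 → h ∈ 𝒜)
    (h𝒜x : ∀ i : ℕ, ¬ r ∣ i → ∀ h : L, h ∈ H → x ^ i * h ∈ 𝒜)
    (Ψ : L → ℂ) (hΨ : IsClassFunction L Ψ)
    (hint : ∀ β : L → ℂ, IsGeneralizedCharacter L β → (∀ l : L, l ∉ 𝒜 → β l = 0) →
      ∃ z : ℤ, classInner β Ψ = z)
    (p : ℕ → ℂ) (n₀ : ℂ)
    (hconst : ∀ i : ℕ, ¬ r ∣ i → ∀ h : L, h ∈ H → Ψ (x ^ i * h) = p i + n₀)
    (b : H → ℂ) (hb1 : b 1 = 0) (hb : ∀ h : H, h ≠ 1 → b h = Ψ h)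
    (θ : H →* ℂˣ) (hθ1 : θ ≠ 1) (hθ : ∀ h h' : H, (h' : L) = x * h * x⁻¹ → θ h' = θ h)
    (ζ : ℂˣ) (hζ : ζ ^ r = 1) :
    ∃ z : ℤ, (r : ℂ) * z =
      (classInner b (fun h => ((θ h : ℂˣ) : ℂ)) - classInner b (fun _ => 1)) -
        ∑ i ∈ Finset.Ico 1 r, (p i + n₀) * ((ζ⁻¹ : ℂˣ) : ℂ) ^ i := by
  classical
  haveI : Fintype ↥(H ⊔ Subgroup.zpowers x) := Fintype.ofFinite _
  set K : Subgroup L := H ⊔ Subgroup.zpowers x with hK
  obtain ⟨fθ, hfθ⟩ := exists_linear_extension H x r hr hx hcop θ hθ ζ hζ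
  obtain ⟨f1, hf1⟩ := exists_linear_extension H x r hr hx hcop (1 : H →* ℂˣ)
    (fun _ _ _ => rfl) ζ hζ
  set cθ : K → ℂ := fun k => ((fθ k : ℂˣ) : ℂ) with hcθ
  set c1 : K → ℂ := fun k => ((f1 k : ℂˣ) : ℂ) with hc1
  have hcharθ : IsCharacter L (indFun K cθ) :=
    Cfsg.Agent.S0148.result K _ (Cfsg.Agent.Lib.Helper78.IsIrrCharacter.isCharacter
      (Cfsg.Agent.Lib.Helper77.isIrrCharacter_of_monoidHom fθ))
  have hchar1 : IsCharacter L (indFun K c1) :=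
    Cfsg.Agent.S0148.result K _ (Cfsg.Agent.Lib.Helper78.IsIrrCharacter.isCharacter
      (Cfsg.Agent.Lib.Helper77.isIrrCharacter_of_monoidHom f1))
  have hβgen : IsGeneralizedCharacter L (indFun K (cθ - c1)) :=
    ⟨_, _, hcharθ, hchar1, indFun_sub K cθ c1⟩
  -- values of `γ = cθ - c1`
  have hγval : ∀ (i : ℕ) (h : H) (hk : x ^ i * (h : L) ∈ K),
      (cθ - c1) ⟨x ^ i * (h : L), hk⟩ = ((ζ : ℂˣ) : ℂ) ^ i * (((θ h : ℂˣ) : ℂ) - 1) := by
    intro i h hk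
    simp only [Pi.sub_apply, hcθ, hc1]
    rw [hfθ i h hk, hf1 i h hk]
    simp only [MonoidHom.one_apply, mul_one, Units.val_mul, Units.val_pow_eq_pow_val]
    ring
  -- support
  have hβsupp : ∀ l : L, l ∉ 𝒜 → indFun K (cθ - c1) l = 0 := by
    intro l hl
    unfold indFun
    rw [Finset.sum_eq_zero, mul_zero]
    intro t _
    by_cases hmem : t⁻¹ * l * t ∈ K
    · rw [Cfsg.Agent.Lib.Helper75.extendByZero_of_mem K _ hmem]
      obtain ⟨i, hi, h, hdec⟩ := exists_decomp_of_mem_sup H x r hx hr hmem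
      have hmem' : x ^ i * (h : L) ∈ K := hdec ▸ hmem
      have heq : (⟨t⁻¹ * l * t, hmem⟩ : K) = ⟨x ^ i * (h : L), hmem'⟩ := Subtype.ext hdec
      rw [heq, hγval i h hmem']
      by_contra hne
      apply hl
      have hin : t⁻¹ * l * t ∈ 𝒜 := by
        rw [hdec]
        by_cases hi0 : i = 0
        · subst hi0
          rw [pow_zero, one_mul]
          apply h𝒜H _ h.2
          intro h1
          apply hne
          have : h = 1 := Subtype.ext h1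
          rw [this, map_one]
          simp
        · apply h𝒜x i _ _ h.2
          intro hdvd
          exact hi0 (Nat.eq_zero_of_dvd_of_lt hdvd hi)
      have := h𝒜conj _ hin t
      simpa [mul_assoc] using this
    · exact Cfsg.Agent.Lib.Helper75.extendByZero_of_not_mem K _ hmem
  obtain ⟨z, hz⟩ := hint _ hβgen hβsupp
  refine ⟨z, ?_⟩
  -- Frobenius reciprocity
  have hfr := Cfsg.Agent.Lib.Helper75.frobenius_reciprocity' K (cθ - c1) hΨ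
  have hz' : classInner Ψ (indFun K (cθ - c1)) = (z : ℂ) := by
    rw [← Cfsg.Agent.Lib.Helper78.classInner_conj_symm, hz]
    simp
  rw [hfr] at hz'
  -- compute the inner product on `K`
  unfold classInner at hz'
  have hsum := sum_sup_zpowers H x r hr hx hcop
    (fun l => Ψ l * conj (if hl : l ∈ K then (cθ - c1) ⟨l, hl⟩ else 0))
  have hsum' : ∑ k : K, Ψ (k : L) * conj ((cθ - c1) k) =
      ∑ i ∈ Finset.range r, ∑ h : H,
        Ψ (x ^ i * (h : L)) * ((((ζ⁻¹ : ℂˣ) : ℂ)) ^ i * (conj ((θ h : ℂˣ) : ℂ) - 1)) := by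
    have h1 : ∑ k : K, Ψ (k : L) * conj ((cθ - c1) k) =
        ∑ k : K, (fun l => Ψ l * conj (if hl : l ∈ K then (cθ - c1) ⟨l, hl⟩ else 0)) (k : L) := by
      apply Finset.sum_congr rfl
      intro k _
      simp only [dif_pos k.2]
    rw [h1, hsum]
    apply Finset.sum_congr rfl
    intro i _
    apply Finset.sum_congr rfl
    intro h _
    have hmem' : x ^ i * (h : L) ∈ K := pow_mul_mem_sup H x i h
    simp only [dif_pos hmem']
    rw [hγval i h hmem', map_mul, map_pow, map_sub, map_one]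
    have hζn : ‖((ζ : ℂˣ) : ℂ)‖ = 1 := by
      apply Complex.norm_eq_one_of_pow_eq_one (n := r) _ hr.ne_zero
      have := congrArg (fun u : ℂˣ => (u : ℂ)) hζ
      simpa using this
    rw [← RCLike.inv_eq_conj hζn]
    simp
  rw [hsum'] at hz'
  -- split `i = 0` and `i ≥ 1`
  rw [Finset.range_eq_Ico, Finset.sum_eq_sum_Ico_succ_bot hr.pos] at hz'
  have h0 : ∑ h : H, Ψ (x ^ 0 * (h : L)) *
      ((((ζ⁻¹ : ℂˣ) : ℂ)) ^ 0 * (conj ((θ h : ℂˣ) : ℂ) - 1)) =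
      (Nat.card H : ℂ) * (classInner b (fun h => ((θ h : ℂˣ) : ℂ)) - classInner b (fun _ => 1)) := by
    unfold classInner
    have hH0 : (Nat.card H : ℂ) ≠ 0 := by
      have : Nat.card H ≠ 0 := Nat.card_pos.ne'
      exact_mod_cast this
    rw [← mul_sub, ← mul_assoc, mul_inv_cancel₀ hH0, one_mul, ← Finset.sum_sub_distrib]
    apply Finset.sum_congr rfl
    intro h _
    rw [pow_zero, pow_zero, one_mul, one_mul, map_one, mul_one]
    by_cases h1 : h = 1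
    · subst h1
      simp [hb1]
    · rw [hb h h1]
      ring
  have h1 : ∑ i ∈ Finset.Ico (0 + 1) r, ∑ h : H, Ψ (x ^ i * (h : L)) *
      ((((ζ⁻¹ : ℂˣ) : ℂ)) ^ i * (conj ((θ h : ℂˣ) : ℂ) - 1)) =
      -(Nat.card H : ℂ) * ∑ i ∈ Finset.Ico 1 r, (p i + n₀) * ((ζ⁻¹ : ℂˣ) : ℂ) ^ i := by
    rw [zero_add, Finset.mul_sum]
    apply Finset.sum_congr rfl
    intro i hi
    rw [Finset.mem_Ico] at hi
    have hndvd : ¬ r ∣ i := fun hd => by
      have := Nat.le_of_dvd (by omega) hd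
      omega
    have h2 : ∀ h : H, Ψ (x ^ i * (h : L)) *
        ((((ζ⁻¹ : ℂˣ) : ℂ)) ^ i * (conj ((θ h : ℂˣ) : ℂ) - 1)) =
        (p i + n₀) * ((ζ⁻¹ : ℂˣ) : ℂ) ^ i * (conj ((θ h : ℂˣ) : ℂ) - 1) := by
      intro h
      rw [hconst i hndvd _ h.2]
      ring
    rw [Finset.sum_congr rfl (fun h _ => h2 h), ← Finset.mul_sum, Finset.sum_sub_distrib,
      sum_hom_conj_eq_zero H θ hθ1]
    simp only [Finset.sum_const, Finset.card_univ, nsmul_eq_mul, mul_one, zero_sub]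
    rw [Nat.card_eq_fintype_card]
    ring
  rw [h0, h1, card_sup_zpowers H x r hr hx hcop] at hz'
  have hH0 : (Nat.card H : ℂ) ≠ 0 := by
    have : Nat.card H ≠ 0 := Nat.card_pos.ne'
    exact_mod_cast this
  have hr0 : (r : ℂ) ≠ 0 := by exact_mod_cast hr.ne_zero
  rw [← hz']
  field_simp
  ring

/-- MODULE [CONG]: the congruences. `Ψ` is a class function of `L` (the Dade restriction of `ν`),
`p i` are the values `ψ (x ^ i)` of a generalized character of `⟨x⟩`. -/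
theorem cong127 (x : L) (r : ℕ) (hr : r.Prime) (hx : orderOf x = r) (hcop : ¬ r ∣ Nat.card H)
    (𝒜 : Set L) (h𝒜conj : ∀ a ∈ 𝒜, ∀ l : L, l * a * l⁻¹ ∈ 𝒜)
    (h𝒜H : ∀ h : L, h ∈ H → h ≠ 1 → h ∈ 𝒜)
    (h𝒜x : ∀ i : ℕ, ¬ r ∣ i → ∀ h : L, h ∈ H → x ^ i * h ∈ 𝒜)
    (Ψ : L → ℂ) (hΨ : IsClassFunction L Ψ)
    (hint : ∀ β : L → ℂ, IsGeneralizedCharacter L β → (∀ l : L, l ∉ 𝒜 → β l = 0) →
      ∃ z : ℤ, classInner β Ψ = z)
    (p : ℕ → ℂ) (e : ℤ) (hp0 : p 0 = e)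
    (hpint : ∀ ζ : ℂˣ, ζ ^ r = 1 →
      ∃ B : ℤ, ∑ i ∈ Finset.range r, p i * ((ζ⁻¹ : ℂˣ) : ℂ) ^ i = (r : ℂ) * B)
    (n₀ : ℂ)
    (hconst : ∀ i : ℕ, ¬ r ∣ i → ∀ h : L, h ∈ H → Ψ (x ^ i * h) = p i + n₀)
    (b : H → ℂ) (hb1 : b 1 = 0) (hb : ∀ h : H, h ≠ 1 → b h = Ψ h)
    (θ : H →* ℂˣ) (hθ1 : θ ≠ 1) (hθ : ∀ h h' : H, (h' : L) = x * h * x⁻¹ → θ h' = θ h) :
    (∃ n : ℤ, n₀ = n) ∧
    ∃ k : ℤ, classInner b (fun h => ((θ h : ℂˣ) : ℂ)) - classInner b (fun _ => 1) =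
      -((e : ℂ) + n₀) + (r : ℂ) * k := by
  set S : ℂ := classInner b (fun h => ((θ h : ℂˣ) : ℂ)) - classInner b (fun _ => 1) with hS
  have hr0 : (r : ℂ) ≠ 0 := by exact_mod_cast hr.ne_zero
  -- the primitive root
  have hprim : IsPrimitiveRoot (Complex.exp (2 * Real.pi * Complex.I / r)) r :=
    Complex.isPrimitiveRoot_exp r hr.ne_zero
  set ω : ℂˣ := Units.mk0 (Complex.exp (2 * Real.pi * Complex.I / r)) (Complex.exp_ne_zero _)
    with hω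
  have hωr : ω ^ r = 1 := by
    apply Units.ext
    simp only [Units.val_pow_eq_pow_val, hω, Units.val_mk0, Units.val_one]
    exact hprim.pow_eq_one
  have hωinv : IsPrimitiveRoot (((ω⁻¹ : ℂˣ) : ℂ)) r := by
    have : ((ω⁻¹ : ℂˣ) : ℂ) = (Complex.exp (2 * Real.pi * Complex.I / r))⁻¹ := by
      simp [hω]
    rw [this]
    exact hprim.inv
  have hgeom : ∑ i ∈ Finset.range r, ((ω⁻¹ : ℂˣ) : ℂ) ^ i = 0 :=
    hωinv.geom_sum_eq_zero hr.one_lt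
  -- the two instances
  obtain ⟨z₁, hz₁⟩ := cong_aux H x r hr hx hcop 𝒜 h𝒜conj h𝒜H h𝒜x Ψ hΨ hint p n₀ hconst b hb1 hb
    θ hθ1 hθ 1 (one_pow r)
  obtain ⟨zω, hzω⟩ := cong_aux H x r hr hx hcop 𝒜 h𝒜conj h𝒜H h𝒜x Ψ hΨ hint p n₀ hconst b hb1 hb
    θ hθ1 hθ ω hωr
  obtain ⟨B₁, hB₁⟩ := hpint 1 (one_pow r)
  obtain ⟨Bω, hBω⟩ := hpint ω hωr
  rw [← hS] at hz₁ hzω
  -- split the sums over `range r`
  rw [Finset.range_eq_Ico, Finset.sum_eq_sum_Ico_succ_bot hr.pos, pow_zero, mul_one, hp0,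
    zero_add] at hB₁ hBω
  rw [Finset.range_eq_Ico, Finset.sum_eq_sum_Ico_succ_bot hr.pos, pow_zero, zero_add] at hgeom
  -- rewrite the sums in the two instances
  have e₁ : ∑ i ∈ Finset.Ico 1 r, (p i + n₀) * (((1 : ℂˣ)⁻¹ : ℂˣ) : ℂ) ^ i =
      ((r : ℂ) * B₁ - e) + ((r : ℂ) - 1) * n₀ := by
    have h1 : ∀ i ∈ Finset.Ico 1 r, (p i + n₀) * (((1 : ℂˣ)⁻¹ : ℂˣ) : ℂ) ^ i =
        p i * (((1 : ℂˣ)⁻¹ : ℂˣ) : ℂ) ^ i + n₀ := by
      intro i _
      simp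
    rw [Finset.sum_congr rfl h1, Finset.sum_add_distrib]
    have h2 : ∑ i ∈ Finset.Ico 1 r, p i * (((1 : ℂˣ)⁻¹ : ℂˣ) : ℂ) ^ i = (r : ℂ) * B₁ - e := by
      rw [← hB₁]; ring
    rw [h2]
    simp only [Finset.sum_const, Nat.card_Ico, nsmul_eq_mul]
    rw [Nat.cast_sub hr.one_lt.le]
    simp
  have eω : ∑ i ∈ Finset.Ico 1 r, (p i + n₀) * ((ω⁻¹ : ℂˣ) : ℂ) ^ i =
      ((r : ℂ) * Bω - e) - n₀ := by
    have h1 : ∀ i ∈ Finset.Ico 1 r, (p i + n₀) * ((ω⁻¹ : ℂˣ) : ℂ) ^ i =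
        p i * ((ω⁻¹ : ℂˣ) : ℂ) ^ i + n₀ * ((ω⁻¹ : ℂˣ) : ℂ) ^ i := by
      intro i _
      ring
    rw [Finset.sum_congr rfl h1, Finset.sum_add_distrib, ← Finset.mul_sum]
    have h2 : ∑ i ∈ Finset.Ico 1 r, p i * ((ω⁻¹ : ℂˣ) : ℂ) ^ i = (r : ℂ) * Bω - e := by
      rw [← hBω]; ring
    have h3 : ∑ i ∈ Finset.Ico 1 r, ((ω⁻¹ : ℂˣ) : ℂ) ^ i = -1 := by
      have := hgeom
      linear_combination this
    rw [h2, h3]
    ring
  rw [e₁] at hz₁
  rw [eω] at hzω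
  -- conclude
  have hn : n₀ = ((zω - z₁ - B₁ + Bω : ℤ) : ℂ) := by
    push_cast
    have h4 : (r : ℂ) * n₀ = (r : ℂ) * ((zω : ℂ) - z₁ - B₁ + Bω) := by
      linear_combination hz₁ - hzω
    exact mul_left_cancel₀ hr0 h4
  refine ⟨⟨_, hn⟩, zω + Bω, ?_⟩
  push_cast
  linear_combination -hzω

end Main

end Cfsg.Agent.Lib.Helper74.PF127
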