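import Cfsg.Agent.Lib.Helper78.CharMore
import Cfsg.Agent.Lib.Helper81.IrrTwist

/-!
# The number of real-valued irreducible characters equals the number of real classes (helper74)

`card_real_irr_eq_card_real_classes` is exactly the statement of S0160.
Proof by column orthogonality: `#real χ = |G|⁻¹ ∑ g, ∑ χ, χ(g)²`.
-/

set_option autoImplicit false

namespace Cfsg.Agent.Lib.Helper74

open Cfsg Cfsg.Agent.Lib.Helper78
open scoped ComplexConjugate

variable {G : Type*} [Group G]

theorem isConj_inv_of_isConj {g h : G} (hc : IsConj g h) (hg : IsConj g g⁻¹) : IsConj h h⁻¹ := by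
  obtain ⟨x, hx⟩ := isConj_iff.mp hc
  have h1 : IsConj g⁻¹ h⁻¹ := isConj_iff.mpr ⟨x, by rw [← hx]; group⟩
  exact (hc.symm.trans hg).trans h1

theorem isConj_inv_iff_of_isConj {g h : G} (hc : IsConj g h) : IsConj g g⁻¹ ↔ IsConj h h⁻¹ :=
  ⟨isConj_inv_of_isConj hc, isConj_inv_of_isConj hc.symm⟩

section finA
variable [Fintype G]

/-- The complex conjugate irreducible character. -/
noncomputable def conjIrrChar (χ : IrrCharacter G) : IrrCharacter G :=
  ⟨fun g => conj ((χ : G → ℂ) g), Cfsg.Agent.Lib.Helper81.isIrrCharacter_conj χ.2⟩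

omit [Fintype G] in
theorem conjIrrChar_eq_self_iff (χ : IrrCharacter G) :
    conjIrrChar χ = χ ↔ ∀ g : G, ((χ : G → ℂ) g).im = 0 := by
  constructor
  · intro h g
    have h1 := congrFun (congrArg Subtype.val h) g
    simp only [conjIrrChar] at h1
    exact Complex.conj_eq_iff_im.mp h1
  · intro h
    apply Subtype.ext
    funext g
    simp only [conjIrrChar]
    exact Complex.conj_eq_iff_im.mpr (h g)

/-- `∑ χ, χ(g)²` is `|C(g)|` if `g` is real and `0` otherwise. -/
theorem sum_irr_sq (g : G) [Decidable (IsConj g g⁻¹)] :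
    ∑ χ : IrrCharacter G, (χ : G → ℂ) g * (χ : G → ℂ) g =
      if IsConj g g⁻¹ then (Nat.card (Subgroup.centralizer ({g} : Set G)) : ℂ) else 0 := by
  have h1 : ∀ χ : IrrCharacter G, (χ : G → ℂ) g = conj ((χ : G → ℂ) g⁻¹) := by
    intro χ
    have h := IsCharacter.inv (IsIrrCharacter.isCharacter χ.2) g⁻¹
    rw [inv_inv] at h
    exact h
  have h2 : ∑ χ : IrrCharacter G, (χ : G → ℂ) g * (χ : G → ℂ) g
      = ∑ χ : IrrCharacter G, (χ : G → ℂ) g * conj ((χ : G → ℂ) g⁻¹) := by
    refine Finset.sum_congr rfl (fun χ _ => ?_)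
    rw [← h1 χ]
  rw [h2]
  by_cases hc : IsConj g g⁻¹
  · rw [if_pos hc, second_orthogonality_of_isConj hc]
  · rw [if_neg hc, second_orthogonality_of_not_isConj hc]

open Classical in
/-- The number of real-valued irreducible characters, as an average over the group. -/
theorem card_real_irr_eq_avg :
    (Nat.card {χ : IrrCharacter G // ∀ g : G, ((χ : G → ℂ) g).im = 0} : ℂ) =
      (Nat.card G : ℂ)⁻¹ * ∑ g : G,
        (if IsConj g g⁻¹ then (Nat.card (Subgroup.centralizer ({g} : Set G)) : ℂ) else 0) := by
  have h1 : ∀ χ : IrrCharacter G,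
      (if (∀ g : G, ((χ : G → ℂ) g).im = 0) then (1 : ℂ) else 0)
        = (Nat.card G : ℂ)⁻¹ * ∑ g : G, (χ : G → ℂ) g * (χ : G → ℂ) g := by
    intro χ
    have h := classInner_irr χ.2 (conjIrrChar χ).2
    have h' : classInner (χ : G → ℂ) ((conjIrrChar χ : IrrCharacter G) : G → ℂ)
        = (Nat.card G : ℂ)⁻¹ * ∑ g : G, (χ : G → ℂ) g * (χ : G → ℂ) g := by
      unfold classInner
      congr 1
      refine Finset.sum_congr rfl (fun g _ => ?_)
      simp [conjIrrChar]
    rw [← h', h]
    by_cases hr : ∀ g : G, ((χ : G → ℂ) g).im = 0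
    · rw [if_pos hr, if_pos]
      exact (congrArg Subtype.val ((conjIrrChar_eq_self_iff χ).mpr hr)).symm
    · rw [if_neg hr, if_neg]
      intro heq
      apply hr
      apply (conjIrrChar_eq_self_iff χ).mp
      exact Subtype.ext heq.symm
  rw [Nat.card_eq_fintype_card, Fintype.card_subtype]
  rw [← Finset.sum_boole]
  simp only [h1]
  rw [← Finset.mul_sum, Finset.sum_comm]
  simp only [sum_irr_sq]


end finA

/-- A class is real iff one (any) of its elements is conjugate to its inverse. -/
theorem real_class_iff (g : G) :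
    (∀ x : G, ConjClasses.mk x = ConjClasses.mk g → IsConj x x⁻¹) ↔ IsConj g g⁻¹ := by
  constructor
  · intro h; exact h g rfl
  · intro h x hx
    have hc : IsConj g x := (ConjClasses.mk_eq_mk_iff_isConj.mp hx).symm
    exact isConj_inv_of_isConj hc h

section finB
variable [Fintype G]

open Classical in
/-- Summing `|C(g)|` over a conjugacy class gives `|G|`. -/
theorem sum_card_centralizer_class (g : G) :
    ∑ x ∈ Finset.univ.filter (fun x : G => ConjClasses.mk x = ConjClasses.mk g),
      (Nat.card (Subgroup.centralizer ({x} : Set G)) : ℂ) = (Nat.card G : ℂ) := by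
  have h1 : ∀ x ∈ Finset.univ.filter (fun x : G => ConjClasses.mk x = ConjClasses.mk g),
      (Nat.card (Subgroup.centralizer ({x} : Set G)) : ℂ)
        = (Nat.card (Subgroup.centralizer ({g} : Set G)) : ℂ) := by
    intro x hx
    simp only [Finset.mem_filter, Finset.mem_univ, true_and] at hx
    rw [card_centralizer_eq_of_isConj (ConjClasses.mk_eq_mk_iff_isConj.mp hx)]
  rw [Finset.sum_congr rfl h1, Finset.sum_const, nsmul_eq_mul]
  have h2 : (Finset.univ.filter (fun x : G => ConjClasses.mk x = ConjClasses.mk g)).card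
      = (Subgroup.centralizer ({g} : Set G)).index := by
    rw [← card_isConj_eq_index g]
    congr 1
    ext x
    simp only [Finset.mem_filter, Finset.mem_univ, true_and]
    rw [ConjClasses.mk_eq_mk_iff_isConj]
    exact isConj_comm
  rw [h2, mul_comm]
  exact_mod_cast (Subgroup.centralizer ({g} : Set G)).card_mul_index

open Classical in
/-- Class-side count of real classes. -/
theorem sum_real_card_centralizer :
    ∑ g : G, (if IsConj g g⁻¹ then (Nat.card (Subgroup.centralizer ({g} : Set G)) : ℂ) else 0)
      = (Nat.card G : ℂ) *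
        (Nat.card {C : ConjClasses G // ∀ g : G, ConjClasses.mk g = C → IsConj g g⁻¹} : ℂ) := by
  rw [← Finset.sum_fiberwise (s := Finset.univ) (g := (ConjClasses.mk : G → ConjClasses G))]
  have h1 : ∀ C : ConjClasses G,
      ∑ x ∈ Finset.univ.filter (fun x : G => ConjClasses.mk x = C),
        (if IsConj x x⁻¹ then (Nat.card (Subgroup.centralizer ({x} : Set G)) : ℂ) else 0)
      = if (∀ g : G, ConjClasses.mk g = C → IsConj g g⁻¹) then (Nat.card G : ℂ) else 0 := by
    intro C
    obtain ⟨g, rfl⟩ := ConjClasses.mk_surjective C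
    by_cases hg : IsConj g g⁻¹
    · rw [if_pos ((real_class_iff g).mpr hg), ← sum_card_centralizer_class g]
      refine Finset.sum_congr rfl (fun x hx => ?_)
      simp only [Finset.mem_filter, Finset.mem_univ, true_and] at hx
      rw [if_pos ((real_class_iff g).mpr hg x hx)]
    · rw [if_neg (fun h => hg ((real_class_iff g).mp h))]
      apply Finset.sum_eq_zero
      intro x hx
      simp only [Finset.mem_filter, Finset.mem_univ, true_and] at hx
      rw [if_neg]
      intro hx'
      apply hg
      exact isConj_inv_of_isConj (ConjClasses.mk_eq_mk_iff_isConj.mp hx) hx'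
  simp only [h1]
  rw [Finset.sum_ite, Finset.sum_const_zero, add_zero, Finset.sum_const, nsmul_eq_mul, mul_comm]
  congr 1
  rw [Nat.card_eq_fintype_card, Fintype.card_subtype]


end finB

/-- A finite group has as many real-valued irreducible characters as real conjugacy classes
(statement S0160). -/
theorem card_real_irr_eq_card_real_classes [Finite G] :
    Nat.card {χ : Cfsg.IrrCharacter G // ∀ g : G, ((χ : G → ℂ) g).im = 0} =
      Nat.card {C : ConjClasses G // ∀ g : G, ConjClasses.mk g = C → IsConj g g⁻¹} := by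
  have := Fintype.ofFinite G
  have hcard : (Nat.card G : ℂ) ≠ 0 := by
    have : Nat.card G ≠ 0 := Nat.card_pos.ne'
    exact_mod_cast this
  have h := card_real_irr_eq_avg (G := G)
  rw [sum_real_card_centralizer, ← mul_assoc, inv_mul_cancel₀ hcard, one_mul] at h
  exact_mod_cast h

end Cfsg.Agent.Lib.Helper74
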