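import Cfsg.Agent.Lib.Helper74.TIFNStar
import Cfsg.Agent.Lib.Helper79.Integrality
import Cfsg.Agent.Lib.Helper75.IndNormal

set_option autoImplicit false
set_option linter.unusedSectionVars false

namespace Cfsg.Agent.Lib.Helper74

open Cfsg Cfsg.Agent.Lib.Helper78 Cfsg.Agent.Lib.Helper75
open scoped ComplexConjugate

universe u

section Arith

variable (H : Type u) [Group H] [Fintype H]

theorem charDegree_one_fun : charDegree (fun _ : H => (1 : ℂ)) = 1 := by
  have h := IsCharacter.apply_one_eq_charDegree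
    (IsIrrCharacter.isCharacter (isIrrCharacter_one (G := H)))
  have h' : ((1 : ℕ) : ℂ) = (charDegree (fun _ : H => (1 : ℂ)) : ℂ) := by
    rw [← h]; simp
  exact (Nat.cast_injective h').symm

/-- a rational number whose products with all nonprincipal irreducible degrees are integers is an
integer (the group being nontrivial) -/
theorem rat_isInt_of_forall_mul_degree (q : ℚ)
    (h : ∀ φ : IrrCharacter H, (φ : H → ℂ) ≠ (fun _ => 1) →
      ∃ n : ℤ, q * (charDegree (φ : H → ℂ) : ℚ) = n)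
    (φ₀ : IrrCharacter H) (hφ₀ : (φ₀ : H → ℂ) ≠ fun _ => 1) : ∃ m : ℤ, q = m := by
  classical
  let one' : IrrCharacter H := ⟨fun _ => 1, isIrrCharacter_one⟩
  have hsum := sum_irr_charDegree_sq (G := H)
  rw [← Finset.add_sum_erase Finset.univ _ (Finset.mem_univ one')] at hsum
  have h1 : charDegree (one' : H → ℂ) = 1 := charDegree_one_fun H
  rw [h1] at hsum
  -- `q * (|H| - 1)` is an integer
  have hne : ∀ φ ∈ Finset.univ.erase one', ((φ : IrrCharacter H) : H → ℂ) ≠ fun _ => 1 := by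
    intro φ hφ h'
    exact (Finset.ne_of_mem_erase hφ) (Subtype.ext h')
  choose! n hn using h
  have hA : q * ((∑ φ ∈ Finset.univ.erase one', charDegree (φ : H → ℂ) ^ 2 : ℕ) : ℚ) =
      ((∑ φ ∈ Finset.univ.erase one', n φ * (charDegree (φ : H → ℂ) : ℤ) : ℤ) : ℚ) := by
    push_cast
    rw [Finset.mul_sum]
    apply Finset.sum_congr rfl
    intro φ hφ
    rw [← hn φ (hne φ hφ)]
    ring
  obtain ⟨t, ht⟩ := Cfsg.Agent.Lib.Helper79.irr_charDegree_dvd_card φ₀
  have hB : q * (Nat.card H : ℚ) = ((n φ₀ * (t : ℤ) : ℤ) : ℚ) := by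
    rw [ht]
    push_cast
    rw [← hn φ₀ hφ₀]
    ring
  refine ⟨n φ₀ * (t : ℤ) - ∑ φ ∈ Finset.univ.erase one', n φ * (charDegree (φ : H → ℂ) : ℤ), ?_⟩
  rw [Int.cast_sub, ← hA, ← hB, ← hsum]
  push_cast
  ring

end Arith

section TIFN

variable {G : Type u} [Group G] [Fintype G] {K : Subgroup G}

local notation "NK" => Subgroup.normalizer (K : Set G)

variable [Fintype ↥(Subgroup.normalizer (K : Set G))]

/-- a nonprincipal irreducible character of `K` induces to a relevant character of `N` -/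
theorem indFun_mem_tifnS
    (hC : ∀ k ∈ K, k ≠ 1 → Subgroup.centralizer ({k} : Set G) ≤ K)
    {φ : ↥(K.subgroupOf NK) → ℂ} (hφ : IsIrrCharacter ↥(K.subgroupOf NK) φ)
    (hφ1 : φ ≠ fun _ => 1) : indFun (K.subgroupOf NK) φ ∈ tifnS K := by
  classical
  haveI : Fintype ↥(K.subgroupOf NK) := Fintype.ofFinite _
  refine ⟨isIrrCharacter_indFun_of_centralizer_le (K.subgroupOf NK) (tifn_centralizer_le hC)
    hφ hφ1, ?_⟩
  by_contra hcon
  push Not at hcon
  have hconst : ∀ a : ↥(K.subgroupOf NK), φ a = φ 1 := by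
    intro a
    apply eq_of_indFun_eq (K.subgroupOf NK) (IsIrrCharacter.isCharacter hφ) a
    exact hcon (a : ↥NK) (Subgroup.mem_subgroupOf.mp a.2)
  have h0 := classInner_irr_ne hφ isIrrCharacter_one hφ1
  have hd := IsIrrCharacter.charDegree_pos hφ
  have h1 : classInner φ (fun _ => (1 : ℂ)) = φ 1 := by
    unfold classInner
    simp only [map_one, mul_one, hconst, Finset.sum_const, Finset.card_univ, nsmul_eq_mul]
    rw [← Nat.card_eq_fintype_card]
    have : (Nat.card ↥(K.subgroupOf NK) : ℂ) ≠ 0 := by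
      exact_mod_cast (Nat.card_pos (α := ↥(K.subgroupOf NK))).ne'
    field_simp
  rw [h1, IsCharacter.apply_one_eq_charDegree (IsIrrCharacter.isCharacter hφ)] at h0
  have : (charDegree φ : ℂ) ≠ 0 := by exact_mod_cast hd.ne'
  exact this h0

theorem charDegree_indFun_subgroupOf
    {φ : ↥(K.subgroupOf NK) → ℂ} (hφ : IsCharacter ↥(K.subgroupOf NK) φ) :
    (charDegree (indFun (K.subgroupOf NK) φ) : ℂ) =
      ((K.subgroupOf NK).index : ℂ) * (charDegree φ : ℂ) := by
  rw [← IsCharacter.apply_one_eq_charDegree (Cfsg.Agent.S0148.result _ φ hφ), indFun_one,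
    IsCharacter.apply_one_eq_charDegree hφ]

end TIFN

end Cfsg.Agent.Lib.Helper74
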