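import Mathlib
import Cfsg.Agent.S0148
import Cfsg.Agent.Lib.Helper15.PermChar
import Cfsg.Agent.Lib.Helper77.Linear
import Cfsg.Agent.Lib.Helper74.FrobTI

set_option autoImplicit false

namespace Cfsg.Agent.Lib.Helper74

open Cfsg Cfsg.Agent.Lib.Helper78 Cfsg.Agent.Lib.Helper75
open scoped ComplexConjugate

universe u

section Taketa

variable {G : Type u} [Group G] [Fintype G]

/-- If `θ` is constant (`= θ 1`) on the part of `H` inside a normal subgroup `D ≤ H`, then the
induced function takes its value at `1` on all of `D`. -/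
theorem indFun_eq_of_mem_normal (H : Subgroup G) (θ : H → ℂ) (D : Subgroup G) [hD : D.Normal]
    (hDH : D ≤ H) (hθ : ∀ h : H, (h : G) ∈ D → θ h = θ 1) {g : G} (hg : g ∈ D) :
    indFun H θ g = indFun H θ 1 := by
  unfold indFun
  congr 1
  apply Finset.sum_congr rfl
  intro x _
  have hmem : x⁻¹ * g * x ∈ D := by
    have := hD.conj_mem g hg x⁻¹
    rwa [inv_inv] at this
  rw [extendByZero_of_mem H θ (hDH hmem), hθ ⟨_, hDH hmem⟩ hmem]
  have h1 : x⁻¹ * 1 * x = ((1 : H) : G) := by simp
  rw [h1, extendByZero_coe]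

/-- The kernel of the permutation character `(1_H)^G` lies in `H`. -/
theorem mem_of_indFun_one_eq (H : Subgroup G) {g : G}
    (hg : indFun H (fun _ => (1 : ℂ)) g = indFun H (fun _ => (1 : ℂ)) 1) : g ∈ H := by
  classical
  rw [Cfsg.Agent.Lib.Helper15.indFun_one_eq_card_fixed,
    Cfsg.Agent.Lib.Helper15.indFun_one_eq_card_fixed] at hg
  have hg' : Nat.card {q : G ⧸ H // g • q = q} = Nat.card {q : G ⧸ H // (1 : G) • q = q} := by
    exact_mod_cast hg
  have h1 : Nat.card {q : G ⧸ H // (1 : G) • q = q} = Nat.card (G ⧸ H) := by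
    apply Nat.card_congr
    exact Equiv.subtypeUnivEquiv (fun q => one_smul G q)
  rw [h1] at hg'
  -- every coset is fixed
  have hall : ∀ q : G ⧸ H, g • q = q := by
    by_contra hne
    push Not at hne
    obtain ⟨q, hq⟩ := hne
    have hlt : Nat.card {q : G ⧸ H // g • q = q} < Nat.card (G ⧸ H) := by
      rw [Nat.card_eq_fintype_card, Nat.card_eq_fintype_card]
      exact Fintype.card_subtype_lt hq
    omega
  have := hall ((1 : G) : G ⧸ H)
  rw [MulAction.Quotient.smul_mk, eq_comm, QuotientGroup.eq] at this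
  simpa using this

end Taketa

end Cfsg.Agent.Lib.Helper74
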