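import Mathlib
import Cfsg.Prelude.Def_OddOrderChar
import Cfsg.Prelude.Def_OddOrderLocal
import Cfsg.Prelude.Def_Transfer
import Cfsg.Agent.Lib.Helper74.TIFN
import Cfsg.Agent.Lib.Helper74.TIFNInt
import Cfsg.Agent.Lib.Helper74.SibleySetup
import Cfsg.Agent.Lib.Helper74.SibleyExc
import Cfsg.Agent.Lib.Helper52.TIFNBasic
import Cfsg.Agent.Lib.Helper25.FrobOdd
import Cfsg.Agent.Lib.Helper25.FrobKernel
import Cfsg.Agent.S1535

/-!
# The Feit–Sibley coherence theorem for TI subgroups with Frobenius normaliser (helper74)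

`K ≤ G` a nontrivial TI-subgroup, `K < N = N_G(K)`, `C_G(k) ≤ K` for `1 ≠ k ∈ K`; `e = [N:K]`,
`S = tifnS K` the irreducible characters of `N` nontrivial on `K`.  `tifn_coherence` (= the
statement of `S1534`, with Sibley's theorem `S1524` as a hypothesis): one of
* `|S| = 1`, `|K| = e + 1`, `K` elementary abelian;
* `K` is a Sylow `2`-subgroup of `G` and `[K:K'] < 4e²`;
* `(S, N ∖ 1, Ind)` is coherent.
-/

set_option autoImplicit false
set_option linter.unusedSectionVars false
set_option linter.style.haveILetI false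

namespace Cfsg.Agent.Lib.Helper74

open Cfsg Cfsg.Agent.Lib.Helper78 Cfsg.Agent.Lib.Helper75

universe u

section Orbit

variable {X : Type u} [Group X] [Finite X]

/-- orbit–stabiliser for the conjugation action, with the centraliser -/
theorem ncard_orbit_conjAct_mul_card_centralizer (a : X) :
    (MulAction.orbit (ConjAct X) a).ncard * Nat.card (Subgroup.centralizer ({a} : Set X)) =
      Nat.card X := by
  rw [← MulAction.index_stabilizer, Subgroup.nat_card_centralizer_nat_card_stabilizer,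
    mul_comm, Subgroup.card_mul_index]
  rfl

/-- **Sharply transitive Frobenius kernels.**  If `H ⊴ X` contains the centralisers of its
non-identity elements and `|H| = [X:H] + 1`, then `H` is abelian and `X` is transitive on `H ∖ {1}`. -/
theorem comm_and_conj_of_card_eq_index_succ (H : Subgroup X) [hHn : H.Normal]
    (hC : ∀ h ∈ H, h ≠ 1 → Subgroup.centralizer ({h} : Set X) ≤ H)
    (hcard : Nat.card H = H.index + 1) :
    (∀ a ∈ H, ∀ b ∈ H, a * b = b * a) ∧
      (∀ a ∈ H, a ≠ 1 → ∀ b ∈ H, b ≠ 1 → ∃ x : X, x * a * x⁻¹ = b) := by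
  classical
  have key : ∀ a ∈ H, a ≠ 1 → Subgroup.centralizer ({a} : Set X) = H ∧
      MulAction.orbit (ConjAct X) a = (H : Set X) \ {1} := by
    intro a ha ha1
    have hsub : MulAction.orbit (ConjAct X) a ⊆ (H : Set X) \ {1} := by
      rintro _ ⟨g, rfl⟩
      show g • a ∈ (H : Set X) \ {1}
      rw [ConjAct.smul_def]
      refine ⟨hHn.conj_mem a ha _, ?_⟩
      rw [Set.mem_singleton_iff]
      intro h
      apply ha1
      have := congrArg (fun z => (ConjAct.ofConjAct g)⁻¹ * z * ConjAct.ofConjAct g) h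
      simpa [mul_assoc] using this
    have hfin : ((H : Set X) \ {1}).Finite := Set.toFinite _
    have hn1 : ((H : Set X) \ {1}).ncard = H.index := by
      rw [Set.ncard_sdiff (by simp) (Set.toFinite _), Set.ncard_singleton]
      have : (H : Set X).ncard = Nat.card H := by
        rw [← Nat.card_coe_set_eq]; rfl
      rw [this, hcard]
      simp
    have hle1 : (MulAction.orbit (ConjAct X) a).ncard ≤ H.index := by
      rw [← hn1]
      exact Set.ncard_le_ncard hsub hfin
    have hle2 : Nat.card (Subgroup.centralizer ({a} : Set X)) ≤ Nat.card H :=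
      Subgroup.card_le_of_le (hC a ha ha1)
    have hprod := ncard_orbit_conjAct_mul_card_centralizer a
    have hprod2 : H.index * Nat.card H = Nat.card X := by
      rw [mul_comm]; exact H.card_mul_index
    have hpos : 0 < H.index := Nat.pos_of_ne_zero H.index_ne_zero_of_finite
    have hposH : 0 < Nat.card H := Nat.card_pos
    have hcpos : 0 < Nat.card (Subgroup.centralizer ({a} : Set X)) := Nat.card_pos
    have hopos : 0 < (MulAction.orbit (ConjAct X) a).ncard := by
      by_contra h0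
      have : (MulAction.orbit (ConjAct X) a).ncard = 0 := by omega
      rw [this, zero_mul] at hprod
      have : 0 < Nat.card X := Nat.card_pos
      omega
    have heq1 : (MulAction.orbit (ConjAct X) a).ncard = H.index := by
      by_contra hne
      have hlt : (MulAction.orbit (ConjAct X) a).ncard < H.index := lt_of_le_of_ne hle1 hne
      have : (MulAction.orbit (ConjAct X) a).ncard * Nat.card (Subgroup.centralizer ({a} : Set X))
          < H.index * Nat.card H :=
        Nat.mul_lt_mul_of_lt_of_le hlt hle2 hposH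
      omega
    have heq2 : Nat.card (Subgroup.centralizer ({a} : Set X)) = Nat.card H := by
      rw [heq1, ← hprod2] at hprod
      exact Nat.eq_of_mul_eq_mul_left hpos hprod
    refine ⟨Subgroup.eq_of_le_of_card_ge (hC a ha ha1) heq2.ge, ?_⟩
    exact Set.eq_of_subset_of_ncard_le hsub (by rw [hn1, heq1]) hfin
  constructor
  · intro a ha b hb
    by_cases ha1 : a = 1
    · rw [ha1, one_mul, mul_one]
    · have hb' : b ∈ Subgroup.centralizer ({a} : Set X) := by rw [(key a ha ha1).1]; exact hb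
      rw [Subgroup.mem_centralizer_singleton_iff] at hb'
      exact hb'.symm
  · intro a ha ha1 b hb hb1
    have hb' : b ∈ MulAction.orbit (ConjAct X) a := by
      rw [(key a ha ha1).2]
      exact ⟨hb, by simpa using hb1⟩
    obtain ⟨g, hg⟩ := hb'
    have hg' : g • a = b := hg
    exact ⟨ConjAct.ofConjAct g, by rw [← hg', ConjAct.smul_def]⟩

end Orbit

section Small

variable {G : Type u} [Group G] [Fintype G] (K : Subgroup G)

local notation "NK" => Subgroup.normalizer (K : Set G)

variable [Fintype ↥(Subgroup.normalizer (K : Set G))]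

/-- the small case `|K| = e + 1` of the Feit–Sibley theorem: exactly one relevant character, and
`K` is elementary abelian -/
theorem tifn_small_case (hK1 : K ≠ ⊥)
    (hC : ∀ k ∈ K, k ≠ 1 → Subgroup.centralizer ({k} : Set G) ≤ K)
    (hcard : Nat.card K = (K.subgroupOf NK).index + 1) :
    Nat.card {χ : ↥NK → ℂ // IsIrrCharacter ↥NK χ ∧
        ∃ k : ↥NK, (k : G) ∈ K ∧ χ k ≠ χ 1} = 1 ∧
      ∃ p : ℕ, p.Prime ∧ IsElementaryAbelian p K := by
  classical
  have hle : K ≤ NK := Subgroup.le_normalizer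
  have hC' := tifn_centralizer_le hC
  have hcardH : Nat.card (K.subgroupOf NK) = Nat.card K :=
    Nat.card_congr (Subgroup.subgroupOfEquivOfLe hle).toEquiv
  obtain ⟨hab', hconj'⟩ := comm_and_conj_of_card_eq_index_succ (K.subgroupOf NK) hC'
    (by rw [hcardH]; exact hcard)
  have hab : ∀ a ∈ K, ∀ b ∈ K, a * b = b * a := by
    intro a ha b hb
    have := hab' ⟨a, hle ha⟩ (Subgroup.mem_subgroupOf.mpr ha) ⟨b, hle hb⟩
      (Subgroup.mem_subgroupOf.mpr hb)
    exact congrArg Subtype.val this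
  refine ⟨?_, ?_⟩
  · have h1 := Cfsg.Agent.Lib.Helper52.card_relChar_mul_index (K := K) hC hab
    have he0 : 0 < (K.subgroupOf NK).index := Nat.pos_of_ne_zero Subgroup.index_ne_zero_of_finite
    have h2 : Nat.card (Cfsg.Agent.Lib.Helper52.RelChar K) = 1 := by
      rw [hcard] at h1
      have h3 : Nat.card (Cfsg.Agent.Lib.Helper52.RelChar K) * (K.subgroupOf NK).index =
          1 * (K.subgroupOf NK).index := by omega
      exact Nat.eq_of_mul_eq_mul_right he0 h3
    rw [← h2]
    exact Nat.card_congr (Equiv.subtypeSubtypeEquivSubtypeInter _ _).symm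
  · have hK1' : Nat.card K ≠ 1 := fun h => hK1 (Subgroup.card_eq_one.mp h)
    have hp : (Nat.card K).minFac.Prime := Nat.minFac_prime hK1'
    haveI : Fact (Nat.card K).minFac.Prime := ⟨hp⟩
    obtain ⟨a, ha⟩ := exists_prime_orderOf_dvd_card' (G := K) (Nat.card K).minFac
      (Nat.minFac_dvd _)
    have ha1 : (a : G) ≠ 1 := by
      intro h
      have : a = 1 := Subtype.ext h
      rw [this, orderOf_one] at ha
      exact hp.one_lt.ne ha
    have hap : (a : G) ^ (Nat.card K).minFac = 1 := by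
      have := pow_orderOf_eq_one a
      rw [ha] at this
      exact_mod_cast congrArg Subtype.val this
    refine ⟨_, hp, ⟨⟨fun x y => Subtype.ext (hab x x.2 y y.2)⟩⟩, ?_⟩
    intro b hb
    by_cases hb1 : b = 1
    · rw [hb1, one_pow]
    · obtain ⟨x, hx⟩ := hconj' ⟨a, hle a.2⟩ (Subgroup.mem_subgroupOf.mpr a.2)
        (fun h => ha1 (congrArg Subtype.val h)) ⟨b, hle hb⟩ (Subgroup.mem_subgroupOf.mpr hb)
        (fun h => hb1 (congrArg Subtype.val h))
      have hx' : (x : G) * a * (x : G)⁻¹ = b := congrArg Subtype.val hx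
      rw [← hx', conj_pow, hap, mul_one, mul_inv_cancel]

end Small

section Main

variable {G : Type u} [Group G] [Fintype G] (K : Subgroup G)

local notation "NK" => Subgroup.normalizer (K : Set G)

variable [Fintype ↥(Subgroup.normalizer (K : Set G))]

/-- the relevant characters are exactly the functions induced from the nonprincipal irreducible
characters of `K` -/
theorem inducedIrrAbove_eq_tifnS
    (hC : ∀ k ∈ K, k ≠ 1 → Subgroup.centralizer ({k} : Set G) ≤ K) :
    inducedIrrAbove (K.subgroupOf NK) ⊥ = tifnS K := by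
  ext χ
  rw [mem_inducedIrrAbove_bot_iff]
  constructor
  · rintro ⟨θ, hθ, hθ1, rfl⟩
    exact indFun_mem_tifnS hC hθ hθ1
  · intro hχ
    obtain ⟨φ, hφ, rfl⟩ := tifnS_exists_eq_indFun hC hχ
    refine ⟨φ, hφ, ?_, rfl⟩
    rintro rfl
    have h0 := tifnS_classInner_one hχ
    have h1 := Cfsg.Agent.Lib.Helper52.classInner_rhoK_one (K := K)
    unfold Cfsg.Agent.Lib.Helper52.rhoK at h1
    rw [show ((1 : ↥NK → ℂ)) = fun _ => (1 : ℂ) from rfl] at h0
    rw [h0] at h1
    exact zero_ne_one h1

theorem tifn_subgroupOf_ne_top (hlt : K < NK) : K.subgroupOf NK ≠ ⊤ := by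
  intro h
  rw [Subgroup.subgroupOf_eq_top] at h
  exact not_le_of_gt hlt h

/-- the exceptional case of `S1535` with `|K|` odd: Sibley's theorem applies -/
theorem tifn_coherent_of_odd_exc (hlt : K < NK)
    (hC : ∀ k ∈ K, k ≠ 1 → Subgroup.centralizer ({k} : Set G) ≤ K)
    (hSib : ∀ W₁ : Subgroup G, Odd (Nat.card ↥NK) → W₁ ≤ NK → W₁ ≠ ⊥ → K ⊓ W₁ = ⊥ →
      K ⊔ W₁ = NK → (∀ w ∈ W₁, w ≠ 1 → ∀ h ∈ K, w * h = h * w → h = 1) →
      IsCoherent (inducedIrrAbove (K.subgroupOf NK) ⊥) {1}ᶜ
        (fun α : ↥NK → ℂ => indFun NK α))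
    (hodd : Odd (Nat.card K)) (hna : ¬ IsMulCommutative (K.subgroupOf NK)) :
    IsCoherent (tifnS K) {1}ᶜ (fun α : ↥NK → ℂ => indFun NK α) := by
  have hle : K ≤ NK := Subgroup.le_normalizer
  have hC' := tifn_centralizer_le hC
  have hcardH : Nat.card (K.subgroupOf NK) = Nat.card K :=
    Nat.card_congr (Subgroup.subgroupOfEquivOfLe hle).toEquiv
  have hna' : ¬ ∀ a ∈ K.subgroupOf NK, ∀ b ∈ K.subgroupOf NK, a * b = b * a := by
    intro h
    exact hna ⟨⟨fun x y => Subtype.ext (h x x.2 y y.2)⟩⟩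
  have hoddN : Odd (Nat.card ↥NK) :=
    Cfsg.Agent.Lib.Helper25.FrobOdd.odd_card_of_not_comm (K.subgroupOf NK) hC'
      (by rw [hcardH]; exact hodd) hna'
  have hcop := Cfsg.Agent.Lib.Helper25.FrobKernel.coprime_card_index (K.subgroupOf NK) hC'
  obtain ⟨E, hE⟩ := Subgroup.exists_right_complement'_of_coprime hcop
  have hinfE : K.subgroupOf NK ⊓ E = ⊥ := disjoint_iff.mp (Subgroup.IsComplement'.disjoint hE)
  have hsupE : K.subgroupOf NK ⊔ E = ⊤ := Subgroup.IsComplement'.sup_eq_top hE
  have hinf : K ⊓ E.map (Subgroup.subtype NK) = ⊥ := by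
    rw [eq_bot_iff]
    rintro x ⟨hxK, y, hyE, rfl⟩
    have : y ∈ K.subgroupOf NK ⊓ E := ⟨Subgroup.mem_subgroupOf.mpr hxK, hyE⟩
    rw [hinfE, Subgroup.mem_bot] at this
    rw [this]
    exact Subgroup.one_mem _
  rw [← inducedIrrAbove_eq_tifnS K hC]
  apply hSib (E.map (Subgroup.subtype NK)) hoddN (Subgroup.map_subtype_le E)
  · intro h
    rw [Subgroup.map_eq_bot_iff_of_injective _ (Subgroup.subtype_injective _)] at h
    rw [h, sup_bot_eq] at hsupE
    exact tifn_subgroupOf_ne_top K hlt hsupE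
  · exact hinf
  · have h1 : K ⊔ E.map (Subgroup.subtype NK) =
        (K.subgroupOf NK).map (Subgroup.subtype NK) ⊔ E.map (Subgroup.subtype NK) := by
      rw [Subgroup.map_subgroupOf_eq_of_le hle]
    rw [h1, ← Subgroup.map_sup, hsupE, ← MonoidHom.range_eq_map, Subgroup.range_subtype]
  · intro w hw hw1 h hh hwh
    by_contra hh1
    have hwK : w ∈ K := by
      apply hC h hh hh1
      rw [Subgroup.mem_centralizer_singleton_iff]
      exact hwh
    have : w ∈ K ⊓ E.map (Subgroup.subtype NK) := ⟨hwK, hw⟩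
    rw [hinf, Subgroup.mem_bot] at this
    exact hw1 this

/-- the exceptional case of `S1535` with `|K|` even: `K` is a Sylow `2`-subgroup and
`[K:K'] < 4e²` -/
theorem tifn_sylow_of_even_exc (hK1 : K ≠ ⊥) (hlt : K < NK)
    (hC : ∀ k ∈ K, k ≠ 1 → Subgroup.centralizer ({k} : Set G) ≤ K)
    (m : ℕ) (hm : Nat.card K = 2 ^ m)
    (hidx : (⁅K, K⁆.subgroupOf K).index ≤ 4 * (K.subgroupOf NK).index ^ 2 + 1) :
    Nat.card K = 2 ^ (Nat.card G).factorization 2 ∧
      (⁅K, K⁆.subgroupOf K).index < 4 * (K.subgroupOf NK).index ^ 2 := by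
  have hle : K ≤ NK := Subgroup.le_normalizer
  have hC' := tifn_centralizer_le hC
  have hcardH : Nat.card (K.subgroupOf NK) = Nat.card K :=
    Nat.card_congr (Subgroup.subgroupOfEquivOfLe hle).toEquiv
  haveI : Fact (Nat.Prime 2) := ⟨Nat.prime_two⟩
  have hm0 : m ≠ 0 := by
    rintro rfl
    rw [pow_zero] at hm
    exact hK1 (Subgroup.card_eq_one.mp hm)
  have hcop := Cfsg.Agent.Lib.Helper25.FrobKernel.coprime_card_index (K.subgroupOf NK) hC'
  rw [hcardH, hm] at hcop
  have hodd : ¬ 2 ∣ (K.subgroupOf NK).index := by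
    intro h2
    have := Nat.dvd_gcd (dvd_pow_self 2 hm0) h2
    rw [hcop.gcd_eq_one] at this
    exact absurd (Nat.dvd_one.mp this) (by norm_num)
  set e := (K.subgroupOf NK).index with he
  have he1 : e ≠ 1 := by
    intro h
    rw [he, Subgroup.index_eq_one] at h
    exact tifn_subgroupOf_ne_top K hlt h
  have he0 : e ≠ 0 := Subgroup.index_ne_zero_of_finite
  constructor
  · obtain ⟨P, hP⟩ := exists_sylow_eq_of_not_dvd_index 2 K (IsPGroup.of_card hm) hodd
    rw [← hP]
    exact P.card_eq_multiplicity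
  · have hdvd : (⁅K, K⁆.subgroupOf K).index ∣ 2 ^ m := by
      rw [← hm]
      exact Subgroup.index_dvd_card _
    obtain ⟨j, -, hj⟩ := (Nat.dvd_prime_pow Nat.prime_two).mp hdvd
    rw [hj] at hidx ⊢
    rcases Nat.lt_or_ge (2 ^ j) (4 * e ^ 2) with h | h
    · exact h
    · exfalso
      rcases Nat.eq_or_lt_of_le h with heq | hlt'
      · -- `2^j = 4e²`: `e` is a power of two, hence `1`
        have hed : e ∣ 2 ^ j := by
          rw [← heq]
          exact Dvd.intro_left (4 * e) (by ring)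
        obtain ⟨i, -, hi⟩ := (Nat.dvd_prime_pow Nat.prime_two).mp hed
        rcases Nat.eq_zero_or_pos i with rfl | hipos
        · rw [pow_zero] at hi; exact he1 hi
        · apply hodd
          rw [hi]
          exact dvd_pow_self 2 hipos.ne'
      · -- `2^j = 4e² + 1` is odd
        have heq : 2 ^ j = 4 * e ^ 2 + 1 := by omega
        rcases Nat.eq_zero_or_pos j with rfl | hjpos
        · rw [pow_zero] at heq
          have : e ^ 2 = 0 := by omega
          exact he0 (pow_eq_zero_iff (by norm_num) |>.mp this)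
        · have h2 : 2 ∣ 2 ^ j := dvd_pow_self 2 hjpos.ne'
          rw [heq] at h2
          omega

/-- **Feit–Sibley coherence theorem** (statement `S1534`), with Sibley's theorem (`S1524`) as the
hypothesis `hSib`. -/
theorem tifn_coherence (hK1 : K ≠ ⊥) (hTI : IsTISubset (K : Set G)) (hlt : K < NK)
    (hC : ∀ k ∈ K, k ≠ 1 → Subgroup.centralizer ({k} : Set G) ≤ K)
    (hSib : ∀ W₁ : Subgroup G, Odd (Nat.card ↥NK) → W₁ ≤ NK → W₁ ≠ ⊥ → K ⊓ W₁ = ⊥ →
      K ⊔ W₁ = NK → (∀ w ∈ W₁, w ≠ 1 → ∀ h ∈ K, w * h = h * w → h = 1) →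
      IsCoherent (inducedIrrAbove (K.subgroupOf NK) ⊥) {1}ᶜ
        (fun α : ↥NK → ℂ => indFun NK α)) :
    (Nat.card {χ : ↥NK → ℂ // IsIrrCharacter ↥NK χ ∧
        ∃ k : ↥NK, (k : G) ∈ K ∧ χ k ≠ χ 1} = 1 ∧
      Nat.card K = (K.subgroupOf NK).index + 1 ∧ ∃ p : ℕ, p.Prime ∧ IsElementaryAbelian p K) ∨
    (Nat.card K = 2 ^ (Nat.card G).factorization 2 ∧
      (⁅K, K⁆.subgroupOf K).index < 4 * (K.subgroupOf NK).index ^ 2) ∨
    IsCoherent {χ : ↥NK → ℂ | IsIrrCharacter ↥NK χ ∧
        ∃ k : ↥NK, (k : G) ∈ K ∧ χ k ≠ χ 1} {1}ᶜ (fun α : ↥NK → ℂ => indFun NK α) := by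
  have hle : K ≤ NK := Subgroup.le_normalizer
  have hC' := tifn_centralizer_le hC
  have hcardH : Nat.card (K.subgroupOf NK) = Nat.card K :=
    Nat.card_congr (Subgroup.subgroupOfEquivOfLe hle).toEquiv
  by_cases hsmall : Nat.card K = (K.subgroupOf NK).index + 1
  · left
    obtain ⟨h1, h2⟩ := tifn_small_case K hK1 hC hsmall
    exact ⟨h1, hsmall, h2⟩
  · right
    have hiso := indFun_isometry_of_TI K NK hle hTI rfl (tifnS K)
      (fun χ hχ => IsIrrCharacter.isCharacter hχ.1) (fun χ hχ x hx => tifnS_vanish hC hχ x hx)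
    have hres := Cfsg.Agent.S1535.result (K.subgroupOf NK) (subgroupOf_ne_bot K NK hle hK1)
      (tifn_subgroupOf_ne_top K hlt) hC' (by rw [hcardH]; exact hsmall)
      (fun α : ↥NK → ℂ => indFun NK α) hiso.1 hiso.2
    rcases hres with hcoh | ⟨p, hp, ⟨m, hm⟩, hna, hidx⟩
    · right
      exact hcoh
    · rw [hcardH] at hm
      have hrel : (⁅K.subgroupOf NK, K.subgroupOf NK⁆.subgroupOf (K.subgroupOf NK)).index =
          (⁅K, K⁆.subgroupOf K).index := by
        show ⁅K.subgroupOf NK, K.subgroupOf NK⁆.relIndex (K.subgroupOf NK) = ⁅K, K⁆.relIndex K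
        rw [← Subgroup.relIndex_map_map_of_injective _ _ (Subgroup.subtype_injective NK),
          Subgroup.map_commutator, Subgroup.map_subgroupOf_eq_of_le hle]
      rw [hrel] at hidx
      rcases hp.eq_two_or_odd' with rfl | hpodd
      · left
        exact tifn_sylow_of_even_exc K hK1 hlt hC m hm hidx
      · right
        apply tifn_coherent_of_odd_exc K hlt hC hSib ?_ hna
        rw [hm]
        exact hpodd.pow

end Main

end Cfsg.Agent.Lib.Helper74
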