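import Mathlib
import Cfsg.Agent.S0925
import Cfsg.Agent.Lib.Helper78.SMTOrtho
import Cfsg.Agent.Lib.Helper78.CharOrtho
import Cfsg.Agent.Lib.Helper78.CharValues
import Cfsg.Agent.Lib.Helper79.Schur

/-!
# Columns of a block against products of two conjugate involutions (helper74)

* `exists_ne_of_quadratic_relations`: the real quadratic trick
  (`∑ aᵢ dᵢ = ∑ aᵢ cᵢ = ∑ aᵢ cᵢ²/dᵢ = 0`, at most one negative `aᵢ`, `c₀ = d₀`, `a₀ ≠ 0`
  force some `i ≠ 0` with `aᵢ ≠ 0`, `cᵢ = dᵢ`).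
* `conjProdCount x y g`: the number of pairs `(a, b)` with `a x a⁻¹ * b y b⁻¹ = g`; it is a class
  function with `⟨·, χ⟩ = |G| conj (χ x χ y / χ 1)`.
* `sum_block_sq_div_mul_eq_zero`: for a block `B`, an involution `t` and a `p`-element `y` that no
  conjugate of `t` inverts, `∑_{χ ∈ B} conj (χ t ^ 2 / χ 1) * χ y = 0`.
* `sum_coeff_mul_eq_zero`: exchange of summation for the coefficients
  `a_χ = |P|⁻¹ ∑_{y ∈ P} χ y θ y⁻¹`.
-/

set_option autoImplicit false
set_option linter.unusedSectionVars false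

namespace Cfsg.Agent.Lib.Helper74

open Cfsg Cfsg.Agent.Lib.Helper78
open scoped ComplexConjugate

section Quadratic

theorem exists_ne_of_quadratic_relations {ι : Type*} [DecidableEq ι] (s : Finset ι)
    (a d c : ι → ℝ) (hd : ∀ i ∈ s, 0 < d i) (i₀ : ι) (hi₀ : i₀ ∈ s) (h0 : c i₀ = d i₀)
    (ha0 : a i₀ ≠ 0) (R1 : ∑ i ∈ s, a i * d i = 0) (R2 : ∑ i ∈ s, a i * c i = 0)
    (R3 : ∑ i ∈ s, a i * (c i ^ 2 / d i) = 0)
    (hneg : (s.filter (fun i => a i < 0)).card ≤ 1) :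
    ∃ i ∈ s, i ≠ i₀ ∧ a i ≠ 0 ∧ c i = d i := by
  have hexneg : ∃ j ∈ s, a j < 0 := by
    by_contra hcon
    simp only [not_exists, not_and, not_lt] at hcon
    have h1 := (Finset.sum_eq_zero_iff_of_nonneg
      (fun i hi => mul_nonneg (hcon i hi) (hd i hi).le)).mp R1 i₀ hi₀
    rcases mul_eq_zero.mp h1 with h | h
    · exact ha0 h
    · exact (hd i₀ hi₀).ne' h
  obtain ⟨j, hj, haj⟩ := hexneg
  have honly : ∀ i ∈ s, i ≠ j → 0 ≤ a i := by
    intro i hi hij
    by_contra hlt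
    rw [not_le] at hlt
    exact hij (Finset.card_le_one.mp hneg i (Finset.mem_filter.mpr ⟨hi, hlt⟩) j
      (Finset.mem_filter.mpr ⟨hj, haj⟩))
  have hkey : ∑ i ∈ s, a i * ((c j * d i - d j * c i) ^ 2 / d i) = 0 := by
    have hterm : ∀ i ∈ s, a i * ((c j * d i - d j * c i) ^ 2 / d i) =
        c j ^ 2 * (a i * d i) - 2 * c j * d j * (a i * c i) +
          d j ^ 2 * (a i * (c i ^ 2 / d i)) := by
      intro i hi
      have := (hd i hi).ne'
      field_simp
      ring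
    rw [Finset.sum_congr rfl hterm, Finset.sum_add_distrib, Finset.sum_sub_distrib,
      ← Finset.mul_sum, ← Finset.mul_sum, ← Finset.mul_sum, R1, R2, R3]
    ring
  have hnonneg : ∀ i ∈ s, 0 ≤ a i * ((c j * d i - d j * c i) ^ 2 / d i) := by
    intro i hi
    by_cases hij : i = j
    · subst hij
      have : c i * d i - d i * c i = 0 := by ring
      rw [this]
      simp
    · exact mul_nonneg (honly i hi hij) (div_nonneg (sq_nonneg _) (hd i hi).le)
  have hzero := (Finset.sum_eq_zero_iff_of_nonneg hnonneg).mp hkey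
  have hprop : ∀ i ∈ s, 0 < a i → c j * d i = d j * c i := by
    intro i hi hpos
    have h1 := hzero i hi
    rcases mul_eq_zero.mp h1 with h | h
    · exact absurd h hpos.ne'
    · rcases div_eq_zero_iff.mp h with h2 | h2
      · have := pow_eq_zero_iff (two_ne_zero) |>.mp h2
        linarith
      · exact absurd h2 (hd i hi).ne'
  by_cases hji : j = i₀
  · subst hji
    have hexpos : ∃ i ∈ s, 0 < a i := by
      by_contra hcon
      simp only [not_exists, not_and, not_lt] at hcon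
      have h1 : ∑ i ∈ s, a i * d i < 0 := by
        apply Finset.sum_neg'
        · intro i hi
          exact mul_nonpos_of_nonpos_of_nonneg (hcon i hi) (hd i hi).le
        · exact ⟨j, hj, mul_neg_of_neg_of_pos haj (hd j hj)⟩
      linarith
    obtain ⟨i, hi, hpos⟩ := hexpos
    refine ⟨i, hi, ?_, hpos.ne', ?_⟩
    · rintro rfl
      linarith
    · have h1 := hprop i hi hpos
      rw [h0] at h1
      have hdj := (hd j hj).ne'
      have : d j * d i = d j * c i := h1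
      exact (mul_left_cancel₀ hdj this).symm
  · refine ⟨j, hj, hji, haj.ne, ?_⟩
    have hpos : 0 < a i₀ := lt_of_le_of_ne (honly i₀ hi₀ (Ne.symm hji)) (Ne.symm ha0)
    have h1 := hprop i₀ hi₀ hpos
    rw [h0] at h1
    have hd0 := (hd i₀ hi₀).ne'
    have : c j * d i₀ = d j * d i₀ := h1
    exact mul_right_cancel₀ hd0 this

end Quadratic

section PPart

variable {G : Type*} [Group G]

theorem isPPart_self {p : ℕ} (hp : 1 < p) {x : G} (hx : ∃ k : ℕ, orderOf x = p ^ k) :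
    IsPPart p x x := by
  refine ⟨1, mul_one x, Commute.one_right x, hx, ?_⟩
  rw [orderOf_one]
  intro h
  have := Nat.le_of_dvd one_pos h
  omega

theorem orderOf_conj_eq (s z : G) : orderOf (s * z * s⁻¹) = orderOf z := by
  have h : SemiconjBy s z (s * z * s⁻¹) := by
    show s * z = s * z * s⁻¹ * s
    group
  exact (h.orderOf_eq s).symm

theorem isPPart_conj {p : ℕ} {u z : G} (h : IsPPart p u z) (s : G) :
    IsPPart p (s * u * s⁻¹) (s * z * s⁻¹) := by
  obtain ⟨y, hzy, hcomm, hz, hy⟩ := h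
  refine ⟨s * y * s⁻¹, ?_, ?_, ?_, ?_⟩
  · rw [← hzy]; group
  · have := hcomm.eq
    show s * z * s⁻¹ * (s * y * s⁻¹) = s * y * s⁻¹ * (s * z * s⁻¹)
    calc s * z * s⁻¹ * (s * y * s⁻¹) = s * (z * y) * s⁻¹ := by group
      _ = s * (y * z) * s⁻¹ := by rw [this]
      _ = s * y * s⁻¹ * (s * z * s⁻¹) := by group
  · rwa [orderOf_conj_eq]
  · rwa [orderOf_conj_eq]

theorem isPPart_inv {p : ℕ} {u z : G} (h : IsPPart p u z) : IsPPart p u⁻¹ z⁻¹ := by
  obtain ⟨y, hzy, hcomm, hz, hy⟩ := h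
  refine ⟨y⁻¹, ?_, hcomm.inv_inv, ?_, ?_⟩
  · rw [← hzy, mul_inv_rev]
    exact (hcomm.inv_inv).eq
  · rwa [orderOf_inv]
  · rwa [orderOf_inv]

/-- An element inverting `u` inverts the `p`-part of `u`. -/
theorem conj_pPart_eq_inv {p : ℕ} [Fact p.Prime] {u z s : G} (h : IsPPart p u z)
    (hs : s * u * s⁻¹ = u⁻¹) : s * z * s⁻¹ = z⁻¹ :=
  isPPart_unique (hs ▸ isPPart_conj h s) (isPPart_inv h)

theorem conj_mul_of_mul_self {t₁ t₂ : G} (h1 : t₁ * t₁ = 1) (h2 : t₂ * t₂ = 1) :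
    t₁ * (t₁ * t₂) * t₁⁻¹ = (t₁ * t₂)⁻¹ := by
  have e1 : t₁⁻¹ = t₁ := inv_eq_of_mul_eq_one_left h1
  have e2 : t₂⁻¹ = t₂ := inv_eq_of_mul_eq_one_left h2
  rw [mul_inv_rev, e1, e2, ← mul_assoc, h1, one_mul]

theorem conj_mul_self_of_mul_self {t : G} (h : t * t = 1) (a : G) :
    a * t * a⁻¹ * (a * t * a⁻¹) = 1 := by
  calc a * t * a⁻¹ * (a * t * a⁻¹) = a * (t * t) * a⁻¹ := by group
    _ = 1 := by rw [h]; group

end PPart

section ConjProd

variable {G : Type*} [Group G] [Fintype G]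

open scoped Classical in
/-- The number of pairs `(a, b)` with `a x a⁻¹ * b y b⁻¹ = g`, as a complex number. -/
noncomputable def conjProdCount (x y : G) (g : G) : ℂ :=
  ∑ a : G, ∑ b : G, if a * x * a⁻¹ * (b * y * b⁻¹) = g then 1 else 0

open scoped Classical in
theorem isClassFunction_conjProdCount (x y : G) : IsClassFunction G (conjProdCount x y) := by
  intro g h
  unfold conjProdCount
  rw [← Equiv.sum_comp (Equiv.mulLeft h)]
  apply Finset.sum_congr rfl
  intro a _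
  rw [← Equiv.sum_comp (Equiv.mulLeft h)]
  apply Finset.sum_congr rfl
  intro b _
  have : (Equiv.mulLeft h a) * x * (Equiv.mulLeft h a)⁻¹ *
      ((Equiv.mulLeft h b) * y * (Equiv.mulLeft h b)⁻¹) =
      h * (a * x * a⁻¹ * (b * y * b⁻¹)) * h⁻¹ := by
    simp only [Equiv.coe_mulLeft]
    group
  rw [this]
  by_cases hc : a * x * a⁻¹ * (b * y * b⁻¹) = g
  · rw [if_pos hc, if_pos (by rw [hc])]
  · rw [if_neg hc, if_neg]
    intro h2
    apply hc
    have := mul_left_cancel (mul_right_cancel h2)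
    exact this

open scoped Classical in
theorem sum_conjProdCount_mul (x y : G) (f : G → ℂ) :
    ∑ g : G, conjProdCount x y g * f g = ∑ a : G, ∑ b : G, f (a * x * a⁻¹ * (b * y * b⁻¹)) := by
  unfold conjProdCount
  simp_rw [Finset.sum_mul]
  rw [Finset.sum_comm]
  apply Finset.sum_congr rfl
  intro a _
  rw [Finset.sum_comm]
  apply Finset.sum_congr rfl
  intro b _
  simp_rw [ite_mul, one_mul, zero_mul]
  rw [Finset.sum_ite_eq]
  simp

theorem classInner_conjProdCount_irr (x y : G) (χ : IrrCharacter G) :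
    classInner (conjProdCount x y) (χ : G → ℂ) =
      (Nat.card G : ℂ) * conj ((χ : G → ℂ) x * (χ : G → ℂ) y / (χ : G → ℂ) 1) := by
  unfold classInner
  rw [sum_conjProdCount_mul x y (fun g => conj ((χ : G → ℂ) g))]
  have h := Cfsg.Agent.Lib.Helper79.irr_sum_sum_conj_mul_conj χ x y
  have h2 : ∑ a : G, ∑ b : G, conj ((χ : G → ℂ) (a * x * a⁻¹ * (b * y * b⁻¹))) =
      conj (∑ a : G, ∑ b : G, (χ : G → ℂ) (a * x * a⁻¹ * (b * y * b⁻¹))) := by
    rw [map_sum]
    apply Finset.sum_congr rfl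
    intro a _
    rw [map_sum]
  rw [h2, h]
  have hG : (Nat.card G : ℂ) ≠ 0 := by exact_mod_cast (Nat.card_pos (α := G)).ne'
  simp only [map_mul, map_div₀, map_pow, Complex.conj_natCast]
  field_simp

open scoped Classical in
/-- `conjProdCount t t` vanishes at `u` if no conjugate of the involution `t` inverts the `p`-part
of `u`. -/
theorem conjProdCount_eq_zero_of_not_inverted {p : ℕ} [Fact p.Prime] {t : G} (ht : t * t = 1)
    {u z : G} (hz : IsPPart p u z)
    (hinv : ∀ g : G, (g * t * g⁻¹) * z * (g * t * g⁻¹)⁻¹ ≠ z⁻¹) : conjProdCount t t u = 0 := by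
  unfold conjProdCount
  apply Finset.sum_eq_zero
  intro a _
  apply Finset.sum_eq_zero
  intro b _
  rw [if_neg]
  intro hab
  apply hinv a
  apply conj_pPart_eq_inv hz
  rw [← hab]
  exact conj_mul_of_mul_self (conj_mul_self_of_mul_self ht a) (conj_mul_self_of_mul_self ht b)

end ConjProd

section Columns

variable {G : Type*} [Group G] [Fintype G]

open scoped Classical in
/-- For a block `B`, an involution `t` and a `p`-element `y` inverted by no conjugate of `t`: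
`∑_{χ ∈ B} conj (χ t * χ t / χ 1) * χ y = 0`. -/
theorem sum_block_sq_div_mul_eq_zero {p : ℕ} [Fact p.Prime] {M : Ideal AlgInt}
    (hM : IsPModular p M) {B : Set (IrrCharacter G)} (hB : IsPBlock M B) {t : G} (ht : t * t = 1)
    {y : G} (hy : ∃ k : ℕ, orderOf y = p ^ k)
    (hinv : ∀ g : G, (g * t * g⁻¹) * y * (g * t * g⁻¹)⁻¹ ≠ y⁻¹) :
    ∑ χ ∈ Finset.univ.filter (fun χ : IrrCharacter G => χ ∈ B),
      conj ((χ : G → ℂ) t * (χ : G → ℂ) t / (χ : G → ℂ) 1) * (χ : G → ℂ) y = 0 := by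
  have hp1 : 1 < p := (Fact.out : p.Prime).one_lt
  have h1 := (Cfsg.Agent.S0925.result (G := G) p M hM).1 (conjProdCount t t)
    (isClassFunction_conjProdCount t t) y hy (by
      intro u z hz hc
      apply conjProdCount_eq_zero_of_not_inverted ht hz
      intro g hg
      obtain ⟨c, hc⟩ := isConj_iff.mp hc
      apply hinv (c⁻¹ * g)
      have e1 : c⁻¹ * g * t * (c⁻¹ * g)⁻¹ = c⁻¹ * (g * t * g⁻¹) * c := by group
      rw [e1]
      have e2 : c⁻¹ * (g * t * g⁻¹) * c * y * (c⁻¹ * (g * t * g⁻¹) * c)⁻¹ =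
          c⁻¹ * ((g * t * g⁻¹) * (c * y * c⁻¹) * (g * t * g⁻¹)⁻¹) * c := by group
      rw [e2, hc, hg, ← hc]
      group) B hB y y (isPPart_self hp1 hy) (IsConj.refl y)
  rw [blockPart_apply] at h1
  have hG : (Nat.card G : ℂ) ≠ 0 := by exact_mod_cast (Nat.card_pos (α := G)).ne'
  have h2 : ∑ χ ∈ Finset.univ.filter (fun χ : IrrCharacter G => χ ∈ B),
      classInner (conjProdCount t t) (χ : G → ℂ) * (χ : G → ℂ) y =
      (Nat.card G : ℂ) * ∑ χ ∈ Finset.univ.filter (fun χ : IrrCharacter G => χ ∈ B),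
        conj ((χ : G → ℂ) t * (χ : G → ℂ) t / (χ : G → ℂ) 1) * (χ : G → ℂ) y := by
    rw [Finset.mul_sum]
    apply Finset.sum_congr rfl
    intro χ _
    rw [classInner_conjProdCount_irr, mul_assoc]
  rw [h2] at h1
  exact (mul_eq_zero.mp h1).resolve_left hG

/-- Exchange of summations for the coefficients `a_χ = |P|⁻¹ ∑_{y ∈ P} χ y θ y⁻¹`. -/
theorem sum_coeff_mul_eq_zero {P : Subgroup G} [Fintype P] (s : Finset (IrrCharacter G))
    (θ : P → ℂ) (c : IrrCharacter G → ℂ) (U : Set G)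
    (hθU : ∀ y : P, (y : G) ∉ U → θ y = 0)
    (hcol : ∀ y : P, ((y⁻¹ : P) : G) ∈ U → ∑ χ ∈ s, (χ : G → ℂ) (y : G) * c χ = 0) :
    ∑ χ ∈ s, ((Nat.card P : ℂ)⁻¹ * ∑ y : P, (χ : G → ℂ) (y : G) * θ y⁻¹) * c χ = 0 := by
  have h1 : ∀ χ ∈ s, ((Nat.card P : ℂ)⁻¹ * ∑ y : P, (χ : G → ℂ) (y : G) * θ y⁻¹) * c χ =
      (Nat.card P : ℂ)⁻¹ * ∑ y : P, θ y⁻¹ * ((χ : G → ℂ) (y : G) * c χ) := by
    intro χ _
    rw [mul_assoc, Finset.sum_mul]
    congr 1
    apply Finset.sum_congr rfl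
    intro y _
    ring
  rw [Finset.sum_congr rfl h1, ← Finset.mul_sum, Finset.sum_comm]
  have h2 : ∀ y : P, ∑ χ ∈ s, θ y⁻¹ * ((χ : G → ℂ) (y : G) * c χ) = 0 := by
    intro y
    rw [← Finset.mul_sum]
    by_cases hy : ((y⁻¹ : P) : G) ∈ U
    · rw [hcol y hy, mul_zero]
    · rw [hθU y⁻¹ hy, zero_mul]
  rw [Finset.sum_congr rfl (fun y _ => h2 y), Finset.sum_const_zero, mul_zero]

end Columns

end Cfsg.Agent.Lib.Helper74
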