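import Mathlib
import Cfsg.Agent.Lib.Helper75.Clifford
import Cfsg.Agent.Lib.Helper78.CharMore

set_option autoImplicit false
set_option linter.unusedSectionVars false

namespace Cfsg.Agent.Lib.Helper74

open Cfsg Cfsg.Agent.Lib.Helper78 Cfsg.Agent.Lib.Helper75
open scoped ComplexConjugate

universe u

section SubgroupAvg

variable {G : Type u} [Group G]

/-- The sum of a character over a subgroup is the order of the subgroup times a natural number. -/
theorem exists_nat_sum_subgroup {ζ : G → ℂ} (hζ : IsCharacter G ζ) (K : Subgroup G) [Fintype K] :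
    ∃ n : ℕ, ∑ k : K, ζ k = (Nat.card K : ℂ) * n := by
  obtain ⟨n, hn⟩ := IsCharacter.exists_nat_classInner (isCharacter_res K hζ)
    ⟨fun _ => 1, isIrrCharacter_one⟩
  refine ⟨n, ?_⟩
  unfold classInner at hn
  simp only [map_one, mul_one] at hn
  have hK : (Nat.card K : ℂ) ≠ 0 := by exact_mod_cast (Nat.card_pos (α := K)).ne'
  rw [← hn, ← mul_assoc, mul_inv_cancel₀ hK, one_mul]

theorem sum_subgroup_of_const (K : Subgroup G) [Fintype K] (f : G → ℂ) (c : ℂ)
    (h : ∀ k ∈ K, k ≠ 1 → f k = c) :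
    ∑ k : K, f k = f 1 + ((Nat.card K : ℂ) - 1) * c := by
  classical
  rw [← Finset.add_sum_erase Finset.univ _ (Finset.mem_univ (1 : K))]
  congr 1
  have : ∀ k ∈ Finset.univ.erase (1 : K), f k = c := by
    intro k hk
    have hk1 : k ≠ 1 := (Finset.mem_erase.mp hk).1
    exact h k k.2 (fun e => hk1 (Subtype.ext e))
  rw [Finset.sum_congr rfl this, Finset.sum_const, Finset.card_erase_of_mem (Finset.mem_univ _),
    Finset.card_univ, nsmul_eq_mul, ← Nat.card_eq_fintype_card,
    Nat.cast_sub (Nat.card_pos (α := K)), Nat.cast_one]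

theorem eq_of_mem_zpowers_of_orderOf_two {z : G} (hz : orderOf z = 2) {k : G}
    (hk : k ∈ Subgroup.zpowers z) (hk1 : k ≠ 1) : k = z := by
  have hzz : z ^ (2 : ℤ) = 1 := by
    have := pow_orderOf_eq_one z
    rw [hz] at this
    exact_mod_cast this
  obtain ⟨j, rfl⟩ := Subgroup.mem_zpowers_iff.mp hk
  rcases Int.even_or_odd' j with ⟨c, rfl | rfl⟩
  · exfalso
    apply hk1
    rw [zpow_mul, hzz, one_zpow]
  · rw [zpow_add_one, zpow_mul, hzz, one_zpow, one_mul]

/-- The value of a character at an involution is a rational integer. -/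
theorem exists_int_apply_of_orderOf_two [Finite G] {ζ : G → ℂ} (hζ : IsCharacter G ζ) (z : G)
    (hz : orderOf z = 2) : ∃ n : ℤ, ζ z = n := by
  have : Fintype (Subgroup.zpowers z) := Fintype.ofFinite _
  obtain ⟨n, hn⟩ := exists_nat_sum_subgroup hζ (Subgroup.zpowers z)
  rw [sum_subgroup_of_const (Subgroup.zpowers z) ζ (ζ z)
    (fun k hk hk1 => by rw [eq_of_mem_zpowers_of_orderOf_two hz hk hk1]),
    Nat.card_zpowers, hz, IsCharacter.apply_one_eq_charDegree hζ] at hn
  refine ⟨2 * n - charDegree ζ, ?_⟩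
  push_cast at hn ⊢
  linear_combination hn

/-- If all non-identity elements of a subgroup `P` of order four are conjugate to `z` and `ζ z` is the
integer `e`, then `ζ 1 ≡ e (mod 4)`. -/
theorem four_dvd_degree_sub_of_card_four [Finite G] {ζ : G → ℂ} (hζ : IsCharacter G ζ)
    (P : Subgroup G) (hP4 : Nat.card P = 4) (z : G) (e : ℤ) (hze : ζ z = e)
    (hconj : ∀ k ∈ P, k ≠ 1 → IsConj z k) : (4 : ℤ) ∣ (charDegree ζ : ℤ) - e := by
  have : Fintype P := Fintype.ofFinite _
  obtain ⟨n, hn⟩ := exists_nat_sum_subgroup hζ P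
  have hcf := IsCharacter.isClassFunction hζ
  rw [sum_subgroup_of_const P ζ (ζ z) (fun k hk hk1 => by
      obtain ⟨c, hc⟩ := isConj_iff.mp (hconj k hk hk1)
      rw [← hc, hcf]), hP4, IsCharacter.apply_one_eq_charDegree hζ, hze] at hn
  refine ⟨n - e, ?_⟩
  have : ((charDegree ζ : ℤ) : ℂ) - (e : ℂ) = 4 * ((n : ℂ) - (e : ℂ)) := by
    push_cast at hn ⊢
    linear_combination hn
  exact_mod_cast this

end SubgroupAvg

end Cfsg.Agent.Lib.Helper74
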