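import Mathlib
import Cfsg.Agent.Lib.Helper16.BrauerHom
import Cfsg.Agent.Lib.Helper77.GrpRed
import Cfsg.Agent.Lib.Helper77.ModResidue
import Cfsg.Agent.Lib.Helper75.DefOneGT5

set_option autoImplicit false
set_option linter.unusedSectionVars false

/-!
PROJECT BC, defect one, GENERAL blocks: MODULE (LAM) (helper77's split, board #2557).

Central character transfer `N_G(P) → G`.  Let `R` be the local ring at `M`, `F` its residue field.
If `ψ ∈ Irr(N_G(P))` and `χ ∈ Irr(G)` have congruent (Brauer) central characters, and an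
`F[N_G(P)]`-module `W` realises the reduction of the central character of `ψ` (every central
`zR ∈ R[N]` acts on `W` by the reduction of `ω_ψ(zR)`), then for every central `aR ∈ R[G]` the
Brauer truncation of its reduction acts on `W` by the reduction of `ω_χ(aR)`.
-/

namespace Cfsg.Agent.Lib.Helper74.DefOneGen

open Cfsg Cfsg.Agent.Lib.Helper16 Cfsg.Agent.Lib.Helper77.Modular Cfsg.Agent.Lib.Helper77.GrpRed
  Cfsg.Agent.Lib.Helper75.DefOneGen

section Trunc

variable {k : Type*} [CommRing k] {G : Type*} [Group G] [Fintype G]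

/-- the Brauer truncation of `a ∈ k[G]` to `C_G(P)`, as an element of `k[N_G(P)]`, over an
arbitrary commutative ring -/
noncomputable def brNR (P : Subgroup G) (a : MonoidAlgebra k G) :
    MonoidAlgebra k (Subgroup.normalizer (P : Set G)) := by
  classical
  exact ∑ n : Subgroup.normalizer (P : Set G),
    if (n : G) ∈ Subgroup.centralizer (P : Set G) then MonoidAlgebra.single n (a.coeff (n : G))
    else 0

open Classical in
theorem coeff_brNR (P : Subgroup G) (a : MonoidAlgebra k G)
    (n : Subgroup.normalizer (P : Set G)) :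
    (brNR P a).coeff n =
      if (n : G) ∈ Subgroup.centralizer (P : Set G) then a.coeff (n : G) else 0 := by
  have : ∀ m : Subgroup.normalizer (P : Set G),
      ((if (m : G) ∈ Subgroup.centralizer (P : Set G) then
          MonoidAlgebra.single m (a.coeff (m : G)) else 0 :
            MonoidAlgebra k (Subgroup.normalizer (P : Set G)))).coeff n
      = if m = n then
          (if (n : G) ∈ Subgroup.centralizer (P : Set G) then a.coeff (n : G) else 0) else 0 := by
    intro m
    by_cases hm : m = n
    · subst hm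
      by_cases hD : (m : G) ∈ Subgroup.centralizer (P : Set G)
      · simp [hD]
      · simp [hD]
    · by_cases hD : (m : G) ∈ Subgroup.centralizer (P : Set G)
      · simp [hD, hm]
      · simp [hD, hm]
  unfold brNR
  rw [MonoidAlgebra.coeff_sum, Finsupp.finsetSum_apply]
  simp only [this]
  simp

/-- the Brauer truncation of a central element of `k[G]` is central in `k[N_G(P)]` -/
theorem brNR_central (P : Subgroup G) {a : MonoidAlgebra k G} (ha : ∀ b, b * a = a * b) :
    ∀ b, b * brNR P a = brNR P a * b := by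
  classical
  apply Cfsg.Agent.Lib.Helper77.GrpAlg.central_of_coeff_conj
  intro g h
  rw [coeff_brNR, coeff_brNR]
  have hnorm := Subgroup.normal_subgroupOf_centralizer_normalizer (P : Set G)
  have hiff : ((h * g * h⁻¹ : Subgroup.normalizer (P : Set G)) : G) ∈
      Subgroup.centralizer (P : Set G) ↔ (g : G) ∈ Subgroup.centralizer (P : Set G) := by
    constructor
    · intro hh
      have h1 : h * g * h⁻¹ ∈ (Subgroup.centralizer (P : Set G)).subgroupOf
          (Subgroup.normalizer (P : Set G)) := Subgroup.mem_subgroupOf.mpr hh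
      have h2 := hnorm.conj_mem _ h1 h⁻¹
      have h3 : h⁻¹ * (h * g * h⁻¹) * h⁻¹⁻¹ = g := by group
      rw [h3] at h2
      exact Subgroup.mem_subgroupOf.mp h2
    · intro hh
      have h1 : g ∈ (Subgroup.centralizer (P : Set G)).subgroupOf
          (Subgroup.normalizer (P : Set G)) := Subgroup.mem_subgroupOf.mpr hh
      exact Subgroup.mem_subgroupOf.mp (hnorm.conj_mem _ h1 h)
  by_cases hg : (g : G) ∈ Subgroup.centralizer (P : Set G)
  · rw [if_pos hg, if_pos (hiff.mpr hg)]
    have := Cfsg.Agent.Lib.Helper77.GrpAlg.coeff_conj_of_central ha (g : G) (h : G)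
    simpa using this
  · rw [if_neg hg, if_neg (fun hh => hg (hiff.mp hh))]

/-- base change commutes with Brauer truncation (to the field version `brN` of helper75) -/
theorem bc_brNR {F : Type*} [Field F] [Algebra k F] (P : Subgroup G) (a : MonoidAlgebra k G) :
    bc F (brNR P a) = brN P (bc F a) := by
  classical
  ext n
  rw [coeff_bc, coeff_brNR, coeff_brN, coeff_bc]
  split_ifs
  · rfl
  · rw [map_zero]

end Trunc

section Main

variable {G : Type*} [Group G] [Fintype G] (p : ℕ) [Fact p.Prime] (M : Ideal AlgInt)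
  [hMp : M.IsPrime] (P : Sylow p G)

/-- **MODULE (LAM).** -/
theorem LAM [Fintype ↥(Subgroup.normalizer ((P : Subgroup G) : Set G))] (χ : IrrCharacter G)
    (ψ : IrrCharacter ↥(Subgroup.normalizer ((P : Subgroup G) : Set G)))
    (hψχ : ∀ g : G, MemLocalIdeal M
      (brauerCentralChar (P : Subgroup G) (Subgroup.normalizer ((P : Subgroup G) : Set G))
        (ψ : ↥(Subgroup.normalizer ((P : Subgroup G) : Set G)) → ℂ) g -
        centralChar (χ : G → ℂ) g))
    {W : Type*} [AddCommGroup W] [Module (ResF M) W]
    (ρW : Representation (ResF M) ↥(Subgroup.normalizer ((P : Subgroup G) : Set G)) W)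
    (hred : ∀ zR : MonoidAlgebra (localSubring M)
        ↥(Subgroup.normalizer ((P : Subgroup G) : Set G)),
      (∀ b, b * zR = zR * b) → ∃ r : localSubring M,
        (r : ℂ) = (∑ n : ↥(Subgroup.normalizer ((P : Subgroup G) : Set G)),
          ((zR.coeff n : localSubring M) : ℂ) *
            (ψ : ↥(Subgroup.normalizer ((P : Subgroup G) : Set G)) → ℂ) n) /
            (ψ : ↥(Subgroup.normalizer ((P : Subgroup G) : Set G)) → ℂ) 1 ∧
        ρW.asAlgebraHom (bc (ResF M) zR) =
          algebraMap (localSubring M) (ResF M) r • LinearMap.id)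
    (aR : MonoidAlgebra (localSubring M) G) (haR : ∀ b, b * aR = aR * b) :
    ∃ r : localSubring M,
      (r : ℂ) = (∑ g : G, ((aR.coeff g : localSubring M) : ℂ) * (χ : G → ℂ) g) /
        (χ : G → ℂ) 1 ∧
      ρW.asAlgebraHom (brN (P : Subgroup G) (bc (ResF M) aR)) =
        algebraMap (localSubring M) (ResF M) r • LinearMap.id := by
  classical
  -- the complexification of `aR` is central with coefficients in the local ring
  have hcoeff : ∀ g : G, (bc ℂ aR).coeff g = ((aR.coeff g : localSubring M) : ℂ) := by
    intro g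
    rw [coeff_bc]
    rfl
  have hac : bc ℂ aR ∈ Subalgebra.center ℂ (MonoidAlgebra ℂ G) := by
    apply mem_center_of_coeff_conj
    intro g h
    rw [hcoeff, hcoeff, Cfsg.Agent.Lib.Helper77.GrpAlg.coeff_conj_of_central haR g h]
  have haRing : ∀ g : G, MemLocalRing M ((bc ℂ aR).coeff g) := by
    intro g
    rw [hcoeff]
    exact (aR.coeff g).2
  -- the truncation
  obtain ⟨r₁, hr₁, hρ⟩ := hred (brNR (P : Subgroup G) aR) (brNR_central (P : Subgroup G) haR)
  rw [bc_brNR] at hρ
  -- the scalar `r₁` is the Brauer functional of `ψ` at `bc ℂ aR`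
  have hr₁' : (r₁ : ℂ) = brauerLam (P : Subgroup G)
      (Subgroup.normalizer ((P : Subgroup G) : Set G))
      (ψ : ↥(Subgroup.normalizer ((P : Subgroup G) : Set G)) → ℂ) (bc ℂ aR) := by
    rw [hr₁, brauerLam_apply]
    unfold omega
    congr 1
    refine Finset.sum_congr rfl fun n _ => ?_
    rw [coeff_brP, coeff_brNR, hcoeff]
    split_ifs
    · rfl
    · rfl
  -- the scalar for `χ`
  have hmem : MemLocalRing M (omega (χ : G → ℂ) (bc ℂ aR)) := omega_memLocalRing χ hac haRing
  -- congruence of the two scalars
  have hcong : MemLocalIdeal M ((r₁ : ℂ) - omega (χ : G → ℂ) (bc ℂ aR)) := by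
    rw [hr₁', brauerLam_eq_sum_classes _ _ _ hac, omega_eq_sum_classes _ (irr_conj χ) hac,
      ← Finset.sum_sub_distrib]
    apply memLocalIdeal_sum
    intro c _
    rw [← mul_sub]
    exact memLocalIdeal_mul_left (haRing _) (hψχ _)
  refine ⟨⟨omega (χ : G → ℂ) (bc ℂ aR), hmem⟩, ?_, ?_⟩
  · show omega (χ : G → ℂ) (bc ℂ aR) = _
    unfold omega
    simp only [hcoeff]
  · rw [hρ]
    congr 1
    show Ideal.Quotient.mk (localIdeal M) r₁ =
      Ideal.Quotient.mk (localIdeal M) ⟨omega (χ : G → ℂ) (bc ℂ aR), hmem⟩
    rw [Ideal.Quotient.eq, mem_localIdeal]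
    exact hcong

end Main

end Cfsg.Agent.Lib.Helper74.DefOneGen
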