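import Mathlib
import Cfsg.Agent.Lib.Helper74.KerSum
import Cfsg.Agent.Lib.Helper79.Schur

/-!
# Characters with a normal subgroup in the kernel: the regular character of the quotient (helper74)

* `sum_subgroup_mul_eq`: `∑_{n ∈ N} χ(n g) = (∑_{n ∈ N} χ n) χ(g) / χ(1)` for `χ` irreducible, `N ⊴ G`.
* `sum_subgroup_eq_card_mul_or_zero`: `∑_{n ∈ N} χ n` is `|N| χ(1)` or `0` according to whether
  `N ≤ ker χ`.
* `sum_kernel_ge_mul`: `∑_{N ≤ ker χ} χ(1) χ(h) = [h ∈ N] |G : N|`.
-/

set_option autoImplicit false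
set_option linter.unusedSectionVars false

namespace Cfsg.Agent.Lib.Helper74

open Cfsg Cfsg.Agent.Lib.Helper78 Cfsg.Agent.Lib.Helper75
open scoped ComplexConjugate

universe u

section KerSum2

variable {G : Type u} [Group G] [Fintype G] (N : Subgroup G) [hN : N.Normal] [Fintype N]

theorem sum_subgroup_mul_eq (χ : IrrCharacter G) (g : G) :
    ∑ n : N, (χ : G → ℂ) ((n : G) * g) =
      (∑ n : N, (χ : G → ℂ) (n : G)) * (χ : G → ℂ) g / (χ : G → ℂ) 1 := by
  have hG : (Nat.card G : ℂ) ≠ 0 := by exact_mod_cast (Nat.card_pos (α := G)).ne'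
  have h1 : ∀ a : G, ∑ n : N, (χ : G → ℂ) ((n : G) * g) =
      ∑ n : N, (χ : G → ℂ) (a * (n : G) * a⁻¹ * g) := by
    intro a
    rw [← Equiv.sum_comp (MulAut.conjNormal a : N ≃* N).toEquiv]
    apply Finset.sum_congr rfl
    intro n _
    simp [MulAut.conjNormal_apply]
  have h2 : (Nat.card G : ℂ) * ∑ n : N, (χ : G → ℂ) ((n : G) * g) =
      ∑ a : G, ∑ n : N, (χ : G → ℂ) (a * (n : G) * a⁻¹ * g) := by
    rw [← Finset.sum_congr rfl (fun a _ => h1 a), Finset.sum_const, Finset.card_univ,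
      nsmul_eq_mul, Nat.card_eq_fintype_card]
  rw [Finset.sum_comm] at h2
  simp_rw [Cfsg.Agent.Lib.Helper79.irr_sum_conj_mul χ] at h2
  have h3 : ∑ n : N, (Nat.card G : ℂ) * (χ : G → ℂ) (n : G) * (χ : G → ℂ) g / (χ : G → ℂ) 1 =
      (Nat.card G : ℂ) * ((∑ n : N, (χ : G → ℂ) (n : G)) * (χ : G → ℂ) g / (χ : G → ℂ) 1) := by
    rw [Finset.sum_mul, Finset.sum_div, Finset.mul_sum]
    apply Finset.sum_congr rfl
    intro n _
    ring
  rw [h3] at h2
  exact mul_left_cancel₀ hG h2

theorem sum_subgroup_eq_card_mul_or_zero (χ : IrrCharacter G)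
    [Decidable (∀ n ∈ N, (χ : G → ℂ) n = (χ : G → ℂ) 1)] :
    ∑ n : N, (χ : G → ℂ) (n : G) =
      if ∀ n ∈ N, (χ : G → ℂ) n = (χ : G → ℂ) 1 then (Nat.card N : ℂ) * (χ : G → ℂ) 1 else 0 := by
  have hNne : (Nat.card N : ℂ) ≠ 0 := by
    exact_mod_cast (Nat.card_pos (α := N)).ne'
  split_ifs with h
  · have : ∑ n : N, (χ : G → ℂ) n = ∑ _n : N, (χ : G → ℂ) 1 :=
      Finset.sum_congr rfl (fun n _ => h n n.2)
    rw [this, Finset.sum_const, Finset.card_univ, nsmul_eq_mul, ← Nat.card_eq_fintype_card]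
  · have h0 : classInner (fun n : N => (χ : G → ℂ) n) (fun _ : N => (1 : ℂ)) = 0 := by
      by_contra hne
      exact h (fun n hn => apply_eq_apply_one_of_classInner_res_one_ne_zero N χ.2 hne n hn)
    unfold classInner at h0
    simp only [map_one, mul_one] at h0
    rcases mul_eq_zero.mp h0 with h0 | h0
    · exact absurd h0 (inv_ne_zero hNne)
    · exact h0

/-- `∑_{N ≤ ker χ} χ(1) χ(h) = [h ∈ N] |G : N|`. -/
theorem sum_kernel_ge_mul (h : G)
    [DecidablePred fun χ : IrrCharacter G => ∀ n ∈ N, (χ : G → ℂ) n = (χ : G → ℂ) 1]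
    [Decidable (h ∈ N)] :
    ∑ χ ∈ Finset.univ.filter (fun χ : IrrCharacter G => ∀ n ∈ N, (χ : G → ℂ) n = (χ : G → ℂ) 1),
      (χ : G → ℂ) 1 * (χ : G → ℂ) h = if h ∈ N then (N.index : ℂ) else 0 := by
  classical
  have hNne : (Nat.card N : ℂ) ≠ 0 := by
    exact_mod_cast (Nat.card_pos (α := N)).ne'
  have hidx : (Nat.card N : ℂ) * (N.index : ℂ) = (Nat.card G : ℂ) := by
    exact_mod_cast N.card_mul_index
  -- first evaluation
  have h1 : ∑ χ : IrrCharacter G, (χ : G → ℂ) 1 * ∑ n : N, (χ : G → ℂ) ((n : G) * h) =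
      if h ∈ N then (Nat.card G : ℂ) else 0 := by
    simp_rw [Finset.mul_sum]
    rw [Finset.sum_comm]
    have hinner : ∀ n : N, ∑ χ : IrrCharacter G, (χ : G → ℂ) 1 * (χ : G → ℂ) ((n : G) * h) =
        if (n : G) * h = 1 then (Nat.card G : ℂ) else 0 := by
      intro n
      split_ifs with hn
      · rw [hn, ← sum_irr_apply_one_sq (G := G)]
        apply Finset.sum_congr rfl
        intro χ _
        rw [sq]
      · have hsec := second_orthogonality_of_not_isConj (G := G) (g := (n : G) * h) (h := 1) (by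
          intro hc
          apply hn
          exact isConj_one_left.mp hc)
        rw [← hsec]
        apply Finset.sum_congr rfl
        intro χ _
        rw [IsCharacter.apply_one_eq_charDegree (IsIrrCharacter.isCharacter χ.2),
          Complex.conj_natCast]
        ring
    rw [Finset.sum_congr rfl (fun n _ => hinner n)]
    split_ifs with hh
    · rw [Finset.sum_eq_single (⟨h⁻¹, N.inv_mem hh⟩ : N)]
      · rw [if_pos (by simp)]
      · intro n _ hn
        rw [if_neg]
        intro hn2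
        apply hn
        apply Subtype.ext
        exact eq_inv_of_mul_eq_one_left hn2
      · intro hx
        exact absurd (Finset.mem_univ _) hx
    · apply Finset.sum_eq_zero
      intro n _
      rw [if_neg]
      intro hn2
      apply hh
      have : h = (n : G)⁻¹ := eq_inv_of_mul_eq_one_right hn2
      rw [this]
      exact N.inv_mem n.2
  -- second evaluation
  have h2 : ∀ χ : IrrCharacter G, (χ : G → ℂ) 1 * ∑ n : N, (χ : G → ℂ) ((n : G) * h) =
      if ∀ n ∈ N, (χ : G → ℂ) n = (χ : G → ℂ) 1 then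
        (Nat.card N : ℂ) * ((χ : G → ℂ) 1 * (χ : G → ℂ) h) else 0 := by
    intro χ
    have hne := IsIrrCharacter.apply_one_ne_zero χ.2
    rw [sum_subgroup_mul_eq N χ h, sum_subgroup_eq_card_mul_or_zero N χ]
    split_ifs with hk
    · field_simp
    · simp
  rw [Finset.sum_congr rfl (fun χ _ => h2 χ), ← Finset.sum_filter, ← Finset.mul_sum] at h1
  split_ifs with hh
  · rw [if_pos hh, ← hidx] at h1
    exact mul_left_cancel₀ hNne h1
  · rw [if_neg hh] at h1
    exact (mul_eq_zero.mp h1).resolve_left hNne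

end KerSum2

end Cfsg.Agent.Lib.Helper74
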