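import Mathlib
import Cfsg.Agent.S0939
import Cfsg.Agent.Lib.Helper74.KerSum2
import Cfsg.Agent.Lib.Helper74.PrincipalSMT
import Cfsg.Agent.Lib.Helper78.SMTOrtho2

/-!
# Principal block parts: local evaluation (helper74)

* `principal_blockPart_one_of_index`: if `H` has a normal `p`-complement `K` then the principal
  block part of any function `f` at `1` is the average of `f` over `K`.
* `principal_blockPart_twist_classFunction`: for a class function `Ψ` of `G`, a `p`-element `z`
  and `y` `p`-regular in `C(z)`: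
  `blockPart B₀(C(z)) (c ↦ Ψ(z c)) y = ∑_{χ ∈ B₀(G)} ⟨Ψ, χ⟩ χ(z y)`.
-/

set_option autoImplicit false
set_option linter.unusedSectionVars false

namespace Cfsg.Agent.Lib.Helper74

open Cfsg Cfsg.Agent.Lib.Helper78
open scoped ComplexConjugate

section LocalEval

variable {p : ℕ} [Fact p.Prime] {M : Ideal AlgInt}

open scoped Classical in
theorem principal_blockPart_one_of_index {H : Type*} [Group H] [Fintype H] (hM : IsPModular p M)
    (hk : ∃ k : ℕ, (pPrimeCore p H).index = p ^ k) [Fintype (pPrimeCore p H)] (f : H → ℂ) :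
    blockPart (principalBlock M H) f 1 =
      (Nat.card (pPrimeCore p H) : ℂ)⁻¹ * ∑ c : pPrimeCore p H, f (c : H) := by
  have hB := Cfsg.Agent.S0939.result p M hM hk
  have hHne : (Nat.card H : ℂ) ≠ 0 := by exact_mod_cast (Nat.card_pos (α := H)).ne'
  have hKne : (Nat.card (pPrimeCore p H) : ℂ) ≠ 0 := by
    exact_mod_cast (Nat.card_pos (α := pPrimeCore p H)).ne'
  have hidx : (Nat.card (pPrimeCore p H) : ℂ) * ((pPrimeCore p H).index : ℂ) = (Nat.card H : ℂ) := by
    exact_mod_cast (pPrimeCore p H).card_mul_index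
  rw [blockPart_apply]
  have hfilter : Finset.univ.filter (fun ξ : IrrCharacter H => ξ ∈ principalBlock M H) =
      Finset.univ.filter (fun ξ : IrrCharacter H =>
        ∀ n ∈ pPrimeCore p H, (ξ : H → ℂ) n = (ξ : H → ℂ) 1) := by
    ext ξ
    simp only [Finset.mem_filter, Finset.mem_univ, true_and]
    rw [hB]
    rfl
  rw [hfilter]
  have hterm : ∀ ξ : IrrCharacter H, classInner f (ξ : H → ℂ) * (ξ : H → ℂ) 1 =
      ∑ c : H, (Nat.card H : ℂ)⁻¹ * f c * ((ξ : H → ℂ) 1 * (ξ : H → ℂ) c⁻¹) := by
    intro ξ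
    unfold classInner
    rw [Finset.mul_sum, Finset.sum_mul]
    apply Finset.sum_congr rfl
    intro c _
    rw [IsCharacter.inv (IsIrrCharacter.isCharacter ξ.2) c]
    ring
  rw [Finset.sum_congr rfl (fun ξ _ => hterm ξ), Finset.sum_comm]
  simp_rw [← Finset.mul_sum, sum_kernel_ge_mul (pPrimeCore p H)]
  have hstep : ∀ c : H, (Nat.card H : ℂ)⁻¹ * f c *
      (if c⁻¹ ∈ pPrimeCore p H then ((pPrimeCore p H).index : ℂ) else 0) =
      if c ∈ pPrimeCore p H then (Nat.card (pPrimeCore p H) : ℂ)⁻¹ * f c else 0 := by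
    intro c
    by_cases hc : c ∈ pPrimeCore p H
    · rw [if_pos ((pPrimeCore p H).inv_mem hc), if_pos hc, ← hidx]
      have hidx0 : ((pPrimeCore p H).index : ℂ) ≠ 0 := by
        intro h0
        rw [h0, mul_zero] at hidx
        exact hHne hidx.symm
      field_simp
    · rw [if_neg hc, if_neg (fun h => hc (by simpa using (pPrimeCore p H).inv_mem h)), mul_zero]
  rw [Finset.sum_congr rfl (fun c _ => hstep c), ← Finset.sum_filter, Finset.mul_sum]
  rw [← Finset.sum_subtype (Finset.univ.filter (fun c : H => c ∈ pPrimeCore p H))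
    (fun c => by simp) (fun c => (Nat.card (pPrimeCore p H) : ℂ)⁻¹ * f c)]

variable {G : Type*} [Group G] [Fintype G]

open scoped Classical in
theorem principal_blockPart_twist_classFunction (hM : IsPModular p M) (z : G)
    (hz : ∃ k : ℕ, orderOf z = p ^ k) [Fintype (Subgroup.centralizer ({z} : Set G))]
    {Ψ : G → ℂ} (hΨ : IsClassFunction G Ψ)
    (y : Subgroup.centralizer ({z} : Set G)) (hy : ¬ p ∣ orderOf y) :
    blockPart (principalBlock M (Subgroup.centralizer ({z} : Set G)))
      (fun c : Subgroup.centralizer ({z} : Set G) => Ψ (z * (c : G))) y =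
      ∑ χ ∈ Finset.univ.filter (fun χ : IrrCharacter G => χ ∈ principalBlock M G),
        classInner Ψ (χ : G → ℂ) * (χ : G → ℂ) (z * (y : G)) := by
  have hexp := classFunction_eq_sum_irr hΨ
  have h1 : (fun c : Subgroup.centralizer ({z} : Set G) => Ψ (z * (c : G))) =
      ∑ χ : IrrCharacter G, classInner Ψ (χ : G → ℂ) •
        (fun c : Subgroup.centralizer ({z} : Set G) => (χ : G → ℂ) (z * (c : G))) := by
    funext c
    have := congrFun hexp (z * (c : G))
    rw [Finset.sum_apply] at this ⊢
    simpa using this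
  rw [h1, blockPart_sum_smul, Finset.sum_filter]
  apply Finset.sum_congr rfl
  intro χ _
  split_ifs with hχ
  · rw [principal_blockPart_twist_eq hM z hz χ hχ y hy]
  · rw [principal_blockPart_twist_eq_zero hM z hz χ hχ y hy, mul_zero]

end LocalEval

end Cfsg.Agent.Lib.Helper74
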