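import Mathlib
import Cfsg.Agent.Lib.Helper3.BrGlobal
import Cfsg.Agent.Lib.Helper3.BrDescent

/-!
# `p`-local Brauer induction (helper74)

A `p`-parametrized copy of helper3's `VE`-lemmas (`Lib/Helper3/Br*.lean`): only `p`-elementary
subgroups for the fixed prime `p` are used.
-/

set_option autoImplicit false

namespace Cfsg.Agent.Lib.Helper74

open Cfsg Cfsg.Agent.Lib.Helper3
open scoped ComplexConjugate

universe u

section

variable (A : Subring ℂ) (p : ℕ) (G : Type u) [Group G]

/-- `p`-elementary-induced characters -/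
def elemIndP [Fintype G] : Set (G → ℂ) :=
  {f | ∃ (E : Subgroup G) (ψ : E → ℂ), IsElementary p E ∧ IsCharacter E ψ ∧ f = indFun E ψ}

/-- the `A`-span of the `p`-elementary-induced characters -/
def VEp [Fintype G] : Submodule A (G → ℂ) := Submodule.span A (elemIndP p G)

end

section

variable {A : Subring ℂ} {p : ℕ} {G : Type u} [Group G] [Fintype G]

theorem VEp_le_GC : VEp A p G ≤ GC A G := by
  apply Submodule.span_le.mpr
  rintro f ⟨E, ψ, -, hψ, rfl⟩
  exact mem_GC_of_isCharacter (Cfsg.Agent.S0148.result E ψ hψ)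

theorem indFun_mem_VEp (E : Subgroup G) (hE : IsElementary p E)
    {ψ : E → ℂ} (hψ : IsCharacter E ψ) : indFun E ψ ∈ VEp A p G :=
  Submodule.subset_span ⟨E, ψ, hE, hψ, rfl⟩

/-- inducing an `A`-generalized character of a `p`-elementary subgroup lands in `VEp` -/
theorem indFun_mem_VEp_of_mem_GC (E : Subgroup G) (hE : IsElementary p E)
    {ψ : E → ℂ} (hψ : ψ ∈ GC A E) : indFun E ψ ∈ VEp A p G := by
  induction hψ using Submodule.span_induction with
  | mem χ hχ => exact indFun_mem_VEp E hE hχ
  | zero => rw [indFun_zero']; exact Submodule.zero_mem _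
  | add x y _ _ hx hy => rw [indFun_add']; exact Submodule.add_mem _ hx hy
  | smul a x _ hx =>
    have : indFun E (a • x) = a • indFun E x := by
      have h1 : (a • x) = fun h => (a : ℂ) * x h := by
        funext h; exact smul_fun_apply a x h
      rw [h1, indFun_smul']
      funext g
      rw [smul_fun_apply]
    rw [this]
    exact Submodule.smul_mem _ a hx

/-- `VEp A p G` is an ideal of `GC A G` -/
theorem mul_mem_VEp {f v : G → ℂ} (hf : f ∈ GC A G) (hv : v ∈ VEp A p G) :
    f * v ∈ VEp A p G := by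
  induction hv using Submodule.span_induction with
  | mem w hw =>
    obtain ⟨E, ψ, hE, hψ, rfl⟩ := hw
    rw [mul_indFun_eq (isClassFunction_of_mem_GC hf)]
    apply indFun_mem_VEp_of_mem_GC E hE
    exact mul_mem_GC (res_mem_GC E hf) (mem_GC_of_isCharacter hψ)
  | zero => rw [mul_zero]; exact Submodule.zero_mem _
  | add x y _ _ hx hy => rw [mul_add]; exact Submodule.add_mem _ hx hy
  | smul a x _ hx => rw [mul_smul_fun]; exact Submodule.smul_mem _ a hx

theorem pow_mem_VEp {v : G → ℂ} (hv : v ∈ VEp A p G) {n : ℕ} (hn : 0 < n) :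
    v ^ n ∈ VEp A p G := by
  obtain ⟨m, rfl⟩ := Nat.exists_eq_succ_of_ne_zero hn.ne'
  rw [pow_succ]
  exact mul_mem_VEp (pow_mem_GC (VEp_le_GC hv) m) hv

/-- **Artin-type lemma**: a class function with values in `|G| A` lies in `VEp A p G`. -/
theorem card_mul_mem_VEp (hp : p.Prime) (hA : ∀ z : ℂ, z ^ Nat.card G = 1 → z ∈ A) {h : G → ℂ}
    (hcl : IsClassFunction G h) (hval : ∀ g, h g ∈ A) :
    (fun g => (Nat.card G : ℂ) * h g) ∈ VEp A p G := by
  classical
  -- the local pieces
  set ϑ : ∀ x : G, Subgroup.zpowers x → ℂ := fun x c =>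
    if c = ⟨x, Subgroup.mem_zpowers x⟩ then (Nat.card (Subgroup.zpowers x) : ℂ) * h x else 0
    with hϑ
  have hmem : ∀ x : G, indFun (Subgroup.zpowers x) (ϑ x) ∈ VEp A p G := by
    intro x
    apply indFun_mem_VEp_of_mem_GC (Subgroup.zpowers x)
      (isElementary_zpowers hp x)
    exact delta_mem_GC (zpowers_comm x)
      (pow_card_mem_of_dvd hA (Subgroup.card_subgroup_dvd_card _)) _ (hval x)
  have hsum : (fun g => (Nat.card G : ℂ) * h g) =
      ∑ x : G, indFun (Subgroup.zpowers x) (ϑ x) := by
    funext y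
    rw [Finset.sum_apply]
    have hval' : ∀ x : G, indFun (Subgroup.zpowers x) (ϑ x) y =
        ∑ t : G, if t⁻¹ * y * t = x then h y else 0 := by
      intro x
      unfold indFun
      rw [Finset.mul_sum]
      apply Finset.sum_congr rfl
      intro t _
      have hZ : (Nat.card (Subgroup.zpowers x) : ℂ) ≠ 0 := by
        have : Nat.card (Subgroup.zpowers x) ≠ 0 := Nat.card_pos.ne'
        exact_mod_cast this
      by_cases ht : t⁻¹ * y * t = x
      · rw [if_pos ht]
        have hmem' : t⁻¹ * y * t ∈ Subgroup.zpowers x := by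
          rw [ht]; exact Subgroup.mem_zpowers x
        rw [Cfsg.Agent.Lib.Helper75.extendByZero_of_mem _ _ hmem', hϑ]
        simp only
        rw [if_pos (Subtype.ext ht)]
        have hxy : h x = h y := by
          rw [← ht]
          have := hcl y t⁻¹
          rw [inv_inv] at this
          exact this
        rw [hxy]
        field_simp
      · rw [if_neg ht]
        by_cases hmem' : t⁻¹ * y * t ∈ Subgroup.zpowers x
        · rw [Cfsg.Agent.Lib.Helper75.extendByZero_of_mem _ _ hmem', hϑ]
          simp only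
          rw [if_neg, mul_zero]
          intro hEq
          exact ht (congrArg Subtype.val hEq)
        · rw [Cfsg.Agent.Lib.Helper75.extendByZero_of_not_mem _ _ hmem', mul_zero]
    rw [Finset.sum_congr rfl fun x _ => hval' x, Finset.sum_comm]
    have : ∀ t : G, ∑ x : G, (if t⁻¹ * y * t = x then h y else 0) = h y := by
      intro t
      rw [Finset.sum_ite_eq]
      simp
    rw [Finset.sum_congr rfl fun t _ => this t, Finset.sum_const, Finset.card_univ,
      nsmul_eq_mul, Nat.card_eq_fintype_card]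
  rw [hsum]
  exact Submodule.sum_mem _ fun x _ => hmem x

/-- **the local lemma** -/
theorem exists_localP (hint : ∀ a ∈ A, IsIntegral ℤ a)
    (hA : ∀ z : ℂ, z ^ Nat.card G = 1 → z ∈ A) (hp : p.Prime) (x : G)
    (hx : (orderOf x).Coprime p) :
    ∃ f : G → ℂ, f ∈ VEp A p G ∧ (∀ y, ∃ n : ℤ, f y = n) ∧
      (∀ s, (orderOf s).Coprime p → ¬ IsConj s x → f s = 0) ∧
      (∀ n : ℤ, f x = n → ¬ (p : ℤ) ∣ n) := by
  classical
  have : Fact p.Prime := ⟨hp⟩
  set Cx := Subgroup.centralizer ({x} : Set G) with hCx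
  obtain ⟨Q⟩ : Nonempty (Sylow p Cx) := inferInstance
  set P : Subgroup G := (Q : Subgroup Cx).map Cx.subtype with hPdef
  have hP : IsPGroup p P := Q.isPGroup'.map _
  have hPle : P ≤ Cx := Subgroup.map_subtype_le _
  have hPx : ∀ u ∈ P, u * x = x * u := by
    intro u hu
    have := hPle hu
    rw [hCx, Subgroup.mem_centralizer_iff] at this
    exact (this x rfl).symm
  have hcardP : Nat.card P = Nat.card (Q : Subgroup Cx) :=
    Nat.card_congr ((Q : Subgroup Cx).equivMapOfInjective Cx.subtype
      Cx.subtype_injective).toEquiv.symm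
  obtain ⟨k, hk⟩ := (IsPGroup.iff_card (p := p) (G := P)).mp hP
  have hcop : (Nat.card (Subgroup.zpowers x)).Coprime (Nat.card P) := by
    rw [Nat.card_zpowers, hk]
    exact hx.pow_right k
  set f := indFun (Subgroup.zpowers x ⊔ P) (psiLoc x P hPx hcop) with hf
  have hfVE : f ∈ VEp A p G :=
    indFun_mem_VEp_of_mem_GC _ (isElementary_zpowers_sup hp x hx P hP hPx)
      (psiLoc_mem_GC x P hPx hcop hA)
  have hP0 : (Nat.card P : ℂ) ≠ 0 := by
    have : Nat.card P ≠ 0 := Nat.card_pos.ne'
    exact_mod_cast this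
  refine ⟨f, hfVE, ?_, ?_, ?_⟩
  · intro y
    have h1 := isIntegral_of_mem_GC hint (VEp_le_GC hfVE) y
    have h2 : f y = (((((Finset.univ.filter fun t : G => x⁻¹ * (t⁻¹ * y * t) ∈ P).card : ℕ) : ℚ) /
        ((Nat.card P : ℕ) : ℚ) : ℚ) : ℂ) := by
      rw [hf, indFun_psiLoc]
      push_cast
      rw [div_eq_inv_mul]
    rw [h2] at h1
    obtain ⟨n, hn⟩ := exists_int_of_isIntegral_ratCast _ h1
    refine ⟨n, ?_⟩
    rw [h2, ← hn]
    push_cast
    rfl
  · intro s hs hns
    rw [hf, indFun_psiLoc]
    have : (Finset.univ.filter fun t : G => x⁻¹ * (t⁻¹ * s * t) ∈ P) = ∅ := by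
      rw [Finset.filter_eq_empty_iff]
      intro t _ ht
      have hw : (orderOf (t⁻¹ * s * t)).Coprime p := by rw [orderOf_conj']; exact hs
      have := eq_of_mem_of_coprime x P hPx hP hx hw ht
      apply hns
      rw [isConj_iff]
      exact ⟨t⁻¹, by rw [inv_inv]; exact this⟩
    rw [this, Finset.card_empty, Nat.cast_zero, mul_zero]
  · intro n hn
    rw [hf, indFun_psiLoc] at hn
    have hfilter : (Finset.univ.filter fun t : G => x⁻¹ * (t⁻¹ * x * t) ∈ P) =
        Finset.univ.filter fun t : G => t ∈ Cx := by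
      apply Finset.filter_congr
      intro t _
      constructor
      · intro ht
        have hw : (orderOf (t⁻¹ * x * t)).Coprime p := by rw [orderOf_conj']; exact hx
        have h1 := eq_of_mem_of_coprime x P hPx hP hx hw ht
        rw [hCx, Subgroup.mem_centralizer_iff]
        intro z hz
        rw [Set.mem_singleton_iff.mp hz]
        calc x * t = t * (t⁻¹ * x * t) := by group
          _ = t * x := by rw [h1]
      · intro ht
        rw [hCx, Subgroup.mem_centralizer_iff] at ht
        have h1 : x * t = t * x := ht x rfl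
        have h2 : x⁻¹ * (t⁻¹ * x * t) = 1 := by
          rw [mul_assoc t⁻¹, h1, inv_mul_cancel_left, inv_mul_cancel]
        rw [h2]
        exact one_mem P
    have hcardCx : (Finset.univ.filter fun t : G => t ∈ Cx).card = Nat.card Cx := by
      rw [Nat.card_eq_fintype_card, Fintype.card_subtype]
    rw [hfilter, hcardCx] at hn
    have hidx : Nat.card Cx = Nat.card P * (Q : Subgroup Cx).index := by
      rw [hcardP, mul_comm]
      exact ((Q : Subgroup Cx).index_mul_card).symm
    rw [hidx] at hn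
    push_cast at hn
    rw [← mul_assoc, inv_mul_cancel₀ hP0, one_mul] at hn
    have hn' : ((Q : Subgroup Cx).index : ℤ) = n := by exact_mod_cast hn
    rw [← hn']
    intro hdvd
    exact Q.not_dvd_index (by exact_mod_cast hdvd)

/-- **the global lemma**: an integer-valued element of `VEp A p G` with values prime to `p` -/
theorem exists_globalP (hint : ∀ a ∈ A, IsIntegral ℤ a)
    (hA : ∀ z : ℂ, z ^ Nat.card G = 1 → z ∈ A) (hp : p.Prime) :
    ∃ F : G → ℂ, F ∈ VEp A p G ∧ ∀ y, ∃ n : ℤ, F y = n ∧ ¬ (p : ℤ) ∣ n := by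
  classical
  have hloc := fun (x : G) (hx : (orderOf x).Coprime p) =>
    exists_localP (A := A) hint hA hp x hx
  choose f hfVE hfint hfvan hfx using hloc
  let _ : Fintype (ConjClasses G) := Fintype.ofFinite _
  set r : ConjClasses G → G := fun K => Quotient.out K with hr_def
  have hr : ∀ K, ConjClasses.mk (r K) = K := fun K => Quotient.out_eq K
  set T : ConjClasses G → G → ℂ :=
    fun K => if h : (orderOf (r K)).Coprime p then f (r K) h else 0 with hT
  set F : G → ℂ := ∑ K : ConjClasses G, T K with hF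
  have hTVE : ∀ K, T K ∈ VEp A p G := by
    intro K
    rw [hT]
    dsimp only
    split_ifs with h
    · exact hfVE _ h
    · exact Submodule.zero_mem _
  have hFVE : F ∈ VEp A p G := Submodule.sum_mem _ fun K _ => hTVE K
  have hFint : ∀ y, ∃ n : ℤ, F y = n := by
    intro y
    have hT_int : ∀ K, ∃ n : ℤ, T K y = n := by
      intro K
      rw [hT]
      dsimp only
      split_ifs with h
      · exact hfint _ h y
      · exact ⟨0, by simp⟩
    choose g hg using hT_int
    refine ⟨∑ K, g K, ?_⟩
    rw [hF, Finset.sum_apply]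
    push_cast
    exact Finset.sum_congr rfl fun K _ => hg K
  have hFreg : ∀ s, (orderOf s).Coprime p → ∀ n : ℤ, F s = n → ¬ (p : ℤ) ∣ n := by
    intro s hs n hn
    set K0 := ConjClasses.mk s with hK0
    have hconj : IsConj s (r K0) := by
      rw [← ConjClasses.mk_eq_mk_iff_isConj, hr]
    have h0 : (orderOf (r K0)).Coprime p := by
      obtain ⟨c, hc⟩ := isConj_iff.mp hconj
      have : orderOf (r K0) = orderOf s := by
        rw [← hc]
        have := orderOf_conj' c⁻¹ s
        rw [inv_inv] at this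
        exact this
      rw [this]; exact hs
    have hsum : F s = T K0 s := by
      rw [hF, Finset.sum_apply]
      apply Finset.sum_eq_single K0
      · intro K _ hK
        rw [hT]
        dsimp only
        split_ifs with h
        · apply hfvan _ h s hs
          intro hc
          apply hK
          rw [← hr K, hK0]
          exact (ConjClasses.mk_eq_mk_iff_isConj.mpr hc).symm
        · rfl
      · intro h
        exact absurd (Finset.mem_univ K0) h
    have hTK0 : T K0 s = f (r K0) h0 (r K0) := by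
      rw [hT]
      dsimp only
      rw [dif_pos h0]
      exact classFunction_isConj (isClassFunction_of_mem_GC (VEp_le_GC (hfVE _ h0))) hconj
    rw [hsum, hTK0] at hn
    exact hfx _ h0 n hn
  refine ⟨F, hFVE, ?_⟩
  intro y
  obtain ⟨n, hn⟩ := hFint y
  refine ⟨n, hn, ?_⟩
  obtain ⟨z, hz, k, hzcop, hpow⟩ := exists_pprime_part hp y
  obtain ⟨m, hm⟩ := hFint z
  have h1 := int_dvd_sub_of_pow_eq hint hA hp (VEp_le_GC hFVE) y z hz k hpow n m hn hm
  intro hdvd
  apply hFreg z hzcop m hm
  have := dvd_sub hdvd h1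
  rwa [sub_sub_cancel] at this

/-- some integer prime to `p` lies in `VEp A p G` (as a constant function) -/
theorem exists_pprime_memP (hint : ∀ a ∈ A, IsIntegral ℤ a)
    (hA : ∀ z : ℂ, z ^ Nat.card G = 1 → z ∈ A) (hp : p.Prime) :
    ∃ l : ℕ, ¬ p ∣ l ∧ (fun _ : G => (l : ℂ)) ∈ VEp A p G := by
  classical
  have hG0 : Nat.card G ≠ 0 := Nat.card_pos.ne'
  obtain ⟨n, l, hl, hnl⟩ := Nat.exists_eq_pow_mul_and_not_dvd hG0 p hp.ne_one
  obtain ⟨F, hFVE, hF⟩ := exists_globalP (A := A) (G := G) hint hA hp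
  choose a haF hap using hF
  set N := Nat.totient (p ^ n) with hN
  have hNpos : 0 < N := Nat.totient_pos.mpr (pow_pos hp.pos n)
  have hdvd : ∀ y, ((p ^ n : ℕ) : ℤ) ∣ a y ^ N - 1 := fun y =>
    int_pow_totient_sub_one hp n (a y) (hap y)
  choose b hb using hdvd
  have hpn0 : ((p ^ n : ℕ) : ℂ) ≠ 0 := by
    have : p ^ n ≠ 0 := pow_ne_zero n hp.ne_zero
    exact_mod_cast this
  set h : G → ℂ := fun y => (F y ^ N - 1) / ((p ^ n : ℕ) : ℂ) with hh
  have hFcl : IsClassFunction G F := isClassFunction_of_mem_GC (VEp_le_GC hFVE)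
  have hcl : IsClassFunction G h := by
    intro g c
    rw [hh]
    dsimp only
    rw [hFcl g c]
  have hval : ∀ y, h y ∈ A := by
    intro y
    have : h y = ((b y : ℤ) : ℂ) := by
      rw [hh]
      dsimp only
      rw [div_eq_iff hpn0, haF y]
      have := congrArg (fun z : ℤ => (z : ℂ)) (hb y)
      push_cast at this ⊢
      rw [this]
      ring
    rw [this]
    exact intCast_mem A _
  have h1 := card_mul_mem_VEp (p := p) hp hA hcl hval
  have h2 : (l • F ^ N) ∈ VEp A p G := nsmul_mem (pow_mem_VEp hFVE hNpos) l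
  refine ⟨l, hl, ?_⟩
  have h3 : (fun _ : G => (l : ℂ)) = (l • F ^ N) - fun g => (Nat.card G : ℂ) * h g := by
    funext g
    rw [Pi.sub_apply, Pi.smul_apply, Pi.pow_apply, nsmul_eq_mul, hh]
    dsimp only
    rw [hnl]
    have hp0 : (p : ℂ) ≠ 0 := by
      have := hp.ne_zero
      exact_mod_cast this
    push_cast
    field_simp
    ring
  rw [h3]
  exact Submodule.sub_mem _ h2 h1

/-- **`p`-local Brauer induction** (closure form) -/
theorem exists_pprime_mem_closure (hp : p.Prime) :
    ∃ l : ℕ, ¬ p ∣ l ∧ (fun _ : G => (l : ℂ)) ∈ AddSubgroup.closure (elemIndP p G) := by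
  obtain ⟨A, hint, hA, π, hπ⟩ := exists_good_subring (Nat.card G) Nat.card_pos
  obtain ⟨l, hl, hmem⟩ := exists_pprime_memP (A := A) (G := G) hint hA hp
  refine ⟨l, hl, ?_⟩
  apply descent π hπ (elemIndP p G) _ hmem
  · intro χ
    obtain ⟨n, hn⟩ := Cfsg.Agent.S0148.exists_nat_classInner_of_isCharacter
      (Cfsg.Agent.Lib.Helper80.isCharacter_one (G := G))
      (Cfsg.Agent.Lib.Helper80.isCharacter_of_isIrr χ.2)
    refine ⟨(l : ℤ) * n, ?_⟩
    have h1 : (fun _ : G => (l : ℂ)) = (l : ℂ) • (1 : G → ℂ) := by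
      funext g; simp
    have hn' : classInner (1 : G → ℂ) χ = n := hn
    rw [h1, classInner_smul_left, hn']
    push_cast
    ring
  · rintro s ⟨E, ψ, -, hψ, rfl⟩
    have hchar := Cfsg.Agent.S0148.result E ψ hψ
    refine ⟨Cfsg.Agent.Lib.Helper80.isClassFunction_of_isCharacter hchar, fun χ => ?_⟩
    obtain ⟨n, hn⟩ := Cfsg.Agent.S0148.exists_nat_classInner_of_isCharacter hchar
      (Cfsg.Agent.Lib.Helper80.isCharacter_of_isIrr χ.2)
    exact ⟨n, by rw [← Int.cast_natCast] at hn; exact hn⟩

end

end Cfsg.Agent.Lib.Helper74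

namespace Cfsg.Agent.Lib.Helper74

open Cfsg

universe u

section

variable {p : ℕ} {G : Type u} [Group G] [Fintype G]

/-- list form of membership in the `ℤ`-span of the `p`-elementary-induced characters -/
theorem exists_list_of_mem_closure_elemIndP {f : G → ℂ}
    (hf : f ∈ AddSubgroup.closure (elemIndP p G)) :
    ∃ l : List ((E : Subgroup G) × ((E → ℂ) × ℤ)),
      (∀ t ∈ l, IsElementary p t.1 ∧ IsCharacter t.1 t.2.1) ∧
      f = (l.map fun t => (t.2.2 : ℂ) • indFun t.1 t.2.1).sum := by
  induction hf using AddSubgroup.closure_induction with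
  | mem x hx =>
    obtain ⟨E, ψ, hE, hψ, rfl⟩ := hx
    refine ⟨[⟨E, (ψ, 1)⟩], ?_, ?_⟩
    · intro t ht
      rw [List.mem_singleton] at ht
      subst ht
      exact ⟨hE, hψ⟩
    · simp
  | zero => exact ⟨[], by simp, by simp⟩
  | add x y _ _ hx hy =>
    obtain ⟨l1, h1, rfl⟩ := hx
    obtain ⟨l2, h2, rfl⟩ := hy
    refine ⟨l1 ++ l2, ?_, ?_⟩
    · intro t ht
      rcases List.mem_append.mp ht with h | h
      · exact h1 t h
      · exact h2 t h
    · rw [List.map_append, List.sum_append]
  | neg x hxmem hx =>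
    obtain ⟨l, h1, rfl⟩ := hx
    clear hxmem
    refine ⟨l.map (fun t => ⟨t.1, (t.2.1, -t.2.2)⟩), ?_, ?_⟩
    · intro t ht
      obtain ⟨s, hs, rfl⟩ := List.mem_map.mp ht
      exact h1 s hs
    · rw [List.map_map]
      clear h1
      induction l with
      | nil => simp
      | cons a l ih =>
        rw [List.map_cons, List.sum_cons, neg_add, ih, List.map_cons, List.sum_cons]
        congr 1
        simp

end

end Cfsg.Agent.Lib.Helper74
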