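import Cfsg.Agent.Lib.Helper74.BPPurity2
import Cfsg.Agent.Lib.Helper78.BPDict3
import Cfsg.Agent.Lib.Helper31.BPLemmaAFinal

/-!
# PROJECT BP, BP-[U] : THEOREM U (purity of local primitive idempotents), final form (helper74)

`purity` = the exact statement of `BP_SKEL2d.lean.txt`, hypothesis-free: BP-[D1] (helper77),
BP-[D3] (helper78), BP-[U-A] (helper31, `lemmaA_of_D3`), BP-[U-BCP] (helper3) plugged into
`purity_of`.
-/

set_option autoImplicit false

namespace Cfsg.Agent.Lib.Helper74.BP

open Cfsg Cfsg.Agent.Lib.Helper16 Cfsg.Agent.Lib.Helper92.BP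

variable {G : Type*} [Group G] [Finite G] {p : ℕ} [Fact p.Prime] {M : Ideal AlgInt}
  [hMp : M.IsPrime]

/-- BP-[U] : THEOREM U (purity of local primitive idempotents) -/
theorem purity (hM : IsPModular p M) {Q P : Subgroup G}
    {f : Set (IrrCharacter (Subgroup.centralizer (Q : Set G)))}
    {e : Set (IrrCharacter (Subgroup.centralizer (P : Set G)))}
    (hPe : IsBrauerPair p M P e) (hle : SubpairLE p M Q f P e)
    {i : MonoidAlgebra (localSubring M) G} (hi : IsLocalPrim (localSubring M) P i)
    (hie : br (localSubring M) P i * blockIdemK M e = br (localSubring M) P i) :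
    br (localSubring M) Q i * blockIdemK M f = br (localSubring M) Q i :=
  purity_of2 hM
    (fun Q P f e h =>
      ((Cfsg.Agent.Lib.Helper78.BP.isNormalSubpair_iff_idem hM Q P f e).1 h).2.2.2.2.1)
    (fun {Q P} hP hQP hPN {_} hi {e} he hie =>
      Cfsg.Agent.Lib.Helper31.BP.lemmaA_of_D3 hM hP hQP hPN hi he hie
        (fun f h => (Cfsg.Agent.Lib.Helper78.BP.isNormalSubpair_iff_idem hM Q P f e).2 h))
    hPe hle hi hie

end Cfsg.Agent.Lib.Helper74.BP
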