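import Mathlib
import Cfsg.Prelude.Def_OddOrderChar
import Cfsg.Prelude.Def_OddOrderLocal
import Cfsg.Agent.Lib.Helper78.CharMore
import Cfsg.Agent.Lib.Helper26.ZSpan
import Cfsg.Agent.Lib.Helper74.KerSum
import Cfsg.Agent.S1530

set_option autoImplicit false
set_option linter.unusedSectionVars false
set_option linter.style.haveILetI false

namespace Cfsg.Agent.Lib.Helper74

open Cfsg Cfsg.Agent.Lib.Helper78 Cfsg.Agent.Lib.Helper26

/-- ADD (step 4 of Sibley's theorem): starting from a coherent subset `T` of a set `S` of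
irreducible characters, the remaining members of `S` can be added one at a time with Feit's
criterion (`S1530`). -/
theorem sibley_add {G : Type*} [Group G] [Fintype G] (N : Subgroup G) [Fintype N]
    (S T : Set (N → ℂ)) (hirr : ∀ ξ ∈ S, IsIrrCharacter N ξ) (hTS : T ⊆ S)
    (hτ : IsLinearIsometryOn (zspanOn S {1}ᶜ) (fun α : N → ℂ => indFun N α))
    (hτ1 : ∀ α ∈ zspanOn S {1}ᶜ, indFun N α 1 = 0)
    (hT : IsCoherent T {1}ᶜ (fun α : N → ℂ => indFun N α))
    (e : ℕ) (ψ₀ : N → ℂ) (hψ₀ : ψ₀ ∈ T) (hψ₀e : ψ₀ 1 = e)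
    (Tf : Finset (N → ℂ)) (hTf : ↑Tf ⊆ T) (D : ℕ)
    (hD : ∀ d : (N → ℂ) → ℕ, (∀ ξ ∈ Tf, ξ 1 = d ξ) → D ≤ ∑ ξ ∈ Tf, d ξ ^ 2)
    (hadd : ∀ χ ∈ S, χ ∉ T → ∃ d : ℕ, χ 1 = d ∧ e ∣ d ∧ 2 * e * d < D) :
    IsCoherent S {1}ᶜ (fun α : N → ℂ => indFun N α) := by
  classical
  have hSfin : S.Finite :=
    (Set.finite_range (Subtype.val : IrrCharacter N → N → ℂ)).subset
      (fun ξ hξ => ⟨⟨ξ, hirr ξ hξ⟩, rfl⟩)
  have hTfin : T.Finite := hSfin.subset hTS
  have hdeg : ∀ ξ ∈ S, ξ 1 = (charDegree ξ : ℂ) := fun ξ hξ =>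
    IsCharacter.apply_one_eq_charDegree (IsIrrCharacter.isCharacter (hirr ξ hξ))
  have hdψ₀ : charDegree ψ₀ = e := by
    have := hdeg ψ₀ (hTS hψ₀)
    rw [hψ₀e] at this
    exact_mod_cast this.symm
  have hDle : D ≤ ∑ ξ ∈ Tf, charDegree ξ ^ 2 :=
    hD charDegree (fun ξ hξ => hdeg ξ (hTS (hTf hξ)))
  have key : ∀ U : Finset (N → ℂ), (↑U : Set (N → ℂ)) ⊆ S \ T →
      IsCoherent (↑(hTfin.toFinset ∪ U) : Set (N → ℂ)) {1}ᶜ (fun α : N → ℂ => indFun N α) := by
    intro U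
    induction U using Finset.induction_on with
    | empty =>
      intro _
      rw [Finset.union_empty, Set.Finite.coe_toFinset]
      exact hT
    | insert χ U hχU ih =>
      intro hsub
      have hU : (↑U : Set (N → ℂ)) ⊆ S \ T := fun x hx => hsub (by
        rw [Finset.coe_insert]; exact Set.mem_insert_of_mem _ hx)
      have hχ : χ ∈ S \ T := hsub (by rw [Finset.coe_insert]; exact Set.mem_insert _ _)
      have ih' := ih hU
      have hS₀S : ∀ ξ ∈ hTfin.toFinset ∪ U, ξ ∈ S := by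
        intro ξ hξ
        rcases Finset.mem_union.mp hξ with h | h
        · exact hTS ((Set.Finite.mem_toFinset hTfin).mp h)
        · exact (hU h).1
      have hinsS : (↑(insert χ (hTfin.toFinset ∪ U)) : Set (N → ℂ)) ⊆ S := by
        intro ξ hξ
        rcases Finset.mem_insert.mp hξ with h | h
        · rw [h]; exact hχ.1
        · exact hS₀S ξ h
      have hχS₀ : χ ∉ hTfin.toFinset ∪ U := by
        intro h
        rcases Finset.mem_union.mp h with h | h
        · exact hχ.2 ((Set.Finite.mem_toFinset hTfin).mp h)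
        · exact hχU h
      obtain ⟨d, hd1, hd2, hd3⟩ := hadd χ hχ.1 hχ.2
      have hdχ : charDegree χ = d := by
        have := hdeg χ hχ.1
        rw [hd1] at this
        exact_mod_cast this.symm
      have hTfsub : Tf ⊆ hTfin.toFinset ∪ U := by
        intro ξ hξ
        exact Finset.mem_union_left _ ((Set.Finite.mem_toFinset hTfin).mpr (hTf hξ))
      have hres := Cfsg.Agent.S1530.result N (hTfin.toFinset ∪ U) χ (fun ξ hξ => hirr ξ (hS₀S ξ hξ))
        (hirr χ hχ.1) hχS₀ charDegree (fun ξ hξ => hdeg ξ (hinsS hξ))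
        (fun α : N → ℂ => indFun N α) (isom_mono (zspanOn_mono _ hinsS) hτ)
        (fun α hα => hτ1 α (zspanOn_mono _ hinsS hα)) ih' ψ₀
        (Finset.mem_union_left _ ((Set.Finite.mem_toFinset hTfin).mpr hψ₀))
        (by rw [hdψ₀, hdχ]; exact hd2)
        (by
          rw [hdψ₀, hdχ]
          calc 2 * e * d < D := hd3
            _ ≤ ∑ ξ ∈ Tf, charDegree ξ ^ 2 := hDle
            _ ≤ ∑ ξ ∈ hTfin.toFinset ∪ U, charDegree ξ ^ 2 :=
              Finset.sum_le_sum_of_subset hTfsub)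
      rwa [← Finset.union_insert] at hres
  have hfin := key (hSfin.toFinset \ hTfin.toFinset) (by
    intro ξ hξ
    rw [Finset.mem_coe, Finset.mem_sdiff, Set.Finite.mem_toFinset, Set.Finite.mem_toFinset] at hξ
    exact hξ)
  have hset : (↑(hTfin.toFinset ∪ (hSfin.toFinset \ hTfin.toFinset)) : Set (N → ℂ)) = S := by
    ext ξ
    rw [Finset.mem_coe, Finset.mem_union, Finset.mem_sdiff, Set.Finite.mem_toFinset,
      Set.Finite.mem_toFinset]
    constructor
    · rintro (h | h)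
      · exact hTS h
      · exact h.1
    · intro h
      by_cases hT' : ξ ∈ T
      · exact Or.inl hT'
      · exact Or.inr ⟨h, hT'⟩
  rwa [hset] at hfin

universe u

section Numeric

variable {Λ : Type u} [Group Λ] [Fintype Λ] (Z : Subgroup Λ) [hZ : Z.Normal]

open Classical in
/-- natural-number form of `sum_sq_degree_of_kernel_ge` -/
theorem sum_charDegree_sq_trivial_on :
    ∑ χ ∈ Finset.univ.filter (fun χ : IrrCharacter Λ => ∀ n ∈ Z, (χ : Λ → ℂ) n = (χ : Λ → ℂ) 1),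
      charDegree (χ : Λ → ℂ) ^ 2 = Z.index := by
  haveI : Fintype Z := Fintype.ofFinite Z
  have h := sum_sq_degree_of_kernel_ge Z
  have h2 : ∑ χ ∈ Finset.univ.filter (fun χ : IrrCharacter Λ =>
        ∀ n ∈ Z, (χ : Λ → ℂ) n = (χ : Λ → ℂ) 1), ((χ : Λ → ℂ) 1) ^ 2 =
      ((∑ χ ∈ Finset.univ.filter (fun χ : IrrCharacter Λ =>
        ∀ n ∈ Z, (χ : Λ → ℂ) n = (χ : Λ → ℂ) 1), charDegree (χ : Λ → ℂ) ^ 2 : ℕ) : ℂ) := by
    push_cast
    apply Finset.sum_congr rfl
    intro χ _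
    rw [IsCharacter.apply_one_eq_charDegree (IsIrrCharacter.isCharacter χ.2)]
  rw [h2] at h
  exact_mod_cast h

open Classical in
/-- the squared degrees of the irreducible characters nontrivial on `Z` sum to `|Λ| - [Λ:Z]` -/
theorem sum_charDegree_sq_nontrivial_on :
    ∑ χ ∈ Finset.univ.filter (fun χ : IrrCharacter Λ =>
        ¬ ∀ n ∈ Z, (χ : Λ → ℂ) n = (χ : Λ → ℂ) 1), charDegree (χ : Λ → ℂ) ^ 2 + Z.index =
      Nat.card Λ := by
  rw [← sum_charDegree_sq_trivial_on Z, add_comm, Finset.sum_filter_add_sum_filter_not,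
    sum_irr_charDegree_sq]

/-- (numeric input 1 for ADD) a nonprincipal irreducible character trivial on `Z` has
`d² + 1 ≤ [Λ:Z]` -/
theorem charDegree_sq_succ_le_index {χ : Λ → ℂ} (hχ : IsIrrCharacter Λ χ)
    (hχZ : ∀ z ∈ Z, χ z = χ 1) (hχ1 : χ ≠ fun _ => 1) :
    charDegree χ ^ 2 + 1 ≤ Z.index := by
  classical
  rw [← sum_charDegree_sq_trivial_on Z]
  let c : IrrCharacter Λ := ⟨χ, hχ⟩
  let o : IrrCharacter Λ := ⟨fun _ => 1, isIrrCharacter_one⟩
  have hco : c ≠ o := fun h => hχ1 (congrArg Subtype.val h)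
  have hsub : ({c, o} : Finset (IrrCharacter Λ)) ⊆
      Finset.univ.filter (fun χ : IrrCharacter Λ => ∀ n ∈ Z, (χ : Λ → ℂ) n = (χ : Λ → ℂ) 1) := by
    intro x hx
    rw [Finset.mem_insert, Finset.mem_singleton] at hx
    rw [Finset.mem_filter]
    refine ⟨Finset.mem_univ _, ?_⟩
    rcases hx with rfl | rfl
    · exact hχZ
    · intro n _; rfl
  calc charDegree χ ^ 2 + 1 = ∑ x ∈ ({c, o} : Finset (IrrCharacter Λ)), charDegree (x : Λ → ℂ) ^ 2 := by
        rw [Finset.sum_pair hco]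
        have : charDegree (o : Λ → ℂ) = 1 := by
          simp [charDegree, o]
        rw [this]
        simp [c]
    _ ≤ _ := Finset.sum_le_sum_of_subset hsub

/-- (numeric input 2 for ADD) if `|Z| ≥ 3` then the squared degrees of the irreducible characters
nontrivial on `Z` sum to at least `2[Λ:Z]` -/
theorem two_mul_index_le_sum (hZ3 : 3 ≤ Nat.card Z) (Tf : Finset (Λ → ℂ))
    (hTf : ∀ ξ, ξ ∈ Tf ↔ IsIrrCharacter Λ ξ ∧ ∃ z ∈ Z, ξ z ≠ ξ 1)
    (d : (Λ → ℂ) → ℕ) (hd : ∀ ξ ∈ Tf, ξ 1 = d ξ) :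
    2 * Z.index ≤ ∑ ξ ∈ Tf, d ξ ^ 2 := by
  classical
  have h1 := sum_charDegree_sq_nontrivial_on Z
  have h2 : Nat.card Z * Z.index = Nat.card Λ := Z.card_mul_index
  have h3 : ∑ ξ ∈ Tf, d ξ ^ 2 = ∑ χ ∈ Finset.univ.filter (fun χ : IrrCharacter Λ =>
        ¬ ∀ n ∈ Z, (χ : Λ → ℂ) n = (χ : Λ → ℂ) 1), charDegree (χ : Λ → ℂ) ^ 2 := by
    symm
    apply Finset.sum_bij (fun (χ : IrrCharacter Λ) _ => (χ : Λ → ℂ))
    · intro χ hχ
      rw [Finset.mem_filter] at hχ
      rw [hTf]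
      refine ⟨χ.2, ?_⟩
      by_contra hcon
      apply hχ.2
      intro n hn
      by_contra hne
      exact hcon ⟨n, hn, hne⟩
    · intro a _ b _ hab
      exact Subtype.ext hab
    · intro ξ hξ
      rw [hTf] at hξ
      refine ⟨⟨ξ, hξ.1⟩, ?_, rfl⟩
      rw [Finset.mem_filter]
      refine ⟨Finset.mem_univ _, ?_⟩
      intro hall
      obtain ⟨z, hz, hne⟩ := hξ.2
      exact hne (hall z hz)
    · intro χ hχ
      rw [Finset.mem_filter] at hχ
      have hmem : (χ : Λ → ℂ) ∈ Tf := by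
        rw [hTf]
        refine ⟨χ.2, ?_⟩
        by_contra hcon
        apply hχ.2
        intro n hn
        by_contra hne
        exact hcon ⟨n, hn, hne⟩
      have e1 := hd _ hmem
      rw [IsCharacter.apply_one_eq_charDegree (IsIrrCharacter.isCharacter χ.2)] at e1
      have : charDegree (χ : Λ → ℂ) = d (χ : Λ → ℂ) := by exact_mod_cast e1
      rw [this]
  rw [h3]
  nlinarith

end Numeric

end Cfsg.Agent.Lib.Helper74
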