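import Mathlib
import Cfsg.Agent.Lib.Helper76.PCore
import Cfsg.Prelude.Def_CaseTheorems

set_option autoImplicit false
set_option linter.unusedSectionVars false

namespace Cfsg.Agent.Lib.Helper74

open Cfsg

section KleinCentral

variable {X : Type*} [Group X] [Finite X]

/-- A `2`-element normalizing a Sylow `2`-subgroup lies in it. -/
theorem mem_sylow_of_mem_normalizer_of_pow {p : ℕ} [Fact p.Prime] (Q : Sylow p X) (h : X)
    (hn : h ∈ Subgroup.normalizer ((Q : Subgroup X) : Set X)) (k : ℕ) (hk : h ^ (p ^ k) = 1) :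
    h ∈ (Q : Subgroup X) := by
  have hpg : IsPGroup p (Subgroup.zpowers h) := by
    obtain ⟨j, _, hj⟩ := (Nat.dvd_prime_pow (Fact.out : p.Prime)).mp (orderOf_dvd_of_pow_eq_one hk)
    apply IsPGroup.of_card (n := j)
    rw [Nat.card_zpowers, hj]
  have h1 := hpg.inf_normalizer_sylow Q
  have h2 : h ∈ Subgroup.zpowers h ⊓ (Q : Subgroup X) := by
    rw [← h1]
    exact ⟨Subgroup.mem_zpowers h, hn⟩
  exact h2.2

theorem normalizer_le_centralizer_of_klein_central (Q : Sylow 2 X)
    (hQ : IsKleinFour (Q : Subgroup X)) (z : X) (hzQ : z ∈ (Q : Subgroup X)) (hz1 : z ≠ 1)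
    (hzc : ∀ x : X, x * z = z * x) :
    Subgroup.normalizer ((Q : Subgroup X) : Set X) ≤
      Subgroup.centralizer ((Q : Subgroup X) : Set X) := by
  have hcomm : ∀ a ∈ (Q : Subgroup X), ∀ b ∈ (Q : Subgroup X), a * b = b * a := by
    intro a ha b hb
    have := (IsKleinFour.isMulCommutative (G := (Q : Subgroup X))).is_comm.comm ⟨a, ha⟩ ⟨b, hb⟩
    exact congrArg Subtype.val this
  have hsq : ∀ a ∈ (Q : Subgroup X), a * a = 1 := by
    intro a ha
    have := IsKleinFour.mul_self (⟨a, ha⟩ : (Q : Subgroup X))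
    exact congrArg Subtype.val this
  intro h hn
  rw [Subgroup.mem_centralizer_iff]
  intro q hq
  -- goal : q * h = h * q
  by_contra hne
  have hq' : h * q * h⁻¹ ∈ (Q : Subgroup X) := (Subgroup.mem_normalizer_iff.mp hn q).mp hq
  have hq1 : q ≠ 1 := by rintro rfl; simp at hne
  have hqz : q ≠ z := by rintro rfl; exact hne (hzc h).symm
  have hc1 : h * q * h⁻¹ ≠ 1 := by
    intro h1
    apply hq1
    have : q = h⁻¹ * (h * q * h⁻¹) * h := by group
    rw [this, h1]; group
  have hcz : h * q * h⁻¹ ≠ z := by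
    intro h1
    apply hqz
    have : q = h⁻¹ * (h * q * h⁻¹) * h := by group
    rw [this, h1, mul_assoc, ← hzc h, ← mul_assoc, inv_mul_cancel, one_mul]
  have hcq : h * q * h⁻¹ ≠ q := by
    intro h1
    apply hne
    have : h * q = (h * q * h⁻¹) * h := by group
    rw [this, h1]
  -- so `h q h⁻¹ = z q`
  have key : h * q * h⁻¹ = z * q := by
    have := IsKleinFour.eq_mul_of_ne_all (G := (Q : Subgroup X)) (x := ⟨z, hzQ⟩) (y := ⟨q, hq⟩)
      (z := ⟨h * q * h⁻¹, hq'⟩) (fun e => hz1 (congrArg Subtype.val e))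
      (fun e => hq1 (congrArg Subtype.val e)) (fun e => hqz (congrArg Subtype.val e).symm)
      (fun e => hc1 (congrArg Subtype.val e)) (fun e => hcz (congrArg Subtype.val e))
      (fun e => hcq (congrArg Subtype.val e))
    exact congrArg Subtype.val this
  -- powers
  have hpow : ∀ n : ℕ, h ^ n * q * (h ^ n)⁻¹ = z ^ n * q := by
    intro n
    induction n with
    | zero => simp
    | succ n ih =>
      have e1 : h ^ (n + 1) * q * (h ^ (n + 1))⁻¹ = h * (h ^ n * q * (h ^ n)⁻¹) * h⁻¹ := by
        rw [pow_succ']; group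
      rw [e1, ih]
      have e2 : h * (z ^ n * q) * h⁻¹ = z ^ n * (h * q * h⁻¹) := by
        have hzn : h * z ^ n = z ^ n * h := by
          have : Commute h z := hzc h
          exact (this.pow_right n).eq
        rw [← mul_assoc, hzn]; group
      rw [e2, key, pow_succ, mul_assoc]
  have hzz : z * z = 1 := hsq z hzQ
  obtain ⟨k, m, hm, hkm⟩ := Nat.exists_eq_two_pow_mul_odd (orderOf_pos h).ne'
  have hmem : h ^ m ∈ (Q : Subgroup X) := by
    apply mem_sylow_of_mem_normalizer_of_pow Q (h ^ m) (Subgroup.pow_mem _ hn m) k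
    rw [← pow_mul, mul_comm, ← hkm, pow_orderOf_eq_one]
  have h1 := hpow m
  have hzm : z ^ m = z := by
    obtain ⟨j, rfl⟩ := hm
    rw [pow_succ, pow_mul, sq, hzz, one_pow, one_mul]
  rw [hzm] at h1
  have h2 : h ^ m * q * (h ^ m)⁻¹ = q := by
    rw [hcomm _ hmem q hq, mul_assoc, mul_inv_cancel, mul_one]
  rw [h2] at h1
  apply hz1
  have : z * q = 1 * q := by rw [one_mul]; exact h1.symm
  exact mul_right_cancel this

/-- A finite group with a Klein four Sylow `2`-subgroup containing a central involution has a normal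
`2`-complement. -/
theorem exists_index_pPrimeCore_of_klein_central (Q : Sylow 2 X)
    (hQ : IsKleinFour (Q : Subgroup X)) (z : X) (hzQ : z ∈ (Q : Subgroup X)) (hz1 : z ≠ 1)
    (hzc : ∀ x : X, x * z = z * x) : ∃ k : ℕ, (pPrimeCore 2 X).index = 2 ^ k := by
  have hNC := normalizer_le_centralizer_of_klein_central Q hQ z hzQ hz1 hzc
  have hcompl := MonoidHom.ker_transferSylow_isComplement' Q hNC
  have hodd := MonoidHom.not_dvd_card_ker_transferSylow Q hNC
  have hle : (MonoidHom.transferSylow Q hNC).ker ≤ pPrimeCore 2 X := by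
    apply Cfsg.Agent.Lib.Helper76.le_pPrimeCore 2 _ inferInstance
    exact ((Nat.Prime.coprime_iff_not_dvd Nat.prime_two).mpr hodd).symm
  have hdvd := Subgroup.index_dvd_of_le hle
  rw [hcompl.symm.index_eq_card, hQ.card_four] at hdvd
  have hdvd' : (pPrimeCore 2 X).index ∣ 2 ^ 2 := hdvd
  obtain ⟨k, _, hk⟩ := (Nat.dvd_prime_pow Nat.prime_two).mp hdvd'
  exact ⟨k, hk⟩

end KleinCentral

section KleinCentral2

variable {G : Type*} [Group G] [Finite G]

theorem klein_sylow_le_centralizer (P : Sylow 2 G) (hP : IsKleinFour (P : Subgroup G)) (z : G)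
    (hzP : z ∈ (P : Subgroup G)) : (P : Subgroup G) ≤ Subgroup.centralizer ({z} : Set G) := by
  intro a ha
  rw [Subgroup.mem_centralizer_singleton_iff]
  have := (IsKleinFour.isMulCommutative (G := (P : Subgroup G))).is_comm.comm ⟨a, ha⟩ ⟨z, hzP⟩
  exact congrArg Subtype.val this

/-- If `P` is a Klein four Sylow `2`-subgroup of `G` and `z ∈ P` is an involution then `C_G(z)` has a
normal `2`-complement. -/
theorem exists_index_pPrimeCore_centralizer_of_klein (P : Sylow 2 G)
    (hP : IsKleinFour (P : Subgroup G)) (z : G) (hzP : z ∈ (P : Subgroup G)) (hz1 : z ≠ 1) :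
    ∃ k : ℕ, (pPrimeCore 2 (Subgroup.centralizer ({z} : Set G))).index = 2 ^ k := by
  have hPH := klein_sylow_le_centralizer P hP z hzP
  have hzH : z ∈ Subgroup.centralizer ({z} : Set G) := hPH hzP
  have e := Subgroup.subgroupOfEquivOfLe hPH
  have hQ : IsKleinFour ((P.subtype hPH : Sylow 2 (Subgroup.centralizer ({z} : Set G))) :
      Subgroup (Subgroup.centralizer ({z} : Set G))) := by
    rw [Sylow.coe_subtype]
    exact ⟨(Nat.card_congr e.toEquiv).trans hP.card_four,
      (Monoid.exponent_eq_of_mulEquiv e).trans hP.exponent_two⟩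
  refine exists_index_pPrimeCore_of_klein_central (P.subtype hPH) hQ ⟨z, hzH⟩ ?_ ?_ ?_
  · rw [Sylow.coe_subtype, Subgroup.mem_subgroupOf]
    exact hzP
  · intro h
    exact hz1 (congrArg Subtype.val h)
  · intro x
    apply Subtype.ext
    have := Subgroup.mem_centralizer_singleton_iff.mp x.2
    simpa using this

/-- The `2`-part of the order of the centralizer of an involution in a Klein four Sylow `2`-subgroup. -/
theorem factorization_card_centralizer_of_klein (P : Sylow 2 G)
    (hP : IsKleinFour (P : Subgroup G)) (z : G) (hzP : z ∈ (P : Subgroup G)) :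
    (Nat.card (Subgroup.centralizer ({z} : Set G))).factorization 2 = 2 := by
  have hPH := klein_sylow_le_centralizer P hP z hzP
  have h1 : Nat.card (P : Subgroup G) ∣ Nat.card (Subgroup.centralizer ({z} : Set G)) :=
    Subgroup.card_dvd_of_le hPH
  have h2 : Nat.card (Subgroup.centralizer ({z} : Set G)) ∣ Nat.card G :=
    Subgroup.card_subgroup_dvd_card _
  have h3 : Nat.card (P : Subgroup G) = 2 ^ (Nat.card G).factorization 2 := P.card_eq_multiplicity
  have h4 : (Nat.card G).factorization 2 = 2 := by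
    have h5 := hP.card_four
    rw [h3] at h5
    have : (2 : ℕ) ^ (Nat.card G).factorization 2 = 2 ^ 2 := h5
    exact Nat.pow_right_injective (le_refl 2) this
  rw [hP.card_four] at h1
  apply le_antisymm
  · have := (Nat.factorization_le_iff_dvd Nat.card_pos.ne' Nat.card_pos.ne').mpr h2 2
    rwa [h4] at this
  · have : (2 : ℕ) ^ 2 ∣ Nat.card (Subgroup.centralizer ({z} : Set G)) := h1
    exact (Nat.Prime.pow_dvd_iff_le_factorization Nat.prime_two Nat.card_pos.ne').mp this

theorem odd_index_centralizer_of_klein (P : Sylow 2 G)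
    (hP : IsKleinFour (P : Subgroup G)) (z : G) (hzP : z ∈ (P : Subgroup G)) :
    ¬ 2 ∣ (Subgroup.centralizer ({z} : Set G)).index := by
  have hPH := klein_sylow_le_centralizer P hP z hzP
  intro h
  exact P.not_dvd_index (h.trans (Subgroup.index_dvd_of_le hPH))

end KleinCentral2

end Cfsg.Agent.Lib.Helper74
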