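import Mathlib
import Cfsg.Agent.Lib.Helper78.SMTMain
import Cfsg.Agent.Lib.Helper78.SMTOrtho
import Cfsg.Agent.Lib.Helper4.Conj
import Cfsg.Agent.Lib.Helper16.PIndex
import Cfsg.Agent.Lib.Helper76.PCore
import Cfsg.Agent.Lib.Helper74.KleinCentral

set_option autoImplicit false
set_option linter.unusedSectionVars false

namespace Cfsg.Agent.Lib.Helper74

open Cfsg Cfsg.Agent.Lib.Helper78 Cfsg.Agent.Lib.Helper16

section SingularCount

variable {G : Type*} [Group G] [Fintype G]

theorem isPPart_mul_of_commute {p : ℕ} {u y : G} (hu : ∃ k : ℕ, orderOf u = p ^ k)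
    (hc : Commute u y) (hy : ¬ p ∣ orderOf y) : IsPPart p (u * y) u :=
  ⟨y, rfl, hc, hu, hy⟩

theorem dvd_orderOf_mul_of_commute {p : ℕ} [hp : Fact p.Prime] {u y : G} (hu1 : u ≠ 1)
    (hu : ∃ k : ℕ, orderOf u = p ^ k) (hc : Commute u y) (hy : ¬ p ∣ orderOf y) :
    p ∣ orderOf (u * y) := by
  obtain ⟨k, hk⟩ := hu
  have hcop : (orderOf u).Coprime (orderOf y) := by
    rw [hk]
    exact Nat.Coprime.pow_left k ((Nat.Prime.coprime_iff_not_dvd hp.out).mpr hy)
  rw [hc.orderOf_mul_eq_mul_orderOf_of_coprime hcop, hk]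
  have hk0 : k ≠ 0 := by
    rintro rfl
    rw [pow_zero, orderOf_eq_one_iff] at hk
    exact hu1 hk
  exact Dvd.dvd.mul_right (dvd_pow_self p hk0) _

open scoped Classical in
/-- Every `p`-singular element is uniquely `u * y` with `u ≠ 1` a `p`-element and `y` a `p`-regular
element commuting with `u`. -/
theorem card_singular_eq_sum (p : ℕ) [hp : Fact p.Prime] :
    (Finset.univ.filter (fun x : G => p ∣ orderOf x)).card =
      ∑ u ∈ Finset.univ.filter (fun u : G => u ≠ 1 ∧ ∃ k : ℕ, orderOf u = p ^ k),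
        (Finset.univ.filter (fun y : G => Commute u y ∧ ¬ p ∣ orderOf y)).card := by
  rw [← Finset.card_sigma]
  symm
  apply Finset.card_bij (fun a _ => a.1 * a.2)
  · intro a ha
    simp only [Finset.mem_sigma, Finset.mem_filter, Finset.mem_univ, true_and] at ha ⊢
    exact dvd_orderOf_mul_of_commute ha.1.1 ha.1.2 ha.2.1 ha.2.2
  · rintro ⟨u, y⟩ ha ⟨u', y'⟩ ha' h
    simp only [Finset.mem_sigma, Finset.mem_filter, Finset.mem_univ, true_and] at ha ha' h
    have h1 := isPPart_mul_of_commute ha.1.2 ha.2.1 ha.2.2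
    have h2 := isPPart_mul_of_commute ha'.1.2 ha'.2.1 ha'.2.2
    rw [h] at h1
    have huu : u = u' := isPPart_unique h1 h2
    subst huu
    have hyy : y = y' := mul_left_cancel h
    subst hyy
    rfl
  · intro x hx
    simp only [Finset.mem_filter, Finset.mem_univ, true_and] at hx
    obtain ⟨u, y, huy, hc, hu, hy⟩ := exists_isPPart p x
    refine ⟨⟨u, y⟩, ?_, huy⟩
    simp only [Finset.mem_sigma, Finset.mem_filter, Finset.mem_univ, true_and]
    refine ⟨⟨?_, hu⟩, hc, hy⟩
    rintro rfl
    rw [one_mul] at huy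
    rw [huy] at hy
    exact hy hx

end SingularCount

section RegularCount

variable {X : Type*} [Group X] [Finite X]

/-- In a group with a normal `p`-complement the `p`-regular elements are the elements of the
`p`-complement. -/
theorem card_pRegular_of_index {p : ℕ} [hp : Fact p.Prime] {k : ℕ}
    (hk : (pPrimeCore p X).index = p ^ k) :
    Nat.card {y : X // ¬ p ∣ orderOf y} = Nat.card (pPrimeCore p X) := by
  have hcop : (Nat.card (pPrimeCore p X)).Coprime p := Cfsg.Agent.Lib.Helper76.pPrimeCore_coprime p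
  apply Nat.card_congr
  refine
    { toFun := fun y => ⟨y.1, mem_of_not_dvd_orderOf_of_index (pPrimeCore p X) hk y.2⟩
      invFun := fun c => ⟨c.1, ?_⟩
      left_inv := fun y => rfl
      right_inv := fun c => rfl }
  intro hdvd
  have h1 : orderOf (c : X) ∣ Nat.card (pPrimeCore p X) := by
    rw [Subgroup.orderOf_coe]
    exact orderOf_dvd_natCard c
  have h2 : p ∣ Nat.card (pPrimeCore p X) := hdvd.trans h1
  exact (Nat.Prime.coprime_iff_not_dvd hp.out).mp hcop.symm h2

theorem card_eq_card_pPrimeCore_mul {p : ℕ} [hp : Fact p.Prime] {k : ℕ}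
    (hk : (pPrimeCore p X).index = p ^ k) :
    Nat.card X = Nat.card (pPrimeCore p X) * p ^ (Nat.card X).factorization p := by
  have hcop : (Nat.card (pPrimeCore p X)).Coprime p := Cfsg.Agent.Lib.Helper76.pPrimeCore_coprime p
  have hcard : Nat.card (pPrimeCore p X) * (pPrimeCore p X).index = Nat.card X :=
    (pPrimeCore p X).card_mul_index
  have hfac : (Nat.card X).factorization p = k := by
    rw [← hcard, hk, Nat.factorization_mul Nat.card_pos.ne' (pow_ne_zero _ hp.out.ne_zero),
      Finsupp.add_apply, Nat.factorization_eq_zero_of_not_dvd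
        ((Nat.Prime.coprime_iff_not_dvd hp.out).mp hcop.symm), zero_add,
      Nat.factorization_pow, Finsupp.smul_apply, Nat.Prime.factorization_self hp.out, smul_eq_mul,
      mul_one]
  rw [hfac, ← hk, hcard]

end RegularCount

section KleinCount

variable {G : Type*} [Group G] [Finite G]

theorem isKleinFour_sylow (P Q : Sylow 2 G) (hP : IsKleinFour (P : Subgroup G)) :
    IsKleinFour (Q : Subgroup G) := by
  obtain ⟨g, rfl⟩ := MulAction.exists_smul_eq G P Q
  have e := Sylow.equivSMul P g
  exact ⟨(Nat.card_congr e.toEquiv).symm.trans hP.card_four,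
    (Monoid.exponent_eq_of_mulEquiv e).symm.trans hP.exponent_two⟩

/-- With Klein four Sylow `2`-subgroups, the non-identity `2`-elements are the involutions. -/
theorem orderOf_eq_two_of_klein (P : Sylow 2 G) (hP : IsKleinFour (P : Subgroup G)) {u : G}
    (hu1 : u ≠ 1) (hu : ∃ k : ℕ, orderOf u = 2 ^ k) :
    orderOf u = 2 ∧ ∃ Q : Sylow 2 G, IsKleinFour (Q : Subgroup G) ∧ u ∈ (Q : Subgroup G) := by
  obtain ⟨k, hk⟩ := hu
  have hpg : IsPGroup 2 (Subgroup.zpowers u) := by
    apply IsPGroup.of_card (n := k)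
    rw [Nat.card_zpowers, hk]
  obtain ⟨Q, hQ⟩ := hpg.exists_le_sylow
  have hQ4 := isKleinFour_sylow P Q hP
  have huQ : u ∈ (Q : Subgroup G) := hQ (Subgroup.mem_zpowers u)
  refine ⟨?_, Q, hQ4, huQ⟩
  have := IsKleinFour.mul_self (⟨u, huQ⟩ : (Q : Subgroup G))
  have huu : u * u = 1 := congrArg Subtype.val this
  exact orderOf_eq_prime (by rw [sq]; exact huu) hu1

/-- `4 · #{y ∈ C(u) of odd order} = |C(u)|` for an involution `u`. -/
theorem four_mul_card_odd_centralizer (Q : Sylow 2 G) (hQ : IsKleinFour (Q : Subgroup G)) {u : G}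
    (hu1 : u ≠ 1) (huQ : u ∈ (Q : Subgroup G)) :
    4 * Nat.card {y : G // Commute u y ∧ ¬ 2 ∣ orderOf y} =
      Nat.card (Subgroup.centralizer ({u} : Set G)) := by
  obtain ⟨k, hk⟩ := exists_index_pPrimeCore_centralizer_of_klein Q hQ u huQ hu1
  have hfac := factorization_card_centralizer_of_klein Q hQ u huQ
  have h1 := card_pRegular_of_index hk
  have h2 := card_eq_card_pPrimeCore_mul hk
  rw [hfac] at h2
  have h3 : Nat.card {y : G // Commute u y ∧ ¬ 2 ∣ orderOf y} =
      Nat.card {y : Subgroup.centralizer ({u} : Set G) // ¬ 2 ∣ orderOf y} := by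
    apply Nat.card_congr
    refine
      { toFun := fun y => ⟨⟨y.1, Subgroup.mem_centralizer_singleton_iff.mpr y.2.1.eq.symm⟩, ?_⟩
        invFun := fun c => ⟨c.1.1, Subgroup.mem_centralizer_singleton_iff.mp c.1.2 |>.symm, ?_⟩
        left_inv := fun y => rfl
        right_inv := fun c => rfl }
    · rw [Subgroup.orderOf_mk]
      exact y.2.2
    · rw [Subgroup.orderOf_coe]
      exact c.2
  rw [h3, h1, h2]
  ring

end KleinCount

section KleinCount2

variable {G : Type*} [Group G] [Fintype G]

open scoped Classical in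
/-- With a Klein four Sylow `2`-subgroup and one class of involutions, exactly a quarter of the
elements have even order. -/
theorem four_mul_card_singular_of_klein (P : Sylow 2 G) (hP : IsKleinFour (P : Subgroup G))
    (hone : ∀ s t : G, orderOf s = 2 → orderOf t = 2 → IsConj s t) :
    4 * (Finset.univ.filter (fun x : G => 2 ∣ orderOf x)).card = Nat.card G := by
  rw [card_singular_eq_sum 2, Finset.mul_sum]
  set I := Finset.univ.filter (fun u : G => u ≠ 1 ∧ ∃ k : ℕ, orderOf u = 2 ^ k) with hI
  have hmemI : ∀ u : G, u ∈ I ↔ orderOf u = 2 := by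
    intro u
    rw [hI, Finset.mem_filter]
    simp only [Finset.mem_univ, true_and]
    constructor
    · rintro ⟨h1, h2⟩
      exact (orderOf_eq_two_of_klein P hP h1 h2).1
    · intro h
      refine ⟨?_, 1, by rw [h, pow_one]⟩
      rintro rfl
      rw [orderOf_one] at h
      norm_num at h
  have hterm : ∀ u ∈ I, 4 * (Finset.univ.filter (fun y : G => Commute u y ∧ ¬ 2 ∣ orderOf y)).card =
      Nat.card (Subgroup.centralizer ({u} : Set G)) := by
    intro u hu
    rw [hI, Finset.mem_filter] at hu
    obtain ⟨_, Q, hQ, huQ⟩ := orderOf_eq_two_of_klein P hP hu.2.1 hu.2.2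
    rw [← four_mul_card_odd_centralizer Q hQ hu.2.1 huQ, Nat.card_eq_fintype_card,
      Fintype.card_subtype]
  rw [Finset.sum_congr rfl hterm]
  -- the involutions form one class
  have hclass : ∀ u ∈ I, I.card * Nat.card (Subgroup.centralizer ({u} : Set G)) = Nat.card G := by
    intro u hu
    rw [← Cfsg.Agent.Lib.Helper4.card_isConj_mul_card_centralizer u]
    congr 1
    rw [Nat.card_eq_fintype_card, Fintype.card_subtype]
    congr 1
    ext v
    simp only [Finset.mem_filter, Finset.mem_univ, true_and]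
    rw [hmemI v]
    have hu2 := (hmemI u).mp hu
    constructor
    · intro hv
      exact hone u v hu2 hv
    · intro hc
      obtain ⟨c, hc⟩ := isConj_iff.mp hc
      have hsc : SemiconjBy c u (c * u * c⁻¹) := by
        unfold SemiconjBy
        group
      rw [← hc, ← hsc.orderOf_eq c]
      exact hu2
  have hIne : I.card ≠ 0 := by
    have h4 : Nat.card (P : Subgroup G) = 4 := hP.card_four
    have hnt : Nontrivial (P : Subgroup G) := by
      rw [← Finite.one_lt_card_iff_nontrivial, h4]
      norm_num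
    obtain ⟨a, ha⟩ := exists_ne (1 : (P : Subgroup G))
    have haa : (a : G) * a = 1 := by
      have := IsKleinFour.mul_self a
      exact congrArg Subtype.val this
    have ha1 : (a : G) ≠ 1 := fun e => ha (Subtype.ext e)
    have : (a : G) ∈ I := (hmemI _).mpr (orderOf_eq_prime (by rw [sq]; exact haa) ha1)
    exact Finset.card_ne_zero_of_mem this
  apply Nat.eq_of_mul_eq_mul_left (Nat.pos_of_ne_zero hIne)
  rw [Finset.mul_sum, Finset.sum_congr rfl hclass, Finset.sum_const, smul_eq_mul]

end KleinCount2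

end Cfsg.Agent.Lib.Helper74
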