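import Mathlib
import Cfsg.Agent.Lib.Helper74.SingularCount
import Cfsg.Agent.Lib.Helper74.InvolCols

/-!
# Counting pairs of involutions with product in `J · O(C(J))` (helper74)

Abstract part (a group `X` with a normal subgroup `K` of odd order and index `4`, a central
involution `z` and another involution `a ≠ z`):

* `card_involutions_coset`: the involutions in the coset `w K` are the `K`-conjugates of `w`.
* `klein_pair_count`: `#{(u, v) involutions : u v ∈ z K} · |C_K(a)|² = 2 |K|²`.

Transport to a group `G` with Klein four Sylow `2`-subgroup `P`, `J ∈ P` an involution, one class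
of involutions:

* `card_pairs_klein`: `#{(u, v) conjugates of J : u v ∈ J · O(C(J))} · |C(P)|² = 2 |C(J)|²`.
* `sum_conjProdCount_klein`: `(∑_{k ∈ O(C(J))} conjProdCount J J (J k)) · |C(P)|² = 2 |C(J)|⁴`.
-/

set_option autoImplicit false
set_option linter.unusedSectionVars false

namespace Cfsg.Agent.Lib.Helper74

open Cfsg Cfsg.Agent.Lib.Helper78 Cfsg.Agent.Lib.Helper16

section Abstract

variable {X : Type*} [Group X] [Fintype X]

open scoped Classical in
theorem card_filter_conj_eq_nat (N : Subgroup X) [Fintype N] (y y' : X)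
    (h : ∃ n ∈ N, n * y * n⁻¹ = y') :
    (Finset.univ.filter (fun x : N => y' = (x : X) * y * (x : X)⁻¹)).card =
      Nat.card ↥(N ⊓ Subgroup.centralizer ({y} : Set X)) := by
  obtain ⟨n₀, hn₀, hn₀y⟩ := h
  rw [← Fintype.card_subtype, ← Nat.card_eq_fintype_card]
  apply Nat.card_congr
  refine ⟨fun x => ⟨n₀⁻¹ * (x.1 : X), ?_⟩, fun c => ⟨⟨n₀ * (c : X), ?_⟩, ?_⟩, ?_, ?_⟩
  · refine Subgroup.mem_inf.mpr ⟨N.mul_mem (N.inv_mem hn₀) x.1.2, ?_⟩
    rw [Subgroup.mem_centralizer_singleton_iff]
    have h1 : y' = (x.1 : X) * y * (x.1 : X)⁻¹ := x.2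
    have h2 : (x.1 : X) * y = n₀ * y * n₀⁻¹ * (x.1 : X) := by
      rw [hn₀y]
      have h3 : y' * (x.1 : X) = (x.1 : X) * y * (x.1 : X)⁻¹ * (x.1 : X) :=
        congrArg (· * (x.1 : X)) h1
      rw [h3]; group
    calc n₀⁻¹ * (x.1 : X) * y = n₀⁻¹ * ((x.1 : X) * y) := by group
      _ = n₀⁻¹ * (n₀ * y * n₀⁻¹ * (x.1 : X)) := by rw [h2]
      _ = y * (n₀⁻¹ * (x.1 : X)) := by group
  · exact N.mul_mem hn₀ (Subgroup.mem_inf.mp c.2).1
  · show y' = n₀ * (c : X) * y * (n₀ * (c : X))⁻¹
    have hc2 := Subgroup.mem_centralizer_singleton_iff.mp (Subgroup.mem_inf.mp c.2).2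
    rw [← hn₀y]
    calc n₀ * y * n₀⁻¹ = n₀ * (y * (c : X)) * (c : X)⁻¹ * n₀⁻¹ := by group
      _ = n₀ * ((c : X) * y) * (c : X)⁻¹ * n₀⁻¹ := by rw [hc2]
      _ = n₀ * (c : X) * y * (n₀ * (c : X))⁻¹ := by group
  · intro x
    apply Subtype.ext
    apply Subtype.ext
    show n₀ * (n₀⁻¹ * (x.1 : X)) = (x.1 : X)
    group
  · intro c
    apply Subtype.ext
    show n₀⁻¹ * (n₀ * (c : X)) = (c : X)
    group

open scoped Classical in
/-- The involutions in the coset `w K` (`K` normal of odd order, `w` an involution) are the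
`K`-conjugates of `w`; their number times `|C_K(w)|` is `|K|`. -/
theorem card_involutions_coset (K : Subgroup X) [hK : K.Normal] [Fintype K]
    (hodd : Odd (Nat.card K)) (w : X) (hw : w * w = 1) :
    (Finset.univ.filter (fun u : X => u * u = 1 ∧ w⁻¹ * u ∈ K)).card *
      Nat.card ↥(K ⊓ Subgroup.centralizer ({w} : Set X)) = Nat.card K := by
  set I := Finset.univ.filter (fun u : X => u * u = 1 ∧ w⁻¹ * u ∈ K) with hI
  have hwinv : w⁻¹ = w := inv_eq_of_mul_eq_one_left hw
  have himg : ∀ k : K, (k : X) * w * (k : X)⁻¹ ∈ I := by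
    intro k
    rw [hI, Finset.mem_filter]
    refine ⟨Finset.mem_univ _, ?_, ?_⟩
    · calc (k : X) * w * (k : X)⁻¹ * ((k : X) * w * (k : X)⁻¹) =
          (k : X) * (w * w) * (k : X)⁻¹ := by group
        _ = 1 := by rw [hw]; group
    · have h1 : w⁻¹ * (k : X) * (w⁻¹)⁻¹ ∈ K := hK.conj_mem k k.2 w⁻¹
      have h2 : w⁻¹ * ((k : X) * w * (k : X)⁻¹) = w⁻¹ * (k : X) * (w⁻¹)⁻¹ * (k : X)⁻¹ := by group
      rw [h2]
      exact K.mul_mem h1 (K.inv_mem k.2)
  have hsurj : ∀ u ∈ I, ∃ k ∈ K, k * w * k⁻¹ = u := by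
    intro u hu
    rw [hI, Finset.mem_filter] at hu
    obtain ⟨_, huu, huK⟩ := hu
    set k₀ := w⁻¹ * u with hk₀
    have hu_eq : u = w * k₀ := by rw [hk₀]; group
    have hinv : w * k₀ * w⁻¹ = k₀⁻¹ := by
      have h1 : w * k₀ * (w * k₀) = 1 := by rw [← hu_eq]; exact huu
      have h2 : w * k₀ * w = k₀⁻¹ := by
        have : w * k₀ * w * k₀ = 1 := by rw [← h1]; group
        exact eq_inv_of_mul_eq_one_left this
      rw [hwinv]; exact h2
    have hinvpow : ∀ j : ℕ, w * k₀ ^ j * w⁻¹ = (k₀ ^ j)⁻¹ := by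
      intro j
      have : w * k₀ ^ j * w⁻¹ = (w * k₀ * w⁻¹) ^ j := by
        rw [conj_pow]
      rw [this, hinv, inv_pow]
    have hmodd : Odd (orderOf k₀) := by
      have h1 : orderOf k₀ ∣ Nat.card K := by
        have : orderOf (⟨k₀, huK⟩ : K) = orderOf k₀ := Subgroup.orderOf_mk k₀ huK
        rw [← this]
        exact orderOf_dvd_natCard _
      exact Odd.of_dvd_nat hodd h1
    obtain ⟨j, hj⟩ := hmodd
    set l := k₀ ^ j with hl
    have hlK : l ∈ K := K.pow_mem huK j
    refine ⟨l, hlK, ?_⟩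
    have h3 : w⁻¹ * l * w = l⁻¹ := by
      have := hinvpow j
      rw [hwinv] at this ⊢
      exact this
    have h4 : l * l * k₀ = 1 := by
      rw [hl, ← pow_add, ← pow_succ, ← two_mul, ← hj, pow_orderOf_eq_one]
    have h5 : l⁻¹ * l⁻¹ = k₀ := by
      have : k₀ = (l * l)⁻¹ := eq_inv_of_mul_eq_one_right h4
      rw [this, mul_inv_rev]
    calc l * w * l⁻¹ = w * (w⁻¹ * l * w) * l⁻¹ := by group
      _ = w * l⁻¹ * l⁻¹ := by rw [h3]
      _ = w * (l⁻¹ * l⁻¹) := by group
      _ = w * k₀ := by rw [h5]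
      _ = u := hu_eq.symm
  have hcount : Nat.card K = ∑ u ∈ I, (Finset.univ.filter
      (fun k : K => u = (k : X) * w * (k : X)⁻¹)).card := by
    rw [Nat.card_eq_fintype_card, ← Finset.card_univ]
    rw [Finset.card_eq_sum_card_fiberwise (f := fun k : K => (k : X) * w * (k : X)⁻¹) (t := I)
      (fun k _ => himg k)]
    apply Finset.sum_congr rfl
    intro u _
    congr 1
    ext k
    simp only [Finset.mem_filter, Finset.mem_univ, true_and]
    exact eq_comm
  rw [hcount, Finset.sum_congr rfl (fun u hu => card_filter_conj_eq_nat K w u (hsurj u hu)),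
    Finset.sum_const, smul_eq_mul]

theorem not_mem_of_involution (K : Subgroup X) (hodd : Odd (Nat.card K)) {u : X}
    (hu : u * u = 1) (hu1 : u ≠ 1) : u ∉ K := by
  intro huK
  have h2 : orderOf u = 2 := orderOf_eq_prime (by rw [sq]; exact hu) hu1
  have h1 : orderOf u ∣ Nat.card K := by
    have : orderOf (⟨u, huK⟩ : K) = orderOf u := Subgroup.orderOf_mk u huK
    rw [← this]
    exact orderOf_dvd_natCard _
  rw [h2] at h1
  exact (Nat.not_even_iff_odd.mpr hodd) (even_iff_two_dvd.mpr h1)

open scoped Classical in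
theorem klein_pair_count (K : Subgroup X) [hK : K.Normal] [Fintype K]
    (hodd : Odd (Nat.card K)) (hidx : K.index = 4)
    (z a : X) (hz : z * z = 1) (hz1 : z ≠ 1) (hzc : ∀ x : X, x * z = z * x)
    (ha : a * a = 1) (ha1 : a ≠ 1) (haz : a ≠ z) :
    (Finset.univ.filter (fun uv : X × X => uv.1 * uv.1 = 1 ∧ uv.1 ≠ 1 ∧ uv.2 * uv.2 = 1 ∧
        uv.2 ≠ 1 ∧ z⁻¹ * (uv.1 * uv.2) ∈ K)).card *
      (Nat.card ↥(K ⊓ Subgroup.centralizer ({a} : Set X))) ^ 2 = 2 * (Nat.card K) ^ 2 := by
  have hzinv : z⁻¹ = z := inv_eq_of_mul_eq_one_left hz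
  have hainv : a⁻¹ = a := inv_eq_of_mul_eq_one_left ha
  set b := a * z with hb
  have hbb : b * b = 1 := by
    calc b * b = a * (z * a) * z := by rw [hb]; group
      _ = a * (a * z) * z := by rw [hzc a]
      _ = (a * a) * (z * z) := by group
      _ = 1 := by rw [ha, hz, one_mul]
  have hb1 : b ≠ 1 := by
    intro h
    apply haz
    have : a = z⁻¹ := eq_inv_of_mul_eq_one_left h
    rw [this, hzinv]
  have hbinv : b⁻¹ = b := inv_eq_of_mul_eq_one_left hbb
  have hzK : z ∉ K := not_mem_of_involution K hodd hz hz1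
  have haK : a ∉ K := not_mem_of_involution K hodd ha ha1
  have hbK : b ∉ K := not_mem_of_involution K hodd hbb hb1
  have hcardQ : Nat.card (X ⧸ K) = 4 := by rw [← Subgroup.index_eq_card]; exact hidx
  have hne1 : ((1 : X) : X ⧸ K) ≠ (z : X ⧸ K) := by
    intro h; apply hzK; have := QuotientGroup.eq.mp h; simpa using this
  have hne2 : ((1 : X) : X ⧸ K) ≠ (a : X ⧸ K) := by
    intro h; apply haK; have := QuotientGroup.eq.mp h; simpa using this
  have hne3 : ((1 : X) : X ⧸ K) ≠ (b : X ⧸ K) := by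
    intro h; apply hbK; have := QuotientGroup.eq.mp h; simpa using this
  have hne4 : ((z : X) : X ⧸ K) ≠ (a : X ⧸ K) := by
    intro h; apply hbK
    have := QuotientGroup.eq.mp h
    rw [hzinv, ← hzc a] at this
    exact this
  have hne5 : ((z : X) : X ⧸ K) ≠ (b : X ⧸ K) := by
    intro h; apply haK
    have := QuotientGroup.eq.mp h
    have e : z⁻¹ * b = a := by rw [hb, hzc a]; group
    rw [e] at this
    exact this
  have hne6 : ((a : X) : X ⧸ K) ≠ (b : X ⧸ K) := by
    intro h; apply hzK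
    have := QuotientGroup.eq.mp h
    rw [hb, ← mul_assoc, hainv, ha, one_mul] at this
    exact this
  have hall : ∀ q : X ⧸ K, q = ((1 : X) : X ⧸ K) ∨ q = (z : X ⧸ K) ∨ q = (a : X ⧸ K) ∨
      q = (b : X ⧸ K) := by
    have : Fintype (X ⧸ K) := Fintype.ofFinite _
    have hS : ({((1 : X) : X ⧸ K), (z : X ⧸ K), (a : X ⧸ K), (b : X ⧸ K)} : Finset (X ⧸ K)) =
        Finset.univ := by
      apply Finset.eq_univ_of_card
      rw [← Nat.card_eq_fintype_card, hcardQ]
      rw [Finset.card_insert_of_notMem, Finset.card_insert_of_notMem,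
        Finset.card_insert_of_notMem, Finset.card_singleton]
      · simp only [Finset.mem_singleton]; exact hne6
      · simp only [Finset.mem_insert, Finset.mem_singleton, not_or]; exact ⟨hne4, hne5⟩
      · simp only [Finset.mem_insert, Finset.mem_singleton, not_or]; exact ⟨hne1, hne2, hne3⟩
    intro q
    have hq : q ∈ ({((1 : X) : X ⧸ K), (z : X ⧸ K), (a : X ⧸ K), (b : X ⧸ K)} :
        Finset (X ⧸ K)) := by rw [hS]; exact Finset.mem_univ q
    simpa using hq
  set I : X → Finset X := fun w => Finset.univ.filter (fun u : X => u * u = 1 ∧ w⁻¹ * u ∈ K)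
    with hI
  have hmemI : ∀ w u : X, u ∈ I w ↔ u * u = 1 ∧ ((w : X) : X ⧸ K) = (u : X ⧸ K) := by
    intro w u
    simp only [hI, Finset.mem_filter, Finset.mem_univ, true_and]
    rw [QuotientGroup.eq]
  have hpairs : Finset.univ.filter (fun uv : X × X => uv.1 * uv.1 = 1 ∧ uv.1 ≠ 1 ∧
      uv.2 * uv.2 = 1 ∧ uv.2 ≠ 1 ∧ z⁻¹ * (uv.1 * uv.2) ∈ K) =
      (I a ×ˢ I b) ∪ (I b ×ˢ I a) := by
    ext ⟨u, v⟩
    simp only [Finset.mem_filter, Finset.mem_univ, true_and, Finset.mem_union, Finset.mem_product,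
      hmemI]
    constructor
    · rintro ⟨huu, hu1, hvv, hv1, huv⟩
      have huK : ((1 : X) : X ⧸ K) ≠ (u : X ⧸ K) := by
        intro h
        apply not_mem_of_involution K hodd huu hu1
        have := QuotientGroup.eq.mp h
        simpa using this
      have hvK : ((1 : X) : X ⧸ K) ≠ (v : X ⧸ K) := by
        intro h
        apply not_mem_of_involution K hodd hvv hv1
        have := QuotientGroup.eq.mp h
        simpa using this
      have hprod : (u : X ⧸ K) * (v : X ⧸ K) = (z : X ⧸ K) := by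
        rw [← QuotientGroup.mk_mul]
        exact (QuotientGroup.eq.mpr huv).symm
      rcases hall (u : X ⧸ K) with h | h | h | h
      · exact absurd h.symm huK
      · exfalso
        apply hvK
        rw [h] at hprod
        have : (v : X ⧸ K) = 1 := by
          have := mul_left_cancel (a := (z : X ⧸ K)) (b := (v : X ⧸ K)) (c := 1)
            (by rw [hprod, mul_one])
          exact this
        rw [this]; rfl
      · left
        refine ⟨⟨huu, h.symm⟩, hvv, ?_⟩
        rw [h] at hprod
        have : (v : X ⧸ K) = (a : X ⧸ K)⁻¹ * (z : X ⧸ K) := by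
          rw [← hprod]; group
        rw [this, ← QuotientGroup.mk_inv, ← QuotientGroup.mk_mul, hainv]
      · right
        refine ⟨⟨huu, h.symm⟩, hvv, ?_⟩
        rw [h] at hprod
        have : (v : X ⧸ K) = (b : X ⧸ K)⁻¹ * (z : X ⧸ K) := by
          rw [← hprod]; group
        rw [this, ← QuotientGroup.mk_inv, ← QuotientGroup.mk_mul, hbinv, hb, mul_assoc, hz,
          mul_one]
    · rintro (⟨⟨huu, hu⟩, hvv, hv⟩ | ⟨⟨huu, hu⟩, hvv, hv⟩)
      · refine ⟨huu, ?_, hvv, ?_, ?_⟩
        · rintro rfl; exact hne2 hu.symm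
        · rintro rfl; exact hne3 hv.symm
        · apply QuotientGroup.eq.mp
          rw [QuotientGroup.mk_mul, ← hu, ← hv, ← QuotientGroup.mk_mul, hb, ← mul_assoc, ha,
            one_mul]
      · refine ⟨huu, ?_, hvv, ?_, ?_⟩
        · rintro rfl; exact hne3 hu.symm
        · rintro rfl; exact hne2 hv.symm
        · apply QuotientGroup.eq.mp
          have e : b * a = z := by rw [hb, mul_assoc, ← hzc a, ← mul_assoc, ha, one_mul]
          rw [QuotientGroup.mk_mul, ← hu, ← hv, ← QuotientGroup.mk_mul, e]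
  have hdisj : Disjoint (I a ×ˢ I b) (I b ×ˢ I a) := by
    rw [Finset.disjoint_left]
    rintro ⟨u, v⟩ h1 h2
    simp only [Finset.mem_product, hmemI] at h1 h2
    exact hne6 (h1.1.2.trans h2.1.2.symm)
  have hcent : Subgroup.centralizer ({b} : Set X) = Subgroup.centralizer ({a} : Set X) := by
    ext x
    rw [Subgroup.mem_centralizer_singleton_iff, Subgroup.mem_centralizer_singleton_iff, hb]
    constructor
    · intro h
      have h1 : x * a * z = a * x * z := by
        calc x * a * z = x * (a * z) := by group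
          _ = a * z * x := h
          _ = a * (z * x) := by group
          _ = a * (x * z) := by rw [hzc x]
          _ = a * x * z := by group
      exact mul_right_cancel h1
    · intro h
      calc x * (a * z) = x * a * z := by group
        _ = a * x * z := by rw [h]
        _ = a * (x * z) := by group
        _ = a * (z * x) := by rw [hzc x]
        _ = a * z * x := by group
  have hSa := card_involutions_coset K hodd a ha
  have hSb := card_involutions_coset K hodd b hbb
  rw [hcent] at hSb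
  rw [hpairs, Finset.card_union_of_disjoint hdisj, Finset.card_product, Finset.card_product]
  have e1 : (I a).card * Nat.card ↥(K ⊓ Subgroup.centralizer ({a} : Set X)) = Nat.card K := hSa
  have e2 : (I b).card * Nat.card ↥(K ⊓ Subgroup.centralizer ({a} : Set X)) = Nat.card K := hSb
  calc ((I a).card * (I b).card + (I b).card * (I a).card) *
        Nat.card ↥(K ⊓ Subgroup.centralizer ({a} : Set X)) ^ 2 =
      2 * (((I a).card * Nat.card ↥(K ⊓ Subgroup.centralizer ({a} : Set X))) *
        ((I b).card * Nat.card ↥(K ⊓ Subgroup.centralizer ({a} : Set X)))) := by ring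
    _ = 2 * Nat.card K ^ 2 := by rw [e1, e2]; ring

end Abstract

section Transport

variable {G : Type*} [Group G] [Fintype G]

open scoped Classical in
theorem card_filter_conj_top (y y' : G) (h : ∃ n : G, n * y * n⁻¹ = y') :
    (Finset.univ.filter (fun x : G => y' = x * y * x⁻¹)).card =
      Nat.card (Subgroup.centralizer ({y} : Set G)) := by
  obtain ⟨n₀, hn₀y⟩ := h
  rw [← Fintype.card_subtype, ← Nat.card_eq_fintype_card]
  apply Nat.card_congr
  refine ⟨fun x => ⟨n₀⁻¹ * x.1, ?_⟩, fun c => ⟨n₀ * (c : G), ?_⟩, ?_, ?_⟩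
  · rw [Subgroup.mem_centralizer_singleton_iff]
    have h1 : y' = x.1 * y * x.1⁻¹ := x.2
    have h2 : x.1 * y = n₀ * y * n₀⁻¹ * x.1 := by
      rw [hn₀y]
      have h3 : y' * x.1 = x.1 * y * x.1⁻¹ * x.1 := congrArg (· * x.1) h1
      rw [h3]; group
    calc n₀⁻¹ * x.1 * y = n₀⁻¹ * (x.1 * y) := by group
      _ = n₀⁻¹ * (n₀ * y * n₀⁻¹ * x.1) := by rw [h2]
      _ = y * (n₀⁻¹ * x.1) := by group
  · show y' = n₀ * (c : G) * y * (n₀ * (c : G))⁻¹
    have hc2 := Subgroup.mem_centralizer_singleton_iff.mp c.2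
    rw [← hn₀y]
    calc n₀ * y * n₀⁻¹ = n₀ * (y * (c : G)) * (c : G)⁻¹ * n₀⁻¹ := by group
      _ = n₀ * ((c : G) * y) * (c : G)⁻¹ * n₀⁻¹ := by rw [hc2]
      _ = n₀ * (c : G) * y * (n₀ * (c : G))⁻¹ := by group
  · intro x
    apply Subtype.ext
    show n₀ * (n₀⁻¹ * x.1) = x.1
    group
  · intro c
    apply Subtype.ext
    show n₀⁻¹ * (n₀ * (c : G)) = (c : G)
    group

open scoped Classical in
theorem sum_conj_class_eq (J : G) (g : G → ℂ) :
    ∑ a : G, g (a * J * a⁻¹) = (Nat.card (Subgroup.centralizer ({J} : Set G)) : ℂ) *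
      ∑ u ∈ Finset.univ.filter (fun u : G => IsConj J u), g u := by
  have h1 : ∀ a : G, g (a * J * a⁻¹) =
      ∑ u ∈ Finset.univ.filter (fun u : G => IsConj J u),
        if u = a * J * a⁻¹ then g u else 0 := by
    intro a
    rw [Finset.sum_ite_eq', if_pos]
    rw [Finset.mem_filter]
    exact ⟨Finset.mem_univ _, isConj_iff.mpr ⟨a, rfl⟩⟩
  rw [Finset.sum_congr rfl (fun a _ => h1 a), Finset.sum_comm, Finset.mul_sum]
  apply Finset.sum_congr rfl
  intro u hu
  rw [← Finset.sum_filter, Finset.sum_const, nsmul_eq_mul,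
    card_filter_conj_top J u (isConj_iff.mp (Finset.mem_filter.mp hu).2)]

theorem mul_self_of_orderOf_two {u : G} (hu : orderOf u = 2) : u * u = 1 ∧ u ≠ 1 := by
  constructor
  · have := pow_orderOf_eq_one u
    rw [hu, pow_two] at this
    exact this
  · rintro rfl
    rw [orderOf_one] at hu
    omega

theorem orderOf_two_of_mul_self {u : G} (hu : u * u = 1) (hu1 : u ≠ 1) : orderOf u = 2 :=
  orderOf_eq_prime (by rw [sq]; exact hu) hu1

open scoped Classical in
theorem card_pairs_klein (P : Sylow 2 G) (hP : IsKleinFour (P : Subgroup G)) (J : G)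
    (hJP : J ∈ (P : Subgroup G)) (hJ : orderOf J = 2)
    (hone : ∀ s t : G, orderOf s = 2 → orderOf t = 2 → IsConj s t) :
    (Finset.univ.filter (fun uv : G × G => IsConj J uv.1 ∧ IsConj J uv.2 ∧
        ∃ k : Subgroup.centralizer ({J} : Set G),
          k ∈ pPrimeCore 2 (Subgroup.centralizer ({J} : Set G)) ∧ uv.1 * uv.2 = J * (k : G))).card *
      Nat.card (Subgroup.centralizer ((P : Subgroup G) : Set G)) ^ 2 =
      2 * Nat.card (Subgroup.centralizer ({J} : Set G)) ^ 2 := by
  have : Fact (Nat.Prime 2) := ⟨Nat.prime_two⟩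
  obtain ⟨hJJ, hJ1⟩ := mul_self_of_orderOf_two hJ
  have hJinv : J⁻¹ = J := inv_eq_of_mul_eq_one_left hJJ
  set H := Subgroup.centralizer ({J} : Set G) with hH
  set K := pPrimeCore 2 H with hK
  have hPH : (P : Subgroup G) ≤ H := klein_sylow_le_centralizer P hP J hJP
  have : Fintype K := Fintype.ofFinite _
  -- a second involution of `P`
  have hex : ∃ a₀ ∈ (P : Subgroup G), a₀ ≠ 1 ∧ a₀ ≠ J := by
    by_contra hcon
    simp only [not_exists, not_and, not_not] at hcon
    have hle : Nat.card (P : Subgroup G) ≤ 2 := by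
      have hinj : Function.Injective (fun x : (P : Subgroup G) => (x : G) = 1) := by
        intro x y hxy
        simp only [eq_iff_iff] at hxy
        apply Subtype.ext
        by_cases hx : (x : G) = 1
        · rw [hx, (hxy.mp hx)]
        · have hy : (y : G) ≠ 1 := fun h => hx (hxy.mpr h)
          rw [hcon x x.2 hx, hcon y y.2 hy]
      exact (Nat.card_le_card_of_injective _ hinj).trans
        (by rw [Nat.card_eq_fintype_card, Fintype.card_prop])
    rw [hP.card_four] at hle
    omega
  obtain ⟨a₀, ha₀P, ha₀1, ha₀J⟩ := hex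
  have ha₀a₀ : a₀ * a₀ = 1 := by
    have := IsKleinFour.mul_self (⟨a₀, ha₀P⟩ : (P : Subgroup G))
    exact congrArg Subtype.val this
  -- structure of `H`
  obtain ⟨k, hk⟩ := exists_index_pPrimeCore_centralizer_of_klein P hP J hJP hJ1
  have hfac := factorization_card_centralizer_of_klein P hP J hJP
  have hcardH : Nat.card H = Nat.card K * 4 := by
    have := card_eq_card_pPrimeCore_mul (X := H) hk
    rw [hfac] at this
    exact this
  have hidx : K.index = 4 := by
    have h1 := K.card_mul_index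
    rw [hcardH] at h1
    exact Nat.eq_of_mul_eq_mul_left Nat.card_pos h1
  have hcop : (Nat.card K).Coprime 2 := Cfsg.Agent.Lib.Helper76.pPrimeCore_coprime (G := H) 2
  have hodd : Odd (Nat.card K) := by
    rw [← Nat.not_even_iff_odd, even_iff_two_dvd]
    intro h2
    have := Nat.Coprime.eq_one_of_dvd hcop.symm h2
    omega
  -- elements of `X = H`
  have hJH : J ∈ H := hPH hJP
  set z : H := ⟨J, hJH⟩ with hz
  set a : H := ⟨a₀, hPH ha₀P⟩ with ha
  have hzz : z * z = 1 := Subtype.ext hJJ
  have hz1 : z ≠ 1 := fun h => hJ1 (congrArg Subtype.val h)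
  have hzc : ∀ x : H, x * z = z * x := by
    intro x
    apply Subtype.ext
    exact Subgroup.mem_centralizer_singleton_iff.mp x.2
  have haa : a * a = 1 := Subtype.ext ha₀a₀
  have ha1 : a ≠ 1 := fun h => ha₀1 (congrArg Subtype.val h)
  have haz : a ≠ z := fun h => ha₀J (congrArg Subtype.val h)
  have hX := klein_pair_count K hodd hidx z a hzz hz1 hzc haa ha1 haz
  -- T1: the pair sets correspond
  have hoddK : ∀ c : H, c ∈ K → ¬ 2 ∣ orderOf (c : G) := by
    intro c hc h2
    have h1 : orderOf (c : G) ∣ Nat.card K := by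
      rw [Subgroup.orderOf_coe]
      have : orderOf (⟨c, hc⟩ : K) = orderOf c := Subgroup.orderOf_mk c hc
      rw [← this]
      exact orderOf_dvd_natCard _
    have := Nat.Coprime.eq_one_of_dvd hcop.symm (h2.trans h1)
    omega
  have hT1 : (Finset.univ.filter (fun uv : G × G => IsConj J uv.1 ∧ IsConj J uv.2 ∧
        ∃ k : H, k ∈ K ∧ uv.1 * uv.2 = J * (k : G))).card =
      (Finset.univ.filter (fun uv : H × H => uv.1 * uv.1 = 1 ∧ uv.1 ≠ 1 ∧ uv.2 * uv.2 = 1 ∧
        uv.2 ≠ 1 ∧ z⁻¹ * (uv.1 * uv.2) ∈ K)).card := by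
    symm
    apply Finset.card_bij (fun uv _ => ((uv.1 : G), (uv.2 : G)))
    · rintro ⟨u, v⟩ huv
      simp only [Finset.mem_filter, Finset.mem_univ, true_and] at huv ⊢
      obtain ⟨huu, hu1, hvv, hv1, hk⟩ := huv
      have hu2 : orderOf (u : G) = 2 := orderOf_two_of_mul_self
        (by exact_mod_cast congrArg Subtype.val huu) (fun h => hu1 (Subtype.ext h))
      have hv2 : orderOf (v : G) = 2 := orderOf_two_of_mul_self
        (by exact_mod_cast congrArg Subtype.val hvv) (fun h => hv1 (Subtype.ext h))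
      refine ⟨hone J u hJ hu2, hone J v hJ hv2, z⁻¹ * (u * v), hk, ?_⟩
      show (u : G) * (v : G) = J * ((z⁻¹ * (u * v) : H) : G)
      push_cast
      rw [hz]
      simp
    · rintro ⟨u, v⟩ _ ⟨u', v'⟩ _ h
      simp only [Prod.mk.injEq] at h ⊢
      exact ⟨Subtype.ext h.1, Subtype.ext h.2⟩
    · rintro ⟨u, v⟩ huv
      simp only [Finset.mem_filter, Finset.mem_univ, true_and] at huv
      obtain ⟨hcu, hcv, c, hcK, huvc⟩ := huv
      -- `u`, `v` are involutions
      have hu2 : orderOf u = 2 := by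
        obtain ⟨d, hd⟩ := isConj_iff.mp hcu
        rw [← hd, orderOf_conj_eq, hJ]
      have hv2 : orderOf v = 2 := by
        obtain ⟨d, hd⟩ := isConj_iff.mp hcv
        rw [← hd, orderOf_conj_eq, hJ]
      obtain ⟨huu, hu1⟩ := mul_self_of_orderOf_two hu2
      obtain ⟨hvv, hv1⟩ := mul_self_of_orderOf_two hv2
      -- `u` inverts `u v = J c`, whose 2-part is `J`
      have hcomm : Commute J (c : G) :=
        (Subgroup.mem_centralizer_singleton_iff.mp c.2).symm
      have hpp : IsPPart 2 (u * v) J :=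
        ⟨(c : G), huvc.symm, hcomm, ⟨1, by rw [hJ, pow_one]⟩, hoddK c hcK⟩
      have hinvJ : u * J * u⁻¹ = J⁻¹ := conj_pPart_eq_inv hpp (conj_mul_of_mul_self huu hvv)
      have huH : u ∈ H := by
        rw [hH, Subgroup.mem_centralizer_singleton_iff]
        rw [hJinv] at hinvJ
        calc u * J = u * J * u⁻¹ * u := by group
          _ = J * u := by rw [hinvJ]
      have hvH : v ∈ H := by
        have hv_eq : v = u⁻¹ * (J * (c : G)) := by rw [← huvc]; group
        rw [hv_eq]
        exact H.mul_mem (H.inv_mem huH) (H.mul_mem hJH c.2)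
      refine ⟨(⟨u, huH⟩, ⟨v, hvH⟩), ?_, rfl⟩
      simp only [Finset.mem_filter, Finset.mem_univ, true_and]
      refine ⟨Subtype.ext huu, fun h => hu1 (congrArg Subtype.val h), Subtype.ext hvv,
        fun h => hv1 (congrArg Subtype.val h), ?_⟩
      have : z⁻¹ * ((⟨u, huH⟩ : H) * ⟨v, hvH⟩) = c := by
        apply Subtype.ext
        show J⁻¹ * (u * v) = (c : G)
        rw [huvc]; group
      rw [this]
      exact hcK
  -- T2: `|C(P)| = 4 |C_K(a)|`
  have hT2 : 4 * Nat.card ↥(K ⊓ Subgroup.centralizer ({a} : Set H)) =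
      Nat.card (Subgroup.centralizer ((P : Subgroup G) : Set G)) := by
    have hQ : IsKleinFour ((P.subtype hPH : Sylow 2 H) : Subgroup H) := by
      rw [Sylow.coe_subtype]
      have e := Subgroup.subgroupOfEquivOfLe hPH
      exact ⟨(Nat.card_congr e.toEquiv).trans hP.card_four,
        (Monoid.exponent_eq_of_mulEquiv e).trans hP.exponent_two⟩
    have haQ : a ∈ ((P.subtype hPH : Sylow 2 H) : Subgroup H) := by
      rw [Sylow.coe_subtype, Subgroup.mem_subgroupOf]
      exact ha₀P
    have h4 := four_mul_card_odd_centralizer (G := H) (P.subtype hPH) hQ ha1 haQ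
    have hb1 : Nat.card {y : H // Commute a y ∧ ¬ 2 ∣ orderOf y} =
        Nat.card ↥(K ⊓ Subgroup.centralizer ({a} : Set H)) := by
      apply Nat.card_congr
      refine ⟨fun y => ⟨y.1, Subgroup.mem_inf.mpr
          ⟨mem_of_not_dvd_orderOf_of_index K hk y.2.2,
            Subgroup.mem_centralizer_singleton_iff.mpr y.2.1.eq.symm⟩⟩,
        fun c => ⟨c.1,
          (Subgroup.mem_centralizer_singleton_iff.mp (Subgroup.mem_inf.mp c.2).2).symm, ?_⟩,
        fun y => rfl, fun c => rfl⟩
      have := hoddK c.1 (Subgroup.mem_inf.mp c.2).1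
      rwa [Subgroup.orderOf_coe] at this
    have hb2 : Nat.card (Subgroup.centralizer ({a} : Set H)) =
        Nat.card (Subgroup.centralizer ((P : Subgroup G) : Set G)) := by
      apply Nat.card_congr
      refine ⟨fun c => ⟨((c : H) : G), ?_⟩, fun d => ⟨⟨(d : G), ?_⟩, ?_⟩, fun c => rfl,
        fun d => rfl⟩
      · rw [Subgroup.mem_centralizer_iff]
        intro p hp
        have hcJ : ((c : H) : G) * J = J * ((c : H) : G) :=
          Subgroup.mem_centralizer_singleton_iff.mp (c : H).2
        have hca : ((c : H) : G) * a₀ = a₀ * ((c : H) : G) := by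
          have := Subgroup.mem_centralizer_singleton_iff.mp c.2
          exact congrArg Subtype.val this
        have : Fintype (P : Subgroup G) := Fintype.ofFinite _
        have hfin := IsKleinFour.eq_finset_univ (G := (P : Subgroup G)) (x := ⟨J, hJP⟩)
          (y := ⟨a₀, ha₀P⟩) (fun h => hJ1 (congrArg Subtype.val h))
          (fun h => ha₀1 (congrArg Subtype.val h)) (fun h => ha₀J (congrArg Subtype.val h).symm)
        have hmem : (⟨p, hp⟩ : (P : Subgroup G)) ∈
            ({⟨J, hJP⟩ * ⟨a₀, ha₀P⟩, ⟨J, hJP⟩, ⟨a₀, ha₀P⟩, 1} : Finset (P : Subgroup G)) := by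
          rw [hfin]; exact Finset.mem_univ _
        simp only [Finset.mem_insert, Finset.mem_singleton] at hmem
        rcases hmem with h | h | h | h
        · have hp' : p = J * a₀ := congrArg Subtype.val h
          rw [hp']
          calc J * a₀ * ((c : H) : G) = J * (a₀ * ((c : H) : G)) := by group
            _ = J * (((c : H) : G) * a₀) := by rw [hca]
            _ = (J * ((c : H) : G)) * a₀ := by group
            _ = ((c : H) : G) * J * a₀ := by rw [hcJ]
            _ = ((c : H) : G) * (J * a₀) := by group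
        · have hp' : p = J := congrArg Subtype.val h
          rw [hp', hcJ]
        · have hp' : p = a₀ := congrArg Subtype.val h
          rw [hp', hca]
        · have hp' : p = 1 := congrArg Subtype.val h
          rw [hp']; simp
      · rw [hH, Subgroup.mem_centralizer_singleton_iff]
        exact ((Subgroup.mem_centralizer_iff.mp d.2) J hJP).symm
      · rw [Subgroup.mem_centralizer_singleton_iff]
        apply Subtype.ext
        exact ((Subgroup.mem_centralizer_iff.mp d.2) a₀ ha₀P).symm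
    rw [← hb1, h4, hb2]
  rw [hT1, ← hT2, hcardH]
  have hfin : ∀ (W κ n : ℕ), W * κ ^ 2 = 2 * n ^ 2 → W * (4 * κ) ^ 2 = 2 * (n * 4) ^ 2 := by
    intro W κ n h
    calc W * (4 * κ) ^ 2 = 16 * (W * κ ^ 2) := by ring
      _ = 16 * (2 * n ^ 2) := by rw [h]
      _ = 2 * (n * 4) ^ 2 := by ring
  refine hfin _ _ _ ?_
  convert hX using 3
  ext uv
  simp only [Finset.mem_filter, Finset.mem_univ, true_and]

open scoped Classical in
theorem sum_conjProdCount_klein (P : Sylow 2 G) (hP : IsKleinFour (P : Subgroup G)) (J : G)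
    (hJP : J ∈ (P : Subgroup G)) (hJ : orderOf J = 2)
    (hone : ∀ s t : G, orderOf s = 2 → orderOf t = 2 → IsConj s t) :
    (∑ᶠ k : pPrimeCore 2 (Subgroup.centralizer ({J} : Set G)),
        conjProdCount J J (J * ((k : Subgroup.centralizer ({J} : Set G)) : G))) *
      (Nat.card (Subgroup.centralizer ((P : Subgroup G) : Set G)) : ℂ) ^ 2 =
      2 * (Nat.card (Subgroup.centralizer ({J} : Set G)) : ℂ) ^ 4 := by
  set H := Subgroup.centralizer ({J} : Set G) with hH
  set K := pPrimeCore 2 H with hK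
  have : Fintype K := Fintype.ofFinite _
  rw [finsum_eq_sum_of_fintype]
  -- the indicator `F`
  set F : G → G → ℂ := fun u v => if ∃ k : H, k ∈ K ∧ u * v = J * (k : G) then 1 else 0 with hF
  have hFsum : ∀ u v : G, ∑ k : K, (if u * v = J * ((k : H) : G) then (1 : ℂ) else 0) = F u v := by
    intro u v
    simp only [hF]
    split_ifs with hex
    · obtain ⟨k₀, hk₀, hk₀e⟩ := hex
      rw [Finset.sum_eq_single (⟨k₀, hk₀⟩ : K)]
      · rw [if_pos hk₀e]
      · intro k _ hk
        rw [if_neg]
        intro hk2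
        apply hk
        apply Subtype.ext
        apply Subtype.ext
        have : J * ((k : H) : G) = J * (k₀ : G) := by rw [← hk2, hk₀e]
        exact mul_left_cancel this
      · intro h; exact absurd (Finset.mem_univ _) h
    · apply Finset.sum_eq_zero
      intro k _
      rw [if_neg]
      intro hk2
      exact hex ⟨(k : H), k.2, hk2⟩
  have hT : ∑ k : K, conjProdCount J J (J * ((k : H) : G)) =
      ∑ a : G, ∑ b : G, F (a * J * a⁻¹) (b * J * b⁻¹) := by
    unfold conjProdCount
    rw [Finset.sum_comm]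
    apply Finset.sum_congr rfl
    intro a _
    rw [Finset.sum_comm]
    apply Finset.sum_congr rfl
    intro b _
    rw [← hFsum]
  have hT2 : ∑ a : G, ∑ b : G, F (a * J * a⁻¹) (b * J * b⁻¹) =
      (Nat.card H : ℂ) ^ 2 *
        ∑ u ∈ Finset.univ.filter (fun u : G => IsConj J u),
          ∑ v ∈ Finset.univ.filter (fun v : G => IsConj J v), F u v := by
    rw [sum_conj_class_eq J (fun u => ∑ b : G, F u (b * J * b⁻¹))]
    have h2 : ∀ u : G, ∑ b : G, F u (b * J * b⁻¹) = (Nat.card H : ℂ) *
        ∑ v ∈ Finset.univ.filter (fun v : G => IsConj J v), F u v :=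
      fun u => sum_conj_class_eq J (fun v => F u v)
    rw [Finset.sum_congr rfl (fun u _ => h2 u), ← Finset.mul_sum, ← mul_assoc, pow_two]
  have hW : ∑ u ∈ Finset.univ.filter (fun u : G => IsConj J u),
      ∑ v ∈ Finset.univ.filter (fun v : G => IsConj J v), F u v =
      ((Finset.univ.filter (fun uv : G × G => IsConj J uv.1 ∧ IsConj J uv.2 ∧
        ∃ k : H, k ∈ K ∧ uv.1 * uv.2 = J * (k : G))).card : ℂ) := by
    rw [← Finset.sum_product', Finset.card_eq_sum_ones, Nat.cast_sum]
    simp only [hF, Nat.cast_one]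
    rw [← Finset.sum_filter]
    apply Finset.sum_congr
    · ext ⟨u, v⟩
      simp only [Finset.mem_filter, Finset.mem_product, Finset.mem_univ, true_and, and_assoc]
    · intro _ _; rfl
  have hcount := card_pairs_klein P hP J hJP hJ hone
  have hcountC : ((Finset.univ.filter (fun uv : G × G => IsConj J uv.1 ∧ IsConj J uv.2 ∧
        ∃ k : H, k ∈ K ∧ uv.1 * uv.2 = J * (k : G))).card : ℂ) *
      (Nat.card (Subgroup.centralizer ((P : Subgroup G) : Set G)) : ℂ) ^ 2 =
      2 * (Nat.card H : ℂ) ^ 2 := by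
    exact_mod_cast hcount
  rw [hT, hT2, hW, mul_assoc, hcountC]
  ring

end Transport

end Cfsg.Agent.Lib.Helper74
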