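import Mathlib
import Cfsg.Agent.S0946

/-!
# Groups of order `4 · odd` without a normal `2`-complement (helper74)

`isKleinFour_and_one_class_of_no_complement`: if `|G| = 4 g₀` with `g₀` odd and `G` has no normal
subgroup of order `g₀`, then the Sylow `2`-subgroups are Klein four-groups and all involutions are
conjugate (via Burnside's transfer for cyclic Sylow subgroups and landed S0946).
-/

set_option autoImplicit false
set_option linter.unusedSectionVars false

namespace Cfsg.Agent.Lib.Helper74

open Cfsg

section KleinNoComplement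

variable {G : Type*} [Group G] [Finite G]

theorem isKleinFour_and_one_class_of_no_complement (g₀ : ℕ) (hg₀ : Odd g₀)
    (hG : Nat.card G = 4 * g₀) (hnc : ¬ ∃ N : Subgroup G, N.Normal ∧ Nat.card N = g₀)
    (P : Sylow 2 G) :
    IsKleinFour (P : Subgroup G) ∧
      ∀ s t : G, orderOf s = 2 → orderOf t = 2 → IsConj s t := by
  have : Fact (Nat.Prime 2) := ⟨Nat.prime_two⟩
  have hg₀pos : 0 < g₀ := hg₀.pos
  have hfac : (Nat.card G).factorization 2 = 2 := by
    rw [hG, Nat.factorization_mul (by norm_num) hg₀pos.ne', Finsupp.add_apply,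
      Nat.factorization_eq_zero_of_not_dvd (fun h => (Nat.not_even_iff_odd.mpr hg₀)
        (even_iff_two_dvd.mpr h)), add_zero]
    have : (4 : ℕ) = 2 ^ 2 := by norm_num
    rw [this, Nat.factorization_pow, Finsupp.smul_apply, Nat.Prime.factorization_self Nat.prime_two]
    rfl
  have hP4 : Nat.card (P : Subgroup G) = 4 := by
    rw [P.card_eq_multiplicity, hfac]
    norm_num
  -- a complement of `P` has order `g₀`
  have hcompl : ∀ N : Subgroup G, N.Normal → Subgroup.IsComplement' N (P : Subgroup G) → False := by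
    intro N hN hc
    apply hnc
    refine ⟨N, hN, ?_⟩
    have h1 := hc.card_mul_card
    rw [hP4, hG, mul_comm] at h1
    exact Nat.eq_of_mul_eq_mul_left (by norm_num) h1
  have hncyc : ¬ IsCyclic (P : Subgroup G) := by
    intro hcyc
    have hmin : (Nat.card G).minFac = 2 := by
      rw [Nat.minFac_eq_two_iff, hG]
      exact ⟨2 * g₀, by ring⟩
    have h := IsCyclic.isComplement' hmin (P := P) hcyc
    exact hcompl _ inferInstance h
  have hexp : Monoid.exponent (P : Subgroup G) = 2 :=
    (not_isCyclic_iff_exponent_eq_prime Nat.prime_two (by rw [hP4]; norm_num)).mp hncyc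
  have hPK : IsKleinFour (P : Subgroup G) := ⟨hP4, hexp⟩
  refine ⟨hPK, ?_⟩
  have e : (P : Subgroup G) ≃* Multiplicative (ZMod (2 ^ 1) × ZMod (2 ^ 1)) :=
    (IsKleinFour.nonempty_mulEquiv (G₁ := (P : Subgroup G))
      (G₂ := Multiplicative (ZMod 2 × ZMod 2))).some
  rcases Cfsg.Agent.S0946.result P 1 le_rfl e with ⟨N, hN, hc⟩ | h
  · exact absurd hc (fun hc => hcompl N hN hc)
  · exact h

end KleinNoComplement

end Cfsg.Agent.Lib.Helper74
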