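import Cfsg.Agent.Lib.Helper74.FrobSchur
import Mathlib.Analysis.Complex.Polynomial.Basic

/-!
# Existence of an invariant bilinear form for a real-valued irreducible character (helper74)
-/

set_option autoImplicit false

namespace Cfsg.Agent.Lib.Helper74

open Matrix

variable {G : Type*} [Group G] {n : ℕ}

/-- An irreducible representation on `Fin n → k` has `n ≠ 0`. -/
theorem ne_zero_of_irreducible {k : Type*} [Field k] (ρ : Representation k G (Fin n → k))
    [ρ.IsIrreducible] : n ≠ 0 := by
  intro hn
  subst hn
  have h1 : Nontrivial (Subrepresentation ρ) := inferInstance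
  obtain ⟨a, b, hab⟩ := h1
  apply hab
  have : ∀ s : Subrepresentation ρ, ∀ x : Fin 0 → k, x ∈ s.toSubmodule ↔ x = 0 := by
    intro s x
    constructor
    · intro _; exact Subsingleton.elim _ _
    · intro hx; rw [hx]; exact s.toSubmodule.zero_mem
  apply Subrepresentation.toSubmodule_injective
  ext x
  rw [this a, this b]

/-- A real-valued irreducible complex matrix representation has a nonzero invariant bilinear
form. -/
theorem exists_invForm_of_real [Fintype G] (ρ : Representation ℂ G (Fin n → ℂ)) [ρ.IsIrreducible]
    (hreal : ∀ g : G, (ρ.character g).im = 0) :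
    ∃ M : Matrix (Fin n) (Fin n) ℂ, M ≠ 0 ∧ IsInvForm ρ M := by
  have hGne : (Nat.card G : ℂ) ≠ 0 := by
    have : Nat.card G ≠ 0 := Nat.card_pos.ne'
    exact_mod_cast this
  have : Invertible (Nat.card G : ℂ) := invertibleOfNonzero hGne
  have hfin := Representation.card_inv_mul_sum_char_mul_char_eq_finrank ρ (contra ρ)
  have hn := ne_zero_of_irreducible ρ
  -- the sum is a positive real
  have hsum : ∑ g : G, (contra ρ).character g * ρ.character g⁻¹ ≠ 0 := by
    have h1 : ∀ g : G, (contra ρ).character g * ρ.character g⁻¹
        = (((ρ.character g⁻¹).re ^ 2 : ℝ) : ℂ) := by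
      intro g
      rw [contra_character]
      have h2 : ρ.character g⁻¹ = ((ρ.character g⁻¹).re : ℂ) := by
        apply Complex.ext
        · simp
        · simp [hreal g⁻¹]
      rw [h2]
      push_cast
      simp [sq]
    simp only [h1]
    rw [← Complex.ofReal_sum]
    have hpos : 0 < ∑ g : G, (ρ.character g⁻¹).re ^ 2 := by
      apply Finset.sum_pos'
      · intro g _; positivity
      · refine ⟨1, Finset.mem_univ _, ?_⟩
        rw [inv_one, Representation.char_one]
        simp only [Module.finrank_fin_fun, Complex.natCast_re]
        have : (0 : ℝ) < n := by exact_mod_cast Nat.pos_of_ne_zero hn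
        positivity
    exact_mod_cast hpos.ne'
  have hrank : Module.finrank ℂ (Representation.IntertwiningMap ρ (contra ρ)) ≠ 0 := by
    intro h0
    rw [h0] at hfin
    simp only [Nat.cast_zero, mul_eq_zero, inv_eq_zero] at hfin
    rcases hfin with h | h
    · exact hGne h
    · exact hsum h
  obtain ⟨T, hT⟩ := (Module.finrank_pos_iff_exists_ne_zero (R := ℂ)).mp (Nat.pos_of_ne_zero hrank)
  refine ⟨LinearMap.toMatrix' T.toLinearMap, ?_, isInvForm_of_intertwining T⟩
  intro h0
  apply hT
  apply Representation.IntertwiningMap.ext
  have := congrArg Matrix.toLin' h0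
  simpa using this

end Cfsg.Agent.Lib.Helper74
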