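import Cfsg.Agent.Lib.Helper74.SchurOrth
import Mathlib.LinearAlgebra.Matrix.PosDef
import Mathlib.Analysis.Complex.Order

/-!
# Weyl unitarian trick in matrix form; `χ(g⁻¹) = conj χ(g)` (helper74)
-/

set_option autoImplicit false

namespace Cfsg.Agent.Lib.Helper74

open Matrix
open scoped ComplexOrder ComplexConjugate

variable {G : Type*} [Group G] {n : ℕ}

/-- The averaged Hermitian form `∑ g, (X g)ᴴ * X g`. -/
noncomputable def hermForm [Fintype G] (ρ : Representation ℂ G (Fin n → ℂ)) :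
    Matrix (Fin n) (Fin n) ℂ :=
  ∑ g, (matOf ρ g)ᴴ * matOf ρ g

theorem matOf_mulVec_injective (ρ : Representation ℂ G (Fin n → ℂ)) (g : G) :
    Function.Injective (matOf ρ g).mulVec := by
  intro v w hvw
  have h := congrArg (matOf ρ g⁻¹).mulVec hvw
  simpa [Matrix.mulVec_mulVec, matOf_inv_mul] using h

theorem hermForm_posDef [Fintype G] (ρ : Representation ℂ G (Fin n → ℂ)) :
    (hermForm ρ).PosDef := by
  apply Matrix.posDef_sum Finset.univ_nonempty
  intro g _
  exact Matrix.PosDef.conjTranspose_mul_self _ (matOf_mulVec_injective ρ g)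

theorem hermForm_invariant [Fintype G] (ρ : Representation ℂ G (Fin n → ℂ)) (h : G) :
    (matOf ρ h)ᴴ * hermForm ρ * matOf ρ h = hermForm ρ := by
  unfold hermForm
  rw [Matrix.mul_sum, Matrix.sum_mul]
  refine Fintype.sum_equiv (Equiv.mulRight h) _ _ (fun g => ?_)
  simp [matOf_mul, Matrix.conjTranspose_mul, Matrix.mul_assoc]

theorem hermForm_isUnit [Fintype G] (ρ : Representation ℂ G (Fin n → ℂ)) :
    IsUnit (hermForm ρ) := (hermForm_posDef ρ).isUnit

theorem conjTranspose_mul_hermForm [Fintype G] (ρ : Representation ℂ G (Fin n → ℂ)) (g : G) :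
    (matOf ρ g)ᴴ * hermForm ρ = hermForm ρ * matOf ρ g⁻¹ := by
  have h := hermForm_invariant ρ g
  calc (matOf ρ g)ᴴ * hermForm ρ
      = (matOf ρ g)ᴴ * hermForm ρ * (matOf ρ g * matOf ρ g⁻¹) := by
        rw [matOf_mul_inv, Matrix.mul_one]
    _ = ((matOf ρ g)ᴴ * hermForm ρ * matOf ρ g) * matOf ρ g⁻¹ := by
        simp only [Matrix.mul_assoc]
    _ = hermForm ρ * matOf ρ g⁻¹ := by rw [h]

/-- `χ(g⁻¹) = conj χ(g)` for a complex matrix representation of a finite group. -/
theorem character_inv [Fintype G] (ρ : Representation ℂ G (Fin n → ℂ)) (g : G) :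
    ρ.character g⁻¹ = conj (ρ.character g) := by
  obtain ⟨u, hu⟩ := hermForm_isUnit ρ
  have h1 := conjTranspose_mul_hermForm ρ g
  rw [← hu] at h1
  have h2 : matOf ρ g⁻¹ = (u⁻¹ : (Matrix (Fin n) (Fin n) ℂ)ˣ) * ((matOf ρ g)ᴴ * u) := by
    rw [h1, ← Matrix.mul_assoc, Units.inv_mul, Matrix.one_mul]
  rw [← trace_matOf, ← trace_matOf, h2, Matrix.trace_mul_comm, Matrix.mul_assoc, Units.mul_inv,
    Matrix.mul_one, Matrix.trace_conjTranspose]
  rfl

end Cfsg.Agent.Lib.Helper74
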