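import Cfsg.Agent.Lib.Helper74.FSInd
import Cfsg.Agent.Lib.Helper74.RealForm
import Cfsg.Agent.Lib.Helper74.Unitary
import Cfsg.Agent.Lib.Helper74.Coord

/-!
# Frobenius–Schur indicator: 0, 1, -1, and 0 iff the character is not real (helper74)

`frobenius_schur_indicator` is exactly the form of statement S0158.
-/

set_option autoImplicit false

namespace Cfsg.Agent.Lib.Helper74

open Matrix
open scoped ComplexConjugate

variable {G : Type*} [Group G] {n : ℕ}

/-- If an irreducible complex matrix representation has a nonzero invariant bilinear form, its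
character is real-valued. -/
theorem IsInvForm.character_real [Fintype G] {ρ : Representation ℂ G (Fin n → ℂ)}
    [ρ.IsIrreducible] {M : Matrix (Fin n) (Fin n) ℂ} (hM : IsInvForm ρ M) (h0 : M ≠ 0) (g : G) :
    (ρ.character g).im = 0 := by
  obtain ⟨u, hu⟩ := hM.isUnit h0
  have h1 := hM.mul_matOf g
  rw [← hu] at h1
  have h2 : matOf ρ g = (u⁻¹ : (Matrix (Fin n) (Fin n) ℂ)ˣ) * ((matOf ρ g⁻¹)ᵀ * u) := by
    rw [← h1, ← Matrix.mul_assoc, Units.inv_mul, Matrix.one_mul]
  have h3 : ρ.character g = ρ.character g⁻¹ := by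
    rw [← trace_matOf, ← trace_matOf, h2, Matrix.trace_mul_comm, Matrix.mul_assoc, Units.mul_inv,
      Matrix.mul_one, Matrix.trace_transpose]
  rw [character_inv] at h3
  have h4 := congrArg Complex.im h3
  simp only [Complex.conj_im] at h4
  linarith

/-- The Frobenius–Schur indicator of an irreducible complex matrix representation vanishes iff
the character is not real-valued. -/
theorem fsInd_eq_zero_iff_not_real [Fintype G] (ρ : Representation ℂ G (Fin n → ℂ))
    [ρ.IsIrreducible] : fsInd ρ = 0 ↔ ∃ s : G, (ρ.character s).im ≠ 0 := by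
  constructor
  · intro h
    by_contra hcon
    push Not at hcon
    obtain ⟨M, h0, hM⟩ := exists_invForm_of_real ρ hcon
    exact (fsInd_ne_zero_iff ρ).mpr ⟨M, h0, hM⟩ h
  · rintro ⟨s, hs⟩
    by_contra hcon
    obtain ⟨M, h0, hM⟩ := (fsInd_ne_zero_iff ρ).mp hcon
    exact hs (hM.character_real h0 s)

/-- **Frobenius–Schur** for an irreducible complex representation on any finite-dimensional
space (the form of statement S0158). -/
theorem frobenius_schur_indicator [Fintype G] {V : Type*} [AddCommGroup V] [Module ℂ V]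
    [FiniteDimensional ℂ V] (ρ : Representation ℂ G V) [ρ.IsIrreducible] :
    ((Nat.card G : ℂ)⁻¹ * ∑ s : G, ρ.character (s * s) = 0 ∨
      (Nat.card G : ℂ)⁻¹ * ∑ s : G, ρ.character (s * s) = 1 ∨
      (Nat.card G : ℂ)⁻¹ * ∑ s : G, ρ.character (s * s) = -1) ∧
    ((Nat.card G : ℂ)⁻¹ * ∑ s : G, ρ.character (s * s) = 0 ↔ ∃ s : G, (ρ.character s).im ≠ 0) := by
  have hirr := toCoord_isIrreducible ρ
  have hν : (Nat.card G : ℂ)⁻¹ * ∑ s : G, ρ.character (s * s) = fsInd (toCoord ρ) := by
    rw [fsInd_eq_sum_character, toCoord_character, Nat.card_eq_fintype_card]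
  rw [hν]
  refine ⟨fsInd_trichotomy _, ?_⟩
  rw [fsInd_eq_zero_iff_not_real, toCoord_character]

end Cfsg.Agent.Lib.Helper74
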