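import Cfsg.Agent.Lib.Helper78.CharMore
import Cfsg.Agent.Lib.Helper74.FSReal

/-!
# Frobenius–Schur count of involutions (helper74)

`frobenius_schur_count` is exactly the statement of S0159. Builds on helper78 second orthogonality.
-/

set_option autoImplicit false

namespace Cfsg.Agent.Lib.Helper74

open Cfsg Cfsg.Agent.Lib.Helper78
open scoped ComplexConjugate

variable {G : Type*} [Group G] [Fintype G]

/-- The Frobenius–Schur indicator of a complex-valued function on a finite group. -/
noncomputable def fsIndFun (χ : G → ℂ) : ℂ := (Nat.card G : ℂ)⁻¹ * ∑ s : G, χ (s * s)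

/-- **Frobenius–Schur count of involutions**: the number of solutions of `s * s = 1` is
`∑ χ, ν(χ) χ(1)`. -/
theorem card_sq_eq_one_eq_sum :
    (Nat.card {s : G // s * s = 1} : ℂ) =
      ∑ χ : IrrCharacter G, fsIndFun (χ : G → ℂ) * (χ : G → ℂ) 1 := by
  classical
  have hcard : (Nat.card G : ℂ) ≠ 0 := by
    have : Nat.card G ≠ 0 := Nat.card_pos.ne'
    exact_mod_cast this
  -- χ(1) is real
  have hreal : ∀ χ : IrrCharacter G, conj ((χ : G → ℂ) 1) = (χ : G → ℂ) 1 := by
    intro χ
    have h := IsCharacter.inv (IsIrrCharacter.isCharacter χ.2) (1 : G)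
    rw [inv_one] at h
    exact h.symm
  -- second orthogonality with h = 1
  have h2 : ∀ s : G, ∑ χ : IrrCharacter G, (χ : G → ℂ) (s * s) * conj ((χ : G → ℂ) 1)
      = if s * s = 1 then (Nat.card G : ℂ) else 0 := by
    intro s
    by_cases hs : s * s = 1
    · rw [if_pos hs, second_orthogonality_of_isConj (by rw [hs])]
      rw [hs]
      have : Subgroup.centralizer ({1} : Set G) = ⊤ := by
        ext x; simp [Subgroup.mem_centralizer_iff]
      rw [this]
      simp
    · rw [if_neg hs, second_orthogonality_of_not_isConj]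
      intro hc
      exact hs (isConj_one_left.mp hc)
  calc (Nat.card {s : G // s * s = 1} : ℂ)
      = (Nat.card G : ℂ)⁻¹ * ∑ s : G, (if s * s = 1 then (Nat.card G : ℂ) else 0) := by
        rw [Finset.sum_ite, Finset.sum_const_zero, add_zero, Finset.sum_const, nsmul_eq_mul,
          mul_comm _ (Nat.card G : ℂ), ← mul_assoc, inv_mul_cancel₀ hcard, one_mul]
        rw [Nat.card_eq_fintype_card, Fintype.card_subtype]
    _ = (Nat.card G : ℂ)⁻¹ * ∑ s : G, ∑ χ : IrrCharacter G,
          (χ : G → ℂ) (s * s) * conj ((χ : G → ℂ) 1) := by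
        simp only [h2]
    _ = ∑ χ : IrrCharacter G, fsIndFun (χ : G → ℂ) * (χ : G → ℂ) 1 := by
        rw [Finset.sum_comm, Finset.mul_sum]
        refine Finset.sum_congr rfl (fun χ _ => ?_)
        rw [fsIndFun, hreal, ← Finset.sum_mul, mul_assoc]

/-- The count of square roots of `1`, exactly in the form of statement S0159. -/
theorem frobenius_schur_count :
    (Nat.card {s : G // s * s = 1} : ℂ) =
      ∑ᶠ χ : Cfsg.IrrCharacter G,
        ((Nat.card G : ℂ)⁻¹ * ∑ s : G, (χ : G → ℂ) (s * s)) * (χ : G → ℂ) 1 := by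
  rw [finsum_eq_sum_of_fintype]
  exact card_sq_eq_one_eq_sum

/-- The Frobenius–Schur indicator of an irreducible character is `0`, `1` or `-1`. -/
theorem fsIndFun_trichotomy (χ : IrrCharacter G) :
    fsIndFun (χ : G → ℂ) = 0 ∨ fsIndFun (χ : G → ℂ) = 1 ∨ fsIndFun (χ : G → ℂ) = -1 := by
  obtain ⟨χf, n, ρ, hirr, hχ⟩ := χ
  have := hirr
  have h := (frobenius_schur_indicator ρ).1
  rw [hχ] at h
  exact h

/-- The Frobenius–Schur indicator of an irreducible character vanishes iff the character is not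
real-valued. -/
theorem fsIndFun_eq_zero_iff (χ : IrrCharacter G) :
    fsIndFun (χ : G → ℂ) = 0 ↔ ∃ s : G, ((χ : G → ℂ) s).im ≠ 0 := by
  obtain ⟨χf, n, ρ, hirr, hχ⟩ := χ
  have := hirr
  have h := (frobenius_schur_indicator ρ).2
  rw [hχ] at h
  exact h

/-- If `ν(χ) ≠ 0` then `χ` is real-valued. -/
theorem im_eq_zero_of_fsIndFun_ne_zero (χ : IrrCharacter G) (h : fsIndFun (χ : G → ℂ) ≠ 0)
    (g : G) : ((χ : G → ℂ) g).im = 0 := by
  by_contra hne
  exact h ((fsIndFun_eq_zero_iff χ).mpr ⟨g, hne⟩)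

/-- The indicator of the principal character is `1`. -/
theorem fsIndFun_one : fsIndFun (fun _ : G => (1 : ℂ)) = 1 := by
  have hcard : (Nat.card G : ℂ) ≠ 0 := by
    have : Nat.card G ≠ 0 := Nat.card_pos.ne'
    exact_mod_cast this
  simp [fsIndFun, Finset.sum_const, Finset.card_univ, ← Nat.card_eq_fintype_card, hcard]

end Cfsg.Agent.Lib.Helper74
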