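import Mathlib
import Cfsg.Agent.Lib.Helper81.Gallagher
import Cfsg.Agent.Lib.Helper77.Linear
import Cfsg.Agent.Lib.Helper74.FSCount

set_option autoImplicit false

namespace Cfsg.Agent.Lib.Helper74

open Cfsg
open scoped ComplexConjugate

universe u

section Twist

variable {G : Type u} [Group G] [Finite G]

/-- twist of an irreducible character by a linear character -/
noncomputable def twistIrr (μ : G →* ℂˣ) (χ : IrrCharacter G) : IrrCharacter G :=
  ⟨fun g => ((μ g : ℂˣ) : ℂ) * (χ : G → ℂ) g,
    Cfsg.Agent.Lib.Helper81.isIrrCharacter_monoidHom_mul μ χ.2⟩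

theorem twistIrr_apply (μ : G →* ℂˣ) (χ : IrrCharacter G) (g : G) :
    (twistIrr μ χ : G → ℂ) g = ((μ g : ℂˣ) : ℂ) * (χ : G → ℂ) g := rfl

/-- the action of the linear characters on the irreducible characters by multiplication -/
noncomputable instance twistMulAction : MulAction (G →* ℂˣ) (IrrCharacter G) where
  smul := twistIrr
  one_smul χ := by
    apply Subtype.ext
    funext g
    show (twistIrr 1 χ : G → ℂ) g = _
    rw [twistIrr_apply, MonoidHom.one_apply, Units.val_one, one_mul]
  mul_smul μ ν χ := by
    apply Subtype.ext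
    funext g
    show (twistIrr (μ * ν) χ : G → ℂ) g = (twistIrr μ (twistIrr ν χ) : G → ℂ) g
    rw [twistIrr_apply, twistIrr_apply, twistIrr_apply, MonoidHom.mul_apply, Units.val_mul,
      mul_assoc]

end Twist

end Cfsg.Agent.Lib.Helper74
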