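import Mathlib
import Cfsg.Prelude.Def_OddOrderChar
import Cfsg.Prelude.Def_OddOrderLocal
import Cfsg.Agent.Lib.Helper74.PFTwelveB
import Cfsg.Agent.Lib.Helper4.PFNineA
import Cfsg.Agent.Lib.Helper25.NilAb
import Cfsg.Agent.S1535
import Cfsg.Agent.S1524
import Cfsg.Agent.S0040

/-!
# Peterfalvi (12.6) (helper74): coherence for a Frobenius subgroup of type I.

`frobTypeI_coherent`: `L ≤ G` of Frobenius type with `H = L_F`, `C_L(x) ≤ H` for `x ∈ H#`, and
`H` TI with normalizer `L`, or `H` abelian, or `exp(L/H) ∣ p - 1` for all `p ∣ |H|`.  If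
`(H#, L, R)` satisfies the Dade hypothesis with `R a = 1` whenever `C_G(a) ≤ L`, then the set `S` of
characters of `L` induced from nonprincipal irreducible characters of `H` consists of irreducible
characters and `(S, L#, τ)` is coherent for the Dade map `τ`.
-/

set_option autoImplicit false
set_option linter.unusedSectionVars false
set_option linter.style.haveILetI false

namespace Cfsg.Agent.Lib.Helper74.PF12

open Cfsg Cfsg.Agent.Lib.Helper78 Cfsg.Agent.Lib.Helper75 Cfsg.Agent.Lib.Helper74
open scoped ComplexConjugate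

universe u

section PGroup

variable {Λ : Type u} [Group Λ] [Finite Λ]

theorem subgroupOf_commutator_self (K : Subgroup Λ) :
    (⁅K, K⁆ : Subgroup Λ).subgroupOf K = _root_.commutator K := by
  rw [← Subgroup.map_subtype_commutator]
  exact Subgroup.comap_map_eq_self_of_injective K.subtype_injective _

/-- a nonabelian group of prime power order has `|K : K'| ≥ p²` -/
theorem sq_le_index_commutator (K : Subgroup Λ) (p : ℕ) (hp : p.Prime) (m : ℕ)
    (hcard : Nat.card K = p ^ m) (hna : ¬ IsMulCommutative K) :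
    p ^ 2 ≤ ((⁅K, K⁆ : Subgroup Λ).subgroupOf K).index := by
  rw [subgroupOf_commutator_self]
  haveI := Fact.mk hp
  have hpg : IsPGroup p K := IsPGroup.of_card hcard
  haveI : Group.IsNilpotent K := hpg.isNilpotent
  have hdvd : (_root_.commutator K).index ∣ p ^ m := by
    rw [← hcard]; exact Subgroup.index_dvd_card _
  obtain ⟨j, -, hj⟩ := (Nat.dvd_prime_pow hp).mp hdvd
  by_contra hlt
  push Not at hlt
  apply hna
  have hj1 : j ≤ 1 := by
    by_contra h2
    push Not at h2
    have : p ^ 2 ≤ p ^ j := Nat.pow_le_pow_right hp.pos h2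
    omega
  have hcyc : IsCyclic (Abelianization K) := by
    have hc : Nat.card (Abelianization K) = p ^ j := by
      rw [← hj]
      exact (Subgroup.index_eq_card _).symm
    interval_cases j
    · rw [pow_zero] at hc
      haveI : Subsingleton (Abelianization K) := (Nat.card_eq_one_iff_unique.mp hc).1
      exact isCyclic_of_subsingleton
    · rw [pow_one] at hc
      exact isCyclic_of_prime_card hc
  have hcomm := Cfsg.Agent.Lib.Helper25.NilAb.comm_of_isCyclic_abelianization _ K rfl hcyc
  exact ⟨⟨fun a b => hcomm a b⟩⟩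

end PGroup

section Main

variable {G : Type u} [Group G] [Fintype G] (L : Subgroup G) [Fintype L]

theorem coe_mem_fittingHallOf_iff (x : L) : (x : G) ∈ fittingHallOf L ↔ x ∈ fittingHall L := by
  unfold fittingHallOf
  constructor
  · rintro ⟨y, hy, hyx⟩
    have : y = x := Subtype.ext hyx
    rwa [← this]
  · intro hx
    exact ⟨x, hx, rfl⟩

theorem frob_hC
    (hfrob : ∀ x ∈ fittingHallOf L, x ≠ 1 →
      L ⊓ Subgroup.centralizer ({x} : Set G) ≤ fittingHallOf L) :
    ∀ n ∈ fittingHall L, n ≠ 1 → Subgroup.centralizer ({n} : Set L) ≤ fittingHall L := by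
  intro n hn hn1 c hc
  rw [← coe_mem_fittingHallOf_iff]
  apply hfrob (n : G) ((coe_mem_fittingHallOf_iff L n).mpr hn)
    (fun h => hn1 (Subtype.ext h))
  refine ⟨c.2, ?_⟩
  show (c : G) ∈ Subgroup.centralizer ({(n : G)} : Set G)
  rw [Subgroup.mem_centralizer_iff]
  intro y hy
  rw [Set.mem_singleton_iff] at hy
  subst hy
  have := Subgroup.mem_centralizer_iff.mp hc n (Set.mem_singleton n)
  exact congrArg Subtype.val this

/-- the characters in `S` vanish off `H = L_F` -/
theorem frobS_vanish {χ : L → ℂ} (hχ : χ ∈ inducedIrrAbove (fittingHall L) ⊥) (x : L)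
    (hx : (x : G) ∉ (fittingHallOf L : Set G)) : χ x = 0 := by
  apply sibleyS_vanish (fittingHall L) hχ x
  intro hxK
  exact hx ((coe_mem_fittingHallOf_iff L x).mpr hxK)

/-- the complement of a Frobenius-type `L` acts on `L_F` without fixed points -/
theorem frob_fpf
    (hC : ∀ n ∈ fittingHall L, n ≠ 1 → Subgroup.centralizer ({n} : Set L) ≤ fittingHall L)
    (U : Subgroup L) (hc : Subgroup.IsComplement' (fittingHall L) U) :
    ∀ h ∈ U, h ≠ 1 → fittingHall L ⊓ Subgroup.centralizer {h} = ⊥ := by
  intro h hh hh1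
  rw [eq_bot_iff]
  rintro n ⟨hnK, hnc⟩
  rw [Subgroup.mem_bot]
  by_contra hn1
  apply hh1
  have h1 : h ∈ Subgroup.centralizer ({n} : Set L) := by
    rw [Subgroup.mem_centralizer_iff]
    intro y hy
    rw [Set.mem_singleton_iff] at hy
    subst hy
    exact (Subgroup.mem_centralizer_iff.mp hnc h (Set.mem_singleton h)).symm
  have h2 : h ∈ fittingHall L ⊓ U := ⟨hC n hnK hn1 h1, hh⟩
  rw [hc.disjoint.eq_bot] at h2
  exact Subgroup.mem_bot.mp h2

/-- the complement of a Frobenius-type `L` of odd order has order dividing its exponent -/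
theorem frob_card_dvd_exponent (hodd : Odd (Nat.card L)) (hK1 : fittingHall L ≠ ⊥)
    (hC : ∀ n ∈ fittingHall L, n ≠ 1 → Subgroup.centralizer ({n} : Set L) ≤ fittingHall L)
    (U : Subgroup L) (hc : Subgroup.IsComplement' (fittingHall L) U) :
    Nat.card U ∣ Monoid.exponent U := by
  apply card_dvd_exponent_of_sylow_cyclic
  intro q _ Q
  rcases Cfsg.Agent.S0040.result (fittingHall L) U hc hK1 (frob_fpf L hC U hc) q Q with
    h | ⟨n, ⟨e⟩⟩
  · exact h
  · exfalso
    have hcard : Nat.card (Q : Subgroup U) = 4 * 2 ^ n := by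
      rw [Nat.card_congr e.toEquiv, Nat.card_eq_fintype_card, QuaternionGroup.card]
    have h1 : Nat.card (Q : Subgroup U) ∣ Nat.card U := Subgroup.card_subgroup_dvd_card _
    have h2 : Nat.card U ∣ Nat.card L := Subgroup.card_subgroup_dvd_card _
    have h3 : 2 ∣ Nat.card L := by
      refine Dvd.dvd.trans ?_ (h1.trans h2)
      rw [hcard]
      exact ⟨2 * 2 ^ n, by ring⟩
    rcases hodd with ⟨k, hk⟩
    omega

/-- the exceptional case of Sibley's theorem cannot occur under the exponent condition -/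
theorem frob_exc_false (hodd : Odd (Nat.card L)) (hK1 : fittingHall L ≠ ⊥)
    (hC : ∀ n ∈ fittingHall L, n ≠ 1 → Subgroup.centralizer ({n} : Set L) ≤ fittingHall L)
    (U : Subgroup L) (hc : Subgroup.IsComplement' (fittingHall L) U)
    (hexp : ∀ p : ℕ, p.Prime → p ∣ Nat.card (fittingHall L) →
      Monoid.exponent (L ⧸ fittingHall L) ∣ p - 1)
    (p : ℕ) (hp : p.Prime) (m : ℕ) (hm : Nat.card (fittingHall L) = p ^ m)
    (hna : ¬ IsMulCommutative (fittingHall L))
    (hidx : ((⁅fittingHall L, fittingHall L⁆ : Subgroup L).subgroupOf (fittingHall L)).index ≤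
      4 * (fittingHall L).index ^ 2 + 1) : False := by
  have hm0 : m ≠ 0 := by
    intro h0
    rw [h0, pow_zero] at hm
    exact hK1 ((fittingHall L).eq_bot_of_card_eq hm)
  have hpK : p ∣ Nat.card (fittingHall L) := by rw [hm]; exact dvd_pow_self p hm0
  have h1 := hexp p hp hpK
  have hUcard : Nat.card U = (fittingHall L).index := by
    have e1 := hc.card_mul_card
    have e2 := (fittingHall L).card_mul_index
    have hpos : 0 < Nat.card (fittingHall L) := Nat.card_pos
    exact Nat.eq_of_mul_eq_mul_left hpos (e1.trans e2.symm)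
  have hexpU : Monoid.exponent (L ⧸ fittingHall L) = Monoid.exponent U :=
    Monoid.exponent_eq_of_mulEquiv hc.symm.QuotientMulEquiv
  have h2 : (fittingHall L).index ∣ p - 1 := by
    rw [← hUcard]
    exact (frob_card_dvd_exponent L hodd hK1 hC U hc).trans (hexpU ▸ h1)
  have hKL : Nat.card (fittingHall L) * (fittingHall L).index = Nat.card L :=
    (fittingHall L).card_mul_index
  have hoddmul : Odd (Nat.card (fittingHall L) * (fittingHall L).index) := by rw [hKL]; exact hodd
  obtain ⟨hKodd, hidxodd⟩ := Nat.odd_mul.mp hoddmul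
  have hpodd : Odd p := by
    obtain ⟨c, hc'⟩ := hpK
    rw [hc'] at hKodd
    exact (Nat.odd_mul.mp hKodd).1
  have hp2 : 2 ≤ p := hp.two_le
  obtain ⟨t, ht⟩ := h2
  have ht2 : 2 ≤ t := by
    rcases hpodd with ⟨a, ha⟩
    rcases hidxodd with ⟨b, hb⟩
    rcases Nat.even_or_odd t with ⟨c, hc'⟩ | ⟨c, hc'⟩
    · have : t ≠ 0 := by
        rintro rfl
        omega
      omega
    · exfalso
      rw [hb, hc'] at ht
      have : p - 1 = 2 * a := by omega
      rw [this] at ht
      have h4 : (2 * b + 1) * (2 * c + 1) = 2 * (2 * b * c + b + c) + 1 := by ring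
      omega
  have h3 : 2 * (fittingHall L).index ≤ p - 1 := by
    rw [ht]
    calc 2 * (fittingHall L).index = (fittingHall L).index * 2 := by ring
      _ ≤ (fittingHall L).index * t := Nat.mul_le_mul_left _ ht2
  have h4 := sq_le_index_commutator (fittingHall L) p hp m hm hna
  have h5 : 4 * (fittingHall L).index ^ 2 ≤ (p - 1) ^ 2 := by
    calc 4 * (fittingHall L).index ^ 2 = (2 * (fittingHall L).index) ^ 2 := by ring
      _ ≤ (p - 1) ^ 2 := Nat.pow_le_pow_left h3 2
  obtain ⟨q, rfl⟩ : ∃ q, p = q + 1 := ⟨p - 1, by omega⟩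
  have hq : 0 < q := by omega
  simp only [Nat.add_sub_cancel] at h5
  have h6 : (q + 1) ^ 2 = q ^ 2 + 2 * q + 1 := by ring
  omega

/-- **Peterfalvi (12.6)**: coherence for a Frobenius subgroup of type I. -/
theorem frobTypeI_coherent
    (hF : IsOfTypeF L)
    (hfrob : ∀ x ∈ fittingHallOf L, x ≠ 1 →
      L ⊓ Subgroup.centralizer ({x} : Set G) ≤ fittingHallOf L)
    (hcase : (IsTISubset (fittingHallOf L : Set G) ∧
        Subgroup.normalizer (fittingHallOf L : Set G) = L) ∨
      IsMulCommutative (fittingHallOf L) ∨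
      (∀ p : ℕ, p.Prime → p ∣ Nat.card (fittingHallOf L) →
        Monoid.exponent (L ⧸ fittingHall L) ∣ p - 1))
    (A : Set G) (hA : A = (fittingHallOf L : Set G) \ {1})
    (R : G → Subgroup G) (hR : ∀ a : G, Subgroup.centralizer ({a} : Set G) ≤ L → R a = ⊥)
    (hD : DadeHypothesis A L R) :
    (∀ χ ∈ inducedIrrAbove (fittingHall L) ⊥, IsIrrCharacter L χ) ∧
      IsCoherent (inducedIrrAbove (fittingHall L) ⊥) {1}ᶜ (dadeIsometry A L R) := by
  classical
  obtain ⟨-, hodd, hK1, hK2, U, hU1, hc, -, -⟩ := hF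
  have hC := frob_hC L hfrob
  have hSirr : ∀ χ ∈ inducedIrrAbove (fittingHall L) ⊥, IsIrrCharacter L χ :=
    fun χ hχ => sibleyS_isIrrCharacter (fittingHall L) hC hχ
  refine ⟨hSirr, ?_⟩
  have hSchar : ∀ χ ∈ inducedIrrAbove (fittingHall L) ⊥, IsCharacter L χ :=
    fun χ hχ => IsIrrCharacter.isCharacter (hSirr χ hχ)
  have hXA : ∀ x ∈ (fittingHallOf L : Set G), x ≠ 1 → x ∈ A := by
    intro x hx hx1
    rw [hA]
    exact ⟨hx, hx1⟩
  have hvan : ∀ χ ∈ inducedIrrAbove (fittingHall L) ⊥, ∀ x : L,
      (x : G) ∉ (fittingHallOf L : Set G) → χ x = 0 :=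
    fun χ hχ x hx => frobS_vanish L hχ x hx
  obtain ⟨hτ, hτ1⟩ := dade_isLinearIsometryOn hD (fittingHallOf L : Set G) hXA
    (inducedIrrAbove (fittingHall L) ⊥) hSchar hvan
  rcases hcase with ⟨hTI, hN⟩ | hrest
  · -- the TI case: Sibley's theorem S1524 for induction, then compare with the Dade map
    have hHL : fittingHallOf L ≤ L := Cfsg.Agent.Lib.Helper4.PF9.fittingHallOf_le L
    have hW₁L : U.map L.subtype ≤ L := by
      rintro _ ⟨u, -, rfl⟩
      exact u.2
    have hH1 : fittingHallOf L ≠ ⊥ := by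
      unfold fittingHallOf
      rw [Ne, Subgroup.map_eq_bot_iff_of_injective _ L.subtype_injective]
      exact hK1
    have hW1 : U.map L.subtype ≠ ⊥ := by
      rw [Ne, Subgroup.map_eq_bot_iff_of_injective _ L.subtype_injective]
      exact hU1
    have hnil : Group.IsNilpotent (fittingHallOf L) := Cfsg.Agent.Lib.Helper4.PF9.H_isNilpotent L
    have hHn : ∀ x ∈ L, ∀ h ∈ fittingHallOf L, x * h * x⁻¹ ∈ fittingHallOf L :=
      fun x hx h hh => Cfsg.Agent.Lib.Helper4.PF9.conj_mem_fittingHallOf L hx hh
    have hinf : fittingHallOf L ⊓ U.map L.subtype = ⊥ := by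
      unfold fittingHallOf
      rw [← Subgroup.map_inf _ _ _ L.subtype_injective, hc.disjoint.eq_bot, Subgroup.map_bot]
    have hsup : fittingHallOf L ⊔ U.map L.subtype = L := by
      unfold fittingHallOf
      rw [← Subgroup.map_sup, hc.sup_eq_top, ← MonoidHom.range_eq_map, Subgroup.range_subtype]
    have hfpf : ∀ w ∈ U.map L.subtype, w ≠ 1 → ∀ h ∈ fittingHallOf L, w * h = h * w → h = 1 := by
      rintro _ ⟨u, hu, rfl⟩ hu1 _ ⟨n, hn, rfl⟩ hcomm
      have hu1' : u ≠ 1 := by
        rintro rfl
        exact hu1 rfl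
      have hbot := frob_fpf L hC U hc u hu hu1'
      have hmem : n ∈ fittingHall L ⊓ Subgroup.centralizer {u} := by
        refine ⟨hn, ?_⟩
        show n ∈ Subgroup.centralizer ({u} : Set L)
        rw [Subgroup.mem_centralizer_iff]
        intro y hy
        rw [Set.mem_singleton_iff] at hy
        subst hy
        exact Subtype.ext hcomm
      rw [hbot, Subgroup.mem_bot] at hmem
      rw [hmem]
      rfl
    have hcoh := Cfsg.Agent.S1524.result (fittingHallOf L) L (U.map L.subtype) hodd hHL hW₁L hH1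
      hW1 hnil hHn hinf hsup hfpf hTI hN
    have hsub : (fittingHallOf L).subgroupOf L = fittingHall L := by
      unfold fittingHallOf
      exact Subgroup.comap_map_eq_self_of_injective L.subtype_injective _
    rw [hsub] at hcoh
    obtain ⟨hne, τ₁, hτ₁, hagree⟩ := hcoh
    refine ⟨hne, τ₁, hτ₁, ?_⟩
    intro α hα
    rw [hagree α hα]
    symm
    have pa := zspan_props (fittingHallOf L : Set G) (inducedIrrAbove (fittingHall L) ⊥)
      hSchar hvan hα.1
    apply dade_eq_indFun hD ?_ α pa.1 ?_
    · intro a ha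
      apply hR
      rw [hA] at ha
      intro g hg
      by_contra hgL
      have hgN : g ∉ Subgroup.normalizer (fittingHallOf L : Set G) := by
        rw [hN]
        exact hgL
      have hga : g * a * g⁻¹ = a := by
        have := Subgroup.mem_centralizer_iff.mp hg a (Set.mem_singleton a)
        rw [← this]
        group
      have h1 := hTI g hgN a ha.1 (by rw [hga]; exact ha.1)
      exact ha.2 h1
    · intro x hx
      by_cases hx1 : x = 1
      · rw [hx1]
        exact hα.2 1 (by simp)
      · apply pa.2.1 x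
        intro hxH
        apply hx
        rw [hA]
        exact ⟨hxH, fun h => hx1 (Subtype.ext h)⟩
  · -- Sibley's theorem S1535 for Frobenius groups
    have hKL : Nat.card (fittingHall L) * (fittingHall L).index = Nat.card L :=
      (fittingHall L).card_mul_index
    have he : Nat.card (fittingHall L) ≠ (fittingHall L).index + 1 := by
      have hoddmul : Odd (Nat.card (fittingHall L) * (fittingHall L).index) := by
        rw [hKL]; exact hodd
      obtain ⟨⟨a, ha⟩, ⟨b, hb⟩⟩ := Nat.odd_mul.mp hoddmul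
      omega
    have hSeq := sibleyS_eq_setOf (fittingHall L) hC
    rw [hSeq] at hτ hτ1 ⊢
    rcases Cfsg.Agent.S1535.result (fittingHall L) hK1 hK2 hC he _ hτ hτ1 with
      hcoh | ⟨p, hp, ⟨m, hm⟩, hna, hidx⟩
    · exact hcoh
    · exfalso
      rcases hrest with hab | hexp
      · apply hna
        refine ⟨⟨fun a b => ?_⟩⟩
        have ha : ((a : L) : G) ∈ fittingHallOf L := (coe_mem_fittingHallOf_iff L a).mpr a.2
        have hb : ((b : L) : G) ∈ fittingHallOf L := (coe_mem_fittingHallOf_iff L b).mpr b.2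
        have := hab.is_comm.comm (⟨_, ha⟩ : fittingHallOf L) ⟨_, hb⟩
        have h2 : ((a : L) : G) * ((b : L) : G) = ((b : L) : G) * ((a : L) : G) :=
          congrArg Subtype.val this
        exact Subtype.ext (Subtype.ext h2)
      · apply frob_exc_false L hodd hK1 hC U hc ?_ p hp m hm hna hidx
        intro q hq hqK
        apply hexp q hq
        rw [Cfsg.Agent.Lib.Helper4.PF9.card_fittingHallOf]
        exact hqK

end Main

end Cfsg.Agent.Lib.Helper74.PF12
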