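import Mathlib
import Cfsg.Prelude.Def_OddOrderChar
import Cfsg.Prelude.Def_OddOrderLocal
import Cfsg.Prelude.Def_OddOrder
import Cfsg.Agent.Lib.Helper74.PFTwelveC
import Cfsg.Agent.Lib.Helper59.PFBridge

/-!
# Peterfalvi (12.6) for maximal subgroups of type I (helper74)

* `litTypeI_frob_coherent`: book form (`LitTypeI`, `litA`), conditional on the Dade hypothesis
  for `(A(L), L, R)`.
* `s1542_of`: the conclusion of the frozen row S1542 from the Dade hypothesis for
  `(typeA L, L, supportR L)` (which is the conclusion of S1537).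
-/

set_option autoImplicit false
set_option linter.unusedSectionVars false

namespace Cfsg.Agent.Lib.Helper74.PF12

open Cfsg Cfsg.Agent.Lib.Helper4.PF

universe u

section TypeI

variable {G : Type u} [Group G] [Fintype G] (L : Subgroup G) [Fintype L]

theorem frobA_eq
    (hfrob : ∀ x ∈ fittingHallOf L, x ≠ 1 →
      L ⊓ Subgroup.centralizer ({x} : Set G) ≤ fittingHallOf L) :
    {a : G | a ∈ L ∧ a ≠ 1 ∧ ∃ x ∈ fittingHallOf L, x ≠ 1 ∧ a * x = x * a} =
      (fittingHallOf L : Set G) \ {1} := by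
  ext a
  constructor
  · rintro ⟨haL, ha1, x, hx, hx1, hax⟩
    refine ⟨?_, ha1⟩
    apply hfrob x hx hx1
    refine ⟨haL, ?_⟩
    show a ∈ Subgroup.centralizer ({x} : Set G)
    rw [Subgroup.mem_centralizer_iff]
    intro y hy
    rw [Set.mem_singleton_iff] at hy
    subst hy
    exact hax.symm
  · rintro ⟨haH, ha1⟩
    exact ⟨Cfsg.Agent.Lib.Helper4.PF9.fittingHallOf_le L haH, ha1, a, haH, ha1, rfl⟩

theorem typeA_eq_of_frob (hI : IsOfTypeI L)
    (hfrob : ∀ x ∈ fittingHallOf L, x ≠ 1 →
      L ⊓ Subgroup.centralizer ({x} : Set G) ≤ fittingHallOf L) :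
    typeA L = (fittingHallOf L : Set G) \ {1} := by
  unfold typeA
  rw [if_pos hI]
  exact frobA_eq L hfrob

theorem litA_eq_of_frob (hF : IsOfTypeF L)
    (hfrob : ∀ x ∈ fittingHallOf L, x ≠ 1 →
      L ⊓ Subgroup.centralizer ({x} : Set G) ≤ fittingHallOf L) :
    litA L = (fittingHallOf L : Set G) \ {1} := by
  unfold litA
  rw [if_neg (Cfsg.Agent.Lib.Helper59.PFBridge.not_isOfTypeP_of_isOfTypeF L hF)]
  exact frobA_eq L hfrob

theorem supportR_eq_bot (a : G) (h : Subgroup.centralizer ({a} : Set G) ≤ L) :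
    supportR L a = ⊥ := by
  unfold supportR
  rw [dif_neg]
  intro hc
  exact hc.1 h

theorem normalizer_fittingHallOf (hsimple : IsSimpleGroup G) (hL : IsCoatom L)
    (hK1 : fittingHall L ≠ ⊥) :
    Subgroup.normalizer (fittingHallOf L : Set G) = L := by
  have hle : L ≤ Subgroup.normalizer (fittingHallOf L : Set G) := by
    intro x hx
    rw [Subgroup.mem_normalizer_iff]
    intro h
    constructor
    · intro hh
      exact Cfsg.Agent.Lib.Helper4.PF9.conj_mem_fittingHallOf L hx hh
    · intro hh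
      have := Cfsg.Agent.Lib.Helper4.PF9.conj_mem_fittingHallOf L (L.inv_mem hx) hh
      have e : x⁻¹ * (x * h * x⁻¹) * x⁻¹⁻¹ = h := by group
      rwa [e] at this
  rcases eq_or_lt_of_le hle with h | h
  · exact h.symm
  · exfalso
    have htop := hL.2 _ h
    have hn : (fittingHallOf L).Normal := Subgroup.normalizer_eq_top_iff.mp htop
    rcases hn.eq_bot_or_eq_top with hb | ht
    · apply hK1
      unfold fittingHallOf at hb
      exact (Subgroup.map_eq_bot_iff_of_injective _ L.subtype_injective).mp hb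
    · apply hL.1
      rw [eq_top_iff, ← ht]
      exact Cfsg.Agent.Lib.Helper4.PF9.fittingHallOf_le L

/-- **Peterfalvi (12.6)**, book form, conditional on the Dade hypothesis. -/
theorem litTypeI_frob_coherent (hsimple : IsSimpleGroup G) (hL : IsCoatom L)
    (hLit : LitTypeI L)
    (hfrob : ∀ x ∈ fittingHallOf L, x ≠ 1 →
      L ⊓ Subgroup.centralizer ({x} : Set G) ≤ fittingHallOf L)
    (hD : DadeHypothesis (litA L) L (supportR L)) :
    (∀ χ ∈ inducedIrrAbove (fittingHall L) ⊥, IsIrrCharacter L χ) ∧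
      IsCoherent (inducedIrrAbove (fittingHall L) ⊥) {1}ᶜ
        (dadeIsometry (litA L) L (supportR L)) := by
  obtain ⟨hF, hcases⟩ := hLit
  have hK1 : fittingHall L ≠ ⊥ := hF.2.2.1
  apply frobTypeI_coherent L hF hfrob ?_ (litA L) (litA_eq_of_frob L hF hfrob) (supportR L)
    (fun a ha => supportR_eq_bot L a ha) hD
  rcases hcases with h | h | h
  · exact Or.inl ⟨h, normalizer_fittingHallOf L hsimple hL hK1⟩
  · exact Or.inr (Or.inl h.1)
  · exact Or.inr (Or.inr h.1)

/-- the conclusion of the frozen row S1542, from the Dade hypothesis for `(A(L), L, R)`. -/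
theorem s1542_of (hG : IsMinSimpleOddOrder G) (hL : IsCoatom L) (hI : IsOfTypeI L)
    (hfrob : ∀ x ∈ fittingHallOf L, x ≠ 1 →
      L ⊓ Subgroup.centralizer ({x} : Set G) ≤ fittingHallOf L)
    (hD : DadeHypothesis (typeA L) L (supportR L)) :
    (∀ χ ∈ inducedIrrAbove (fittingHall L) ⊥, IsIrrCharacter L χ) ∧
      IsCoherent (inducedIrrAbove (fittingHall L) ⊥) {1}ᶜ
        (dadeIsometry (typeA L) L (supportR L)) := by
  obtain ⟨hF, hcases⟩ := hI
  have hI' : IsOfTypeI L := ⟨hF, hcases⟩
  have hK1 : fittingHall L ≠ ⊥ := hF.2.2.1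
  apply frobTypeI_coherent L hF hfrob ?_ (typeA L) (typeA_eq_of_frob L hI' hfrob) (supportR L)
    (fun a ha => supportR_eq_bot L a ha) hD
  rcases hcases with h | h | h
  · exact Or.inl ⟨h, normalizer_fittingHallOf L hG.2.1 hL hK1⟩
  · exact Or.inr (Or.inl h.1)
  · exact Or.inr (Or.inr h.1)

end TypeI

end Cfsg.Agent.Lib.Helper74.PF12
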