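import Mathlib
import Cfsg.Prelude.Def_Local
import Cfsg.Prelude.Def_Transfer
import Cfsg.Agent.Lib.Helper26.PGV.End2Defs
import Cfsg.Agent.Lib.Helper29.Iso

/-!
# PGV-[END2-FRONT] (hedge, helper74): `end2_insitu` from `end2_abs`

Project PGV (S3086, owner helper26), sub-project END2.  The in-situ form of END2 is obtained from the abstract
form by passing to `W := ↥V₁ ⧸ V₂.submoduleOf V₁`, `H := ` the stabilizer of the flag `V₂ ≤ V₁`, and the induced
representation.  The abstract form is a HYPOTHESIS here (`end2_insitu_of`); the exact sheet statement is the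
one-liner in the docstring of `end2_insitu_of`.
-/

set_option autoImplicit false

namespace Cfsg.Agent.Lib.Helper74.PgvFront

open Cfsg Cfsg.Agent.Lib.Helper26.PGV

universe u v

section
variable {G : Type u} {V : Type v} [Group G] [AddCommGroup V] [Module (ZMod 2) V]

/-- the stabilizer of the flag `V₂ ≤ V₁` -/
def stab (ρ : Representation (ZMod 2) G V) (V₁ V₂ : Submodule (ZMod 2) V) : Subgroup G where
  carrier := {g | (∀ v ∈ V₁, ρ g v ∈ V₁ ∧ ρ g⁻¹ v ∈ V₁) ∧ (∀ v ∈ V₂, ρ g v ∈ V₂ ∧ ρ g⁻¹ v ∈ V₂)}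
  mul_mem' := by
    intro g h hg hh
    refine ⟨fun v hv => ⟨?_, ?_⟩, fun v hv => ⟨?_, ?_⟩⟩
    · rw [map_mul]; exact (hg.1 _ (hh.1 v hv).1).1
    · rw [mul_inv_rev, map_mul]; exact (hh.1 _ (hg.1 v hv).2).2
    · rw [map_mul]; exact (hg.2 _ (hh.2 v hv).1).1
    · rw [mul_inv_rev, map_mul]; exact (hh.2 _ (hg.2 v hv).2).2
  one_mem' := by simp
  inv_mem' := by
    intro g hg
    exact ⟨fun v hv => ⟨(hg.1 v hv).2, by rw [inv_inv]; exact (hg.1 v hv).1⟩,
      fun v hv => ⟨(hg.2 v hv).2, by rw [inv_inv]; exact (hg.2 v hv).1⟩⟩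

/-- the representation induced on `V₁ / V₂` -/
noncomputable def qrep (ρ : Representation (ZMod 2) G V) (V₁ V₂ : Submodule (ZMod 2) V) :
    Representation (ZMod 2) (stab ρ V₁ V₂) (↥V₁ ⧸ V₂.submoduleOf V₁) where
  toFun g := Submodule.mapQ (V₂.submoduleOf V₁) (V₂.submoduleOf V₁)
      ((ρ g.1).restrict (fun v hv => (g.2.1 v hv).1))
      (by
        intro x hx
        simp only [Submodule.mem_comap, Submodule.submoduleOf] at hx ⊢
        exact (g.2.2 _ hx).1)
  map_one' := by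
    apply Submodule.linearMap_qext
    ext x
    simp only [LinearMap.coe_comp, Function.comp_apply, Submodule.mkQ_apply, Submodule.mapQ_apply,
      Module.End.one_apply, Subgroup.coe_one, map_one]
    apply congrArg
    apply Subtype.ext
    rfl
  map_mul' := by
    intro g h
    apply Submodule.linearMap_qext
    ext x
    simp only [LinearMap.coe_comp, Function.comp_apply, Submodule.mkQ_apply, Submodule.mapQ_apply,
      Module.End.mul_apply, Subgroup.coe_mul, map_mul]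
    apply congrArg
    apply Subtype.ext
    rfl

theorem qrep_mk (ρ : Representation (ZMod 2) G V) (V₁ V₂ : Submodule (ZMod 2) V)
    (g : stab ρ V₁ V₂) (v : V) (hv : v ∈ V₁) :
    qrep ρ V₁ V₂ g (Submodule.Quotient.mk ⟨v, hv⟩) =
      Submodule.Quotient.mk ⟨ρ g.1 v, (g.2.1 v hv).1⟩ := rfl

theorem mk_eq_mk_iff (V₁ V₂ : Submodule (ZMod 2) V) (v v' : V) (hv : v ∈ V₁) (hv' : v' ∈ V₁) :
    (Submodule.Quotient.mk ⟨v, hv⟩ : ↥V₁ ⧸ V₂.submoduleOf V₁) = Submodule.Quotient.mk ⟨v', hv'⟩ ↔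
      v - v' ∈ V₂ := by
  rw [Submodule.Quotient.eq]
  simp [Submodule.submoduleOf]

/-- preimage of a set under a surjective additive hom -/
theorem card_preimage {A C : Type*} [AddCommGroup A] [AddCommGroup C] (f : A →+ C)
    (hf : Function.Surjective f) (T : Set C) :
    Nat.card {a : A // f a ∈ T} = Nat.card T * Nat.card f.ker := by
  rw [← Nat.card_prod]
  refine Nat.card_congr ?_
  exact
  { toFun := fun a => (⟨f a.1, a.2⟩, ⟨a.1 - Function.surjInv hf (f a.1), by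
        rw [AddMonoidHom.mem_ker, map_sub, Function.surjInv_eq hf, sub_self]⟩)
    invFun := fun p => ⟨Function.surjInv hf p.1.1 + p.2.1, by
        rw [map_add, Function.surjInv_eq hf, (AddMonoidHom.mem_ker).1 p.2.2, add_zero]; exact p.1.2⟩
    left_inv := by
      intro a
      apply Subtype.ext
      simp
    right_inv := by
      rintro ⟨⟨c, hc⟩, ⟨k, hk⟩⟩
      have hk' : f k = 0 := hk
      simp [map_add, Function.surjInv_eq hf, hk'] }

/-- **PGV-[END2-FRONT]**, `_of` form: the in-situ form of END2 from the abstract form `habs`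
(= the sheet statement `Cfsg.Agent.Lib.Helper26.PGV.end2_abs`).  Exact sheet statement:
`end2_insitu ρ K B a ha2 hKqs hcomm hB2 hBa hBK hBfaith V₁ V₂ h21 hV₁ hV₂ hirr hKnt hHD :=
   end2_insitu_of (fun _ _ _ _ _ r K B a _ _ c => end2_abs r K B a c) ρ K B a ha2 hKqs hcomm hB2 hBa hBK hBfaith
     V₁ V₂ h21 hV₁ hV₂ hirr hKnt hHD`. -/
theorem end2_insitu_of {G : Type u} {V : Type v} [Group G] [Finite G] [AddCommGroup V]
    [Module (ZMod 2) V] [Finite V]
    (habs : ∀ (H : Type u) (W : Type v) [Group H] [AddCommGroup W] [Module (ZMod 2) W]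
      (r : Representation (ZMod 2) H W) (K B : Subgroup H) (a : H) [Finite H] [Finite W],
      Cfg r K B a →
        2 * Nat.card B * Nat.card {w : W // r a w = w ∧ ∀ b ∈ B, r b w = w} < Nat.card W)
    (ρ : Representation (ZMod 2) G V) (K B : Subgroup G) (a : G)
    (ha2 : a * a = 1)
    (hKqs : IsQuasisimple K)
    (hcomm : ∀ x ∈ K, ∀ y ∈ K, x * (a * y * a⁻¹) = (a * y * a⁻¹) * x)
    (hB2 : ∀ b ∈ B, b * b = 1)
    (hBa : ∀ b ∈ B, b * a = a * b)
    (hBK : ∀ b ∈ B, ∀ x ∈ K, b * x * b⁻¹ ∈ K)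
    (hBfaith : ∀ b ∈ B, (∀ x ∈ K, b * x * b⁻¹ = x) → b = 1)
    (V₁ V₂ : Submodule (ZMod 2) V) (h21 : V₂ ≤ V₁)
    (hV₁ : ∀ g, (g ∈ K ∨ g ∈ B ∨ g = a) → ∀ v ∈ V₁, ρ g v ∈ V₁)
    (hV₂ : ∀ g, (g ∈ K ∨ g ∈ B ∨ g = a) → ∀ v ∈ V₂, ρ g v ∈ V₂)
    (hirr : ∀ U : Submodule (ZMod 2) V, V₂ ≤ U → U ≤ V₁ →
        (∀ g, (g ∈ K ∨ g ∈ B ∨ g = a) → ∀ v ∈ U, ρ g v ∈ U) → U = V₂ ∨ U = V₁)
    (hKnt : ∃ x ∈ K, ∃ v ∈ V₁, ρ x v - v ∉ V₂)
    (hHD : ∀ x ∈ K, ∀ v ∈ V₁, ρ (x * (a * x * a⁻¹)) (ρ a v - v) - (ρ a v - v) ∈ V₂) :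
    2 * Nat.card B * Nat.card {v : V // v ∈ V₁ ∧ ρ a v - v ∈ V₂ ∧ ∀ b ∈ B, ρ b v - v ∈ V₂}
      < Nat.card V₁ := by
  classical
  have ainv : a⁻¹ = a := inv_eq_of_mul_eq_one_right ha2
  have memS : ∀ g, (g ∈ K ∨ g ∈ B ∨ g = a) → g ∈ stab ρ V₁ V₂ := by
    intro g hg
    have hg' : (g⁻¹ ∈ K ∨ g⁻¹ ∈ B ∨ g⁻¹ = a) := by
      rcases hg with h | h | h
      · exact Or.inl (K.inv_mem h)
      · exact Or.inr (Or.inl (B.inv_mem h))
      · exact Or.inr (Or.inr (by rw [h, ainv]))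
    exact ⟨fun v hv => ⟨hV₁ g hg v hv, hV₁ g⁻¹ hg' v hv⟩,
      fun v hv => ⟨hV₂ g hg v hv, hV₂ g⁻¹ hg' v hv⟩⟩
  have hKS : K ≤ stab ρ V₁ V₂ := fun g hg => memS g (Or.inl hg)
  have hBS : B ≤ stab ρ V₁ V₂ := fun g hg => memS g (Or.inr (Or.inl hg))
  have haS : a ∈ stab ρ V₁ V₂ := memS a (Or.inr (Or.inr rfl))
  set S : Subgroup G := stab ρ V₁ V₂ with hS
  let W : Type v := ↥V₁ ⧸ V₂.submoduleOf V₁
  let K' : Subgroup S := K.subgroupOf S
  let B' : Subgroup S := B.subgroupOf S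
  let a' : S := ⟨a, haS⟩
  let r : Representation (ZMod 2) S W := qrep ρ V₁ V₂
  have cfg : Cfg r K' B' a' :=
  { ha2 := Subtype.ext ha2
    hKqs := Cfsg.Agent.Lib.Helper29.isQuasisimple_of_mulEquiv
      (Subgroup.subgroupOfEquivOfLe hKS).symm hKqs
    hcomm := by
      intro x hx y hy
      apply Subtype.ext
      exact hcomm x.1 hx y.1 hy
    hB2 := by
      intro b hb
      apply Subtype.ext
      exact hB2 b.1 hb
    hBa := by
      intro b hb
      apply Subtype.ext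
      exact hBa b.1 hb
    hBK := by
      intro b hb x hx
      exact hBK b.1 hb x.1 hx
    hBfaith := by
      intro b hb h
      apply Subtype.ext
      apply hBfaith b.1 hb
      intro x hx
      have := h ⟨x, hKS hx⟩ hx
      exact congrArg Subtype.val this
    hirr := by
      intro U hU
      let U' : Submodule (ZMod 2) V := (U.comap (V₂.submoduleOf V₁).mkQ).map V₁.subtype
      have memU' : ∀ v, v ∈ U' ↔ ∃ hv : v ∈ V₁, (Submodule.Quotient.mk ⟨v, hv⟩ : W) ∈ U := by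
        intro v
        constructor
        · rintro ⟨⟨v', hv'⟩, h, rfl⟩
          exact ⟨hv', h⟩
        · rintro ⟨hv, h⟩
          exact ⟨⟨v, hv⟩, h, rfl⟩
      have h1 : V₂ ≤ U' := by
        intro v hv
        rw [memU']
        refine ⟨h21 hv, ?_⟩
        have : (Submodule.Quotient.mk ⟨v, h21 hv⟩ : W) = 0 := by
          rw [Submodule.Quotient.mk_eq_zero]; exact hv
        rw [this]; exact U.zero_mem
      have h2 : U' ≤ V₁ := by
        intro v hv; rw [memU'] at hv; exact hv.1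
      have h3 : ∀ g, (g ∈ K ∨ g ∈ B ∨ g = a) → ∀ v ∈ U', ρ g v ∈ U' := by
        intro g hg v hv
        rw [memU'] at hv ⊢
        obtain ⟨hv1, hvU⟩ := hv
        refine ⟨hV₁ g hg v hv1, ?_⟩
        have hg'' : ((⟨g, memS g hg⟩ : S) ∈ K' ∨ (⟨g, memS g hg⟩ : S) ∈ B' ∨
            (⟨g, memS g hg⟩ : S) = a') := by
          rcases hg with h | h | h
          · exact Or.inl h
          · exact Or.inr (Or.inl h)
          · exact Or.inr (Or.inr (Subtype.ext h))
        have := hU ⟨g, memS g hg⟩ hg'' _ hvU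
        rwa [qrep_mk] at this
      rcases hirr U' h1 h2 h3 with h | h
      · left
        rw [eq_bot_iff]
        intro w hw
        obtain ⟨⟨v, hv⟩, rfl⟩ := Submodule.Quotient.mk_surjective _ w
        have hvU : v ∈ U' := (memU' v).2 ⟨hv, hw⟩
        rw [h] at hvU
        rw [Submodule.mem_bot, Submodule.Quotient.mk_eq_zero]
        exact hvU
      · right
        rw [eq_top_iff]
        intro w _
        obtain ⟨⟨v, hv⟩, rfl⟩ := Submodule.Quotient.mk_surjective _ w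
        have hvU : v ∈ U' := by rw [h]; exact hv
        exact ((memU' v).1 hvU).2
    hKnt := by
      obtain ⟨x, hx, v, hv, hne⟩ := hKnt
      refine ⟨⟨x, hKS hx⟩, hx, Submodule.Quotient.mk ⟨v, hv⟩, ?_⟩
      intro h
      rw [qrep_mk, mk_eq_mk_iff] at h
      exact hne h
    hHD := by
      intro x hx w
      obtain ⟨⟨v, hv⟩, rfl⟩ := Submodule.Quotient.mk_surjective _ w
      have e : r a' (Submodule.Quotient.mk ⟨v, hv⟩) - Submodule.Quotient.mk ⟨v, hv⟩ =
          (Submodule.Quotient.mk ⟨ρ a v - v, V₁.sub_mem (haS.1 v hv).1 hv⟩ : W) := rfl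
      rw [e, qrep_mk, mk_eq_mk_iff]
      exact hHD x.1 hx v hv }
  have : Finite W :=
    Finite.of_surjective (V₂.submoduleOf V₁).mkQ (Submodule.mkQ_surjective _)
  have key := habs S W r K' B' a' cfg
  -- the counting
  let f : ↥V₁ →+ W := (V₂.submoduleOf V₁).mkQ.toAddMonoidHom
  have hf : Function.Surjective f := Submodule.mkQ_surjective _
  let T : Set W := {w | r a' w = w ∧ ∀ b ∈ B', r b w = w}
  have c1 := card_preimage f hf T
  have c2 := card_preimage f hf Set.univ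
  have hfT : ∀ x : ↥V₁, f x ∈ T ↔ (ρ a x.1 - x.1 ∈ V₂ ∧ ∀ b ∈ B, ρ b x.1 - x.1 ∈ V₂) := by
    rintro ⟨v, hv⟩
    show (r a' (Submodule.Quotient.mk ⟨v, hv⟩) = Submodule.Quotient.mk ⟨v, hv⟩ ∧
      ∀ b ∈ B', r b (Submodule.Quotient.mk ⟨v, hv⟩) = Submodule.Quotient.mk ⟨v, hv⟩) ↔ _
    constructor
    · rintro ⟨h1, h2⟩
      refine ⟨?_, fun b hb => ?_⟩
      · rw [qrep_mk, mk_eq_mk_iff] at h1
        exact h1
      · have := h2 ⟨b, hBS hb⟩ hb
        rw [qrep_mk, mk_eq_mk_iff] at this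
        exact this
    · rintro ⟨h1, h2⟩
      refine ⟨?_, fun b hb => ?_⟩
      · rw [qrep_mk, mk_eq_mk_iff]
        exact h1
      · rw [qrep_mk, mk_eq_mk_iff]
        exact h2 b.1 hb
  have e1 : Nat.card {v : V // v ∈ V₁ ∧ ρ a v - v ∈ V₂ ∧ ∀ b ∈ B, ρ b v - v ∈ V₂} =
      Nat.card {x : ↥V₁ // f x ∈ T} := by
    refine Nat.card_congr ?_
    refine (Equiv.subtypeSubtypeEquivSubtypeInter (fun v : V => v ∈ V₁)
      (fun v : V => ρ a v - v ∈ V₂ ∧ ∀ b ∈ B, ρ b v - v ∈ V₂)).symm.trans ?_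
    exact Equiv.subtypeEquivRight (fun x => (hfT x).symm)
  have e2 : Nat.card {x : ↥V₁ // f x ∈ (Set.univ : Set W)} = Nat.card ↥V₁ :=
    Nat.card_congr (Equiv.subtypeUnivEquiv (fun x => Set.mem_univ _))
  have e3 : Nat.card (Set.univ : Set W) = Nat.card W := Nat.card_congr (Equiv.Set.univ W)
  have e4 : Nat.card B' = Nat.card B :=
    Nat.card_congr (Subgroup.subgroupOfEquivOfLe hBS).toEquiv
  have kpos : 0 < Nat.card f.ker := Nat.card_pos
  have key' : 2 * Nat.card B' * Nat.card T < Nat.card W := key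
  rw [e1, c1, ← e4, ← e2, c2, e3]
  calc 2 * Nat.card B' * (Nat.card T * Nat.card f.ker)
      = (2 * Nat.card B' * Nat.card T) * Nat.card f.ker := by ring
    _ < Nat.card W * Nat.card f.ker := Nat.mul_lt_mul_of_pos_right key' kpos

end

end Cfsg.Agent.Lib.Helper74.PgvFront
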