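import Mathlib
import Cfsg.Agent.S0165
import Cfsg.Agent.Lib.Helper74.FSCount

set_option autoImplicit false

namespace Cfsg.Agent.Lib.Helper74

open Cfsg Cfsg.Agent.Lib.Helper78
open scoped ComplexConjugate

universe u

section DefZero

variable {G : Type u} [Group G] [Fintype G]

/-- defect zero vanishing in the `Cfsg` vocabulary -/
theorem irr_eq_zero_of_full_power_dvd (χ : IrrCharacter G) {p : ℕ} (hp : p.Prime)
    (hdvd : p ^ (Nat.card G).factorization p ∣ charDegree (χ : G → ℂ)) {g : G}
    (hg : p ∣ orderOf g) : (χ : G → ℂ) g = 0 := by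
  obtain ⟨χf, m, ρ, hirr, rfl⟩ := χ
  have := hirr
  have hGpos : Nat.card G ≠ 0 := Nat.card_pos.ne'
  have hdeg : charDegree ρ.character = Module.finrank ℂ (Fin m → ℂ) := by
    have h1 : ρ.character 1 = (Module.finrank ℂ (Fin m → ℂ) : ℂ) := Representation.char_one ρ
    have h2 := IsCharacter.apply_one_eq_charDegree (⟨m, ρ, rfl⟩ : IsCharacter G ρ.character)
    rw [h1] at h2
    exact_mod_cast h2.symm
  have := Cfsg.Agent.S0165.result ρ p ((Nat.card G).factorization p) hp
    (Nat.ordProj_dvd _ _) (Nat.pow_succ_factorization_not_dvd hGpos hp)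
    (by rw [← hdeg]; exact hdvd) g hg
  exact this

end DefZero

end Cfsg.Agent.Lib.Helper74
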