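import Mathlib
import Cfsg.Agent.Lib.Helper64.PFElevenStruct
import Cfsg.Agent.Lib.Helper16.PFNineDI
import Cfsg.Agent.Lib.Helper23.PFTenFrobT

/-!
# Peterfalvi section 11, module [DICH] (helper74): for a maximal subgroup of Type III with the
structure of (11.5)-(11.7), the abelian complement `U` is cyclic (Galois case) or has exponent
dividing `|W₂| - 1` (non-Galois case)
-/

set_option autoImplicit false
set_option linter.unusedSectionVars false
set_option linter.unusedVariables false
set_option linter.style.haveILetI false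

namespace Cfsg.Agent.Lib.Helper74.PF11

open Cfsg Cfsg.Agent.Lib.Helper4.PF Cfsg.Agent.Lib.Helper58.PF9 Cfsg.Agent.Lib.Helper64.PF11

universe u

section abstract

variable {X : Type u} [Group X]

/-- conjugation by an element normalizing `H₁`, as an automorphism of `H₁` -/
def conjAut (H₁ : Subgroup X) (v : X) (hv : v ∈ Subgroup.normalizer (H₁ : Set X)) : MulAut H₁ where
  toFun h := ⟨v * h * v⁻¹, ((Subgroup.mem_set_normalizer_iff.1 hv) h).1 h.2⟩
  invFun h := ⟨v⁻¹ * h * v, by
    have h1 := ((Subgroup.mem_set_normalizer_iff.1 hv) (v⁻¹ * h * v)).2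
    apply h1
    have : v * (v⁻¹ * ↑h * v) * v⁻¹ = h := by group
    rw [this]; exact h.2⟩
  left_inv h := by
    apply Subtype.ext
    show v⁻¹ * (v * ↑h * v⁻¹) * v = h
    group
  right_inv h := by
    apply Subtype.ext
    show v * (v⁻¹ * ↑h * v) * v⁻¹ = h
    group
  map_mul' a b := by
    apply Subtype.ext
    show v * (↑a * ↑b) * v⁻¹ = v * ↑a * v⁻¹ * (v * ↑b * v⁻¹)
    group

theorem conjAut_pow_apply (H₁ : Subgroup X) (v : X) (hv : v ∈ Subgroup.normalizer (H₁ : Set X))
    (n : ℕ) (h : H₁) : (((conjAut H₁ v hv) ^ n) h : X) = v ^ n * h * (v ^ n)⁻¹ := by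
  induction n generalizing h with
  | zero => simp
  | succ k ih =>
    rw [pow_succ, MulAut.mul_apply, ih]
    show v ^ k * (v * ↑h * v⁻¹) * (v ^ k)⁻¹ = v ^ (k + 1) * ↑h * (v ^ (k + 1))⁻¹
    rw [pow_succ]
    group

/-- an element normalizing a subgroup of prime order `p` has its `(p-1)`-th power centralizing it -/
theorem pow_pred_comm_of_card_prime [Finite X] {H₁ : Subgroup X} {p : ℕ} (hp : p.Prime)
    (hc : Nat.card H₁ = p) {v : X} (hv : v ∈ Subgroup.normalizer (H₁ : Set X)) :
    ∀ h ∈ H₁, v ^ (p - 1) * h = h * v ^ (p - 1) := by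
  intro h hh
  haveI : Fact p.Prime := ⟨hp⟩
  haveI : IsCyclic H₁ := isCyclic_of_prime_card hc
  have hcard : Nat.card (MulAut H₁) = p - 1 := by
    rw [IsCyclic.card_mulAut, hc, Nat.totient_prime hp]
  have h1 : (conjAut H₁ v hv) ^ (p - 1) = 1 := by
    rw [← hcard]
    exact pow_card_eq_one'
  have h2 := conjAut_pow_apply H₁ v hv (p - 1) ⟨h, hh⟩
  rw [h1] at h2
  simp only [MulAut.one_apply] at h2
  calc v ^ (p - 1) * h = (v ^ (p - 1) * h * (v ^ (p - 1))⁻¹) * v ^ (p - 1) := by group
    _ = h * v ^ (p - 1) := by rw [← h2]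

end abstract

section main

variable {G : Type u} [Group G] [Finite G] {M W₁ U W₂ : Subgroup G}

/-- MODULE [DICH], with the conclusions of [CTX34] as hypotheses -/
theorem typeIII_dich_of (S : Struct34 M W₁ U W₂) (hab : IsMulCommutative U)
    (c : Ctx34 M W₁ U W₂)
    (hC : coreC (U.subgroupOf M) ((fittingHallOf M).subgroupOf M) ⊥ = (⁅U, U⁆).subgroupOf M)
    (hchief : ∀ N : Subgroup ↥M, N.Normal → N ≤ (fittingHallOf M).subgroupOf M →
      N = ⊥ ∨ N = (fittingHallOf M).subgroupOf M) :
    IsCyclic U ∨ ∀ u ∈ U, u ^ (Nat.card W₂ - 1) = 1 := by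
  classical
  have hUM : U ≤ M := S.hP.U_compl.2.1.trans (Subgroup.commutator_le_self M)
  have hcommU : ∀ a ∈ U, ∀ b ∈ U, a * b = b * a := by
    intro a ha b hb
    exact congrArg Subtype.val (hab.is_comm.comm ⟨a, ha⟩ ⟨b, hb⟩)
  have hU' : ⁅U, U⁆ = ⊥ := by
    rw [Subgroup.commutator_eq_bot_iff_le_centralizer]
    intro a ha
    rw [Subgroup.mem_centralizer_iff]
    intro b hb
    exact hcommU b hb a ha
  have hC' : coreC (U.subgroupOf M) ((fittingHallOf M).subgroupOf M) ⊥ = ⊥ := by
    rw [hC, hU', Subgroup.bot_subgroupOf]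
  haveI hHn : ((fittingHallOf M).subgroupOf M).Normal := c.H_normal
  haveI hBn : (⊥ : Subgroup ↥M).Normal := c.H₀_normal
  rcases Cfsg.Agent.Lib.Helper16.PFNineDI.galois_or_axis c
      (fun N hN _ hNH => hchief N hN hNH) with hGal | ⟨H₁, hax⟩
  · -- Galois case
    left
    have hHne : (⊥ : Subgroup ↥M) < (fittingHallOf M).subgroupOf M := by
      rw [bot_lt_iff_ne_bot]
      intro h0
      apply c.not_cent
      rw [h0]
      rw [Subgroup.commutator_bot_right]
    have hcyc : IsCyclic ↥(U.subgroupOf M) := by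
      apply Cfsg.Agent.Lib.Helper23.PFTenFrobT.isCyclic_of_semiregular_section
        ((fittingHallOf M).subgroupOf M) (U.subgroupOf M) ⊥
      · intro a ha b hb
        apply Subtype.ext
        exact hcommU a ha b hb
      · rw [Subgroup.normalizer_eq_top_iff.mpr hHn]; exact le_top
      · rw [Subgroup.normalizer_eq_top_iff.mpr hBn]; exact le_top
      · exact hHne
      · rw [Subgroup.normalizer_eq_top_iff.mpr hBn]; exact le_top
      · exact c.coprime_HU.symm
      · intro x hx hx1 h hh hxh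
        apply hGal x hx _ h hh hxh
        rw [hC', Subgroup.mem_bot]
        exact hx1
    let e := Subgroup.subgroupOfEquivOfLe hUM
    exact isCyclic_of_surjective e.toMonoidHom e.surjective
  · -- axis case
    right
    intro u hu
    have hp : (Nat.card W₂).Prime := S.hp
    have hH₁card : Nat.card H₁ = Nat.card W₂ := by
      have := hax.relIndex
      rwa [Subgroup.relIndex_bot_left] at this
    set ut : ↥M := ⟨u, hUM hu⟩ with hut
    have hutU : ut ∈ U.subgroupOf M := by
      rw [Subgroup.mem_subgroupOf]; exact hu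
    set x : ↥M := ut ^ (Nat.card W₂ - 1) with hx
    have hxU : x ∈ U.subgroupOf M := Subgroup.pow_mem _ hutU _
    have hcent : (fittingHallOf M).subgroupOf M ≤ Subgroup.centralizer ({x} : Set ↥M) := by
      rw [← hax.iSup_eq]
      apply iSup_le
      intro w
      rintro _ ⟨h, hh, rfl⟩
      rw [Subgroup.mem_centralizer_iff]
      intro y hy
      rw [Set.mem_singleton_iff] at hy
      subst hy
      -- `v = w⁻¹ ut w ∈ U_L` normalizes `H₁`
      have hwN : (w : ↥M)⁻¹ ∈ Subgroup.normalizer ((U.subgroupOf M : Subgroup ↥M) : Set ↥M) :=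
        Subgroup.inv_mem _ (c.W₁_norm_U w.2)
      have hvU : (w : ↥M)⁻¹ * ut * (w : ↥M)⁻¹⁻¹ ∈ U.subgroupOf M :=
        ((Subgroup.mem_set_normalizer_iff.1 hwN) ut).1 hutU
      have hvN := hax.U_norm hvU
      have key := pow_pred_comm_of_card_prime hp hH₁card hvN h hh
      rw [conj_pow] at key
      show x * ((w : ↥M) * h * (w : ↥M)⁻¹) = (w : ↥M) * h * (w : ↥M)⁻¹ * x
      have e1 : (w : ↥M) * h * (w : ↥M)⁻¹ * x =
          (w : ↥M) * (h * ((w : ↥M)⁻¹ * x * (w : ↥M)⁻¹⁻¹)) * (w : ↥M)⁻¹ := by group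
      have e2 : x * ((w : ↥M) * h * (w : ↥M)⁻¹) =
          (w : ↥M) * (((w : ↥M)⁻¹ * x * (w : ↥M)⁻¹⁻¹) * h) * (w : ↥M)⁻¹ := by group
      rw [e2, e1, key]
    have hxC : x ∈ coreC (U.subgroupOf M) ((fittingHallOf M).subgroupOf M) ⊥ := by
      rw [mem_coreC_of_normal]
      refine ⟨hxU, fun h hh => ?_⟩
      rw [Subgroup.mem_bot]
      have := Subgroup.mem_centralizer_iff.1 (hcent hh) x (Set.mem_singleton x)
      -- this : x * h = h * x
      rw [this]; group
    rw [hC', Subgroup.mem_bot] at hxC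
    have := congrArg Subtype.val hxC
    simpa [hx, hut] using this

end main

end Cfsg.Agent.Lib.Helper74.PF11
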