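import Mathlib

/-!
# PROJECT BP: Green's indecomposability (index `p`) via an Artin–Schreier element (helper74)

`as_orthogonal`: a finite-dimensional algebra `S` over an algebraically closed field of
characteristic `p`, with an automorphism `σ` of order dividing `p` such that `1` is a `σ`-trace
(`∑_{i<p} σ^i a = 1`), contains an idempotent `j` whose `σ`-conjugates `σ^i j` (`i < p`) are pairwise
orthogonal and sum to `1`.  No semisimplicity, no primitivity.

Proof: `Y = ∑ i • σ^i a` satisfies `σ Y = Y - 1`; the generalized eigenspaces `V μ` of left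
multiplication by `Y` are right ideals with `σ (V μ) ⊆ V (μ + 1)`, the components `e μ` of `1` are
orthogonal idempotents with `σ (e μ) = e (μ + 1)`, and `μ, μ + 1, …, μ + (p - 1)` are distinct.
-/

set_option autoImplicit false

namespace Cfsg.Agent.Lib.Helper74.BP

open Module

section AS

variable {k : Type*} [Field k] {S : Type*} [Ring S] [Algebra k S]

theorem algEquiv_pow_succ_apply (σ : S ≃ₐ[k] S) (i : ℕ) (x : S) :
    (σ ^ (i + 1)) x = σ ((σ ^ i) x) := by
  rw [pow_succ', AlgEquiv.mul_apply]

theorem algEquiv_pow_succ_apply' (σ : S ≃ₐ[k] S) (i : ℕ) (x : S) :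
    (σ ^ (i + 1)) x = (σ ^ i) (σ x) := by
  rw [pow_succ, AlgEquiv.mul_apply]

/-- The Artin–Schreier element `Y = ∑ i • σ^i a` satisfies `σ Y = Y - c` when `∑ σ^i a = c`. -/
theorem as_shift (p : ℕ) [CharP k p] (σ : S ≃ₐ[k] S)
    (hσ : ∀ x : S, (σ ^ p) x = x) (a c : S)
    (hsum : ∑ i ∈ Finset.range p, (σ ^ i) a = c) :
    σ (∑ i ∈ Finset.range p, (i : k) • (σ ^ i) a) =
      (∑ i ∈ Finset.range p, (i : k) • (σ ^ i) a) - c := by
  have h1 : σ (∑ i ∈ Finset.range p, (i : k) • (σ ^ i) a) =
      ∑ i ∈ Finset.range p, (((i + 1 : ℕ) : k) - 1) • (σ ^ (i + 1)) a := by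
    rw [map_sum]
    refine Finset.sum_congr rfl fun i _ => ?_
    rw [map_smul, algEquiv_pow_succ_apply]
    congr 1
    push_cast; ring
  have h2 : ∑ i ∈ Finset.range p, (((i + 1 : ℕ) : k) - 1) • (σ ^ (i + 1)) a =
      ∑ i ∈ Finset.range p, (((i : ℕ) : k) - 1) • (σ ^ i) a := by
    have e1 := Finset.sum_range_succ' (fun m : ℕ => (((m : ℕ) : k) - 1) • (σ ^ m) a) p
    have e2 := Finset.sum_range_succ (fun m : ℕ => (((m : ℕ) : k) - 1) • (σ ^ m) a) p
    have hp0 : ((p : ℕ) : k) = 0 := CharP.cast_eq_zero k p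
    simp only [hσ, hp0, Nat.cast_zero, pow_zero, AlgEquiv.one_apply] at e1 e2
    rw [e2] at e1
    exact (add_right_cancel e1).symm
  rw [h1, h2]
  simp only [sub_smul, one_smul, Finset.sum_sub_distrib, hsum]

/-- Representatives for `k` modulo the prime field: `r (μ + 1) = r μ` and `μ - r μ ∈ {0, …, p-1}`. -/
theorem exists_rep (p : ℕ) [Fact p.Prime] [CharP k p] :
    ∃ r : k → k, (∀ μ, r (μ + 1) = r μ) ∧ ∀ μ, ∃ t : ℕ, t < p ∧ μ = r μ + (t : k) := by
  classical
  let A : AddSubgroup k := AddSubgroup.zmultiples (1 : k)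
  refine ⟨fun μ => Quotient.out (QuotientAddGroup.mk μ : k ⧸ A), ?_, ?_⟩
  · intro μ
    have h : (QuotientAddGroup.mk (μ + 1) : k ⧸ A) = QuotientAddGroup.mk μ := by
      rw [QuotientAddGroup.eq]
      have : -(μ + 1) + μ = -(1 : k) := by ring
      rw [this]
      exact A.neg_mem (AddSubgroup.mem_zmultiples (1 : k))
    simp only [h]
  · intro μ
    obtain ⟨h, hh⟩ := QuotientAddGroup.mk_out_eq_add A μ
    obtain ⟨n, hn⟩ := AddSubgroup.mem_zmultiples_iff.1 h.2
    have hp : (0 : ℤ) < p := by exact_mod_cast (Fact.out : p.Prime).pos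
    have hnn : 0 ≤ (-n) % (p : ℤ) := Int.emod_nonneg _ hp.ne'
    have hlt : (-n) % (p : ℤ) < p := Int.emod_lt_of_pos _ hp
    refine ⟨((-n) % (p : ℤ)).toNat, ?_, ?_⟩
    · have : (((-n) % (p : ℤ)).toNat : ℤ) < p := by rwa [Int.toNat_of_nonneg hnn]
      exact_mod_cast this
    · have h1 : ((((-n) % (p : ℤ)).toNat : ℕ) : k) = (((-n) % (p : ℤ) : ℤ) : k) := by
        rw [← Int.cast_natCast, Int.toNat_of_nonneg hnn]
      have h2 : (((-n) % (p : ℤ) : ℤ) : k) = ((-n : ℤ) : k) :=
        (CharP.intCast_eq_intCast_mod k p).symm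
      show μ = Quotient.out (QuotientAddGroup.mk μ : k ⧸ A) + _
      rw [hh, h1, h2, ← hn]
      simp

/-- **Green's indecomposability, index `p`, residue-algebra core** (Artin–Schreier route), corner
form: `c` a `σ`-fixed idempotent, `a ∈ c S c` with `∑_{i<p} σ^i a = c`.  Then there is an idempotent
`j ∈ c S c` whose conjugates `σ^i j` (`i < p`) are pairwise orthogonal and sum to `c`. -/
theorem as_orthogonal_corner [IsAlgClosed k] (p : ℕ) [Fact p.Prime] [CharP k p]
    [FiniteDimensional k S] (σ : S ≃ₐ[k] S) (hσ : ∀ x : S, (σ ^ p) x = x)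
    (c : S) (hc : IsIdempotentElem c) (hσc : σ c = c) (a : S) (hca : c * a = a) (hac : a * c = a)
    (hsum : ∑ i ∈ Finset.range p, (σ ^ i) a = c) :
    ∃ j : S, IsIdempotentElem j ∧ c * j = j ∧ j * c = j ∧
      (∀ i : ℕ, 0 < i → i < p → j * (σ ^ i) j = 0 ∧ (σ ^ i) j * j = 0) ∧
      ∑ i ∈ Finset.range p, (σ ^ i) j = c := by
  classical
  have hσtc : ∀ t : ℕ, (σ ^ t) c = c := by
    intro t
    induction t with
    | zero => simp
    | succ t ih => rw [algEquiv_pow_succ_apply, ih, hσc]
  set Y : S := ∑ i ∈ Finset.range p, (i : k) • (σ ^ i) a with hY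
  have hσY : σ Y = Y - c := as_shift p σ hσ a c hsum
  have hcY : c * Y = Y := by
    rw [hY, Finset.mul_sum]
    refine Finset.sum_congr rfl fun i _ => ?_
    rw [mul_smul_comm]
    congr 1
    conv_lhs => rw [← hσtc i, ← map_mul, hca]
  have hYc : Y * c = Y := by
    rw [hY, Finset.sum_mul]
    refine Finset.sum_congr rfl fun i _ => ?_
    rw [smul_mul_assoc]
    congr 1
    conv_lhs => rw [← hσtc i, ← map_mul, hac]
  set T : Module.End k S := LinearMap.mulLeft k Y with hT
  set V : k → Submodule k S := fun μ => T.maxGenEigenspace μ with hV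
  have hindep : iSupIndep V := Module.End.independent_maxGenEigenspace T
  have htop : iSup V = ⊤ := Module.End.iSup_maxGenEigenspace_eq_top T
  -- uniqueness of decompositions
  have hU := (iSupIndep_iff_finsetSum_eq_imp_eq V).1 hindep
  -- right ideals
  have hright : ∀ (μ : k) (v s : S), v ∈ V μ → v * s ∈ V μ := by
    intro μ v s hv
    have hc : Commute T (LinearMap.mulRight k s) := LinearMap.commute_mulLeft_right Y s
    have := Module.End.mapsTo_maxGenEigenspace_of_comm hc μ hv
    rwa [LinearMap.mulRight_apply] at this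
  -- stable under left multiplication by `c`
  have hleft : ∀ (μ : k) (v : S), v ∈ V μ → c * v ∈ V μ := by
    intro μ v hv
    have hc : Commute T (LinearMap.mulLeft k c) := by
      rw [hT]
      ext x
      simp only [Module.End.mul_apply, LinearMap.mulLeft_apply]
      rw [← mul_assoc, ← mul_assoc, hcY, hYc]
    have := Module.End.mapsTo_maxGenEigenspace_of_comm hc μ hv
    rwa [LinearMap.mulLeft_apply] at this
  -- `c S` is stable under `T - μ`
  have hcN : ∀ (μ : k) (N : ℕ) (w : S), c * w = w →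
      c * (((T - μ • (1 : Module.End k S)) ^ N) w) = ((T - μ • (1 : Module.End k S)) ^ N) w := by
    intro μ N
    induction N with
    | zero => intro w hw; simpa using hw
    | succ N ih =>
      intro w hw
      rw [pow_succ', Module.End.mul_apply]
      have := ih w hw
      generalize ((T - μ • (1 : Module.End k S)) ^ N) w = x at this ⊢
      simp only [LinearMap.sub_apply, LinearMap.smul_apply, Module.End.one_apply, hT,
        LinearMap.mulLeft_apply]
      rw [mul_sub, ← mul_assoc, hcY, mul_smul_comm, this]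
  -- σ shifts the eigenvalue by one
  have hpow : ∀ (μ : k) (N : ℕ) (w : S), c * w = w →
      σ (((T - μ • (1 : Module.End k S)) ^ N) w) =
        ((T - (μ + 1) • (1 : Module.End k S)) ^ N) (σ w) := by
    intro μ N
    induction N with
    | zero => intro w _; simp
    | succ N ih =>
      intro w hw
      rw [pow_succ', pow_succ', Module.End.mul_apply, Module.End.mul_apply, ← ih w hw]
      have hx := hcN μ N w hw
      generalize ((T - μ • (1 : Module.End k S)) ^ N) w = x at hx ⊢
      simp only [LinearMap.sub_apply, LinearMap.smul_apply, Module.End.one_apply, hT,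
        LinearMap.mulLeft_apply, map_sub, map_mul, map_smul, hσY]
      have hcx : c * σ x = σ x := by
        conv_lhs => rw [← hσc, ← map_mul, hx]
      rw [sub_mul, hcx, add_smul, one_smul]
      abel
  have hshift : ∀ (μ : k) (v : S), c * v = v → v ∈ V μ → σ v ∈ V (μ + 1) := by
    intro μ v hcv hv
    rw [hV] at hv ⊢
    simp only [Module.End.mem_maxGenEigenspace] at hv ⊢
    obtain ⟨N, hN⟩ := hv
    exact ⟨N, by rw [← hpow μ N v hcv, hN, map_zero]⟩
  -- the components of c
  obtain ⟨f, hfmem, hfsum⟩ :=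
    (Submodule.mem_iSup_iff_exists_finsupp V (c : S)).1 (by rw [htop]; trivial)
  have hsumF : ∀ s : Finset k, f.support ⊆ s → ∑ μ ∈ s, f μ = c := by
    intro s hs
    rw [← hfsum, Finsupp.sum]
    exact (Finset.sum_subset hs fun x _ hx => by simpa using hx).symm
  -- the components lie in `c S`
  have hcf : ∀ μ : k, c * f μ = f μ := by
    intro μ
    set s : Finset k := insert μ f.support with hs
    have h1 : ∑ x ∈ s, c * f x = ∑ x ∈ s, f x := by
      rw [← Finset.mul_sum, hsumF s (by intro x hx; simp [hs, hx]), hc.eq]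
    exact hU s (fun x => c * f x) (fun x => f x)
      (fun x _ => ⟨hleft x _ (hfmem x), hfmem x⟩) h1 μ (by simp [hs])
  -- orthogonality
  have horth : ∀ μ ν : k, f μ * f ν = if μ = ν then f ν else 0 := by
    intro μ ν
    set s : Finset k := insert ν (insert μ f.support) with hs
    have h1 : ∑ x ∈ s, f x * f ν = ∑ x ∈ s, (if x = ν then f ν else 0) := by
      rw [← Finset.sum_mul, hsumF s (by intro x hx; simp [hs, hx]), hcf,
        Finset.sum_ite_eq' s ν (fun _ => f ν), if_pos (by simp [hs])]
    have := hU s (fun x => f x * f ν) (fun x => if x = ν then f ν else 0) (by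
      intro x _
      refine ⟨hright x _ _ (hfmem x), ?_⟩
      split_ifs with h
      · rw [h]; exact hfmem ν
      · exact zero_mem _) h1 μ (by simp [hs])
    exact this
  -- σ permutes the components
  have hσf : ∀ μ : k, σ (f μ) = f (μ + 1) := by
    intro μ
    set s : Finset k := insert (μ + 1) (f.support ∪ f.support.image (· + 1)) with hs
    have h1 : ∑ x ∈ s, σ (f (x - 1)) = ∑ x ∈ s, f x := by
      rw [hsumF s (by intro x hx; simp [hs, hx])]
      have h2 : ∑ x ∈ s, σ (f (x - 1)) = ∑ x ∈ f.support.image (· + 1), σ (f (x - 1)) := by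
        symm
        apply Finset.sum_subset (by intro x hx; simp only [hs, Finset.mem_insert, Finset.mem_union]; tauto)
        intro x _ hx
        have : f (x - 1) = 0 := by
          by_contra h
          apply hx
          rw [Finset.mem_image]
          exact ⟨x - 1, Finsupp.mem_support_iff.2 h, by ring⟩
        rw [this, map_zero]
      rw [h2, Finset.sum_image (by intro x _ y _ h; exact add_right_cancel h)]
      simp only [add_sub_cancel_right]
      rw [← map_sum, hsumF _ (le_refl _), hσc]
    have := hU s (fun x => σ (f (x - 1))) (fun x => f x) (by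
      intro x _
      refine ⟨?_, hfmem x⟩
      have := hshift (x - 1) _ (hcf (x - 1)) (hfmem (x - 1))
      rwa [sub_add_cancel] at this) h1 (μ + 1) (by simp [hs])
    simpa using this
  have hσtf : ∀ (t : ℕ) (μ : k), (σ ^ t) (f μ) = f (μ + t) := by
    intro t
    induction t with
    | zero => intro μ; simp
    | succ t ih =>
      intro μ
      rw [algEquiv_pow_succ_apply, ih, hσf]
      congr 1
      push_cast; ring
  -- support is stable under translation
  have hsuppt : ∀ (t : ℕ) (μ : k), f (μ + t) = 0 ↔ f μ = 0 := by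
    intro t μ
    rw [← hσtf]
    exact map_eq_zero_iff (σ ^ t) (σ ^ t).injective
  -- representatives
  obtain ⟨r, hr1, hrt⟩ := exists_rep (k := k) p
  have hrt' : ∀ (t : ℕ) (μ : k), r (μ + t) = r μ := by
    intro t
    induction t with
    | zero => intro μ; simp
    | succ t ih =>
      intro μ
      have : μ + ((t + 1 : ℕ) : k) = (μ + t) + 1 := by push_cast; ring
      rw [this, hr1, ih]
  have hcast : ∀ t : ℕ, 0 < t → t < p → (t : k) ≠ 0 := by
    intro t h0 hlt h
    have := (CharP.cast_eq_zero_iff k p t).1 h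
    exact absurd (Nat.le_of_dvd h0 this) (not_le.2 hlt)
  set F0 : Finset k := f.support.filter (fun μ => r μ = μ) with hF0
  refine ⟨∑ μ ∈ F0, f μ, ?_⟩
  have hσj : ∀ t : ℕ, (σ ^ t) (∑ μ ∈ F0, f μ) = ∑ μ ∈ F0, f (μ + t) := by
    intro t
    rw [map_sum]
    exact Finset.sum_congr rfl fun μ _ => hσtf t μ
  -- orthogonality of the conjugates
  have hO : ∀ i : ℕ, 0 < i → i < p →
      (∑ μ ∈ F0, f μ) * (σ ^ i) (∑ μ ∈ F0, f μ) = 0 ∧
        (σ ^ i) (∑ μ ∈ F0, f μ) * (∑ μ ∈ F0, f μ) = 0 := by
    intro i h0 hlt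
    rw [hσj]
    have key : ∀ μ ∈ F0, ∀ ν ∈ F0, μ ≠ ν + (i : k) := by
      intro μ hμ ν hν h
      have hμ' := (Finset.mem_filter.1 hμ).2
      have hν' := (Finset.mem_filter.1 hν).2
      have : μ = ν := by rw [← hμ', h, hrt', hν']
      rw [this] at h
      exact hcast i h0 hlt (by simpa using h.symm)
    constructor
    · rw [Finset.sum_mul_sum]
      apply Finset.sum_eq_zero; intro μ hμ
      apply Finset.sum_eq_zero; intro ν hν
      rw [horth, if_neg (key μ hμ ν hν)]
    · rw [Finset.sum_mul_sum]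
      apply Finset.sum_eq_zero; intro ν hν
      apply Finset.sum_eq_zero; intro μ hμ
      rw [horth, if_neg (fun h => key μ hμ ν hν h.symm)]
  -- the conjugates sum to c
  have hS : ∑ i ∈ Finset.range p, (σ ^ i) (∑ μ ∈ F0, f μ) = c := by
    simp_rw [hσj]
    rw [← hsumF f.support (le_refl _), ← Finset.sum_product']
    have hchoose : ∀ ν : k, ∃ t : ℕ, t < p ∧ ν = r ν + (t : k) := hrt
    refine Finset.sum_nbij' (fun x => x.2 + (x.1 : k))
      (fun ν => ((hchoose ν).choose, r ν)) ?_ ?_ ?_ ?_ ?_
    · rintro ⟨t, μ⟩ hx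
      simp only [Finset.mem_product, Finset.mem_range] at hx
      have hμ := (Finset.mem_filter.1 hx.2).1
      rw [Finsupp.mem_support_iff] at hμ ⊢
      exact fun h => hμ ((hsuppt t μ).1 h)
    · intro ν hν
      have hc := (hchoose ν).choose_spec
      simp only [Finset.mem_product, Finset.mem_range]
      refine ⟨hc.1, ?_⟩
      rw [hF0, Finset.mem_filter, Finsupp.mem_support_iff]
      constructor
      · intro h
        rw [Finsupp.mem_support_iff] at hν
        apply hν
        rw [hc.2]
        exact (hsuppt _ _).2 h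
      · conv_lhs => rw [← hrt' (hchoose ν).choose (r ν), ← hc.2]
    · rintro ⟨t, μ⟩ hx
      simp only [Finset.mem_product, Finset.mem_range] at hx
      have hμ' := (Finset.mem_filter.1 hx.2).2
      have hr : r (μ + (t : k)) = μ := by rw [hrt', hμ']
      have hc := (hchoose (μ + (t : k))).choose_spec
      generalize (hchoose (μ + (t : k))).choose = c' at hc ⊢
      have h2 := hc.2
      rw [hr] at h2
      have : (c' : k) = (t : k) := (add_left_cancel h2).symm
      have := CharP.natCast_injOn_Iio k p hc.1 hx.1 this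
      simp only [Prod.mk.injEq]
      exact ⟨this, hr⟩
    · intro ν _
      exact ((hchoose ν).choose_spec.2).symm
    · rintro ⟨t, μ⟩ _
      rfl
  have hcj : c * ∑ μ ∈ F0, f μ = ∑ μ ∈ F0, f μ := by
    rw [Finset.mul_sum]
    exact Finset.sum_congr rfl fun μ _ => hcf μ
  have hjc : (∑ μ ∈ F0, f μ) * c = ∑ μ ∈ F0, f μ := by
    rw [Finset.sum_mul]
    refine Finset.sum_congr rfl fun μ hμ => ?_
    have hμs : μ ∈ f.support := (Finset.mem_filter.1 hμ).1
    rw [← hsumF f.support (le_refl _), Finset.mul_sum]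
    simp_rw [horth]
    rw [Finset.sum_ite_eq f.support μ (fun ν => f ν), if_pos hμs]
  refine ⟨?_, hcj, hjc, hO, hS⟩
  -- idempotent
  have : (∑ μ ∈ F0, f μ) * ∑ i ∈ Finset.range p, (σ ^ i) (∑ μ ∈ F0, f μ) = ∑ μ ∈ F0, f μ := by
    rw [hS, hjc]
  rw [Finset.mul_sum, Finset.sum_eq_single 0] at this
  · simpa [IsIdempotentElem] using this
  · intro i hi hi0
    exact (hO i (Nat.pos_of_ne_zero hi0) (Finset.mem_range.1 hi)).1
  · intro h
    exact absurd (Finset.mem_range.2 (Fact.out : p.Prime).pos) h

/-- **Green's indecomposability, index `p`, residue-algebra core**: drop-in replacement for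
`ss_orthogonal` with weaker hypotheses (no semisimplicity, no primitive idempotent). -/
theorem as_orthogonal [IsAlgClosed k] (p : ℕ) [Fact p.Prime] [CharP k p]
    [FiniteDimensional k S] (σ : S ≃ₐ[k] S) (hσ : ∀ x : S, (σ ^ p) x = x) (a : S)
    (hsum : ∑ i ∈ Finset.range p, (σ ^ i) a = 1) :
    ∃ j : S, IsIdempotentElem j ∧
      (∀ i : ℕ, 0 < i → i < p → j * (σ ^ i) j = 0 ∧ (σ ^ i) j * j = 0) ∧
      ∑ i ∈ Finset.range p, (σ ^ i) j = 1 := by
  obtain ⟨j, h1, _, _, h2, h3⟩ := as_orthogonal_corner p σ hσ 1 IsIdempotentElem.one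
    (map_one σ) a (one_mul a) (mul_one a) hsum
  exact ⟨j, h1, h2, h3⟩

end AS

end Cfsg.Agent.Lib.Helper74.BP
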