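import Mathlib
import Cfsg.Agent.Lib.Helper74.PF127Defs
import Cfsg.Agent.Lib.Helper74.PF127Cong
import Cfsg.Agent.Lib.Helper66.PF127Mass2
import Cfsg.Agent.Lib.Helper73.PF127Rho
import Cfsg.Agent.Lib.Helper1.PF127Arith3
import Cfsg.Agent.Lib.Helper39.PF127Bessel
import Cfsg.Agent.Lib.Helper73.PF127Mass

/-!
# Peterfalvi (12.7) = S1540: the character-theoretic core (helper74)

`core127`: the configuration of a non-Frobenius type I group `L` (with `H = L_F`, `x ∈ L` of prime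
order `r` centralizing a non-identity element of `H`) supported by a Frobenius type I group `N`
(with kernel `F ∋ x`) whose family of induced characters is coherent is contradictory.
-/

set_option autoImplicit false
set_option linter.unusedSectionVars false
set_option linter.style.haveILetI false
set_option maxHeartbeats 1000000

namespace Cfsg.Agent.Lib.Helper74.PF127

open Cfsg Cfsg.Agent.Lib.Helper78 Cfsg.Agent.Lib.Helper66.PF127 Cfsg.Agent.Lib.Helper73.PF127Rho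
open scoped ComplexConjugate

theorem core127 {G : Type*} [Group G] [Fintype G]
    (ν : G → ℂ) (hν : IsGeneralizedCharacter G ν) (hν1 : classInner ν ν = 1)
    -- N side
    (N F : Subgroup G) [Fintype N] (hFN : F ≤ N) (RN : G → Subgroup G)
    (hDN : DadeHypothesis ((F : Set G) \ {1}) N RN)
    (ψ : N → ℂ) (e : ℕ) (hψ1 : ψ 1 = e)
    (hψsum : ∑ᶠ a ∈ {a : N | (a : G) ∈ F}, ψ a = 0)
    (hψnorm : ∑ᶠ a ∈ {a : N | (a : G) ∈ F}, ‖ψ a‖ ^ 2 = Nat.card N)
    (n₀ : ℂ) (hN1 : ∀ a : N, (a : G) ∈ F → a ≠ 1 → dadeAvg RN ν (a : G) = ψ a + n₀)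
    (hcardN : Nat.card N = e * Nat.card F)
    -- L side
    (L H : Subgroup G) [Fintype L] (hHL : H ≤ L) (hHn : ∀ l ∈ L, ∀ h ∈ H, l * h * l⁻¹ ∈ H)
    (AL : Set G) (RL : G → Subgroup G) (hDL : DadeHypothesis AL L RL)
    (hHA : ∀ h ∈ H, h ≠ 1 → h ∈ AL)
    (x : G) (r : ℕ) (hr : r.Prime) (hx : orderOf x = r) (hxL : x ∈ L) (hxF : x ∈ F)
    (hcop : ¬ r ∣ Nat.card H)
    (hxA : ∀ i : ℕ, ¬ r ∣ i → ∀ h ∈ H, x ^ i * h ∈ AL ∧ RL (x ^ i * h) = ⊥)
    (hRNx : ∀ i : ℕ, ¬ r ∣ i → RN (x ^ i) ≤ H)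
    (h124 : ∀ i : ℕ, ¬ r ∣ i → ∀ h ∈ H, ν (x ^ i * h) = ν (x ^ i))
    (hψx : ∀ ζ : ℂˣ, ζ ^ r = 1 → ∃ B : ℤ,
      ∑ i ∈ Finset.range r, ψ ⟨x ^ i, N.pow_mem (hFN hxF) i⟩ * ((ζ⁻¹ : ℂˣ) : ℂ) ^ i = (r : ℂ) * B)
    (X : Finset (H →* ℂˣ)) (hX1 : ∀ θ ∈ X, θ ≠ 1)
    (hXinv : ∀ θ ∈ X, ∀ h h' : H, (h' : G) = x * h * x⁻¹ → θ h' = θ h)
    (hXcard : r ≤ X.card)
    (hdisj : ∀ g : G, g ∈ dadeSupp ((F : Set G) \ {1}) RN → g ∉ dadeSupp ((H : Set G) \ {1}) RL)
    (he3 : 3 ≤ e) (hdvd : e ∣ r ^ 2 - 1) (her : e + 2 ≤ r) (hF : r ^ 2 ≤ Nat.card F)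
    (hLF : Nat.card L ≤ Nat.card H * Nat.card F) : False := by
  classical
  have hνcf : IsClassFunction G ν := by
    obtain ⟨χ₁, χ₂, h1, h2, rfl⟩ := hν
    exact isClassFunction_sub (IsCharacter.isClassFunction h1) (IsCharacter.isClassFunction h2)
  -- the `L`-side set-up inside `↥L`
  set H' : Subgroup ↥L := H.subgroupOf L with hH'
  haveI : H'.Normal := by
    refine ⟨fun n hn g => ?_⟩
    rw [hH', Subgroup.mem_subgroupOf] at hn ⊢
    exact hHn g g.2 n hn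
  haveI : Fintype ↥H' := Fintype.ofFinite _
  set x' : ↥L := ⟨x, hxL⟩ with hx'def
  have hx' : orderOf x' = r := by
    rw [← hx, ← Subgroup.orderOf_coe x']
  have hcardH' : Nat.card ↥H' = Nat.card ↥H :=
    Nat.card_congr (Subgroup.subgroupOfEquivOfLe hHL).toEquiv
  have hcop' : ¬ r ∣ Nat.card ↥H' := by rw [hcardH']; exact hcop
  set 𝒜 : Set ↥L := {l | (l : G) ∈ AL} with h𝒜
  set Ψ : ↥L → ℂ := dadeRes AL L RL ν with hΨdef
  have hΨ : IsClassFunction ↥L Ψ := dadeRes_isClassFunction hDL hνcf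
  have hint : ∀ β : ↥L → ℂ, IsGeneralizedCharacter ↥L β → (∀ l : ↥L, l ∉ 𝒜 → β l = 0) →
      ∃ z : ℤ, classInner β Ψ = z := fun β hβ hβA => dadeRes_int hDL hν β hβ hβA
  -- the values `p i = ψ (x ^ i)`
  set p : ℕ → ℂ := fun i => ψ ⟨x ^ i, N.pow_mem (hFN hxF) i⟩ with hp
  have hp0 : p 0 = ((e : ℤ) : ℂ) := by
    have : (⟨x ^ 0, N.pow_mem (hFN hxF) 0⟩ : N) = 1 := Subtype.ext (pow_zero x)
    simp only [hp, this, hψ1, Int.cast_natCast]
  have hxpow_ne : ∀ i : ℕ, ¬ r ∣ i → x ^ i ≠ 1 := by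
    intro i hi h1
    exact hi (hx ▸ orderOf_dvd_of_pow_eq_one h1)
  have hνx : ∀ i : ℕ, ¬ r ∣ i → ν (x ^ i) = p i + n₀ := by
    intro i hi
    have hne : (⟨x ^ i, N.pow_mem (hFN hxF) i⟩ : N) ≠ 1 := by
      intro h1
      exact hxpow_ne i hi (congrArg Subtype.val h1)
    have h1 := hN1 ⟨x ^ i, N.pow_mem (hFN hxF) i⟩ (F.pow_mem hxF i) hne
    rw [← h1]
    symm
    exact dadeAvg_eq_of_const RN ν (x ^ i) _ (fun u hu => h124 i hi u (hRNx i hi hu))
  have hconst : ∀ i : ℕ, ¬ r ∣ i → ∀ h : ↥L, h ∈ H' → Ψ (x' ^ i * h) = p i + n₀ := by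
    intro i hi h hh
    have hhH : (h : G) ∈ H := Subgroup.mem_subgroupOf.mp hh
    have hmem := hxA i hi h hhH
    have hcoe : ((x' ^ i * h : ↥L) : G) = x ^ i * (h : G) := by simp [hx'def]
    rw [hΨdef, dadeRes_of_mem _ _ _ _ _ (by rw [hcoe]; exact hmem.1), hcoe,
      dadeAvg_bot _ _ _ hmem.2, h124 i hi _ hhH, hνx i hi]
  -- the function `b`
  set b : ↥H' → ℂ := fun h => if h = 1 then 0 else Ψ (h : ↥L) with hbdef
  have hb1 : b 1 = 0 := if_pos rfl
  have hb : ∀ h : ↥H', h ≠ 1 → b h = Ψ h := fun h hh => if_neg hh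
  -- transport of `X`
  set ι : ↥H' ≃* ↥H := Subgroup.subgroupOfEquivOfLe hHL with hι
  have hinj : Function.Injective (fun θ : ↥H →* ℂˣ => θ.comp ι.toMonoidHom) := by
    intro θ₁ θ₂ h
    apply MonoidHom.ext
    intro a
    have := DFunLike.congr_fun h (ι.symm a)
    simpa using this
  set X' : Finset (↥H' →* ℂˣ) := X.image (fun θ => θ.comp ι.toMonoidHom) with hX'
  have hX'card : X'.card = X.card := Finset.card_image_of_injective _ hinj
  -- the congruences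
  have hcong : ∀ θ' ∈ X', (∃ n : ℤ, n₀ = n) ∧
      ∃ k : ℤ, classInner b (fun h => ((θ' h : ℂˣ) : ℂ)) - classInner b (fun _ => 1) =
        -((((e : ℤ) : ℂ)) + n₀) + (r : ℂ) * k := by
    intro θ' hθ'
    obtain ⟨θ, hθX, rfl⟩ := Finset.mem_image.mp hθ'
    refine cong127 H' x' r hr hx' hcop' 𝒜 ?_ ?_ ?_ Ψ hΨ hint p (e : ℤ) hp0 hψx n₀ hconst b hb1 hb
      (θ.comp ι.toMonoidHom) ?_ ?_
    · intro a ha l
      show ((l * a * l⁻¹ : ↥L) : G) ∈ AL
      have := hDL.conj_mem l l.2 a ha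
      simpa using this
    · intro h hh h1
      show (h : G) ∈ AL
      apply hHA _ (Subgroup.mem_subgroupOf.mp hh)
      intro h2
      exact h1 (Subtype.ext h2)
    · intro i hi h hh
      show ((x' ^ i * h : ↥L) : G) ∈ AL
      have := (hxA i hi h (Subgroup.mem_subgroupOf.mp hh)).1
      simpa [hx'def] using this
    · intro h1
      apply hX1 θ hθX
      apply MonoidHom.ext
      intro a
      have := DFunLike.congr_fun h1 (ι.symm a)
      simpa using this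
    · intro h h' hh'
      show θ (ι h') = θ (ι h)
      apply hXinv θ hθX
      have h3 : ((ι h' : ↥H) : G) = ((h' : ↥L) : G) := rfl
      have h4 : ((ι h : ↥H) : G) = ((h : ↥L) : G) := rfl
      rw [h3, h4, hh']
      simp [hx'def]
  -- `n₀` is an integer
  have hX'ne : X'.Nonempty := by
    rw [← Finset.card_pos, hX'card]
    exact lt_of_lt_of_le hr.pos hXcard
  obtain ⟨n, hn⟩ : ∃ n : ℤ, n₀ = n := by
    obtain ⟨θ', hθ'⟩ := hX'ne
    exact (hcong θ' hθ').1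
  -- choose the integers `k`
  have hk : ∀ θ' : ↥H' →* ℂˣ, ∃ k : ℤ, θ' ∈ X' →
      classInner b (fun h => ((θ' h : ℂˣ) : ℂ)) =
        classInner b (fun _ => 1) - ((e : ℂ) + (n : ℂ)) + (r : ℂ) * k := by
    intro θ'
    by_cases hθ' : θ' ∈ X'
    · obtain ⟨k, hk⟩ := (hcong θ' hθ').2
      refine ⟨k, fun _ => ?_⟩
      rw [hn] at hk
      have : (((e : ℤ) : ℂ)) = (e : ℂ) := by simp
      rw [this] at hk
      linear_combination hk
    · exact ⟨0, fun h => absurd h hθ'⟩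
  choose kf hkf using hk
  -- the mass inequality
  have hDL2 : DadeHypothesis ((H : Set G) \ {1}) L RL := by
    apply dadeHypothesis_mono hDL
    · intro h hh
      exact hHA h hh.1 hh.2
    · intro l hl a ha
      refine ⟨hHn l hl a ha.1, ?_⟩
      intro h1
      apply ha.2
      have h2 : l * a * l⁻¹ = 1 := h1
      have : a = 1 := by
        have h3 := congrArg (fun g => l⁻¹ * g * l) h2
        simpa [mul_assoc] using h3
      exact this
  have hmass := Cfsg.Agent.Lib.Helper73.PF127Mass.mass_two_supports ((F : Set G) \ {1})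
    ((H : Set G) \ {1}) N L RN RL hDN hDL2 hdisj ν hνcf
  have hN1' : ∀ a : N, (a : G) ∈ F → a ≠ 1 → dadeAvg RN ν (a : G) = ψ a + (n : ℂ) := by
    intro a ha ha1
    rw [← hn]
    exact hN1 a ha ha1
  rw [nside_mass N F hFN RN ν ψ e hψ1 hψsum hψnorm n hN1'] at hmass
  have hb' : ∀ h : ↥H', h ≠ 1 → b h = dadeAvg RL ν (((h : ↥L)) : G) := by
    intro h hh
    rw [hb h hh, hΨdef, dadeRes_of_mem]
    apply hHA _ (Subgroup.mem_subgroupOf.mp h.2)
    intro h1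
    apply hh
    apply Subtype.ext
    apply Subtype.ext
    exact h1
  rw [lside_mass L H hHL (dadeAvg RL ν) b hb1 hb'] at hmass
  rw [hν1] at hmass
  simp only [Complex.one_re] at hmass
  -- Bessel
  have h1X' : (1 : ↥H' →* ℂˣ) ∉ X' := by
    intro h1
    obtain ⟨θ, hθX, hθ⟩ := Finset.mem_image.mp h1
    apply hX1 θ hθX
    apply MonoidHom.ext
    intro a
    have := DFunLike.congr_fun hθ (ι.symm a)
    simpa using this
  have hbes := Cfsg.Agent.Lib.Helper39.PF127Bessel.bessel_linear (insert (1 : ↥H' →* ℂˣ) X') b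
  rw [Finset.sum_insert h1X'] at hbes
  have h1fun : (fun h : ↥H' => (((1 : ↥H' →* ℂˣ) h : ℂˣ) : ℂ)) = fun _ => 1 := by
    funext h
    simp
  rw [h1fun] at hbes
  set s₁ : ℂ := classInner b (fun _ => 1) with hs₁
  set M : ℝ := (classInner b b).re with hM
  -- reindex by `Fin m`
  set m : ℕ := X'.card with hm
  let eqv : ↥X' ≃ Fin m := X'.equivFin
  have hsumeq : ∑ θ' ∈ X', ‖classInner b (fun h => ((θ' h : ℂˣ) : ℂ))‖ ^ 2 =
      ∑ j : Fin m, ‖s₁ - ((e : ℂ) + (n : ℂ)) + (r : ℂ) * ((kf (eqv.symm j : ↥H' →* ℂˣ) : ℤ) : ℂ)‖ ^ 2 := by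
    rw [← Finset.sum_coe_sort X']
    apply Fintype.sum_equiv eqv
    intro θ'
    rw [Equiv.symm_apply_apply, hkf θ'.1 θ'.2]
  rw [hsumeq] at hbes
  have hcN0 : 0 < Nat.card ↥H := Nat.card_pos
  have hcL0 : 0 < Nat.card ↥L := Nat.card_pos
  apply Cfsg.Agent.Lib.Helper1.PF127Arith3.arith127' r e he3 hdvd her n (Nat.card F) (Nat.card N) (Nat.card L) (Nat.card H)
    hcN0 hcL0 hcardN hF hLF M ?_ m (by rw [hX'card]; exact hXcard) s₁
    (fun j => kf (eqv.symm j : ↥H' →* ℂˣ)) hbes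
  linarith

end Cfsg.Agent.Lib.Helper74.PF127
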