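import Mathlib
import Cfsg.Agent.Lib.Helper74.PF127Defs
import Cfsg.Agent.Lib.Helper74.PFTwelveD
import Cfsg.Agent.Lib.Helper89.PF127Four
import Cfsg.Agent.Lib.Helper73.PF127Rho
import Cfsg.Agent.Lib.Helper66.PF127Mass2
import Cfsg.Agent.Lib.Helper25.CohDescent2
import Cfsg.Agent.Lib.Helper77.Linear

/-!
# Peterfalvi (12.7): the `N`-side input of `core127` (helper74)

For a maximal subgroup `N` of type I which is a Frobenius group with kernel `F = N_F`:
the coherent isometry `τ₁` of (12.6), a character `ψ = Ind_F^N θ₀` (`θ₀` linear, non-principal) of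
degree `e = |N : F|`, and the constant `n₀` with `ρ_N(τ₁ ψ) = ψ + n₀` on `F ∖ {1}`.
-/

set_option autoImplicit false
set_option linter.unusedSectionVars false
set_option linter.style.haveILetI false
set_option maxHeartbeats 1000000

namespace Cfsg.Agent.Lib.Helper74.PF127

open Cfsg Cfsg.Agent.Lib.Helper4.PF Cfsg.Agent.Lib.Helper78 Cfsg.Agent.Lib.Helper75
open scoped ComplexConjugate

universe u

theorem finsum_mem_eq_sum_of_zero_off {α : Type*} [Fintype α] {M : Type*} [AddCommMonoid M]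
    (s : Set α) (f : α → M) (hf : ∀ a, a ∉ s → f a = 0) : ∑ᶠ a ∈ s, f a = ∑ a, f a := by
  apply finsum_mem_eq_sum_of_inter_support_eq
  ext a
  simp only [Set.mem_inter_iff, Function.mem_support, Finset.coe_univ, Set.mem_univ, true_and,
    and_iff_right_iff_imp]
  intro h
  by_contra hs
  exact h (hf a hs)

theorem nside127 {G : Type u} [Group G] [Fintype G] (hsimple : IsSimpleGroup G)
    (pf8 : BookPF8Data G)
    (N : Subgroup G) [Fintype N] (hN : IsCoatom N) (hNI : LitTypeI N)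
    (hNfrob : IsFrobWithFittingHall N) :
    ∃ (τ₁ : (N → ℂ) → (G → ℂ)) (ψ : N → ℂ) (e : ℕ) (n₀ : ℂ),
      IsLinearIsometryOn (zspan (inducedIrrAbove (fittingHall N) ⊥)) τ₁ ∧
      (∀ α ∈ zspanOn (inducedIrrAbove (fittingHall N) ⊥) {1}ᶜ,
        τ₁ α = dadeIsometry (litA N) N (supportR N) α) ∧
      (∀ χ ∈ inducedIrrAbove (fittingHall N) ⊥, IsIrrCharacter N χ) ∧
      ψ ∈ inducedIrrAbove (fittingHall N) ⊥ ∧ ψ 1 = e ∧
      Nat.card N = e * Nat.card (fittingHallOf N) ∧
      IsGeneralizedCharacter G (τ₁ ψ) ∧ classInner (τ₁ ψ) (τ₁ ψ) = 1 ∧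
      (∑ᶠ a ∈ {a : N | (a : G) ∈ fittingHallOf N}, ψ a = 0) ∧
      (∑ᶠ a ∈ {a : N | (a : G) ∈ fittingHallOf N}, ‖ψ a‖ ^ 2 = Nat.card N) ∧
      (∀ a : N, (a : G) ∈ fittingHallOf N → a ≠ 1 →
        dadeAvg (supportR N) (τ₁ ψ) (a : G) = ψ a + n₀) ∧
      IsCharacter N ψ := by
  classical
  have hD := (pf8.dade N hN (litA N) (Or.inr (Or.inl rfl))).2
  obtain ⟨hSirr, hcoh⟩ := PF12.litTypeI_frob_coherent N hsimple hN hNI hNfrob hD
  obtain ⟨-, τ₁, hτ₁, hext⟩ := hcoh
  have hF : IsOfTypeF N := hNI.1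
  obtain ⟨hsolv, hodd, hK1, hK2, -⟩ := hF
  set K : Subgroup N := fittingHall N with hK
  haveI : Fintype K := Fintype.ofFinite K
  -- a nontrivial linear character of `K`
  have hKsolv : Group.IsSolvable K := inferInstance
  have hbt : (⊥ : Subgroup K) ≠ ⊤ := by
    intro h
    apply hK1
    rw [eq_bot_iff]
    intro k hk
    have : (⟨k, hk⟩ : K) ∈ (⊤ : Subgroup K) := Subgroup.mem_top _
    rw [← h, Subgroup.mem_bot] at this
    rw [Subgroup.mem_bot]
    exact congrArg Subtype.val this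
  obtain ⟨θ₀, hθ₀, -⟩ := Cfsg.Agent.Lib.Helper25.CohDescent.exists_linear_nontrivial hKsolv
    (⊥ : Subgroup K) hbt
  set θ : K → ℂ := fun k => ((θ₀ k : ℂˣ) : ℂ) with hθ
  have hθirr : IsIrrCharacter K θ := Cfsg.Agent.Lib.Helper77.isIrrCharacter_of_monoidHom θ₀
  have hθ1 : θ ≠ fun _ => 1 := by
    intro h
    apply hθ₀
    apply MonoidHom.ext
    intro k
    have := congrFun h k
    apply Units.ext
    simpa [hθ] using this
  set ψ : N → ℂ := indFun K θ with hψ
  have hψS : ψ ∈ inducedIrrAbove K ⊥ :=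
    (Cfsg.Agent.Lib.Helper74.mem_inducedIrrAbove_bot_iff K).mpr ⟨θ, hθirr, hθ1, rfl⟩
  have hψirr : IsIrrCharacter N ψ := hSirr ψ hψS
  have hψchar : IsCharacter N ψ := IsIrrCharacter.isCharacter hψirr
  have hψspan : ψ ∈ zspan (inducedIrrAbove K ⊥) := Submodule.subset_span hψS
  have hSchar : ∀ χ ∈ inducedIrrAbove K ⊥, IsCharacter N χ :=
    fun χ hχ => IsIrrCharacter.isCharacter (hSirr χ hχ)
  have hvan : ∀ χ ∈ inducedIrrAbove K ⊥, ∀ x : N,
      (x : G) ∉ (fittingHallOf N : Set G) → χ x = 0 :=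
    fun χ hχ x hx => PF12.frobS_vanish N hχ x hx
  -- cardinalities
  have hcardK : Nat.card (fittingHallOf N) = Nat.card K := by
    unfold fittingHallOf
    exact Subgroup.card_map_of_injective N.subtype_injective
  have hidx : Nat.card N = K.index * Nat.card K := by
    rw [mul_comm]; exact K.card_mul_index.symm
  have hKpos : 0 < Nat.card K := Nat.card_pos
  have hKne : (Nat.card K : ℂ) ≠ 0 := by exact_mod_cast hKpos.ne'
  have hψ1 : ψ 1 = (K.index : ℂ) := by
    rw [hψ, Cfsg.Agent.Lib.Helper89.PF127Four.indFun_one K θ]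
    have : θ 1 = 1 := by simp [hθ]
    rw [this, hidx]
    push_cast
    field_simp
  -- `ν`
  set ν : G → ℂ := τ₁ ψ with hν
  have hνgen : IsGeneralizedCharacter G ν := hτ₁.2.2.2 ψ hψspan
  have hνnorm : classInner ν ν = 1 := by
    rw [hν, hτ₁.2.2.1 ψ hψspan ψ hψspan]
    exact classInner_irr_self hψirr
  have hνcf : IsClassFunction G ν := by
    obtain ⟨χ₁, χ₂, h1, h2, h3⟩ := hνgen
    rw [h3]
    exact isClassFunction_sub (IsCharacter.isClassFunction h1) (IsCharacter.isClassFunction h2)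
  -- the sums over `F`
  have hset : ∀ f : N → ℂ, (∀ a : N, (a : G) ∉ (fittingHallOf N : Set G) → f a = 0) →
      ∑ᶠ a ∈ {a : N | (a : G) ∈ fittingHallOf N}, f a = ∑ a : N, f a := by
    intro f hf
    exact finsum_mem_eq_sum_of_zero_off _ f hf
  have hNpos : 0 < Nat.card N := Nat.card_pos
  have hNne : (Nat.card N : ℂ) ≠ 0 := by exact_mod_cast hNpos.ne'
  have hψne1 : ψ ≠ fun _ => 1 := by
    intro h
    obtain ⟨x, -, hx⟩ := SetLike.exists_of_lt (lt_top_iff_ne_top.mpr hK2)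
    have h1 : ψ x = 0 := by
      apply hvan ψ hψS x
      intro hxF
      exact hx ((PF12.coe_mem_fittingHallOf_iff N x).mp hxF)
    rw [h] at h1
    exact one_ne_zero h1
  have hψsum : ∑ᶠ a ∈ {a : N | (a : G) ∈ fittingHallOf N}, ψ a = 0 := by
    rw [hset ψ (fun a ha => hvan ψ hψS a ha)]
    have h0 : classInner ψ (fun _ : N => (1 : ℂ)) = 0 :=
      classInner_irr_ne hψirr isIrrCharacter_one hψne1
    unfold classInner at h0
    simp only [map_one, mul_one] at h0
    rcases mul_eq_zero.mp h0 with h | h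
    · exact absurd (inv_eq_zero.mp h) hNne
    · exact h
  have hψnorm : ∑ᶠ a ∈ {a : N | (a : G) ∈ fittingHallOf N}, ‖ψ a‖ ^ 2 = Nat.card N := by
    have h1 : ∑ᶠ a ∈ {a : N | (a : G) ∈ fittingHallOf N}, ‖ψ a‖ ^ 2 = ∑ a : N, ‖ψ a‖ ^ 2 := by
      apply finsum_mem_eq_sum_of_zero_off
      intro a ha
      have : ψ a = 0 := hvan ψ hψS a ha
      rw [this]; simp
    rw [h1]
    have h2 := Cfsg.Agent.Lib.Helper66.PF127.classInner_self_re' ψ
    rw [classInner_irr_self hψirr, Complex.one_re] at h2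
    have hNr : (Nat.card N : ℝ) ≠ 0 := by exact_mod_cast hNpos.ne'
    field_simp at h2
    linarith
  -- the constant `n₀`
  have hlitA : litA N = (fittingHallOf N : Set G) \ {1} := PF12.litA_eq_of_frob N hNI.1 hNfrob
  set Ψ : N → ℂ := dadeRes (litA N) N (supportR N) ν with hΨ
  have hΨcf : IsClassFunction N Ψ :=
    Cfsg.Agent.Lib.Helper73.PF127Rho.dadeRes_isClassFunction hD hνcf
  have hψcf : IsClassFunction N ψ := IsCharacter.isClassFunction hψchar
  have horth : ∀ α ∈ zspanOn (inducedIrrAbove K ⊥) {1}ᶜ, classInner α Ψ = classInner α ψ := by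
    intro α hα
    have pa := PF12.zspan_props (fittingHallOf N : Set G) (inducedIrrAbove K ⊥) hSchar hvan hα.1
    have hα1 : α 1 = 0 := hα.2 1 (by simp)
    have hαA : ∀ x : N, (x : G) ∉ litA N → α x = 0 := by
      intro x hx
      rw [hlitA] at hx
      by_cases hxF : (x : G) ∈ (fittingHallOf N : Set G)
      · have hx1 : (x : G) = 1 := by
          by_contra hne
          exact hx ⟨hxF, hne⟩
        have : x = 1 := Subtype.ext hx1
        rw [this, hα1]
      · exact pa.2.1 x hxF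
    have h1 := (Cfsg.Agent.S1500.result (litA N) N (supportR N) hD α pa.1 hαA).2 ν Ψ hνcf
      (fun a ha => by rw [hΨ, dadeRes_of_mem _ _ _ _ _ ha]; rfl)
    rw [← h1, ← hext α hα, hν, hτ₁.2.2.1 α hα.1 ψ hψspan]
  obtain ⟨n₀, hn₀⟩ := Cfsg.Agent.Lib.Helper89.PF127Four.exists_const_of_orthogonal K Ψ ψ hΨcf
    hψcf horth
  refine ⟨τ₁, ψ, K.index, n₀, hτ₁, hext, hSirr, hψS, hψ1, ?_, hνgen, hνnorm, hψsum, hψnorm, ?_,
    hψchar⟩
  · rw [hcardK]; exact hidx
  · intro a haF ha1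
    have haK : a ∈ K := (PF12.coe_mem_fittingHallOf_iff N a).mp haF
    have hmem : (a : G) ∈ litA N := by
      rw [hlitA]
      exact ⟨haF, fun h => ha1 (Subtype.ext h)⟩
    rw [← hn₀ a haK ha1, hΨ, dadeRes_of_mem _ _ _ _ _ hmem]

end Cfsg.Agent.Lib.Helper74.PF127
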