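import Mathlib
import Cfsg.Agent.Lib.Helper74.PF127Defs
import Cfsg.Agent.Lib.Helper74.PFTwelveD
import Cfsg.Agent.Lib.Helper74.PF127NSide
import Cfsg.Agent.Lib.Helper1.PF127Const
import Cfsg.Agent.Lib.Helper1.PF127Gamma
import Cfsg.Agent.Lib.Helper51.PF127Orth
import Cfsg.Agent.Lib.Helper55.PF127RhoZero
import Cfsg.Agent.Lib.Helper67.PF124BGLem
import Cfsg.Agent.Lib.Helper73.PF127Rho
import Cfsg.Agent.Lib.Helper64.PFTwelveX1
import Cfsg.Agent.Lib.Helper59.PFTwelveT2
import Cfsg.Agent.Lib.Helper26.PFBookC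
import Cfsg.Agent.Lib.Helper23.TypeP

/-!
# Peterfalvi (12.3)+(12.4) for a pair `(N, L)` (helper74): assembly

`N` a Frobenius maximal subgroup of type I with coherent `τ₁`, `ψ ∈ S(N)` of degree `e`;
`L` any maximal subgroup (of type I).  The Dade restriction `ρ_L(τ₁ ψ)` is constant on the cosets
`y L_F`, `y ∈ L ∖ L_F`.
-/

set_option autoImplicit false
set_option linter.unusedSectionVars false
set_option linter.style.haveILetI false
set_option maxHeartbeats 1000000

namespace Cfsg.Agent.Lib.Helper74.PF127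

open Cfsg Cfsg.Agent.Lib.Helper4.PF Cfsg.Agent.Lib.Helper78 Cfsg.Agent.Lib.Helper75
open scoped ComplexConjugate

universe u

/-- inner product of `Ind θ = ∑_{χ ∈ C} χ` with an irreducible character -/
theorem classInner_sum_irr_eq {L : Type*} [Group L] [Fintype L] (C : Finset (L → ℂ))
    (hC : ∀ χ ∈ C, IsIrrCharacter L χ) (χ : L → ℂ) (hχ : IsIrrCharacter L χ) :
    classInner (∑ χ' ∈ C, χ') χ = if χ ∈ C then 1 else 0 := by
  classical
  rw [classInner_sum_left]
  have h1 : ∀ χ' ∈ C, classInner χ' χ = if χ' = χ then 1 else 0 :=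
    fun χ' hχ' => classInner_irr (hC χ' hχ') hχ
  rw [Finset.sum_congr rfl h1, Finset.sum_ite_eq' C χ]

theorem classInner_sub_left' {L : Type*} [Group L] [Fintype L] (f₁ f₂ ψ : L → ℂ) :
    classInner (f₁ - f₂) ψ = classInner f₁ ψ - classInner f₂ ψ := by
  have h : f₁ - f₂ = f₁ + (-1 : ℂ) • f₂ := by
    funext x; simp [sub_eq_add_neg]
  rw [h, classInner_add_left, classInner_smul_left]
  ring

theorem classInner_sub_right'' {L : Type*} [Group L] [Fintype L] (f ψ₁ ψ₂ : L → ℂ) :
    classInner f (ψ₁ - ψ₂) = classInner f ψ₁ - classInner f ψ₂ := by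
  have h : ψ₁ - ψ₂ = ψ₁ + (-1 : ℂ) • ψ₂ := by
    funext x; simp [sub_eq_add_neg]
  rw [h, classInner_add_right, classInner_smul_right]
  simp [sub_eq_add_neg]

theorem h124 {G : Type u} [Group G] [Fintype G] (bg : BookBGData G)
    (hall : ∀ M : Subgroup G, IsCoatom M → LitTypeI M)
    (N : Subgroup G) [Fintype N] (hN : IsCoatom N) (hNfrob : IsFrobWithFittingHall N)
    (hDN : DadeHypothesis (litA N) N (supportR N))
    (hSirr : ∀ χ ∈ inducedIrrAbove (fittingHall N) ⊥, IsIrrCharacter N χ)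
    (τ₁ : (N → ℂ) → (G → ℂ))
    (hτ₁ : IsLinearIsometryOn (zspan (inducedIrrAbove (fittingHall N) ⊥)) τ₁)
    (hext : ∀ α ∈ zspanOn (inducedIrrAbove (fittingHall N) ⊥) {1}ᶜ,
      τ₁ α = dadeIsometry (litA N) N (supportR N) α)
    (ψ : N → ℂ) (hψ : ψ ∈ inducedIrrAbove (fittingHall N) ⊥) (e : ℕ) (hψ1 : ψ 1 = e)
    (hcard : Nat.card N = e * Nat.card (fittingHallOf N))
    (hbig : 2 * e + 1 < Nat.card (fittingHallOf N))
    (L : Subgroup G) [Fintype L] (hL : IsCoatom L)
    (hDL : DadeHypothesis (litA L) L (supportR L))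
    (hnorm : ∀ t : G, conjSub t L = L → t ∈ L)
    (y h : L) (hy : y ∉ fittingHall L) (hh : h ∈ fittingHall L) :
    dadeRes (litA L) L (supportR L) (τ₁ ψ) (y * h) =
      dadeRes (litA L) L (supportR L) (τ₁ ψ) y := by
  classical
  set H' : Subgroup L := fittingHall L with hH'
  haveI : Fintype H' := Fintype.ofFinite H'
  have hLI : LitTypeI L := hall L hL
  have hF : IsOfTypeF L := hLI.1
  have hNF : IsOfTypeF N := (hall N hN).1
  have hcop : (Nat.card H').Coprime H'.index := Cfsg.Agent.Lib.Helper23.fittingHall_coprime L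
  have hψspan : ψ ∈ zspan (inducedIrrAbove (fittingHall N) ⊥) := Submodule.subset_span hψ
  set ν : G → ℂ := τ₁ ψ with hν
  have hνgen : IsGeneralizedCharacter G ν := hτ₁.2.2.2 ψ hψspan
  have hνcf : IsClassFunction G ν := by
    obtain ⟨χ₁, χ₂, h1, h2, h3⟩ := hνgen
    rw [h3]
    exact isClassFunction_sub (IsCharacter.isClassFunction h1) (IsCharacter.isClassFunction h2)
  set f : L → ℂ := dadeRes (litA L) L (supportR L) ν with hf
  have hfcf : IsClassFunction L f :=
    Cfsg.Agent.Lib.Helper73.PF127Rho.dadeRes_isClassFunction hDL hνcf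
  have hlitAL : litA L = {a | a ∈ L ∧ a ≠ 1 ∧ ∃ x ∈ fittingHallOf L, x ≠ 1 ∧ a * x = x * a} :=
    Cfsg.Agent.Lib.Helper64.PF12.litA_eq_of_typeF hF
  have hlitAN : litA N = (fittingHallOf N : Set G) \ {1} := PF12.litA_eq_of_frob N hNF hNfrob
  have hcardK : Nat.card (fittingHallOf N) = Nat.card (fittingHall N) := by
    unfold fittingHallOf
    exact Subgroup.card_map_of_injective N.subtype_injective
  have hcardH : Nat.card (fittingHallOf L) = Nat.card H' := by
    unfold fittingHallOf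
    exact Subgroup.card_map_of_injective L.subtype_injective
  -- the decomposition data
  have hdec : ∀ θ : H' → ℂ, IsIrrCharacter H' θ → θ ≠ (fun _ => 1) →
      ∃ C : Finset (L → ℂ), (∀ χ ∈ C, IsIrrCharacter L χ) ∧
        (∀ χ : L → ℂ, IsIrrCharacter L χ →
          classInner (indFun H' θ) χ = if χ ∈ C then 1 else 0) ∧
        (∀ χ ∈ C, ∀ χ' ∈ C, χ 1 = χ' 1) := by
    intro θ hθ hθ1
    obtain ⟨C, hC, hInd, hdegC, -⟩ :=
      Cfsg.Agent.Lib.Helper59.PFTwelveT2.typeF_ind_decomp hF θ hθ hθ1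
    refine ⟨C, hC, ?_, hdegC⟩
    intro χ hχ
    rw [hInd]
    exact classInner_sum_irr_eq C hC χ hχ
  have hmemC : ∀ θ : H' → ℂ, ∀ C : Finset (L → ℂ), ∀ χ : L → ℂ,
      (classInner (indFun H' θ) χ = if χ ∈ C then 1 else 0) →
      classInner (indFun H' θ) χ = 1 → χ ∈ C := by
    intro θ C χ h1 h2
    by_contra hne
    rw [h1, if_neg hne] at h2
    exact zero_ne_one h2
  apply Cfsg.Agent.Lib.Helper1.PF127H.const_on_cosets H' ?_ ?_ f hfcf ?_ y h hy hh
  · -- multiplicity free
    intro θ hθ hθ1 χ hχ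
    obtain ⟨C, -, hin, -⟩ := hdec θ hθ hθ1
    rw [hin χ hχ]
    by_cases hc : χ ∈ C
    · right; rw [if_pos hc]
    · left; rw [if_neg hc]
  · -- equal degrees
    intro θ hθ hθ1 χ χ' hχ hχ' h1 h1'
    obtain ⟨C, -, hin, hdegC⟩ := hdec θ hθ hθ1
    exact hdegC χ (hmemC θ C χ (hin χ hχ) h1) χ' (hmemC θ C χ' (hin χ' hχ') h1')
  · -- equal multiplicities
    intro θ hθ hθ1 χ χ' hχ hχ' h1 h1'
    by_cases hne : χ = χ'
    · rw [hne]
    obtain ⟨C, -, hin, hdegC⟩ := hdec θ hθ hθ1
    have hdeg : χ 1 = χ' 1 :=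
      hdegC χ (hmemC θ C χ (hin χ hχ) h1) χ' (hmemC θ C χ' (hin χ' hχ') h1')
    obtain ⟨hχa, hχb, hχc⟩ := Cfsg.Agent.Lib.Helper1.PF127H.irr_above_facts H' hcop θ hθ hθ1 χ hχ h1
    obtain ⟨hχ'a, hχ'b, -⟩ := Cfsg.Agent.Lib.Helper1.PF127H.irr_above_facts H' hcop θ hθ hθ1 χ' hχ' h1'
    have hχchar := IsIrrCharacter.isCharacter hχ
    have hχ'char := IsIrrCharacter.isCharacter hχ'
    set γ : L → ℂ := χ - χ' with hγ
    have hγgen : IsGeneralizedCharacter L γ := ⟨χ, χ', hχchar, hχ'char, rfl⟩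
    have hγcf : IsClassFunction L γ :=
      isClassFunction_sub (IsCharacter.isClassFunction hχchar)
        (IsCharacter.isClassFunction hχ'char)
    have hγH' : ∀ l : L, l ∈ H' → γ l = 0 := by
      intro l hl
      rw [hγ, Pi.sub_apply, hχc χ' hχ' h1' l hl, sub_self]
    have hγH : ∀ l : L, (l : G) ∈ fittingHallOf L → γ l = 0 :=
      fun l hl => hγH' l ((PF12.coe_mem_fittingHallOf_iff L l).mp hl)
    have hγA : ∀ l : L, (l : G) ∉ litA L → γ l = 0 := by
      intro l hl
      by_cases hlH : l ∈ H'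
      · exact hγH' l hlH
      · have hfix : ∀ k ∈ H', k * l = l * k → k = 1 := by
          intro k hk hkl
          by_contra hk1
          apply hl
          rw [hlitAL]
          refine ⟨l.2, ?_, (k : G), (PF12.coe_mem_fittingHallOf_iff L k).mpr hk, ?_, ?_⟩
          · intro h1l
            apply hlH
            have : l = 1 := Subtype.ext h1l
            rw [this]
            exact H'.one_mem
          · intro h1k
            exact hk1 (Subtype.ext h1k)
          · have := congrArg Subtype.val hkl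
            simpa using this.symm
        rw [hγ, Pi.sub_apply, hχb l hlH hfix, hχ'b l hlH hfix, sub_zero]
    have hγsum : ∀ g : L, (g : G) ∉ fittingHallOf L →
        (Nat.card (fittingHallOf L)).Coprime (orderOf g) →
        ∑ᶠ c ∈ {c : L | (c : G) ∈ fittingHallOf L ∧ c * g = g * c}, γ (g * c) = 0 := by
      intro g _ hg
      have hset : {c : L | (c : G) ∈ fittingHallOf L ∧ c * g = g * c} =
          {c : L | c ∈ H' ∧ c * g = g * c} := by
        ext c
        simp only [Set.mem_ofPred_eq]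
        rw [PF12.coe_mem_fittingHallOf_iff L c]
      rw [hset]
      rw [hcardH] at hg
      have e1 := hχa g hg
      have e2 := hχ'a g hg
      have : ∑ᶠ c ∈ {c : L | c ∈ H' ∧ c * g = g * c}, γ (g * c) =
          ∑ᶠ c ∈ {c : L | c ∈ H' ∧ c * g = g * c}, χ (g * c) -
            ∑ᶠ c ∈ {c : L | c ∈ H' ∧ c * g = g * c}, χ' (g * c) := by
        have e3 := finsum_mem_sub_distrib (s := {c : L | c ∈ H' ∧ c * g = g * c})
          (fun c => χ (g * c)) (fun c => χ' (g * c)) (Set.toFinite _)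
        rw [← e3]
        rfl
      rw [this, e1, e2, sub_zero]
    -- the virtual character `Φ`
    set Φ : G → ℂ := dadeIsometry (litA L) L (supportR L) γ with hΦ
    have hΦgen : IsGeneralizedCharacter G Φ :=
      Cfsg.Agent.S1501.result (litA L) L (supportR L) hDL γ hγgen hγA
    have h1500 := Cfsg.Agent.S1500.result (litA L) L (supportR L) hDL γ hγcf hγA
    have hγγ : classInner γ γ = 2 := by
      rw [hγ, classInner_sub_left', classInner_sub_right'', classInner_sub_right'',
        classInner_irr_self hχ, classInner_irr_self hχ', classInner_irr_ne hχ hχ' hne,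
        classInner_irr_ne hχ' hχ (fun h => hne h.symm)]
      norm_num
    have hΦ2 : classInner Φ Φ = 2 := by
      rw [hΦ, h1500.1 γ hγcf hγA, hγγ]
    -- `ρ_N(Φ) = 0`
    have hlitAconj : ∀ t : G, litA (conjSub t L) = {a | a ∈ conjSub t L ∧ a ≠ 1 ∧
        ∃ x ∈ fittingHallOf (conjSub t L), x ≠ 1 ∧ a * x = x * a} := by
      intro t
      have hc : IsCoatom (conjSub t L) := Cfsg.Agent.Lib.Helper26.PFBook.isCoatom_conjSub hL t
      exact Cfsg.Agent.Lib.Helper64.PF12.litA_eq_of_typeF (hall _ hc).1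
    have hRL : ∀ b ∈ litA L, b ∉ fittingHallOf L → supportR L b = ⊥ := by
      intro b hb hbH
      apply PF12.supportR_eq_bot L b
      by_contra hcent
      have h2 := ((bg.tame L hL (litA L) (Or.inl rfl)).2.1 b hb hcent).1
      rw [Cfsg.Agent.Lib.Helper64.PF12.typeA1_eq_of_typeF hF] at h2
      exact hbH h2.1
    have hB : ∀ t a u : G, a ∈ fittingHallOf N → a ≠ 1 → u ∈ supportR N a →
        a * u ∈ litA (conjSub t L) → a * u ∉ fittingHallOf (conjSub t L) →
        a ∈ conjSub t L ∧ a ∉ fittingHallOf (conjSub t L) ∧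
        (∀ L' : Subgroup G, IsCoatom L' → Subgroup.centralizer ({a} : Set G) ≤ L' →
          L' = conjSub t L) ∧
        Subgroup.centralizer ({a} : Set G) ≤ conjSub t L ∧
        supportR N a = fittingHallOf (conjSub t L) ⊓ Subgroup.centralizer ({a} : Set G) ∧
        (Nat.card (fittingHallOf (conjSub t L))).Coprime (orderOf a) := by
      intro t a u ha ha1 hu hy hyH
      have hc : IsCoatom (conjSub t L) := Cfsg.Agent.Lib.Helper26.PFBook.isCoatom_conjSub hL t
      obtain ⟨c1, c2, -, c4, c5, c6, c7⟩ :=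
        Cfsg.Agent.Lib.Helper67.PF124BGLem.coset_in_B bg hall N hN hNfrob hDN (conjSub t L) hc a u ha ha1 hu hy hyH
      exact ⟨c1, c2, c5, c4, c6, c7⟩
    have hΦ0 : ∀ a ∈ litA N, dadeAvg (supportR N) Φ a = 0 := by
      intro a ha
      rw [hlitAN] at ha
      exact Cfsg.Agent.Lib.Helper55.PF127.rho_zero N L hL hlitAconj hnorm hDL hRL hB γ hγcf hγH hγA hγsum a ha.1
        (by simpa using ha.2)
    -- orthogonality
    have hcard' : Nat.card N = e * Nat.card (fittingHall N) := by rw [← hcardK]; exact hcard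
    have hbig' : 2 * e + 1 < Nat.card (fittingHall N) := by rw [← hcardK]; exact hbig
    have horth : classInner ν Φ = 0 :=
      Cfsg.Agent.Lib.Helper51.PF127.coherent_orth N (fittingHall N) (litA N) (supportR N) hDN hlitAN hSirr τ₁ hτ₁ hext ψ hψ e
        hψ1 hcard' hbig' Φ hΦgen hΦ2 hΦ0
    have h2 : classInner Φ ν = classInner γ f :=
      h1500.2 ν f hνcf (fun a ha => by rw [hf, dadeRes_of_mem _ _ _ _ _ ha]; rfl)
    have h3 : classInner Φ ν = 0 := by
      rw [← classInner_conj_symm, horth, map_zero]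
    rw [h3, hγ, classInner_sub_left'] at h2
    have h4 : classInner χ f = classInner χ' f := by
      have := h2.symm
      exact sub_eq_zero.mp this
    rw [← classInner_conj_symm χ f, ← classInner_conj_symm χ' f, h4]

end Cfsg.Agent.Lib.Helper74.PF127
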