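import Mathlib
import Cfsg.Agent.Lib.Helper74.PF127Core
import Cfsg.Agent.Lib.Helper74.PF127NSide
import Cfsg.Agent.Lib.Helper74.PF127H124
import Cfsg.Agent.Lib.Helper25.PF127XSet
import Cfsg.Agent.Lib.Helper77.PSIX
import Cfsg.Agent.Lib.Helper26.PFBookB

/-!
# Peterfalvi (12.7): the character-theoretic half (helper74)

`char_part`: the configuration produced by the group-theoretic analysis (12.8)-(12.10)
(`L` a non-Frobenius maximal subgroup of type I, `N` a Frobenius maximal subgroup of type I whose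
kernel contains an element `x` of prime order `r` of `L ∖ L_F` with `C_G(x) ≤ L`, ...) is
contradictory, in the world where all maximal subgroups are of type I.
-/

set_option autoImplicit false
set_option linter.unusedSectionVars false
set_option linter.style.haveILetI false
set_option maxHeartbeats 1000000

namespace Cfsg.Agent.Lib.Helper74.PF127

open Cfsg Cfsg.Agent.Lib.Helper4.PF Cfsg.Agent.Lib.Helper78 Cfsg.Agent.Lib.Helper75
open scoped ComplexConjugate

universe u

theorem char_part {G : Type u} [Group G] [Fintype G] (hsimple : IsSimpleGroup G)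
    (bg : BookBGData G) (pf8 : BookPF8Data G)
    (hall : ∀ M : Subgroup G, IsCoatom M → LitTypeI M)
    (L N : Subgroup G) (hL : IsCoatom L) (hN : IsCoatom N) (hNfrob : IsFrobWithFittingHall N)
    (x : G) (r : ℕ) (hr : r.Prime) (hx : orderOf x = r) (hxL : x ∈ L)
    (hxF : x ∈ fittingHallOf N) (hcop : ¬ r ∣ Nat.card (fittingHallOf L))
    (hcoset : ∀ i : ℕ, ¬ r ∣ i → ∀ h ∈ fittingHallOf L,
      Subgroup.centralizer ({x ^ i * h} : Set G) ≤ L ∧ x ^ i * h ≠ 1 ∧
      ∃ k ∈ fittingHallOf L, k ≠ 1 ∧ (x ^ i * h) * k = k * (x ^ i * h))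
    (T : Subgroup G) (hTK : T ≤ fittingHallOf L)
    (hTn : ∀ k ∈ fittingHallOf L, ∀ t ∈ T, k * t * k⁻¹ ∈ T)
    (hcomm : ∀ k₁ ∈ fittingHallOf L, ∀ k₂ ∈ fittingHallOf L, k₁ * k₂ * k₁⁻¹ * k₂⁻¹ ∈ T)
    (hxT : ∀ k ∈ fittingHallOf L, x * k * x⁻¹ * k⁻¹ ∈ T)
    (hTidx : r + 1 ≤ T.relIndex (fittingHallOf L))
    (e : ℕ) (hcardN : Nat.card N = e * Nat.card (fittingHallOf N))
    (he3 : 3 ≤ e) (hdvd : e ∣ r ^ 2 - 1) (her : e + 2 ≤ r)
    (hF : r ^ 2 ≤ Nat.card (fittingHallOf N))
    (hLF : Nat.card L ≤ Nat.card (fittingHallOf L) * Nat.card (fittingHallOf N)) : False := by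
  classical
  haveI : Fintype N := Fintype.ofFinite N
  haveI : Fintype L := Fintype.ofFinite L
  set F : Subgroup G := fittingHallOf N with hFdef
  set H : Subgroup G := fittingHallOf L with hHdef
  have hNI : LitTypeI N := hall N hN
  have hLI : LitTypeI L := hall L hL
  have hNF : IsOfTypeF N := hNI.1
  have hLF' : IsOfTypeF L := hLI.1
  have hFN : F ≤ N := Cfsg.Agent.Lib.Helper4.PF9.fittingHallOf_le N
  have hHL : H ≤ L := Cfsg.Agent.Lib.Helper4.PF9.fittingHallOf_le L
  have hlitAN : litA N = (F : Set G) \ {1} := PF12.litA_eq_of_frob N hNF hNfrob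
  have hlitAL : litA L = {a | a ∈ L ∧ a ≠ 1 ∧ ∃ z ∈ H, z ≠ 1 ∧ a * z = z * a} :=
    Cfsg.Agent.Lib.Helper64.PF12.litA_eq_of_typeF hLF'
  have hDN0 := (pf8.dade N hN (litA N) (Or.inr (Or.inl rfl))).2
  have hDL := (pf8.dade L hL (litA L) (Or.inr (Or.inl rfl))).2
  have hDN : DadeHypothesis ((F : Set G) \ {1}) N (supportR N) := by rw [← hlitAN]; exact hDN0
  -- the `N`-side
  obtain ⟨τ₁, ψ, e', n₀, hτ₁, hext, hSirr, hψS, hψ1, hcardN', hνgen, hνnorm, hψsum, hψnorm, hN1,
    hψchar⟩ := nside127 hsimple pf8 N hN hNI hNfrob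
  have hFpos : 0 < Nat.card F := Nat.card_pos
  have hee : e' = e := by
    have : e' * Nat.card F = e * Nat.card F := by rw [← hcardN', ← hcardN]
    exact Nat.eq_of_mul_eq_mul_right hFpos this
  rw [hee] at hψ1
  set ν : G → ℂ := τ₁ ψ with hν
  -- basic facts on `x`
  have hx1 : x ≠ 1 := by
    intro h
    rw [h, orderOf_one] at hx
    exact hr.one_lt.ne hx
  have hxpow_ne : ∀ i : ℕ, ¬ r ∣ i → x ^ i ≠ 1 := by
    intro i hi h1
    exact hi (hx ▸ orderOf_dvd_of_pow_eq_one h1)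
  have hcoset1 : ∀ i : ℕ, ¬ r ∣ i → Subgroup.centralizer ({x ^ i} : Set G) ≤ L := by
    intro i hi
    have := (hcoset i hi 1 H.one_mem).1
    simpa using this
  have hmemA : ∀ i : ℕ, ¬ r ∣ i → ∀ h ∈ H, x ^ i * h ∈ litA L := by
    intro i hi h hh
    obtain ⟨-, hne, k, hk, hk1, hkc⟩ := hcoset i hi h hh
    rw [hlitAL]
    exact ⟨L.mul_mem (L.pow_mem hxL i) (hHL hh), hne, k, hk, hk1, hkc⟩
  have hxA : ∀ i : ℕ, ¬ r ∣ i → ∀ h ∈ H, x ^ i * h ∈ litA L ∧ supportR L (x ^ i * h) = ⊥ :=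
    fun i hi h hh => ⟨hmemA i hi h hh, PF12.supportR_eq_bot L _ (hcoset i hi h hh).1⟩
  -- `L` is self-normalizing
  have hnorm : ∀ t : G, conjSub t L = L → t ∈ L := by
    intro t ht
    have hle : L ≤ Subgroup.normalizer (L : Set G) := Subgroup.le_normalizer
    have htn : t ∈ Subgroup.normalizer (L : Set G) := by
      rw [Subgroup.mem_normalizer_iff]
      intro g
      constructor
      · intro hg
        rw [← ht]
        exact ⟨g, hg, rfl⟩
      · intro hg
        have : t * g * t⁻¹ ∈ conjSub t L := by rw [ht]; exact hg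
        obtain ⟨g', hg', hgg'⟩ := this
        have : g' = g := by
          have h1 : t * g' * t⁻¹ = t * g * t⁻¹ := hgg'
          have h2 := congrArg (fun z => t⁻¹ * z * t) h1
          simpa [mul_assoc] using h2
        rw [← this]; exact hg'
    rcases eq_or_lt_of_le hle with h | h
    · rw [h]; exact htn
    · exfalso
      have htop := hL.2 _ h
      have hn : L.Normal := Subgroup.normalizer_eq_top_iff.mp htop
      rcases hn.eq_bot_or_eq_top with hb | ht'
      · rw [hb, Subgroup.mem_bot] at hxL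
        exact hx1 hxL
      · exact hL.1 ht'
  -- numerics
  have hbig : 2 * e + 1 < Nat.card F := by
    have h1 : (e + 2) ^ 2 ≤ r ^ 2 := Nat.pow_le_pow_left her 2
    nlinarith
  -- (12.3)+(12.4)
  have hxnotH : ∀ i : ℕ, ¬ r ∣ i → x ^ i ∉ H := by
    intro i hi hmem
    apply hcop
    have h1 : orderOf (x ^ i) = r := by
      have hc : (orderOf x).Coprime i := by
        rw [hx]; exact (Nat.Prime.coprime_iff_not_dvd hr).mpr hi
      rw [hc.orderOf_pow, hx]
    rw [← h1]
    have h2 : orderOf (⟨x ^ i, hmem⟩ : H) = orderOf (x ^ i) := by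
      rw [← Subgroup.orderOf_coe]
    rw [← h2]
    exact orderOf_dvd_natCard _
  have h124' : ∀ i : ℕ, ¬ r ∣ i → ∀ h ∈ H, ν (x ^ i * h) = ν (x ^ i) := by
    intro i hi h hh
    set y : L := ⟨x ^ i, L.pow_mem hxL i⟩ with hy
    set h' : L := ⟨h, hHL hh⟩ with hh'
    have hyH : y ∉ fittingHall L := by
      intro hmem
      exact hxnotH i hi ((PF12.coe_mem_fittingHallOf_iff L y).mpr hmem)
    have hh'H : h' ∈ fittingHall L := (PF12.coe_mem_fittingHallOf_iff L h').mp hh
    have key := h124 bg hall N hN hNfrob hDN0 hSirr τ₁ hτ₁ hext ψ hψS e hψ1 hcardN hbig L hL hDL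
      hnorm y h' hyH hh'H
    have e1 : ((y * h' : L) : G) = x ^ i * h := rfl
    have e2 : ((y : L) : G) = x ^ i := rfl
    have m1 : ((y * h' : L) : G) ∈ litA L := by rw [e1]; exact hmemA i hi h hh
    have m2 : ((y : L) : G) ∈ litA L := by
      rw [e2]
      have := hmemA i hi 1 H.one_mem
      simpa using this
    rw [dadeRes_of_mem _ _ _ _ _ m1, dadeRes_of_mem _ _ _ _ _ m2, e1, e2,
      dadeAvg_bot _ _ _ (hxA i hi h hh).2] at key
    have hb : supportR L (x ^ i) = ⊥ := PF12.supportR_eq_bot L _ (hcoset1 i hi)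
    rw [dadeAvg_bot _ _ _ hb] at key
    exact key
  -- `R_N(x^i) ≤ H`
  have hRNx : ∀ i : ℕ, ¬ r ∣ i → supportR N (x ^ i) ≤ H := by
    intro i hi
    unfold supportR
    split_ifs with hc
    · have hspec := Classical.choose_spec hc.2.exists
      have huniq := hc.2.unique hspec ⟨hL, hcoset1 i hi⟩
      rw [huniq]
      exact inf_le_left
    · exact bot_le
  -- `ψ` on `⟨x⟩`
  have hψx : ∀ ζ : ℂˣ, ζ ^ r = 1 → ∃ B : ℤ,
      ∑ i ∈ Finset.range r, ψ ⟨x ^ i, N.pow_mem (hFN hxF) i⟩ * ((ζ⁻¹ : ℂˣ) : ℂ) ^ i =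
        (r : ℂ) * B := by
    intro ζ hζ
    set x' : N := ⟨x, hFN hxF⟩ with hx'
    have hx'o : orderOf x' = r := by rw [← hx, ← Subgroup.orderOf_coe x']
    obtain ⟨B, hB⟩ := Cfsg.Agent.Lib.Helper77.PSIX.sum_pow_mul_eq_card_mul_int ψ hψchar x' r
      hr.pos hx'o ζ hζ
    exact ⟨B, hB⟩
  -- the invariant linear characters
  have hxH : ∀ k ∈ H, x * k * x⁻¹ ∈ H :=
    fun k hk => Cfsg.Agent.Lib.Helper4.PF9.conj_mem_fittingHallOf L hxL hk
  obtain ⟨X, hXcard, hX1, hXinv⟩ :=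
    Cfsg.Agent.Lib.Helper25.PF127XSet.exists_invariant_linear_chars H T x hTK hTn hcomm hxH hxT r
      hTidx
  -- disjointness of the supports
  have hnc : ∀ g : G, conjSub g L ≠ N := by
    intro g hg
    apply hcop
    have h1 : Nat.card (fittingHallOf (conjSub g L)) = Nat.card H :=
      Cfsg.Agent.Lib.Helper26.PFBook.card_fittingHallOf_map_conj L g
    rw [hg] at h1
    rw [← h1, ← hx]
    have h2 : orderOf (⟨x, hxF⟩ : F) = orderOf x := by
      rw [← Subgroup.orderOf_coe]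
    rw [← h2]
    exact orderOf_dvd_natCard _
  have hA1N : typeA1 N = (F : Set G) \ {1} :=
    Cfsg.Agent.Lib.Helper64.PF12.typeA1_eq_of_typeF hNF
  have hA1L : typeA1 L = (H : Set G) \ {1} :=
    Cfsg.Agent.Lib.Helper64.PF12.typeA1_eq_of_typeF hLF'
  have hxlitA : x ∈ litA L := by
    have := hmemA 1 (fun h => hr.one_lt.ne' (Nat.dvd_one.mp h)) 1 H.one_mem
    simpa using this
  have hdisj : ∀ g : G, g ∈ dadeSupp ((F : Set G) \ {1}) (supportR N) →
      g ∉ dadeSupp ((H : Set G) \ {1}) (supportR L) := by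
    have hsup := (pf8.supports N L hN hL hnc).2
    have hfirst : ¬ (tildeOf N (typeA1 N) ∩ tildeOf L (litA L) = ∅) := by
      intro hempty
      have hmem : x ∈ tildeOf N (typeA1 N) ∩ tildeOf L (litA L) := by
        constructor
        · refine ⟨x, ?_, 1, (supportR N x).one_mem, 1, by simp⟩
          rw [hA1N]
          exact ⟨hxF, by simpa using hx1⟩
        · exact ⟨x, hxlitA, 1, (supportR L x).one_mem, 1, by simp⟩
      rw [hempty] at hmem
      exact hmem
    have hsecond : tildeOf L (typeA1 L) ∩ tildeOf N (litA N) = ∅ := by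
      rcases hsup with h | h
      · exact absurd h hfirst
      · exact h
    intro g hgN hgL
    have hmem : g ∈ tildeOf L (typeA1 L) ∩ tildeOf N (litA N) := by
      constructor
      · obtain ⟨a, ha, u, hu, y, hy⟩ := hgL
        refine ⟨a, by rw [hA1L]; exact ha, u, hu, y⁻¹, ?_⟩
        rw [← hy]; group
      · obtain ⟨a, ha, u, hu, y, hy⟩ := hgN
        refine ⟨a, by rw [hlitAN]; exact ha, u, hu, y⁻¹, ?_⟩
        rw [← hy]; group
    rw [hsecond] at hmem
    exact hmem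
  -- conclusion
  have hHn : ∀ l ∈ L, ∀ h ∈ H, l * h * l⁻¹ ∈ H :=
    fun l hl h hh => Cfsg.Agent.Lib.Helper4.PF9.conj_mem_fittingHallOf L hl hh
  have hHA : ∀ h ∈ H, h ≠ 1 → h ∈ litA L := by
    intro h hh h1
    rw [hlitAL]
    exact ⟨hHL hh, h1, h, hh, h1, rfl⟩
  exact core127 ν hνgen hνnorm N F hFN (supportR N) hDN ψ e hψ1 hψsum hψnorm n₀ hN1 hcardN
    L H hHL hHn (litA L) (supportR L) hDL hHA x r hr hx hxL hxF hcop hxA hRNx h124' hψx
    X hX1 hXinv hXcard hdisj he3 hdvd her hF hLF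

end Cfsg.Agent.Lib.Helper74.PF127
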