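import Mathlib
import Cfsg.Agent.Lib.Helper74.PF127Final
import Cfsg.Agent.Lib.Helper74.PF127BGLem2
import Cfsg.Agent.Lib.Helper54.TypePTransport
import Cfsg.Agent.Lib.Helper60.PFTwelveG4

/-!
# Peterfalvi (12.7) without the hypothesis "all maximal subgroups are of Type I" (helper74)

Same proofs as `h124`, `char_part`, `typeI_frobenius_of_all`, with `hall` replaced by the Type I
hypotheses on the two subgroups involved; `typeI_frobenius` takes helper60's hypothesis `hLI`
(to be supplied by Peterfalvi sections 10 and 11).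
-/

set_option autoImplicit false
set_option linter.unusedSectionVars false
set_option linter.style.haveILetI false
set_option maxHeartbeats 1000000

namespace Cfsg.Agent.Lib.Helper74.PF127

open Cfsg Cfsg.Agent.Lib.Helper4.PF Cfsg.Agent.Lib.Helper78 Cfsg.Agent.Lib.Helper75
open scoped ComplexConjugate

universe u

/-- a conjugate of a maximal subgroup of Type I is of Type I -/
theorem litTypeI_conjSub {G : Type u} [Group G] [Finite G] (bg : BookBGData G) {M : Subgroup G}
    (hM : IsCoatom M) (hI : LitTypeI M) (t : G) : LitTypeI (conjSub t M) := by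
  have hc : IsCoatom (conjSub t M) := Cfsg.Agent.Lib.Helper26.PFBook.isCoatom_conjSub hM t
  rcases bg.types _ hc with h | h
  · exact h
  · exfalso
    obtain ⟨W₁, U, W₂, hP⟩ := Cfsg.Agent.Lib.Helper26.PFBook.isOfTypeP_of_typeIItoV h
    have h2 := Cfsg.Agent.Lib.Helper54.TypePTransport.IsTypePWith.map (MulAut.conj t⁻¹) hP
    have h3 : (conjSub t M).map (MulAut.conj t⁻¹).toMonoidHom = M :=
      Cfsg.Agent.Lib.Helper26.PFBook.conjSub_inv_conjSub t M
    rw [h3] at h2
    exact Cfsg.Agent.Lib.Helper26.PFEight.not_typeF_of_typeP hI.1 h2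

theorem h124_gen {G : Type u} [Group G] [Fintype G] (hG : IsMinSimpleOddOrder G)
    (bg : BookBGData G)
    (N : Subgroup G) [Fintype N] (hN : IsCoatom N) (hNI : LitTypeI N)
    (hNfrob : IsFrobWithFittingHall N)
    (hDN : DadeHypothesis (litA N) N (supportR N))
    (hSirr : ∀ χ ∈ inducedIrrAbove (fittingHall N) ⊥, IsIrrCharacter N χ)
    (τ₁ : (N → ℂ) → (G → ℂ))
    (hτ₁ : IsLinearIsometryOn (zspan (inducedIrrAbove (fittingHall N) ⊥)) τ₁)
    (hext : ∀ α ∈ zspanOn (inducedIrrAbove (fittingHall N) ⊥) {1}ᶜ,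
      τ₁ α = dadeIsometry (litA N) N (supportR N) α)
    (ψ : N → ℂ) (hψ : ψ ∈ inducedIrrAbove (fittingHall N) ⊥) (e : ℕ) (hψ1 : ψ 1 = e)
    (hcard : Nat.card N = e * Nat.card (fittingHallOf N))
    (hbig : 2 * e + 1 < Nat.card (fittingHallOf N))
    (L : Subgroup G) [Fintype L] (hL : IsCoatom L) (hLI : LitTypeI L)
    (hDL : DadeHypothesis (litA L) L (supportR L))
    (hnorm : ∀ t : G, conjSub t L = L → t ∈ L)
    (y h : L) (hy : y ∉ fittingHall L) (hh : h ∈ fittingHall L) :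
    dadeRes (litA L) L (supportR L) (τ₁ ψ) (y * h) =
      dadeRes (litA L) L (supportR L) (τ₁ ψ) y := by
  classical
  set H' : Subgroup L := fittingHall L with hH'
  haveI : Fintype H' := Fintype.ofFinite H'
  have hF : IsOfTypeF L := hLI.1
  have hNF : IsOfTypeF N := hNI.1
  have hcop : (Nat.card H').Coprime H'.index := Cfsg.Agent.Lib.Helper23.fittingHall_coprime L
  have hψspan : ψ ∈ zspan (inducedIrrAbove (fittingHall N) ⊥) := Submodule.subset_span hψ
  set ν : G → ℂ := τ₁ ψ with hν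
  have hνgen : IsGeneralizedCharacter G ν := hτ₁.2.2.2 ψ hψspan
  have hνcf : IsClassFunction G ν := by
    obtain ⟨χ₁, χ₂, h1, h2, h3⟩ := hνgen
    rw [h3]
    exact isClassFunction_sub (IsCharacter.isClassFunction h1) (IsCharacter.isClassFunction h2)
  set f : L → ℂ := dadeRes (litA L) L (supportR L) ν with hf
  have hfcf : IsClassFunction L f :=
    Cfsg.Agent.Lib.Helper73.PF127Rho.dadeRes_isClassFunction hDL hνcf
  have hlitAL : litA L = {a | a ∈ L ∧ a ≠ 1 ∧ ∃ x ∈ fittingHallOf L, x ≠ 1 ∧ a * x = x * a} :=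
    Cfsg.Agent.Lib.Helper64.PF12.litA_eq_of_typeF hF
  have hlitAN : litA N = (fittingHallOf N : Set G) \ {1} := PF12.litA_eq_of_frob N hNF hNfrob
  have hcardK : Nat.card (fittingHallOf N) = Nat.card (fittingHall N) := by
    unfold fittingHallOf
    exact Subgroup.card_map_of_injective N.subtype_injective
  have hcardH : Nat.card (fittingHallOf L) = Nat.card H' := by
    unfold fittingHallOf
    exact Subgroup.card_map_of_injective L.subtype_injective
  -- the decomposition data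
  have hdec : ∀ θ : H' → ℂ, IsIrrCharacter H' θ → θ ≠ (fun _ => 1) →
      ∃ C : Finset (L → ℂ), (∀ χ ∈ C, IsIrrCharacter L χ) ∧
        (∀ χ : L → ℂ, IsIrrCharacter L χ →
          classInner (indFun H' θ) χ = if χ ∈ C then 1 else 0) ∧
        (∀ χ ∈ C, ∀ χ' ∈ C, χ 1 = χ' 1) := by
    intro θ hθ hθ1
    obtain ⟨C, hC, hInd, hdegC, -⟩ :=
      Cfsg.Agent.Lib.Helper59.PFTwelveT2.typeF_ind_decomp hF θ hθ hθ1
    refine ⟨C, hC, ?_, hdegC⟩
    intro χ hχ
    rw [hInd]
    exact classInner_sum_irr_eq C hC χ hχ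
  have hmemC : ∀ θ : H' → ℂ, ∀ C : Finset (L → ℂ), ∀ χ : L → ℂ,
      (classInner (indFun H' θ) χ = if χ ∈ C then 1 else 0) →
      classInner (indFun H' θ) χ = 1 → χ ∈ C := by
    intro θ C χ h1 h2
    by_contra hne
    rw [h1, if_neg hne] at h2
    exact zero_ne_one h2
  apply Cfsg.Agent.Lib.Helper1.PF127H.const_on_cosets H' ?_ ?_ f hfcf ?_ y h hy hh
  · -- multiplicity free
    intro θ hθ hθ1 χ hχ
    obtain ⟨C, -, hin, -⟩ := hdec θ hθ hθ1
    rw [hin χ hχ]
    by_cases hc : χ ∈ C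
    · right; rw [if_pos hc]
    · left; rw [if_neg hc]
  · -- equal degrees
    intro θ hθ hθ1 χ χ' hχ hχ' h1 h1'
    obtain ⟨C, -, hin, hdegC⟩ := hdec θ hθ hθ1
    exact hdegC χ (hmemC θ C χ (hin χ hχ) h1) χ' (hmemC θ C χ' (hin χ' hχ') h1')
  · -- equal multiplicities
    intro θ hθ hθ1 χ χ' hχ hχ' h1 h1'
    by_cases hne : χ = χ'
    · rw [hne]
    obtain ⟨C, -, hin, hdegC⟩ := hdec θ hθ hθ1
    have hdeg : χ 1 = χ' 1 :=
      hdegC χ (hmemC θ C χ (hin χ hχ) h1) χ' (hmemC θ C χ' (hin χ' hχ') h1')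
    obtain ⟨hχa, hχb, hχc⟩ := Cfsg.Agent.Lib.Helper1.PF127H.irr_above_facts H' hcop θ hθ hθ1 χ hχ h1
    obtain ⟨hχ'a, hχ'b, -⟩ := Cfsg.Agent.Lib.Helper1.PF127H.irr_above_facts H' hcop θ hθ hθ1 χ' hχ' h1'
    have hχchar := IsIrrCharacter.isCharacter hχ
    have hχ'char := IsIrrCharacter.isCharacter hχ'
    set γ : L → ℂ := χ - χ' with hγ
    have hγgen : IsGeneralizedCharacter L γ := ⟨χ, χ', hχchar, hχ'char, rfl⟩
    have hγcf : IsClassFunction L γ :=
      isClassFunction_sub (IsCharacter.isClassFunction hχchar)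
        (IsCharacter.isClassFunction hχ'char)
    have hγH' : ∀ l : L, l ∈ H' → γ l = 0 := by
      intro l hl
      rw [hγ, Pi.sub_apply, hχc χ' hχ' h1' l hl, sub_self]
    have hγH : ∀ l : L, (l : G) ∈ fittingHallOf L → γ l = 0 :=
      fun l hl => hγH' l ((PF12.coe_mem_fittingHallOf_iff L l).mp hl)
    have hγA : ∀ l : L, (l : G) ∉ litA L → γ l = 0 := by
      intro l hl
      by_cases hlH : l ∈ H'
      · exact hγH' l hlH
      · have hfix : ∀ k ∈ H', k * l = l * k → k = 1 := by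
          intro k hk hkl
          by_contra hk1
          apply hl
          rw [hlitAL]
          refine ⟨l.2, ?_, (k : G), (PF12.coe_mem_fittingHallOf_iff L k).mpr hk, ?_, ?_⟩
          · intro h1l
            apply hlH
            have : l = 1 := Subtype.ext h1l
            rw [this]
            exact H'.one_mem
          · intro h1k
            exact hk1 (Subtype.ext h1k)
          · have := congrArg Subtype.val hkl
            simpa using this.symm
        rw [hγ, Pi.sub_apply, hχb l hlH hfix, hχ'b l hlH hfix, sub_zero]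
    have hγsum : ∀ g : L, (g : G) ∉ fittingHallOf L →
        (Nat.card (fittingHallOf L)).Coprime (orderOf g) →
        ∑ᶠ c ∈ {c : L | (c : G) ∈ fittingHallOf L ∧ c * g = g * c}, γ (g * c) = 0 := by
      intro g _ hg
      have hset : {c : L | (c : G) ∈ fittingHallOf L ∧ c * g = g * c} =
          {c : L | c ∈ H' ∧ c * g = g * c} := by
        ext c
        simp only [Set.mem_ofPred_eq]
        rw [PF12.coe_mem_fittingHallOf_iff L c]
      rw [hset]
      rw [hcardH] at hg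
      have e1 := hχa g hg
      have e2 := hχ'a g hg
      have : ∑ᶠ c ∈ {c : L | c ∈ H' ∧ c * g = g * c}, γ (g * c) =
          ∑ᶠ c ∈ {c : L | c ∈ H' ∧ c * g = g * c}, χ (g * c) -
            ∑ᶠ c ∈ {c : L | c ∈ H' ∧ c * g = g * c}, χ' (g * c) := by
        have e3 := finsum_mem_sub_distrib (s := {c : L | c ∈ H' ∧ c * g = g * c})
          (fun c => χ (g * c)) (fun c => χ' (g * c)) (Set.toFinite _)
        rw [← e3]
        rfl
      rw [this, e1, e2, sub_zero]
    -- the virtual character `Φ`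
    set Φ : G → ℂ := dadeIsometry (litA L) L (supportR L) γ with hΦ
    have hΦgen : IsGeneralizedCharacter G Φ :=
      Cfsg.Agent.S1501.result (litA L) L (supportR L) hDL γ hγgen hγA
    have h1500 := Cfsg.Agent.S1500.result (litA L) L (supportR L) hDL γ hγcf hγA
    have hγγ : classInner γ γ = 2 := by
      rw [hγ, classInner_sub_left', classInner_sub_right'', classInner_sub_right'',
        classInner_irr_self hχ, classInner_irr_self hχ', classInner_irr_ne hχ hχ' hne,
        classInner_irr_ne hχ' hχ (fun h => hne h.symm)]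
      norm_num
    have hΦ2 : classInner Φ Φ = 2 := by
      rw [hΦ, h1500.1 γ hγcf hγA, hγγ]
    -- `ρ_N(Φ) = 0`
    have hlitAconj : ∀ t : G, litA (conjSub t L) = {a | a ∈ conjSub t L ∧ a ≠ 1 ∧
        ∃ x ∈ fittingHallOf (conjSub t L), x ≠ 1 ∧ a * x = x * a} := by
      intro t
      have hc : IsCoatom (conjSub t L) := Cfsg.Agent.Lib.Helper26.PFBook.isCoatom_conjSub hL t
      exact Cfsg.Agent.Lib.Helper64.PF12.litA_eq_of_typeF (litTypeI_conjSub bg hL hLI t).1
    have hRL : ∀ b ∈ litA L, b ∉ fittingHallOf L → supportR L b = ⊥ := by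
      intro b hb hbH
      apply PF12.supportR_eq_bot L b
      by_contra hcent
      have h2 := ((bg.tame L hL (litA L) (Or.inl rfl)).2.1 b hb hcent).1
      rw [Cfsg.Agent.Lib.Helper64.PF12.typeA1_eq_of_typeF hF] at h2
      exact hbH h2.1
    have hB : ∀ t a u : G, a ∈ fittingHallOf N → a ≠ 1 → u ∈ supportR N a →
        a * u ∈ litA (conjSub t L) → a * u ∉ fittingHallOf (conjSub t L) →
        a ∈ conjSub t L ∧ a ∉ fittingHallOf (conjSub t L) ∧
        (∀ L' : Subgroup G, IsCoatom L' → Subgroup.centralizer ({a} : Set G) ≤ L' →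
          L' = conjSub t L) ∧
        Subgroup.centralizer ({a} : Set G) ≤ conjSub t L ∧
        supportR N a = fittingHallOf (conjSub t L) ⊓ Subgroup.centralizer ({a} : Set G) ∧
        (Nat.card (fittingHallOf (conjSub t L))).Coprime (orderOf a) := by
      intro t a u ha ha1 hu hy hyH
      have hc : IsCoatom (conjSub t L) := Cfsg.Agent.Lib.Helper26.PFBook.isCoatom_conjSub hL t
      obtain ⟨c1, c2, -, c4, c5, c6, c7⟩ :=
        Cfsg.Agent.Lib.Helper74.PF127BGLem2.coset_in_B' hG bg N hN hNI hNfrob hDN (conjSub t L) hc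
          (litTypeI_conjSub bg hL hLI t) a u ha ha1 hu hy hyH
      exact ⟨c1, c2, c5, c4, c6, c7⟩
    have hΦ0 : ∀ a ∈ litA N, dadeAvg (supportR N) Φ a = 0 := by
      intro a ha
      rw [hlitAN] at ha
      exact Cfsg.Agent.Lib.Helper55.PF127.rho_zero N L hL hlitAconj hnorm hDL hRL hB γ hγcf hγH hγA hγsum a ha.1
        (by simpa using ha.2)
    -- orthogonality
    have hcard' : Nat.card N = e * Nat.card (fittingHall N) := by rw [← hcardK]; exact hcard
    have hbig' : 2 * e + 1 < Nat.card (fittingHall N) := by rw [← hcardK]; exact hbig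
    have horth : classInner ν Φ = 0 :=
      Cfsg.Agent.Lib.Helper51.PF127.coherent_orth N (fittingHall N) (litA N) (supportR N) hDN hlitAN hSirr τ₁ hτ₁ hext ψ hψ e
        hψ1 hcard' hbig' Φ hΦgen hΦ2 hΦ0
    have h2 : classInner Φ ν = classInner γ f :=
      h1500.2 ν f hνcf (fun a ha => by rw [hf, dadeRes_of_mem _ _ _ _ _ ha]; rfl)
    have h3 : classInner Φ ν = 0 := by
      rw [← classInner_conj_symm, horth, map_zero]
    rw [h3, hγ, classInner_sub_left'] at h2
    have h4 : classInner χ f = classInner χ' f := by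
      have := h2.symm
      exact sub_eq_zero.mp this
    rw [← classInner_conj_symm χ f, ← classInner_conj_symm χ' f, h4]


theorem char_part_gen {G : Type u} [Group G] [Fintype G] (hG : IsMinSimpleOddOrder G)
    (bg : BookBGData G) (pf8 : BookPF8Data G)
    (L N : Subgroup G) (hL : IsCoatom L) (hLI : LitTypeI L) (hN : IsCoatom N) (hNI : LitTypeI N)
    (hNfrob : IsFrobWithFittingHall N)
    (x : G) (r : ℕ) (hr : r.Prime) (hx : orderOf x = r) (hxL : x ∈ L)
    (hxF : x ∈ fittingHallOf N) (hcop : ¬ r ∣ Nat.card (fittingHallOf L))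
    (hcoset : ∀ i : ℕ, ¬ r ∣ i → ∀ h ∈ fittingHallOf L,
      Subgroup.centralizer ({x ^ i * h} : Set G) ≤ L ∧ x ^ i * h ≠ 1 ∧
      ∃ k ∈ fittingHallOf L, k ≠ 1 ∧ (x ^ i * h) * k = k * (x ^ i * h))
    (T : Subgroup G) (hTK : T ≤ fittingHallOf L)
    (hTn : ∀ k ∈ fittingHallOf L, ∀ t ∈ T, k * t * k⁻¹ ∈ T)
    (hcomm : ∀ k₁ ∈ fittingHallOf L, ∀ k₂ ∈ fittingHallOf L, k₁ * k₂ * k₁⁻¹ * k₂⁻¹ ∈ T)
    (hxT : ∀ k ∈ fittingHallOf L, x * k * x⁻¹ * k⁻¹ ∈ T)
    (hTidx : r + 1 ≤ T.relIndex (fittingHallOf L))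
    (e : ℕ) (hcardN : Nat.card N = e * Nat.card (fittingHallOf N))
    (he3 : 3 ≤ e) (hdvd : e ∣ r ^ 2 - 1) (her : e + 2 ≤ r)
    (hF : r ^ 2 ≤ Nat.card (fittingHallOf N))
    (hLF : Nat.card L ≤ Nat.card (fittingHallOf L) * Nat.card (fittingHallOf N)) : False := by
  classical
  haveI : Fintype N := Fintype.ofFinite N
  haveI : Fintype L := Fintype.ofFinite L
  set F : Subgroup G := fittingHallOf N with hFdef
  set H : Subgroup G := fittingHallOf L with hHdef
  have hsimple : IsSimpleGroup G := hG.2.1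
  have hNF : IsOfTypeF N := hNI.1
  have hLF' : IsOfTypeF L := hLI.1
  have hFN : F ≤ N := Cfsg.Agent.Lib.Helper4.PF9.fittingHallOf_le N
  have hHL : H ≤ L := Cfsg.Agent.Lib.Helper4.PF9.fittingHallOf_le L
  have hlitAN : litA N = (F : Set G) \ {1} := PF12.litA_eq_of_frob N hNF hNfrob
  have hlitAL : litA L = {a | a ∈ L ∧ a ≠ 1 ∧ ∃ z ∈ H, z ≠ 1 ∧ a * z = z * a} :=
    Cfsg.Agent.Lib.Helper64.PF12.litA_eq_of_typeF hLF'
  have hDN0 := (pf8.dade N hN (litA N) (Or.inr (Or.inl rfl))).2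
  have hDL := (pf8.dade L hL (litA L) (Or.inr (Or.inl rfl))).2
  have hDN : DadeHypothesis ((F : Set G) \ {1}) N (supportR N) := by rw [← hlitAN]; exact hDN0
  -- the `N`-side
  obtain ⟨τ₁, ψ, e', n₀, hτ₁, hext, hSirr, hψS, hψ1, hcardN', hνgen, hνnorm, hψsum, hψnorm, hN1,
    hψchar⟩ := nside127 hsimple pf8 N hN hNI hNfrob
  have hFpos : 0 < Nat.card F := Nat.card_pos
  have hee : e' = e := by
    have : e' * Nat.card F = e * Nat.card F := by rw [← hcardN', ← hcardN]
    exact Nat.eq_of_mul_eq_mul_right hFpos this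
  rw [hee] at hψ1
  set ν : G → ℂ := τ₁ ψ with hν
  -- basic facts on `x`
  have hx1 : x ≠ 1 := by
    intro h
    rw [h, orderOf_one] at hx
    exact hr.one_lt.ne hx
  have hxpow_ne : ∀ i : ℕ, ¬ r ∣ i → x ^ i ≠ 1 := by
    intro i hi h1
    exact hi (hx ▸ orderOf_dvd_of_pow_eq_one h1)
  have hcoset1 : ∀ i : ℕ, ¬ r ∣ i → Subgroup.centralizer ({x ^ i} : Set G) ≤ L := by
    intro i hi
    have := (hcoset i hi 1 H.one_mem).1
    simpa using this
  have hmemA : ∀ i : ℕ, ¬ r ∣ i → ∀ h ∈ H, x ^ i * h ∈ litA L := by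
    intro i hi h hh
    obtain ⟨-, hne, k, hk, hk1, hkc⟩ := hcoset i hi h hh
    rw [hlitAL]
    exact ⟨L.mul_mem (L.pow_mem hxL i) (hHL hh), hne, k, hk, hk1, hkc⟩
  have hxA : ∀ i : ℕ, ¬ r ∣ i → ∀ h ∈ H, x ^ i * h ∈ litA L ∧ supportR L (x ^ i * h) = ⊥ :=
    fun i hi h hh => ⟨hmemA i hi h hh, PF12.supportR_eq_bot L _ (hcoset i hi h hh).1⟩
  -- `L` is self-normalizing
  have hnorm : ∀ t : G, conjSub t L = L → t ∈ L := by
    intro t ht
    have hle : L ≤ Subgroup.normalizer (L : Set G) := Subgroup.le_normalizer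
    have htn : t ∈ Subgroup.normalizer (L : Set G) := by
      rw [Subgroup.mem_normalizer_iff]
      intro g
      constructor
      · intro hg
        rw [← ht]
        exact ⟨g, hg, rfl⟩
      · intro hg
        have : t * g * t⁻¹ ∈ conjSub t L := by rw [ht]; exact hg
        obtain ⟨g', hg', hgg'⟩ := this
        have : g' = g := by
          have h1 : t * g' * t⁻¹ = t * g * t⁻¹ := hgg'
          have h2 := congrArg (fun z => t⁻¹ * z * t) h1
          simpa [mul_assoc] using h2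
        rw [← this]; exact hg'
    rcases eq_or_lt_of_le hle with h | h
    · rw [h]; exact htn
    · exfalso
      have htop := hL.2 _ h
      have hn : L.Normal := Subgroup.normalizer_eq_top_iff.mp htop
      rcases hn.eq_bot_or_eq_top with hb | ht'
      · rw [hb, Subgroup.mem_bot] at hxL
        exact hx1 hxL
      · exact hL.1 ht'
  -- numerics
  have hbig : 2 * e + 1 < Nat.card F := by
    have h1 : (e + 2) ^ 2 ≤ r ^ 2 := Nat.pow_le_pow_left her 2
    nlinarith
  -- (12.3)+(12.4)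
  have hxnotH : ∀ i : ℕ, ¬ r ∣ i → x ^ i ∉ H := by
    intro i hi hmem
    apply hcop
    have h1 : orderOf (x ^ i) = r := by
      have hc : (orderOf x).Coprime i := by
        rw [hx]; exact (Nat.Prime.coprime_iff_not_dvd hr).mpr hi
      rw [hc.orderOf_pow, hx]
    rw [← h1]
    have h2 : orderOf (⟨x ^ i, hmem⟩ : H) = orderOf (x ^ i) := by
      rw [← Subgroup.orderOf_coe]
    rw [← h2]
    exact orderOf_dvd_natCard _
  have h124' : ∀ i : ℕ, ¬ r ∣ i → ∀ h ∈ H, ν (x ^ i * h) = ν (x ^ i) := by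
    intro i hi h hh
    set y : L := ⟨x ^ i, L.pow_mem hxL i⟩ with hy
    set h' : L := ⟨h, hHL hh⟩ with hh'
    have hyH : y ∉ fittingHall L := by
      intro hmem
      exact hxnotH i hi ((PF12.coe_mem_fittingHallOf_iff L y).mpr hmem)
    have hh'H : h' ∈ fittingHall L := (PF12.coe_mem_fittingHallOf_iff L h').mp hh
    have key := h124_gen hG bg N hN hNI hNfrob hDN0 hSirr τ₁ hτ₁ hext ψ hψS e hψ1 hcardN hbig L hL hLI
      hDL
      hnorm y h' hyH hh'H
    have e1 : ((y * h' : L) : G) = x ^ i * h := rfl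
    have e2 : ((y : L) : G) = x ^ i := rfl
    have m1 : ((y * h' : L) : G) ∈ litA L := by rw [e1]; exact hmemA i hi h hh
    have m2 : ((y : L) : G) ∈ litA L := by
      rw [e2]
      have := hmemA i hi 1 H.one_mem
      simpa using this
    rw [dadeRes_of_mem _ _ _ _ _ m1, dadeRes_of_mem _ _ _ _ _ m2, e1, e2,
      dadeAvg_bot _ _ _ (hxA i hi h hh).2] at key
    have hb : supportR L (x ^ i) = ⊥ := PF12.supportR_eq_bot L _ (hcoset1 i hi)
    rw [dadeAvg_bot _ _ _ hb] at key
    exact key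
  -- `R_N(x^i) ≤ H`
  have hRNx : ∀ i : ℕ, ¬ r ∣ i → supportR N (x ^ i) ≤ H := by
    intro i hi
    unfold supportR
    split_ifs with hc
    · have hspec := Classical.choose_spec hc.2.exists
      have huniq := hc.2.unique hspec ⟨hL, hcoset1 i hi⟩
      rw [huniq]
      exact inf_le_left
    · exact bot_le
  -- `ψ` on `⟨x⟩`
  have hψx : ∀ ζ : ℂˣ, ζ ^ r = 1 → ∃ B : ℤ,
      ∑ i ∈ Finset.range r, ψ ⟨x ^ i, N.pow_mem (hFN hxF) i⟩ * ((ζ⁻¹ : ℂˣ) : ℂ) ^ i =
        (r : ℂ) * B := by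
    intro ζ hζ
    set x' : N := ⟨x, hFN hxF⟩ with hx'
    have hx'o : orderOf x' = r := by rw [← hx, ← Subgroup.orderOf_coe x']
    obtain ⟨B, hB⟩ := Cfsg.Agent.Lib.Helper77.PSIX.sum_pow_mul_eq_card_mul_int ψ hψchar x' r
      hr.pos hx'o ζ hζ
    exact ⟨B, hB⟩
  -- the invariant linear characters
  have hxH : ∀ k ∈ H, x * k * x⁻¹ ∈ H :=
    fun k hk => Cfsg.Agent.Lib.Helper4.PF9.conj_mem_fittingHallOf L hxL hk
  obtain ⟨X, hXcard, hX1, hXinv⟩ :=
    Cfsg.Agent.Lib.Helper25.PF127XSet.exists_invariant_linear_chars H T x hTK hTn hcomm hxH hxT r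
      hTidx
  -- disjointness of the supports
  have hnc : ∀ g : G, conjSub g L ≠ N := by
    intro g hg
    apply hcop
    have h1 : Nat.card (fittingHallOf (conjSub g L)) = Nat.card H :=
      Cfsg.Agent.Lib.Helper26.PFBook.card_fittingHallOf_map_conj L g
    rw [hg] at h1
    rw [← h1, ← hx]
    have h2 : orderOf (⟨x, hxF⟩ : F) = orderOf x := by
      rw [← Subgroup.orderOf_coe]
    rw [← h2]
    exact orderOf_dvd_natCard _
  have hA1N : typeA1 N = (F : Set G) \ {1} :=
    Cfsg.Agent.Lib.Helper64.PF12.typeA1_eq_of_typeF hNF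
  have hA1L : typeA1 L = (H : Set G) \ {1} :=
    Cfsg.Agent.Lib.Helper64.PF12.typeA1_eq_of_typeF hLF'
  have hxlitA : x ∈ litA L := by
    have := hmemA 1 (fun h => hr.one_lt.ne' (Nat.dvd_one.mp h)) 1 H.one_mem
    simpa using this
  have hdisj : ∀ g : G, g ∈ dadeSupp ((F : Set G) \ {1}) (supportR N) →
      g ∉ dadeSupp ((H : Set G) \ {1}) (supportR L) := by
    have hsup := (pf8.supports N L hN hL hnc).2
    have hfirst : ¬ (tildeOf N (typeA1 N) ∩ tildeOf L (litA L) = ∅) := by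
      intro hempty
      have hmem : x ∈ tildeOf N (typeA1 N) ∩ tildeOf L (litA L) := by
        constructor
        · refine ⟨x, ?_, 1, (supportR N x).one_mem, 1, by simp⟩
          rw [hA1N]
          exact ⟨hxF, by simpa using hx1⟩
        · exact ⟨x, hxlitA, 1, (supportR L x).one_mem, 1, by simp⟩
      rw [hempty] at hmem
      exact hmem
    have hsecond : tildeOf L (typeA1 L) ∩ tildeOf N (litA N) = ∅ := by
      rcases hsup with h | h
      · exact absurd h hfirst
      · exact h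
    intro g hgN hgL
    have hmem : g ∈ tildeOf L (typeA1 L) ∩ tildeOf N (litA N) := by
      constructor
      · obtain ⟨a, ha, u, hu, y, hy⟩ := hgL
        refine ⟨a, by rw [hA1L]; exact ha, u, hu, y⁻¹, ?_⟩
        rw [← hy]; group
      · obtain ⟨a, ha, u, hu, y, hy⟩ := hgN
        refine ⟨a, by rw [hlitAN]; exact ha, u, hu, y⁻¹, ?_⟩
        rw [← hy]; group
    rw [hsecond] at hmem
    exact hmem
  -- conclusion
  have hHn : ∀ l ∈ L, ∀ h ∈ H, l * h * l⁻¹ ∈ H :=
    fun l hl h hh => Cfsg.Agent.Lib.Helper4.PF9.conj_mem_fittingHallOf L hl hh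
  have hHA : ∀ h ∈ H, h ≠ 1 → h ∈ litA L := by
    intro h hh h1
    rw [hlitAL]
    exact ⟨hHL hh, h1, h, hh, h1, rfl⟩
  exact core127 ν hνgen hνnorm N F hFN (supportR N) hDN ψ e hψ1 hψsum hψnorm n₀ hN1 hcardN
    L H hHL hHn (litA L) (supportR L) hDL hHA x r hr hx hxL hxF hcop hxA hRNx h124' hψx
    X hX1 hXinv hXcard hdisj he3 hdvd her hF hLF


theorem typeI_frobenius {G : Type u} [Group G] [Finite G] (hG : IsMinSimpleOddOrder G)
    (bg : BookBGData G) (pf8 : BookPF8Data G)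
    (hσ : ∀ M : Subgroup G, IsCoatom M → LitTypeI M → sigmaCore M = fittingHallOf M)
    (hLI : ∀ (L : Subgroup G) (x : G), IsCoatom L → x ∈ sigmaCore L → x ≠ 1 →
      ¬ Subgroup.centralizer ({x} : Set G) ≤ L → LitTypeI L) :
    ∀ L : Subgroup G, IsCoatom L → LitTypeI L → IsFrobWithFittingHall L := by
  classical
  haveI : Fintype G := Fintype.ofFinite G
  intro L₀ hL₀ hL₀I
  by_contra hnot
  obtain ⟨p, M, L, T, x, o⟩ := Cfsg.Agent.Lib.Helper60.PF12G.group_part hG bg hσ hLI
    ⟨L₀, hL₀, hL₀I, hnot⟩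
  have hlitAM : litA M = {a | a ∈ M ∧ a ≠ 1 ∧ ∃ z ∈ fittingHallOf M, z ≠ 1 ∧ a * z = z * a} :=
    Cfsg.Agent.Lib.Helper64.PF12.litA_eq_of_typeF o.hMI.1
  refine char_part_gen hG bg pf8 M L o.hM o.hMI o.hL o.hLI o.hfrob x p o.hp o.x_ord o.x_M o.x_H
    o.hpK ?_ T o.T_le o.T_norm o.T_comm o.T_x ?_ ((fittingHallOf L).relIndex L) o.card_L o.e_ge
    o.e_dvd o.e_le o.card_H o.card_M_le
  · intro i hi h hh
    have h1 := o.coset_litA i hi h hh
    rw [hlitAM] at h1
    exact ⟨o.coset_cent i hi h hh, h1.2.1, h1.2.2⟩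
  · have := o.T_idx
    omega

end Cfsg.Agent.Lib.Helper74.PF127
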