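import Mathlib
import Cfsg.Agent.Lib.Helper74.PF127Gen
import Cfsg.Agent.Lib.Helper26.BGRows
import Cfsg.Agent.Lib.Helper24.BGBookFinalC
import Cfsg.Agent.S3745
import Cfsg.Agent.S1355

/-!
# Peterfalvi (12.7) with the CONTEXTUAL form of the hypothesis `hLI` (helper74)

helper60's `group_part` uses its hypothesis `hLI` only once, in `exists_L`, for the maximal subgroup
`L` with `p ∈ σ(L)`, `P₀ ≤ L_σ`, `L ≠ M` of the configuration `Cfg p M P₀ A x y₀` of (12.9).  For `L`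
of Type III the universal form of `hLI` is not available before Peterfalvi section 13, so we restate
`exists_L`, `group_part` (proofs: helper60's, verbatim) and `typeI_frobenius` with the contextual
hypothesis `HLIc`.
-/

set_option autoImplicit false
set_option linter.unusedSectionVars false
set_option linter.unusedVariables false
set_option linter.style.haveILetI false

namespace Cfsg.Agent.Lib.Helper74.PF127

open Cfsg Cfsg.Agent.Lib.Helper4.PF Cfsg.Agent.Lib.Helper60.PF12G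
open Cfsg.Agent.Lib.Helper26.PFBook (mem_conjSub isCoatom_conjSub)
open Cfsg.Agent.Lib.Helper26.PFEight (fittingHallOf_le conj_mem_fittingHallOf)

universe u

/-- the contextual form of helper60's hypothesis `hLI`: in the configuration of Peterfalvi (12.9)
the maximal subgroup `L ≠ M` with `p ∈ σ(L)` and `P₀ ≤ L_σ` is of Type I -/
def HLIc (G : Type u) [Group G] [Finite G] : Prop :=
  ∀ {p : ℕ} {M P₀ A : Subgroup G} {x y₀ : G}, Cfg p M P₀ A x y₀ →
    ∀ L : Subgroup G, IsCoatom L → p ∈ sigma L → P₀ ≤ sigmaCore L → L ≠ M → LitTypeI L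

variable {G : Type u} [Group G] [Finite G]

/-- The maximal subgroup `L` with `P₀ ≤ L_F`. -/
theorem exists_L' (hG : IsMinSimpleOddOrder G) (bg : BookBGData G)
    (hσ : ∀ M : Subgroup G, IsCoatom M → LitTypeI M → sigmaCore M = fittingHallOf M)
    (hLI : HLIc G)
    {p : ℕ} {M P₀ A : Subgroup G} {x y₀ : G} (c : Cfg p M P₀ A x y₀) :
    ∃ L : Subgroup G, IsCoatom L ∧ LitTypeI L ∧ P₀ ≤ fittingHallOf L ∧ L ≠ M ∧
      IsComplIn (fittingHallOf M) (L ⊓ M) M := by
  have : Fact p.Prime := ⟨c.hp⟩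
  have hpG : p ∣ Nat.card G := by
    have h := c.p_dvd_of_A_le (le_top : A ≤ ⊤)
    rwa [Subgroup.card_top] at h
  obtain ⟨L₀, hL₀, hpσ⟩ := bg.sigmaPrimes.1 p c.hp hpG
  obtain ⟨-, hpL₀, S, hS⟩ := hpσ
  have hS₀L : (S : Subgroup L₀).map L₀.subtype ≤ L₀ := Subgroup.map_subtype_le _
  have hS₀p : IsPGroup p ((S : Subgroup L₀).map L₀.subtype) := S.isPGroup'.map _
  have hmax : ∀ Q : Subgroup G, Q ≤ L₀ → IsPGroup p Q → (S : Subgroup L₀).map L₀.subtype ≤ Q →
      Q = (S : Subgroup L₀).map L₀.subtype := by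
    intro Q hQL hQp hSQ
    have h1 : IsPGroup p (Q.subgroupOf L₀) := hQp.comap_subtype
    have h2 : (S : Subgroup L₀) ≤ Q.subgroupOf L₀ := by
      intro y hy
      rw [Subgroup.mem_subgroupOf]
      exact hSQ ⟨y, hy, rfl⟩
    have h3 := S.is_maximal' h1 h2
    rw [← h3, Subgroup.map_subgroupOf_eq_of_le hQL]
  obtain ⟨g, hg⟩ := exists_conj_le_of_normalizer_le p L₀ _ hS₀L hS₀p hmax hS P₀ c.P₀_p
  have hL : IsCoatom (conjSub g⁻¹ L₀) := isCoatom_conjSub hL₀ g⁻¹
  have hP₀L : P₀ ≤ conjSub g⁻¹ L₀ := by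
    intro y hy
    rw [mem_conjSub]
    simpa using hS₀L (hg y hy)
  have hpσL : p ∈ sigma (conjSub g⁻¹ L₀) := by
    rw [Cfsg.Agent.Lib.Helper34.TildeEquiv.sigma_map_conj]
    exact ⟨c.hp, hpL₀, S, hS⟩
  have hidx := (Cfsg.Agent.S1350.result hG _ hL).1.2.2 p c.hp hpσL
  have hP₀σ : P₀ ≤ sigmaCore (conjSub g⁻¹ L₀) :=
    le_of_isPGroup_of_not_dvd_relIndex p c.hp _ _ P₀
      (Cfsg.Agent.Lib.Helper26.BGTypes.sigmaCore_le _)
      (fun l hl n hn => Cfsg.Agent.Lib.Helper26.BGTypes.conj_mem_sigmaCore _ hl hn) hidx hP₀L c.P₀_p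
  have hLM : conjSub g⁻¹ L₀ ≠ M := by
    intro h
    rw [h, hσ M c.hM c.hI] at hP₀σ
    exact c.hpK (c.p_dvd_of_A_le (c.A_le.trans hP₀σ))
  have hnc : ¬ Subgroup.centralizer ({x} : Set G) ≤ conjSub g⁻¹ L₀ := fun h =>
    hLM (c.cent_uniq _ hL h)
  have hLtype : LitTypeI (conjSub g⁻¹ L₀) := hLI c _ hL hpσL hP₀σ hLM
  have hPH : P₀ ≤ fittingHallOf (conjSub g⁻¹ L₀) := by
    rw [← hσ _ hL hLtype]; exact hP₀σ
  have hxlit : x ∈ litA (conjSub g⁻¹ L₀) := by
    rw [litA_eq_of_typeF' hLtype.1]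
    exact ⟨hP₀L c.x_P₀, c.x_ne, x, hPH c.x_P₀, c.x_ne, rfl⟩
  have h3 := (bg.tame _ hL (litA _) (Or.inl rfl)).2.2 x hxlit hnc M c.hM c.cent_le
  exact ⟨_, hL, hLtype, hPH, hLM, h3.1⟩


/-- **Peterfalvi (12.8)-(12.10), group part.**  If some maximal subgroup of (book) Type I is not a
Frobenius group with kernel `M_F`, the configuration `Out` exists. -/
theorem group_part' (hG : IsMinSimpleOddOrder G) (bg : BookBGData G)
    (hσ : ∀ M : Subgroup G, IsCoatom M → LitTypeI M → sigmaCore M = fittingHallOf M)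
    (hLI : HLIc G)
    (hbad : ∃ M : Subgroup G, IsCoatom M ∧ LitTypeI M ∧ ¬ IsFrobWithFittingHall M) :
    ∃ (p : ℕ) (M L T : Subgroup G) (x : G), Cfsg.Agent.Lib.Helper60.PF12G.Out p M L T x := by
  classical
  obtain ⟨M₀, hM₀, hI₀, hnf₀⟩ := hbad
  obtain ⟨q₀, hq₀⟩ := exists_bad_of_not_frob bg hM₀ hI₀ hnf₀
  -- the least bad prime
  have hex : ∃ q : ℕ, ∃ M' : Subgroup G, IsBad q M' := ⟨q₀, M₀, hq₀⟩
  obtain ⟨M, hpM⟩ := Nat.find_spec hex
  have hmin : ∀ q : ℕ, q < Nat.find hex → ∀ M' : Subgroup G, ¬ IsBad q M' := by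
    intro q hq M' hqM'
    exact Nat.find_min hex hq ⟨M', hqM'⟩
  obtain ⟨P₀, A, x, y₀, c⟩ := cfg_of_bad hG bg hpM
  obtain ⟨L, hL, hLtype, hPL, hLM, hcompl⟩ := exists_L' hG bg hσ hLI c
  have hfrob := frob_L bg c hmin hL hLtype hPL
  have hML := inf_le_fittingHallOf c hPL hfrob hcompl
  obtain ⟨he1, he2, he3⟩ := index_bounds hG c hLtype hPL hfrob hML
  have hAH : A ≤ fittingHallOf L := c.A_le.trans hPL
  have hcompl' : IsComplIn (fittingHallOf M) (M ⊓ L) M := by rwa [inf_comm] at hcompl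
  obtain ⟨U, U₁, U₀, hD⟩ := exists_fdata c.hI.1
  -- parities
  have hoddM : Odd (Nat.card M) := hD.M_odd
  have hoddK : Odd (Nat.card (fittingHallOf M)) := by
    have h1 := hoddM
    rw [hD.card_eq] at h1
    exact (Nat.odd_mul.1 h1).1
  have hoddp : Odd (Nat.find hex) := by
    have h1 := c.p_dvd_of_A_le c.A_M
    obtain ⟨t, ht⟩ := h1
    rw [ht] at hoddM
    exact (Nat.odd_mul.1 hoddM).1
  have hy₀p : y₀ ^ (Nat.find hex) = 1 := c.A_exp y₀ c.y₀_mem
  have hxp : x ^ (Nat.find hex) = 1 := c.A_exp x c.x_mem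
  have hxy : x * y₀ = y₀ * x := c.P₀_comm x c.x_P₀ y₀ (c.A_le c.y₀_mem)
  obtain ⟨T, hT1, hT2, hT3, hT4, hT5⟩ := exists_T (fittingHallOf M) x y₀ (Nat.find hex) c.hp hoddp
    hoddK c.hpK hxp hy₀p c.y₀_ne hxy
    (fun k hk => conj_mem_fittingHallOf M c.x_M hk)
    (fun k hk => conj_mem_fittingHallOf M (c.A_M c.y₀_mem) hk) c.y₀_fpf c.x_der
  have hfixne : fittingHallOf M ⊓ Subgroup.centralizer ({x} : Set G) ≠ ⊥ := by
    obtain ⟨k, hk, hk1, hxk⟩ := c.exists_fix
    intro h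
    have : k ∈ fittingHallOf M ⊓ Subgroup.centralizer ({x} : Set G) :=
      ⟨hk, mem_centralizer_singleton hxk⟩
    rw [h] at this
    exact hk1 (Subgroup.mem_bot.1 this)
  have hcos := fun (i : ℕ) (hi : ¬ Nat.find hex ∣ i) (h : G) (hh : h ∈ fittingHallOf M) =>
    coset_facts M (fittingHallOf M) x (Nat.find hex) c.hp (fittingHallOf_le M)
      (fun m hm k hk => conj_mem_fittingHallOf M hm hk) hD.K_nil c.x_M c.x_ord c.hpK c.cent_le
      hfixne i hi h hh
  obtain ⟨UL, UL₁, UL₀, hDL⟩ := exists_fdata hLtype.1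
  refine ⟨Nat.find hex, M, L, T, x, ?_⟩
  refine
    { hp := c.hp, hM := c.hM, hMI := c.hI, hL := hL, hLI := hLtype, L_ne := hLM, hfrob := hfrob,
      x_M := c.x_M, x_ord := c.x_ord, x_H := hPL c.x_P₀, hpK := c.hpK, x_der := c.x_der,
      cent_le := c.cent_le, cent_uniq := c.cent_uniq, inf_le := hML, compl := hcompl',
      e_dvd := he1, e_le := he2, e_ge := he3, card_H := ?_, card_M_le := ?_, card_L := ?_,
      T_le := hT1, T_norm := hT2, T_comm := hT3, T_x := hT4, T_idx := hT5,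
      coset_cent := fun i hi h hh => (hcos i hi h hh).1, coset_litA := ?_ }
  · rw [← c.A_card]
    exact Subgroup.card_le_of_le hAH
  · rw [Cfsg.Agent.Lib.Helper23.card_of_isComplIn hcompl']
    exact Nat.mul_le_mul_left _ (Subgroup.card_le_of_le hML)
  · rw [← Cfsg.Agent.Lib.Helper23.card_mul_relIndex_of_le (fittingHallOf_le L), mul_comm]
  · intro i hi h hh
    obtain ⟨-, hne, k, hk, hk1, hcomm⟩ := hcos i hi h hh
    rw [litA_eq_of_typeF' c.hI.1]
    exact ⟨M.mul_mem (M.pow_mem c.x_M i) (fittingHallOf_le M hh), hne, k, hk, hk1, hcomm⟩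


/-- **Peterfalvi (12.7)**, with the contextual hypothesis `HLIc`. -/
theorem typeI_frobenius' (hG : IsMinSimpleOddOrder G)
    (bg : BookBGData G) (pf8 : BookPF8Data G)
    (hσ : ∀ M : Subgroup G, IsCoatom M → LitTypeI M → sigmaCore M = fittingHallOf M)
    (hLI : HLIc G) :
    ∀ L : Subgroup G, IsCoatom L → LitTypeI L → IsFrobWithFittingHall L := by
  classical
  haveI : Fintype G := Fintype.ofFinite G
  intro L₀ hL₀ hL₀I
  by_contra hnot
  obtain ⟨p, M, L, T, x, o⟩ := group_part' hG bg hσ hLI ⟨L₀, hL₀, hL₀I, hnot⟩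
  have hlitAM : litA M = {a | a ∈ M ∧ a ≠ 1 ∧ ∃ z ∈ fittingHallOf M, z ≠ 1 ∧ a * z = z * a} :=
    Cfsg.Agent.Lib.Helper64.PF12.litA_eq_of_typeF o.hMI.1
  refine char_part_gen hG bg pf8 M L o.hM o.hMI o.hL o.hLI o.hfrob x p o.hp o.x_ord o.x_M o.x_H
    o.hpK ?_ T o.T_le o.T_norm o.T_comm o.T_x ?_ ((fittingHallOf L).relIndex L) o.card_L o.e_ge
    o.e_dvd o.e_le o.card_H o.card_M_le
  · intro i hi h hh
    have h1 := o.coset_litA i hi h hh
    rw [hlitAM] at h1
    exact ⟨o.coset_cent i hi h hh, h1.2.1, h1.2.2⟩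
  · have := o.T_idx
    omega


/-- for `L` of Type II the centralizer of a non-identity element of `L_σ` lies in `L` -/
theorem centralizer_le_of_typeII (hG : IsMinSimpleOddOrder G) (pf8 : BookPF8Data G)
    {L : Subgroup G} (hL : IsCoatom L) (hII : IsOfTypeII L) {x : G} (hx : x ∈ sigmaCore L)
    (hx1 : x ≠ 1) : Subgroup.centralizer ({x} : Set G) ≤ L := by
  obtain ⟨K, U, hKU⟩ := Cfsg.Agent.Lib.Helper10.BGTame.exists_decomp
    (fun M hM => Cfsg.Agent.S1351.result hG M hM)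
    (fun M hM K hKc hK => Cfsg.Agent.S1352.result hG M hM K hKc hK) hL
  have hA1 : typeA1 L = (sigmaCore L : Set G) \ {1} :=
    Cfsg.Agent.Lib.Helper26.BGBook.typeA1_eq hG (Cfsg.Agent.Lib.Helper26.BGRows.dictInput hG) hL hKU
  obtain ⟨hTI, hN⟩ := (pf8.tiII L hL hII).2.2
  have hxA : x ∈ typeA1 L := by
    rw [hA1]
    exact ⟨hx, by simpa using hx1⟩
  intro g hg
  by_contra hgL
  have hgN : g ∉ Subgroup.normalizer (typeA1 L) := by rwa [hN]
  have hgx : g * x * g⁻¹ = x := by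
    have := Subgroup.mem_centralizer_iff.mp hg x (Set.mem_singleton x)
    rw [← this]; group
  exact hx1 (hTI g hgN x hxA (by rw [hgx]; exact hxA))

/-- **The contextual `hLI`** from Peterfalvi sections 10 and 11: no maximal subgroups of Types IV, V,
and the exclusion of Type III in the configuration of (12.9). -/
theorem hLIc_of (hG : IsMinSimpleOddOrder G) (bg : BookBGData G) (pf8 : BookPF8Data G)
    (hIII : ∀ {p : ℕ} {M P₀ A : Subgroup G} {x y₀ : G}, Cfg p M P₀ A x y₀ →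
      ∀ L : Subgroup G, IsCoatom L → p ∈ sigma L → P₀ ≤ sigmaCore L → L ≠ M → ¬ IsOfTypeIII L)
    (hIV : ∀ L : Subgroup G, IsCoatom L → ¬ IsOfTypeIV L)
    (hV : ∀ L : Subgroup G, IsCoatom L → ¬ IsOfTypeV L) : HLIc G := by
  intro p M P₀ A x y₀ c L hL hpσ hP₀ hLM
  rcases bg.types L hL with h | h | h | h | h
  · exact h
  · exfalso
    exact hLM (c.cent_uniq L hL (centralizer_le_of_typeII hG pf8 hL h (hP₀ c.x_P₀) c.x_ne))
  · exact absurd h (hIII c L hL hpσ hP₀ hLM)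
  · exact absurd h (hIV L hL)
  · exact absurd h (hV L hL)

/-- arithmetic: an odd prime `q` dividing `p ^ 2 - 1` (`p` an odd prime) is smaller than `p` -/
theorem lt_of_prime_dvd_sq_sub_one {p q : ℕ} (hp : p.Prime) (hq : q.Prime) (hp2 : Odd p)
    (hq2 : Odd q) (h : q ∣ p ^ 2 - 1) : q < p := by
  have hp1 : 1 ≤ p := hp.one_lt.le
  have hfac : p ^ 2 - 1 = (p - 1) * (p + 1) := by
    obtain ⟨k, rfl⟩ : ∃ k, p = k + 1 := ⟨p - 1, by omega⟩
    simp only [Nat.add_sub_cancel]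
    ring_nf
    omega
  rw [hfac] at h
  rcases (Nat.Prime.dvd_mul hq).1 h with h1 | h1
  · have := Nat.le_of_dvd (by have := hp.two_le; omega) h1
    omega
  · -- q ∣ p + 1, p + 1 even, q odd so 2 q ∣ p + 1
    obtain ⟨t, ht⟩ := h1
    obtain ⟨a, ha⟩ := hp2
    obtain ⟨b, hb⟩ := hq2
    have ht2 : 2 ≤ t := by
      rcases Nat.lt_or_ge t 2 with h2 | h2
      · interval_cases t
        · omega
        · -- p + 1 = q, parity
          omega
      · exact h2
    have : 2 * q ≤ p + 1 := by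
      calc 2 * q = q * 2 := by ring
        _ ≤ q * t := Nat.mul_le_mul_left _ ht2
        _ = p + 1 := ht.symm
    have := hq.two_le
    omega

/-- Type III exclusion in the configuration of (12.9), after conjugating `P₀` into `U`. -/
theorem typeIII_false_aux (hG : IsMinSimpleOddOrder G) {p : ℕ} {M P₀ A : Subgroup G} {x y₀ : G}
    (c : Cfg p M P₀ A x y₀) {L W₁ U W₂ : Subgroup G}
    (hP : IsTypePWith L W₁ U W₂) (hq : (Nat.card W₁).Prime) (hUab : IsMulCommutative U)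
    (hlt : Nat.card W₂ < Nat.card W₁)
    (hdich : IsCyclic U ∨ ∀ u ∈ U, u ^ (Nat.card W₂ - 1) = 1) (hP₀U : P₀ ≤ U) : False := by
  classical
  have hcommU : ∀ u ∈ U, ∀ v ∈ U, u * v = v * u := by
    intro u hu v hv
    have := hUab.is_comm.comm ⟨u, hu⟩ ⟨v, hv⟩
    exact congrArg Subtype.val this
  have hxU : x ∈ U := hP₀U c.x_P₀
  have hUM : U ≤ M := fun u hu => c.cent_le (mem_centralizer_singleton (hcommU x hxU u hu))
  -- every element of `U` of order dividing `p` lies in `A`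
  have hΩ : ∀ u ∈ U, u ^ p = 1 → u ∈ A := by
    intro u hu hup
    apply c.A_omega u _ hup
    have hZp : IsPGroup p (Subgroup.zpowers u) := by
      have h2 : orderOf u ∣ p := orderOf_dvd_of_pow_eq_one hup
      rcases (Nat.dvd_prime c.hp).1 h2 with h3 | h3
      · exact IsPGroup.of_card (n := 0) (by rw [Nat.card_zpowers, h3, pow_zero])
      · exact IsPGroup.of_card (n := 1) (by rw [Nat.card_zpowers, h3, pow_one])
    have hnorm : Subgroup.zpowers u ≤ Subgroup.normalizer (P₀ : Set G) := by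
      rw [Subgroup.zpowers_le]
      rw [Subgroup.mem_normalizer_iff]
      intro h
      have key : ∀ h ∈ P₀, u * h * u⁻¹ = h := by
        intro h hh
        rw [hcommU u hu h (hP₀U hh)]; group
      constructor
      · intro hh
        rw [key h hh]; exact hh
      · intro hh
        have h1 : u⁻¹ * (u * h * u⁻¹) * u = h := by group
        have h2 : u⁻¹ * (u * h * u⁻¹) * u = u * h * u⁻¹ := by
          have e := hcommU u hu (u * h * u⁻¹) (hP₀U hh)
          calc u⁻¹ * (u * h * u⁻¹) * u = u⁻¹ * ((u * h * u⁻¹) * u) := by group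
            _ = u⁻¹ * (u * (u * h * u⁻¹)) := by rw [e]
            _ = u * h * u⁻¹ := by group
        rw [← h1, h2]; exact hh
    have hQ : IsPGroup p (Subgroup.zpowers u ⊔ P₀ : Subgroup G) :=
      IsPGroup.to_sup_of_normal_right' hZp c.P₀_p hnorm
    have h5 := c.P₀_max (Subgroup.zpowers u ⊔ P₀)
      (sup_le ((Subgroup.zpowers_le).2 (hUM hu)) c.P₀_le) hQ le_sup_right
    rw [← h5]
    exact Subgroup.mem_sup_left (Subgroup.mem_zpowers u)
  -- `A` is `W₁`-invariant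
  have hAW : ∀ w ∈ W₁, ∀ a ∈ A, w * a * w⁻¹ ∈ A := by
    intro w hw a ha
    have haU : a ∈ U := hP₀U (c.A_le ha)
    apply hΩ
    · have := hP.U_normal hw
      rw [Subgroup.mem_set_normalizer_iff] at this
      exact (this a).1 haU
    · rw [conj_pow, c.A_exp a ha]; group
  -- `W₁` acts without fixed points on `A`
  have hfpf : ∀ w ∈ W₁, w ≠ 1 → ∀ a ∈ A, w * a = a * w → a = 1 := by
    intro w hw hw1 a ha hwa
    have haU : a ∈ U := hP₀U (c.A_le ha)
    have h1 : a ∈ ⁅L, L⁆ ⊓ Subgroup.centralizer ({w} : Set G) :=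
      ⟨hP.U_compl.2.1 haU, mem_centralizer_singleton hwa⟩
    rw [hP.W₂_centralizer w hw hw1] at h1
    have h2 : a ∈ fittingHallOf L ⊓ U := ⟨(hP.W₂_le h1).1, haU⟩
    rw [hP.U_compl.2.2.1] at h2
    exact Subgroup.mem_bot.1 h2
  have hdvd : Nat.card W₁ ∣ p ^ 2 - 1 := by
    have := card_dvd_card_sub_one_of_fpf W₁ A hAW hfpf
    rwa [c.A_card] at this
  have hoddG : Odd (Nat.card G) := hG.1
  have hp2 : Odd p := by
    have h1 : p ∣ Nat.card G := by
      have h := c.p_dvd_of_A_le (le_top : A ≤ ⊤)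
      rwa [Subgroup.card_top] at h
    exact Odd.of_dvd_nat hoddG h1
  have hq2 : Odd (Nat.card W₁) := Odd.of_dvd_nat hoddG (Subgroup.card_subgroup_dvd_card W₁)
  have hqp : Nat.card W₁ < p := lt_of_prime_dvd_sq_sub_one c.hp hq hp2 hq2 hdvd
  rcases hdich with hcyc | hexp
  · haveI := hcyc
    have hAU : A ≤ U := c.A_le.trans hP₀U
    haveI : IsCyclic A :=
      isCyclic_of_injective (Subgroup.inclusion hAU) (Subgroup.inclusion_injective hAU)
    obtain ⟨g, hg⟩ := IsCyclic.exists_ofOrder_eq_natCard (α := A)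
    have h1 : (g : G) ^ p = 1 := c.A_exp g g.2
    have h2 : orderOf (g : G) ∣ p := orderOf_dvd_of_pow_eq_one h1
    rw [Subgroup.orderOf_coe, hg, c.A_card] at h2
    have h3 := Nat.le_of_dvd c.hp.pos h2
    have := c.hp.one_lt
    nlinarith
  · have h1 := hexp x hxU
    have hpd : p ∣ Nat.card W₂ - 1 := by
      rw [← c.x_ord]; exact orderOf_dvd_of_pow_eq_one h1
    have hW2 : 2 ≤ Nat.card W₂ := by
      have hne : W₂ ≠ ⊥ := hP.selfNormalizing.2.1
      have : 1 < Nat.card W₂ := (Subgroup.one_lt_card_iff_ne_bot W₂).2 hne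
      omega
    have := Nat.le_of_dvd (by omega) hpd
    omega

omit [Finite G] in
theorem map_conj_of_mem74 {H : Subgroup G} {c : G} (hc : c ∈ H) :
    H.map (MulAut.conj c).toMonoidHom = H := by
  ext y
  constructor
  · rintro ⟨z, hz, rfl⟩
    exact H.mul_mem (H.mul_mem hc hz) (H.inv_mem hc)
  · intro hy
    exact ⟨c⁻¹ * y * c, H.mul_mem (H.mul_mem (H.inv_mem hc) hy) hc, by simp [mul_assoc]⟩

/-- **Type III exclusion in the configuration of Peterfalvi (12.9)** (helper4's argument, board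
#3668), with the two inputs from Peterfalvi section 11 as hypotheses `hlt`, `hdich`. -/
theorem typeIII_false_of_cfg (hG : IsMinSimpleOddOrder G) {p : ℕ} {M P₀ A : Subgroup G} {x y₀ : G}
    (c : Cfg p M P₀ A x y₀) {L W₁ U W₂ : Subgroup G} (hL : IsCoatom L) (hLM : L ≠ M)
    (hP₀ : P₀ ≤ ⁅L, L⁆) (hP : IsTypePWith L W₁ U W₂) (hq : (Nat.card W₁).Prime)
    (hTI : IsTISubset (fittingOf L : Set G)) (hUab : IsMulCommutative U)
    (hlt : Nat.card W₂ < Nat.card W₁)
    (hdich : IsCyclic U ∨ ∀ u ∈ U, u ^ (Nat.card W₂ - 1) = 1) : False := by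
  classical
  haveI : IsSimpleGroup G := hG.2.1
  haveI : Fact p.Prime := ⟨c.hp⟩
  have hLL : ⁅L, L⁆ ≤ L := Subgroup.commutator_le_self L
  have hP₀L : P₀ ≤ L := hP₀.trans hLL
  -- (S1) `p` does not divide `|L_F|`
  have hpH : ¬ p ∣ Nat.card (fittingHallOf L) := by
    intro hdvd
    have hcop := Cfsg.Agent.Lib.Helper26.BGTypes.coprime_card_fittingHallOf_relIndex L
    have hidx : ¬ p ∣ (fittingHallOf L).relIndex L := by
      intro h2
      have := Nat.eq_one_of_dvd_coprimes hcop hdvd h2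
      exact c.hp.one_lt.ne' this
    have hP₀H : P₀ ≤ fittingHallOf L :=
      le_of_isPGroup_of_not_dvd_relIndex p c.hp L (fittingHallOf L) P₀
        (Cfsg.Agent.Lib.Helper26.PFEight.fittingHallOf_le L)
        (fun l hl n hn => Cfsg.Agent.Lib.Helper26.PFEight.conj_mem_fittingHallOf L hl hn)
        hidx hP₀L c.P₀_p
    have hxF : x ∈ fittingOf L := by
      rw [← hP.fitting_eq]
      exact Subgroup.mem_sup_left (hP₀H c.x_P₀)
    have := Cfsg.Agent.Lib.Helper26.PFEight.centralizer_le_of_TI hL hTI hxF c.x_ne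
    exact hLM (c.cent_uniq L hL this)
  -- (S2) `P₀` lies in a conjugate of `U`
  have hcard : Nat.card ↥⁅L, L⁆ = Nat.card (fittingHallOf L) * Nat.card U :=
    Cfsg.Agent.Lib.Helper23.card_of_isComplIn hP.U_compl
  have hpU : p ∣ Nat.card U := by
    have h1 : p ∣ Nat.card ↥⁅L, L⁆ := c.p_dvd_of_A_le (c.A_le.trans hP₀)
    rw [hcard] at h1
    exact ((Nat.Prime.dvd_mul c.hp).1 h1).resolve_left hpH
  let π : Set ℕ := {r | r ∣ Nat.card ↥U}
  have hUhall : IsPiHallOf π U ⁅L, L⁆ := by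
    refine ⟨hP.U_compl.2.1, fun r _ hr => hr, fun r hr hrπ hdvd => ?_⟩
    rw [Cfsg.Agent.Lib.Helper26.PFEight.relIndex_of_isComplIn hP.U_compl] at hdvd
    have hcop := (Cfsg.Agent.Lib.Helper23.typeP_coprime hP).1
    exact hr.one_lt.ne' (Nat.eq_one_of_dvd_coprimes hcop hdvd hrπ)
  have hsolv : Group.IsSolvable ↥⁅L, L⁆ := by
    apply hG.2.2.2
    intro htop
    exact hL.1 (top_le_iff.1 (htop ▸ hLL))
  have h45 := Cfsg.Agent.S3745.result (⊥ : Subgroup G) ⁅L, L⁆ bot_le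
    (by rw [Subgroup.card_bot]; exact Nat.coprime_one_left _) hsolv π
  obtain ⟨H', hH', -, hP₀H'⟩ := h45.2.2 P₀ hP₀ bot_le (by
    intro r hr hrd
    obtain ⟨k, hk⟩ := IsPGroup.iff_card.1 c.P₀_p
    rw [hk] at hrd
    have : r = p := (Nat.prime_dvd_prime_iff_eq hr c.hp).1 (hr.dvd_of_dvd_pow hrd)
    rw [this]
    exact hpU)
  obtain ⟨d, hd, hdU⟩ := h45.2.1 U H' hUhall bot_le hH' bot_le
  have hdL : d ∈ L := hLL hd.1
  -- (S3) transport the type-P data
  set φ : G ≃* G := MulAut.conj d with hφ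
  have hP' := Cfsg.Agent.Lib.Helper54.TypePTransport.IsTypePWith.map φ hP
  rw [map_conj_of_mem74 hdL] at hP'
  have hcardmap : ∀ K : Subgroup G, Nat.card (K.map φ.toMonoidHom) = Nat.card K := fun K =>
    (Nat.card_congr (K.equivMapOfInjective φ.toMonoidHom φ.injective).toEquiv).symm
  have hq' : (Nat.card (W₁.map φ.toMonoidHom)).Prime := by rw [hcardmap]; exact hq
  have hlt' : Nat.card (W₂.map φ.toMonoidHom) < Nat.card (W₁.map φ.toMonoidHom) := by
    rw [hcardmap, hcardmap]; exact hlt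
  have hUab' : IsMulCommutative (U.map φ.toMonoidHom) := by
    constructor
    constructor
    rintro ⟨a, u, hu, rfl⟩ ⟨b, v, hv, rfl⟩
    apply Subtype.ext
    have := hUab.is_comm.comm ⟨u, hu⟩ ⟨v, hv⟩
    have h2 : u * v = v * u := congrArg Subtype.val this
    show φ.toMonoidHom u * φ.toMonoidHom v = φ.toMonoidHom v * φ.toMonoidHom u
    rw [← map_mul, ← map_mul, h2]
  have hdich' : IsCyclic (U.map φ.toMonoidHom) ∨
      ∀ u ∈ U.map φ.toMonoidHom, u ^ (Nat.card (W₂.map φ.toMonoidHom) - 1) = 1 := by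
    rcases hdich with h | h
    · exact Or.inl (Cfsg.Agent.Lib.Helper54.TypePTransport.isCyclic_map φ h)
    · right
      rintro u ⟨u₀, hu₀, rfl⟩
      rw [hcardmap, ← map_pow, h u₀ hu₀, map_one]
  exact typeIII_false_aux hG c hP' hq' hUab' hlt' hdich' (by rw [← hdU]; exact hP₀H')

/-- The input from Peterfalvi section 11 for a maximal subgroup of Type III, in the form used by
`typeIII_false_of_cfg`: `|W₂| < |W₁|`, and `U` is cyclic (Galois case) or has exponent dividing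
`|W₂| - 1` (non-Galois case). -/
def TypeIIIInput (G : Type u) [Group G] : Prop :=
  ∀ L W₁ U W₂ : Subgroup G, IsCoatom L → IsTypePWith L W₁ U W₂ → U ≠ ⊥ → (Nat.card W₁).Prime →
    IsTISubset (fittingOf L : Set G) → IsMulCommutative U → Subgroup.normalizer (U : Set G) ≤ L →
    Nat.card W₂ < Nat.card W₁ ∧ (IsCyclic U ∨ ∀ u ∈ U, u ^ (Nat.card W₂ - 1) = 1)

/-- **The contextual `hLI`** from the results of Peterfalvi sections 10 and 11. -/
theorem hLIc_of_sections (hG : IsMinSimpleOddOrder G) (bg : BookBGData G) (pf8 : BookPF8Data G)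
    (hIII : TypeIIIInput G)
    (hIV : ∀ L : Subgroup G, IsCoatom L → ¬ IsOfTypeIV L)
    (hV : ∀ L : Subgroup G, IsCoatom L → ¬ IsOfTypeV L) : HLIc G := by
  refine hLIc_of hG bg pf8 ?_ hIV hV
  intro p M P₀ A x y₀ c L hL _ hP₀ hLM h3
  obtain ⟨W₁, U, W₂, hP, hU, hq, hTI, hUab, hN⟩ := h3
  obtain ⟨hlt, hdich⟩ := hIII L W₁ U W₂ hL hP hU hq hTI hUab hN
  have hσL : sigmaCore L ≤ ⁅L, L⁆ := (Cfsg.Agent.S1355.result hG L hL).2.2.1
  exact typeIII_false_of_cfg hG c hL hLM (hP₀.trans hσL) hP hq hTI hUab hlt hdich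

/-- **S1540 (Peterfalvi (12.7))** from the results of Peterfalvi sections 10 and 11. -/
theorem stmt1540_of (hG : IsMinSimpleOddOrder G)
    (hIII : TypeIIIInput G)
    (hIV : ∀ L : Subgroup G, IsCoatom L → ¬ IsOfTypeIV L)
    (hV : ∀ L : Subgroup G, IsCoatom L → ¬ IsOfTypeV L)
    (M : Subgroup G) (hM : IsCoatom M) (hI : IsOfTypeI M) :
    ∀ x ∈ fittingHallOf M, x ≠ 1 →
      M ⊓ Subgroup.centralizer ({x} : Set G) ≤ fittingHallOf M := by
  have bg := Cfsg.Agent.Lib.Helper24.BGBook.bookBGData hG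
  have pf8 := Cfsg.Agent.Lib.Helper26.PFBook.bookPF8Data_of hG bg
  exact typeI_frobenius' hG bg pf8 (Cfsg.Agent.Lib.Helper26.BGRows.sigmaCore_eq hG)
    (hLIc_of_sections hG bg pf8 hIII hIV hV) M hM
    (Cfsg.Agent.Lib.Helper59.PFBridge.litTypeI_of_isOfTypeI M hI)

/-- the universal form of `hLI` implies the contextual one -/
theorem hLIc_of_universal
    (hLI : ∀ (L : Subgroup G) (x : G), IsCoatom L → x ∈ sigmaCore L → x ≠ 1 →
      ¬ Subgroup.centralizer ({x} : Set G) ≤ L → LitTypeI L) : HLIc G := by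
  intro p M P₀ A x y₀ c L hL _ hP₀ hLM
  exact hLI L x hL (hP₀ c.x_P₀) c.x_ne (fun h => hLM (c.cent_uniq L hL h))

end Cfsg.Agent.Lib.Helper74.PF127
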