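import Mathlib
import Cfsg.Agent.Lib.Helper74.PF127HLI
import Cfsg.Agent.Lib.Helper64.PFElevenStruct
import Cfsg.Agent.Lib.Helper95.TypeConj
import Cfsg.Agent.Lib.Helper54.PairExists
import Cfsg.Agent.Lib.Helper51.PFCycMuInd

/-!
# From the `PairHyp` form of the results of Peterfalvi section 11 to arbitrary maximal subgroups
(helper74)

Section 11 is formalized (helper64) for the member `M` of a pair `PairHyp M T W₁ W₂ U V`.  Every
maximal subgroup not of Type I is a conjugate of `S` or `T` of such a pair (B&G Theorem I), and two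
type-P data of the same subgroup have conjugate complements `U`; this gives the inputs `hIV` and
`TypeIIIInput` of `stmt1540_of`.
-/

set_option autoImplicit false
set_option linter.unusedSectionVars false
set_option linter.unusedVariables false
set_option linter.style.haveILetI false

namespace Cfsg.Agent.Lib.Helper74.PF127

open Cfsg Cfsg.Agent.Lib.Helper4.PF Cfsg.Agent.Lib.Helper64.PF11
open Cfsg.Agent.Lib.Helper26.PFBook (conjSub_inv_conjSub)

universe u

variable {G : Type u} [Group G] [Finite G]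

/-- a maximal subgroup which is not of Type I is a conjugate of the first member of a pair -/
theorem exists_pair_of_not_typeI (bg : BookBGData G) {L : Subgroup G} (hL : IsCoatom L)
    (hnI : ¬ LitTypeI L) :
    ∃ (S T W₁ W₂ U V : Subgroup G) (g : G), PairHyp S T W₁ W₂ U V ∧ L = conjSub g S := by
  rcases bg.pair with hall | ⟨W₁, W₂, S, T, hW, hS, hT, hSc, hTc, hST, hII, hS25, hT25, hconj⟩
  · exact absurd (hall L hL) hnI
  · obtain ⟨U, V, ph⟩ := Cfsg.Agent.Lib.Helper54.PairExists.exists_pairHyp hW hS hT hSc hTc hST hII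
      hS25 hT25
    rcases hconj L hL with h | ⟨g, h | h⟩
    · exact absurd h hnI
    · exact ⟨S, T, W₁, W₂, U, V, g, ph, h⟩
    · exact ⟨T, S, W₂, W₁, V, U, g, ph.symm, h⟩

theorem not_litTypeI_of_typeP {L W₁ U W₂ : Subgroup G} (hP : IsTypePWith L W₁ U W₂) :
    ¬ LitTypeI L := fun h => Cfsg.Agent.Lib.Helper26.PFEight.not_typeF_of_typeP h.1 hP

/-- no maximal subgroup of Type IV, from the `PairHyp` form -/
theorem hIV_of_pair (bg : BookBGData G)
    (h : ∀ {M T W₁ W₂ U V : Subgroup G}, PairHyp M T W₁ W₂ U V → ¬ IsOfTypeIV M) :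
    ∀ L : Subgroup G, IsCoatom L → ¬ IsOfTypeIV L := by
  intro L hL hIV
  obtain ⟨W₁, U, W₂, hP, -⟩ := id hIV
  obtain ⟨S, T, A, B, C, D, g, ph, hLS⟩ := exists_pair_of_not_typeI bg hL (not_litTypeI_of_typeP hP)
  have h1 := Cfsg.Agent.Lib.Helper95.TypeConj.isOfTypeIV_map (MulAut.conj g⁻¹) hIV
  have h2 : L.map (MulAut.conj g⁻¹).toMonoidHom = S := by
    rw [hLS]; exact conjSub_inv_conjSub g S
  rw [h2] at h1
  exact h ph h1

omit [Finite G] in
theorem card_map_equiv74 (φ : G ≃* G) (K : Subgroup G) :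
    Nat.card (K.map φ.toMonoidHom) = Nat.card K :=
  (Nat.card_congr (K.equivMapOfInjective φ.toMonoidHom φ.injective).toEquiv).symm

/-- `TypeIIIInput` from the `PairHyp` form of the results of section 11. -/
theorem typeIIIInput_of_pair (hG : IsMinSimpleOddOrder G) (bg : BookBGData G)
    (hlt : ∀ {M T W₁ W₂ U V : Subgroup G}, PairHyp M T W₁ W₂ U V → IsOfTypeIII M →
      Nat.card W₂ < Nat.card W₁)
    (hstr : ∀ {M T W₁ W₂ U V : Subgroup G}, PairHyp M T W₁ W₂ U V → IsOfTypeIII M →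
      Struct34 M W₁ U W₂)
    (hdich : ∀ {M W₁ U W₂ : Subgroup G}, Struct34 M W₁ U W₂ → IsMulCommutative U →
      IsCyclic U ∨ ∀ u ∈ U, u ^ (Nat.card W₂ - 1) = 1) : TypeIIIInput G := by
  intro L W₁ U W₂ hL hP hU hq hTI hUab hN
  have hIII : IsOfTypeIII L := ⟨W₁, U, W₂, hP, hU, hq, hTI, hUab, hN⟩
  obtain ⟨S, T, A, B, C, D, g, ph, hLS⟩ := exists_pair_of_not_typeI bg hL (not_litTypeI_of_typeP hP)
  set φ : G ≃* G := MulAut.conj g⁻¹ with hφ
  have hmap : L.map φ.toMonoidHom = S := by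
    rw [hLS]; exact conjSub_inv_conjSub g S
  have hIIIS : IsOfTypeIII S := by
    have h1 := Cfsg.Agent.Lib.Helper95.TypeConj.isOfTypeIII_map φ hIII
    rwa [hmap] at h1
  have hP' := Cfsg.Agent.Lib.Helper54.TypePTransport.IsTypePWith.map φ hP
  rw [hmap] at hP'
  have hltS := hlt ph hIIIS
  have S34 := hstr ph hIIIS
  -- `|W₁|`
  have hW₁ : Nat.card W₁ = Nat.card A := by
    have h1 := Cfsg.Agent.Lib.Helper51.PFCyc.KM_index hP'
    have h2 := Cfsg.Agent.Lib.Helper51.PFCyc.KM_index ph.hSP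
    rw [← card_map_equiv74 φ W₁, ← h1, h2]
  -- `|W₂|`
  have hsolvL : Group.IsSolvable ↥⁅L, L⁆ := by
    apply hG.2.2.2
    intro htop
    exact hL.1 (top_le_iff.1 (htop ▸ Subgroup.commutator_le_self L))
  have hsolvS : Group.IsSolvable ↥⁅S, S⁆ := by
    apply hG.2.2.2
    intro htop
    exact ph.hS.1 (top_le_iff.1 (htop ▸ Subgroup.commutator_le_self S))
  have hnII : ¬ IsOfTypeII L := fun hII =>
    Cfsg.Agent.Lib.Helper26.PFEight.not_typeIII_or_IV_of_typeII hsolvL hII (Or.inl hIII)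
  have hW₂p : (Nat.card W₂).Prime := bg.w2prime L W₁ U W₂ hL hP hnII
  have hW₂ : Nat.card W₂ = Nat.card B := by
    have h1 : Nat.card (W₂.map φ.toMonoidHom) ∣ Nat.card (fittingHallOf S) :=
      Subgroup.card_dvd_of_le (hP'.W₂_le.trans inf_le_left)
    rw [card_map_equiv74, S34.hHcard] at h1
    exact (Nat.prime_dvd_prime_iff_eq hW₂p S34.hp).1 (hW₂p.dvd_of_dvd_pow h1)
  -- the complements are conjugate
  obtain ⟨c, -, hc⟩ := Cfsg.Agent.Lib.Helper26.PFEight.exists_conj_of_typeP hsolvS ph.hSP hP'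
  -- hc : U.map φ = C.map (conj c)
  set ψ : G ≃* G := MulAut.conj c with hψ
  have hUC : ∀ u ∈ U, ∃ v ∈ C, φ u = ψ v := by
    intro u hu
    have : φ.toMonoidHom u ∈ U.map φ.toMonoidHom := Subgroup.mem_map_of_mem _ hu
    rw [hc] at this
    obtain ⟨v, hv, hv'⟩ := this
    exact ⟨v, hv, hv'.symm⟩
  have hCU : ∀ v ∈ C, ∃ u ∈ U, φ u = ψ v := by
    intro v hv
    have : ψ.toMonoidHom v ∈ C.map ψ.toMonoidHom := Subgroup.mem_map_of_mem _ hv
    rw [← hc] at this
    obtain ⟨u, hu, hu'⟩ := this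
    exact ⟨u, hu, hu'⟩
  have hCab : IsMulCommutative C := by
    constructor
    constructor
    rintro ⟨a, ha⟩ ⟨b, hb⟩
    apply Subtype.ext
    obtain ⟨a', ha', hea⟩ := hCU a ha
    obtain ⟨b', hb', heb⟩ := hCU b hb
    have h2 : a' * b' = b' * a' := congrArg Subtype.val (hUab.is_comm.comm ⟨a', ha'⟩ ⟨b', hb'⟩)
    apply ψ.injective
    show ψ (a * b) = ψ (b * a)
    rw [map_mul, map_mul, ← hea, ← heb, ← map_mul, ← map_mul, h2]
  refine ⟨by rw [hW₂, hW₁]; exact hltS, ?_⟩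
  rcases hdich S34 hCab with hcyc | hexp
  · left
    -- `U ≃* U.map φ = C.map ψ ≃* C`
    have e1 : ↥U ≃* ↥(U.map φ.toMonoidHom) := U.equivMapOfInjective φ.toMonoidHom φ.injective
    have e2 : ↥C ≃* ↥(C.map ψ.toMonoidHom) := C.equivMapOfInjective ψ.toMonoidHom ψ.injective
    have e3 : ↥(U.map φ.toMonoidHom) ≃* ↥(C.map ψ.toMonoidHom) := MulEquiv.subgroupCongr hc
    let e : ↥C ≃* ↥U := (e2.trans e3.symm).trans e1.symm
    haveI := hcyc
    exact isCyclic_of_surjective e.toMonoidHom e.surjective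
  · right
    intro u hu
    obtain ⟨v, hv, hev⟩ := hUC u hu
    apply φ.injective
    rw [map_pow, map_one, hev, ← map_pow, hW₂, hexp v hv, map_one]

end Cfsg.Agent.Lib.Helper74.PF127
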