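import Mathlib
import Cfsg.Agent.Lib.Helper74.PFElevenDich
import Cfsg.Agent.Lib.Helper59.PFElevenCtx34
import Cfsg.Agent.Lib.Helper74.PF127Transport

/-!
# Peterfalvi section 11, module [DICH], final form (helper74), and the `PairHyp` form of the
inputs of `stmt1540_of`

* `typeIII_dich`: `typeIII_dich_of` with the conclusions of helper59's `ctx34_of` plugged in.
* `typeIIIInput_of_pair'`: `TypeIIIInput G` from the `PairHyp` forms of `|W₂| < |W₁|` and of
  the structure record `Struct34` of a maximal subgroup of Type III.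
* `stmt1540_of_pair`: S1540 from the three `PairHyp`-form results of section 11 and "no Type V".
-/

set_option autoImplicit false
set_option linter.unusedSectionVars false
set_option linter.unusedVariables false

namespace Cfsg.Agent.Lib.Helper74.PF11

open Cfsg Cfsg.Agent.Lib.Helper4.PF Cfsg.Agent.Lib.Helper58.PF9 Cfsg.Agent.Lib.Helper64.PF11

universe u

variable {G : Type u} [Group G] [Finite G] {M W₁ U W₂ : Subgroup G}

/-- MODULE [DICH]: for a maximal subgroup of Type III with the structure of (11.5)-(11.7) and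
abelian complement `U`, `U` is cyclic or has exponent dividing `|W₂| - 1` -/
theorem typeIII_dich (S : Struct34 M W₁ U W₂) (hab : IsMulCommutative U) :
    IsCyclic U ∨ ∀ u ∈ U, u ^ (Nat.card W₂ - 1) = 1 := by
  letI : Fintype G := Fintype.ofFinite G
  letI : Fintype M := Fintype.ofFinite M
  obtain ⟨c, hC, -, hchief⟩ := Cfsg.Agent.Lib.Helper59.PF11.ctx34_of S
  exact typeIII_dich_of S hab c hC hchief

end Cfsg.Agent.Lib.Helper74.PF11

namespace Cfsg.Agent.Lib.Helper74.PF127

open Cfsg Cfsg.Agent.Lib.Helper4.PF Cfsg.Agent.Lib.Helper64.PF11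

universe u

variable {G : Type u} [Group G] [Finite G]

/-- `TypeIIIInput G` from the `PairHyp` form of `|W₂| < |W₁|` and of `Struct34`. -/
theorem typeIIIInput_of_pair' (hG : IsMinSimpleOddOrder G) (bg : BookBGData G)
    (hlt : ∀ {M T W₁ W₂ U V : Subgroup G}, PairHyp M T W₁ W₂ U V → IsOfTypeIII M →
      Nat.card W₂ < Nat.card W₁)
    (hstr : ∀ {M T W₁ W₂ U V : Subgroup G}, PairHyp M T W₁ W₂ U V → IsOfTypeIII M →
      Struct34 M W₁ U W₂) : TypeIIIInput G :=
  typeIIIInput_of_pair hG bg hlt hstr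
    (fun S hab => Cfsg.Agent.Lib.Helper74.PF11.typeIII_dich S hab)

/-- S1540 from the `PairHyp`-form results of section 11 and "no Type V". -/
theorem stmt1540_of_pair (hG : IsMinSimpleOddOrder G) (bg : BookBGData G)
    (hnoIV : ∀ {M T W₁ W₂ U V : Subgroup G}, PairHyp M T W₁ W₂ U V → ¬ IsOfTypeIV M)
    (hlt : ∀ {M T W₁ W₂ U V : Subgroup G}, PairHyp M T W₁ W₂ U V → IsOfTypeIII M →
      Nat.card W₂ < Nat.card W₁)
    (hstr : ∀ {M T W₁ W₂ U V : Subgroup G}, PairHyp M T W₁ W₂ U V → IsOfTypeIII M →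
      Struct34 M W₁ U W₂)
    (hV : ∀ L : Subgroup G, IsCoatom L → ¬ IsOfTypeV L)
    (M : Subgroup G) (hM : IsCoatom M) (hI : IsOfTypeI M) :
    ∀ x ∈ fittingHallOf M, x ≠ 1 →
      M ⊓ Subgroup.centralizer ({x} : Set G) ≤ fittingHallOf M :=
  stmt1540_of hG (typeIIIInput_of_pair' hG bg hlt hstr) (hIV_of_pair bg hnoIV) hV M hM hI

/-- (12.7) in book form (every maximal subgroup of book Type I is a Frobenius group with kernel
`M_F`) from the `PairHyp`-form results of section 11 and "no Type V": the input `h127` of helper64's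
module E6 and of the assemblies of S1543/S1544/S1547. -/
theorem h127_of_pair (hG : IsMinSimpleOddOrder G) (bg : BookBGData G)
    (hnoIV : ∀ {M T W₁ W₂ U V : Subgroup G}, PairHyp M T W₁ W₂ U V → ¬ IsOfTypeIV M)
    (hlt : ∀ {M T W₁ W₂ U V : Subgroup G}, PairHyp M T W₁ W₂ U V → IsOfTypeIII M →
      Nat.card W₂ < Nat.card W₁)
    (hstr : ∀ {M T W₁ W₂ U V : Subgroup G}, PairHyp M T W₁ W₂ U V → IsOfTypeIII M →
      Struct34 M W₁ U W₂)
    (hV : ∀ L : Subgroup G, IsCoatom L → ¬ IsOfTypeV L) :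
    ∀ L : Subgroup G, IsCoatom L → LitTypeI L → IsFrobWithFittingHall L := by
  have bg' := Cfsg.Agent.Lib.Helper24.BGBook.bookBGData hG
  have pf8 := Cfsg.Agent.Lib.Helper26.PFBook.bookPF8Data_of hG bg'
  exact typeI_frobenius' hG bg' pf8 (Cfsg.Agent.Lib.Helper26.BGRows.sigmaCore_eq hG)
    (hLIc_of_sections hG bg' pf8 (typeIIIInput_of_pair' hG bg hlt hstr) (hIV_of_pair bg hnoIV) hV)

end Cfsg.Agent.Lib.Helper74.PF127
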