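import Mathlib
import Cfsg.Agent.Lib.Helper74.PFElevenFinalB74
import Cfsg.Agent.Lib.Helper74.PFElevenChainAZ74

/-!
# PROJECT PF, Peterfalvi section 11: the results in `PairHyp` form, part A (helper64)

* `false_of_typeIV_gt` : `M` of Type IV with `p = |W₂| < q = |W₁|` is impossible (chain A + helper24's
  `b0`).
* `no_typeIV`          : no maximal subgroup `M` in a pair `(M, T)` is of Type IV.
-/

set_option autoImplicit false

namespace Cfsg.Agent.Lib.Helper74.PF11F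

open Cfsg Cfsg.Agent.Lib.Helper64.PF11 Cfsg.Agent.Lib.Helper4.PF
open Cfsg.Agent.Lib.Helper24.PFCyc hiding calS tauM

universe u

variable {G : Type u} [Group G] [Fintype G] {M T W₁ W₂ U V : Subgroup G}

/-- `M` of Type IV with `|W₂| < |W₁|` is impossible. -/
theorem false_of_typeIV_gt (hG : IsMinSimpleOddOrder G) (bg : BookBGData G) (pf8 : BookPF8Data G)
    (ph : PairHyp M T W₁ W₂ U V) (hIV : IsOfTypeIV M)
    (hlt : Nat.card W₂ < Nat.card W₁) : False := by
  classical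
  have : Fintype M := Fintype.ofFinite _
  have hM : IsOfTypeIII M ∨ IsOfTypeIV M ∨ IsOfTypeV M := Or.inr (Or.inl hIV)
  obtain ⟨mu, dl, η, ζ, d, δ, n, F, h, hf, S, R, hS, hnc⟩ :=
    pair_setup hG bg pf8 ph (Or.inr hIV)
  have hsolv : Group.IsSolvable ↥⁅M, M⁆ :=
    hG.2.2.2 _ (Cfsg.Agent.Lib.Helper60.PFTenT.der_ne_top_of_isCoatom ph.hS)
  have hnab := nonab_of_typeIV hsolv ph.hSP hIV
  obtain ⟨χ, hχ, hn, ho, hb, hr⟩ := chainA_final F S R hS hnc hnab hlt ζ h.hζ h.hζ1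
  exact b0 hG bg pf8 ph hM F.md η F.hη d F.deg_psi ζ h.hζ h.hζirr h.hζ1 χ hχ hn ho hb hr

/-- **No maximal subgroup in a pair is of Type IV.** -/
theorem no_typeIV (hG : IsMinSimpleOddOrder G) (bg : BookBGData G) (pf8 : BookPF8Data G)
    (ph : PairHyp M T W₁ W₂ U V) : ¬ IsOfTypeIV M := by
  intro hIV
  classical
  have : Fintype M := Fintype.ofFinite _
  have S := struct34_of_pair hG bg pf8 ph (Or.inr hIV)
  have hne := card_W_ne S.hP S.hU S.hq S.hp S.hodd
  rcases Nat.lt_or_gt_of_ne hne with hlt | hlt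
  · exact false_of_typeIV_gt hG bg pf8 ph hIV hlt
  · exact false_of_lt hG bg pf8 ph (Or.inr hIV) hlt

end Cfsg.Agent.Lib.Helper74.PF11F
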