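import Mathlib
import Cfsg.Agent.Lib.Helper31.PFCubeFinal
import Cfsg.Agent.Lib.Helper46.PFTenVFinal
import Cfsg.Agent.Lib.Helper24.BGBookFinalC
import Cfsg.Agent.Lib.Helper26.PFBookC

/-!
# Peterfalvi (10.10), final form (helper74): a minimal simple group of odd order has no maximal
subgroup of Type V

Pure assembly: helper46's `no_typeV_of_cube` (= (10.10) modulo the residual case `|H| = p³`,
`2q = p + 1`), helper31's `noResidualCube` and helper24's global (10.8) `pf10_noncoherent_coatom`.
-/

set_option autoImplicit false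

namespace Cfsg.Agent.Lib.Helper74.PF10

open Cfsg Cfsg.Agent.Lib.Helper4.PF

universe u

variable {G : Type u} [Group G] [Finite G]

/-- **Peterfalvi (10.10)**: no maximal subgroup of a minimal simple group of odd order is of
Type V. -/
theorem no_typeV_book (hG : IsMinSimpleOddOrder G) :
    ∀ M : Subgroup G, IsCoatom M → ¬ IsOfTypeV M := by
  classical
  let _ : Fintype G := Fintype.ofFinite G
  have bg := Cfsg.Agent.Lib.Helper24.BGBook.bookBGData hG
  have pf8 := Cfsg.Agent.Lib.Helper26.PFBook.bookPF8Data_of hG bg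
  exact Cfsg.Agent.Lib.Helper46.PF10V.no_typeV_of_cube hG bg pf8
    (Cfsg.Agent.Lib.Helper31.PFCube.noResidualCube hG bg pf8
      (fun M _ hM h => Cfsg.Agent.Lib.Helper24.PFCyc.pf10_noncoherent_coatom hG bg pf8 M hM h))

end Cfsg.Agent.Lib.Helper74.PF10
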