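import Mathlib
import Cfsg.Prelude.Def_GeometricClasses
import Cfsg.Agent.Lib.Helper55.Oe.Defs
import Cfsg.Agent.Lib.Helper55.Oe.Between

/-!
# Project ASCHOE (helper55): small kit for the row assemblies (helper74)

Form-independent glue used by the row files `S5850` (and usable by the other rows):
parity of `card F`, `t * m = n` for decompositions, properness of subspace stabilisers from
irreducibility of `Ω`, the pair decomposition `![W, W']`, subfields of odd prime index.
-/

set_option autoImplicit false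
set_option linter.unusedSectionVars false
set_option linter.style.haveILetI false

namespace Cfsg.Agent.Lib.Helper74.OeRow

open Cfsg Cfsg.Geo Cfsg.Agent.Lib.Helper55.Oe
open scoped MatrixGroups Matrix

section Field

variable {F : Type*} [Field F] [Fintype F]

theorem odd_card_of_two_ne_zero (h2 : (2 : F) ≠ 0) : Odd (Fintype.card F) := by
  have hc : ringChar F ≠ 2 := by
    intro h
    apply h2
    have := CharP.cast_eq_zero F (ringChar F)
    rw [h] at this
    exact_mod_cast this
  rw [Nat.odd_iff]
  exact FiniteField.odd_card_of_char_ne_two hc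

theorem not_odd_card_of_two_eq_zero (h2 : (2 : F) = 0) : ¬ Odd (Fintype.card F) := by
  have hc : ringChar F = 2 := by
    have hdvd : ringChar F ∣ 2 := ringChar.dvd (by exact_mod_cast h2)
    rcases (Nat.dvd_prime Nat.prime_two).1 hdvd with h | h
    · exact absurd h (CharP.ringChar_ne_one)
    · exact h
  have := FiniteField.even_card_of_char_two hc
  rw [Nat.odd_iff]
  omega

theorem two_ne_zero_of_odd_card (h : Odd (Fintype.card F)) : (2 : F) ≠ 0 := fun h2 =>
  not_odd_card_of_two_eq_zero h2 h

theorem two_eq_zero_of_not_odd_card (h : ¬ Odd (Fintype.card F)) : (2 : F) = 0 := by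
  by_contra h2
  exact h (odd_card_of_two_ne_zero h2)

/-- for a prime `r` dividing `[F : F₀]` there is a subfield `F₁ ⊇ F₀` with `[F : F₁] = r` -/
theorem exists_subfield_of_prime_dvd_finrank (F₀ : Subfield F) (r : ℕ) (hr : r.Prime)
    (hrdvd : r ∣ Module.finrank F₀ F) :
    ∃ F₁ : Subfield F, F₀ ≤ F₁ ∧ Fintype.card F = Nat.card F₁ ^ r := by
  classical
  have hgal : IsGalois F₀ F := inferInstance
  have hfd : FiniteDimensional F₀ F := inferInstance
  have hcardG : Nat.card (F ≃ₐ[F₀] F) = Module.finrank F₀ F := IsGalois.card_aut_eq_finrank F₀ F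
  haveI : Fact r.Prime := ⟨hr⟩
  haveI : Finite (F ≃ₐ[F₀] F) := inferInstance
  haveI : Fintype (F ≃ₐ[F₀] F) := Fintype.ofFinite _
  have hdvd : r ∣ Fintype.card (F ≃ₐ[F₀] F) := by
    rw [← Nat.card_eq_fintype_card, hcardG]; exact hrdvd
  obtain ⟨σ, hσ⟩ := exists_prime_orderOf_dvd_card r hdvd
  let K : IntermediateField F₀ F := IntermediateField.fixedField (Subgroup.zpowers σ)
  have hK : Module.finrank K F = r := by
    rw [IntermediateField.finrank_fixedField_eq_card, Nat.card_zpowers, hσ]
  refine ⟨K.toSubfield, ?_, ?_⟩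
  · intro x hx
    have : x = algebraMap F₀ F ⟨x, hx⟩ := rfl
    rw [this]
    exact K.algebraMap_mem _
  · haveI : Fintype K := Fintype.ofFinite _
    have h := Module.card_eq_pow_finrank (K := K) (V := F)
    rw [hK] at h
    rw [h, Nat.card_eq_fintype_card]
    rfl

/-- `q ≡ 3 (mod 4)` not prime: a subfield of odd prime index -/
theorem exists_odd_prime_subfield (h3 : Fintype.card F % 4 = 3) (hnp : ¬ (Fintype.card F).Prime) :
    ∃ (F₀ : Subfield F) (r : ℕ), r.Prime ∧ Odd r ∧ Fintype.card F = Nat.card F₀ ^ r := by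
  classical
  obtain ⟨p, hchar⟩ := CharP.exists F
  haveI := hchar
  have hp : p.Prime := CharP.char_is_prime F p
  haveI : Fact p.Prime := ⟨hp⟩
  have hbot : Nat.card (⊥ : Subfield F) = p := Subfield.card_bot F p
  haveI : Fintype (⊥ : Subfield F) := Fintype.ofFinite _
  set m := Module.finrank (⊥ : Subfield F) F with hm
  have hcard : Fintype.card F = p ^ m := by
    have h := Module.card_eq_pow_finrank (K := (⊥ : Subfield F)) (V := F)
    rw [h, ← Nat.card_eq_fintype_card, hbot]
  have hm1 : m ≠ 1 := by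
    intro h1
    apply hnp
    rw [hcard, h1, pow_one]
    exact hp
  have hmodd : Odd m := by
    rw [← Nat.not_even_iff_odd]
    rintro ⟨k, hk⟩
    have hsq : Fintype.card F = (p ^ k) * (p ^ k) := by
      rw [hcard, hk, pow_add]
    have : (p ^ k * p ^ k) % 4 = 0 ∨ (p ^ k * p ^ k) % 4 = 1 := by
      have h4 : p ^ k % 4 < 4 := Nat.mod_lt _ (by norm_num)
      rw [Nat.mul_mod]
      interval_cases (p ^ k % 4) <;> simp
    rw [hsq] at h3
    omega
  have hr : m.minFac.Prime := Nat.minFac_prime hm1
  have hrdvd : m.minFac ∣ m := Nat.minFac_dvd m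
  have hrodd : Odd m.minFac := by
    rcases hr.eq_two_or_odd' with h2 | ho
    · exfalso
      rw [h2] at hrdvd
      exact (Nat.not_even_iff_odd.2 hmodd) (even_iff_two_dvd.2 hrdvd)
    · exact ho
  obtain ⟨F₁, -, hF₁⟩ := exists_subfield_of_prime_dvd_finrank (⊥ : Subfield F) m.minFac hr hrdvd
  exact ⟨F₁, m.minFac, hr, hrodd, hF₁⟩

/-- a subfield of index `≥ 2` is proper -/
theorem subfield_ne_top_of_card (F₀ : Subfield F) (r : ℕ) (hr : 2 ≤ r)
    (hcard : Fintype.card F = Nat.card F₀ ^ r) : F₀ ≠ ⊤ := by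
  intro htop
  have h1 : Nat.card F₀ = Fintype.card F := by
    rw [htop, ← Nat.card_eq_fintype_card]
    exact Nat.card_congr (Subfield.topEquiv (K := F)).toEquiv
  have hq : 2 ≤ Fintype.card F := Fintype.one_lt_card
  rw [h1] at hcard
  have : Fintype.card F < Fintype.card F ^ r :=
    lt_self_pow₀ (by omega) (by omega)
  omega

end Field

section Geometry

variable {n : ℕ} {F : Type*} [Field F]

theorem isMDecomposition_mul_eq {t m : ℕ} {D : Fin t → Submodule F (Fin n → F)}
    (hD : IsMDecomposition m D) : t * m = n := by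
  classical
  have hint : DirectSum.IsInternal D :=
    DirectSum.isInternal_submodule_of_iSupIndep_of_iSup_eq_top hD.indep hD.iSup_eq_top
  have h1 : Module.finrank F (Fin n → F) = ∑ i, Module.finrank F (D i) := by
    have e := LinearEquiv.ofBijective (DirectSum.coeLinearMap D) hint
    rw [← e.finrank_eq, Module.finrank_directSum]
  rw [Module.finrank_fin_fun] at h1
  rw [h1]
  simp [hD.finrank_eq]

theorem not_le_subspaceStabilizer_of_irreducible {Ω : Subgroup (GL (Fin n) F)}
    (hirr : ActsIrreducibly (matrixSet Ω)) {W : Submodule F (Fin n → F)} (h0 : W ≠ ⊥)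
    (h1 : W ≠ ⊤) : ¬ Ω ≤ subspaceStabilizer W := by
  intro hle
  have := hirr W (by
    rintro s ⟨g, hg, rfl⟩ _ ⟨w, hw, rfl⟩
    rw [Matrix.toLin'_apply]
    exact ((hle hg) w).1 hw)
  rcases this with h | h
  · exact h0 h
  · exact h1 h

theorem ne_top_of_isTotallySingularQuad {Q : (Fin n → F) → F} (hQ : IsNondegenerateQuadraticForm Q)
    (hn : 0 < n) {W : Submodule F (Fin n → F)} (hW : IsTotallySingularQuad Q W) : W ≠ ⊤ := by
  classical
  intro htop
  have hz : ∀ v, Q v = 0 := fun v => hW v (by rw [htop]; trivial)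
  have hv : (Pi.single (⟨0, hn⟩ : Fin n) (1 : F) : Fin n → F) ≠ 0 := by
    intro h
    have := congrFun h ⟨0, hn⟩
    simp at this
  obtain ⟨x, hx⟩ := (hQ.nondegenerate _ hv).1
  apply hx
  unfold QuadraticMap.polar
  rw [hz, hz, hz]
  ring

theorem isPlusTypeOn_top_of_outTSPair {Q : (Fin n → F) → F} {H : Subgroup (GL (Fin n) F)}
    (h : OutTSPair Q H) : IsPlusTypeOn Q ⊤ := by
  obtain ⟨m, D, hD, hts, -⟩ := h
  refine ⟨D 0, le_top, hts 0, ?_⟩
  rw [hD.finrank_eq 0, finrank_top, Module.finrank_fin_fun, ← isMDecomposition_mul_eq hD]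

theorem areIsometricFor_refl (Q : (Fin n → F) → F) (W : Submodule F (Fin n → F)) :
    AreIsometricFor Q W W := ⟨LinearEquiv.refl F W, fun _ => rfl⟩

theorem areIsometricFor_symm {Q : (Fin n → F) → F} {W W' : Submodule F (Fin n → F)}
    (h : AreIsometricFor Q W W') : AreIsometricFor Q W' W := by
  obtain ⟨e, he⟩ := h
  refine ⟨e.symm, fun w => ?_⟩
  have := he (e.symm w)
  rw [LinearEquiv.apply_symm_apply] at this
  exact this.symm

/-- the pair `![W, W']` of complementary orthogonal non-degenerate subspaces of equal dimension -/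
theorem isNondegenerateMDecomposition_pair {Q : (Fin n → F) → F} {W W' : Submodule F (Fin n → F)}
    {k : ℕ} (hk : 0 < k) (hW : IsNondegenerateOn (QuadraticMap.polar Q) W)
    (hW' : IsNondegenerateOn (QuadraticMap.polar Q) W')
    (horth : AreOrthogonalFor (QuadraticMap.polar Q) W W') (hinf : W ⊓ W' = ⊥)
    (hsup : W ⊔ W' = ⊤) (hd : Module.finrank F W = k) (hd' : Module.finrank F W' = k) :
    IsNondegenerateMDecomposition (QuadraticMap.polar Q) k ![W, W'] := by
  refine ⟨⟨le_rfl, hk, ?_, ?_, ?_⟩, ?_, ?_⟩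
  · intro i
    fin_cases i
    · exact hd
    · exact hd'
  · rw [iSupIndep_pair (i := (0 : Fin 2)) (j := 1) (by decide) (by decide)]
    exact disjoint_iff.2 hinf
  · rw [← hsup]
    apply le_antisymm
    · apply iSup_le
      intro i
      fin_cases i
      · exact le_sup_left
      · exact le_sup_right
    · exact sup_le (le_iSup ![W, W'] 0) (le_iSup ![W, W'] 1)
  · intro i
    fin_cases i
    · exact hW
    · exact hW'
  · intro i j hij
    fin_cases i <;> fin_cases j
    · exact absurd rfl hij
    · exact horth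
    · intro u hu v hv
      show QuadraticMap.polar Q u v = 0
      rw [QuadraticMap.polar_comm]
      exact horth v hv u hu
    · exact absurd rfl hij

theorem le_decompositionStabilizer_pair {H : Subgroup (GL (Fin n) F)}
    {W W' : Submodule F (Fin n → F)} (h : H ≤ subspaceStabilizer W)
    (h' : H ≤ subspaceStabilizer W') : H ≤ decompositionStabilizer ![W, W'] := by
  have key : ∀ (U : Submodule F (Fin n → F)) (g : GL (Fin n) F), g ∈ subspaceStabilizer U →
      U.map (Matrix.toLin' (g : Matrix (Fin n) (Fin n) F)) = U := by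
    intro U g hg
    apply le_antisymm
    · rintro _ ⟨w, hw, rfl⟩
      rw [Matrix.toLin'_apply]
      exact (hg w).1 hw
    · intro w hw
      refine ⟨((g⁻¹ : GL (Fin n) F) : Matrix (Fin n) (Fin n) F) *ᵥ w, ?_, ?_⟩
      · have hg' : g⁻¹ ∈ subspaceStabilizer U := (subspaceStabilizer U).inv_mem hg
        exact (hg' w).1 hw
      · rw [Matrix.toLin'_apply, Matrix.mulVec_mulVec, ← Units.val_mul, mul_inv_cancel,
          Units.val_one, Matrix.one_mulVec]
  intro g hg
  refine ⟨1, fun i => ?_⟩
  fin_cases i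
  · exact key W g (h hg)
  · exact key W' g (h' hg)

theorem card_eq_mul_of_equiv {n₁ n₂ : ℕ} (e : Fin n ≃ Fin n₁ × Fin n₂) : n = n₁ * n₂ := by
  have := Fintype.card_congr e
  simpa using this

end Geometry

end Cfsg.Agent.Lib.Helper74.OeRow
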