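import Mathlib
import Cfsg.Agent.Lib.Helper78.WBORank
import Cfsg.Agent.Lib.Helper78.CharOrtho
import Cfsg.Agent.Lib.Helper78.BlockSums

set_option autoImplicit false
set_option linter.unusedSectionVars false

namespace Cfsg.Agent.Lib.Helper74

open Cfsg Cfsg.Agent.Lib.Helper78
open scoped ComplexConjugate

section BlockRankSing

variable {G : Type*} [Group G] [Fintype G]

theorem sum_mul_conj_self_irr (χ : IrrCharacter G) :
    ∑ x : G, (χ : G → ℂ) x * conj ((χ : G → ℂ) x) = (Nat.card G : ℂ) := by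
  have h := classInner_irr_self χ.2
  unfold classInner at h
  have hG : (Nat.card G : ℂ) ≠ 0 := by exact_mod_cast (Nat.card_pos (α := G)).ne'
  have h2 : (Nat.card G : ℂ) * ((Nat.card G : ℂ)⁻¹ *
      ∑ x : G, (χ : G → ℂ) x * conj ((χ : G → ℂ) x)) = (Nat.card G : ℂ) * 1 := by rw [h]
  rw [← mul_assoc, mul_inv_cancel₀ hG, one_mul, mul_one] at h2
  exact h2

open scoped Classical in
/-- `|G| l(B) = |G| k(B) - ∑_{x p-singular} ∑_{χ ∈ B} |χ(x)|²`. -/
theorem card_mul_blockRank_eq_sub {p : ℕ} [Fact p.Prime] {M : Ideal AlgInt}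
    (hM : IsPModular p M) {B : Set (IrrCharacter G)} (hB : IsPBlock M B) :
    (Nat.card G : ℂ) * (blockRank p B : ℂ) =
      (Nat.card G : ℂ) * ((Finset.univ.filter (fun χ : IrrCharacter G => χ ∈ B)).card : ℂ) -
        ∑ x ∈ Finset.univ.filter (fun x : G => p ∣ orderOf x),
          ∑ χ ∈ Finset.univ.filter (fun χ : IrrCharacter G => χ ∈ B),
            (χ : G → ℂ) x * conj ((χ : G → ℂ) x) := by
  rw [card_mul_blockRank hM hB]
  have hterm : ∀ x : G, ∑ᶠ χ ∈ B, pRegularPart p (χ : G → ℂ) x * (χ : G → ℂ) x⁻¹ =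
      if p ∣ orderOf x then 0 else
        ∑ χ ∈ Finset.univ.filter (fun χ : IrrCharacter G => χ ∈ B),
          (χ : G → ℂ) x * conj ((χ : G → ℂ) x) := by
    intro x
    rw [finsum_mem_eq_sum_filter_univ]
    split_ifs with hx
    · apply Finset.sum_eq_zero
      intro χ _
      rw [pRegularPart_apply_of_singular p _ hx, zero_mul]
    · apply Finset.sum_congr rfl
      intro χ _
      rw [pRegularPart_apply_of_regular p _ hx,
        IsCharacter.inv (IsIrrCharacter.isCharacter χ.2) x]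
  rw [Finset.sum_congr rfl (fun x _ => hterm x)]
  have htot : ∑ x : G, ∑ χ ∈ Finset.univ.filter (fun χ : IrrCharacter G => χ ∈ B),
      (χ : G → ℂ) x * conj ((χ : G → ℂ) x) =
      (Nat.card G : ℂ) * ((Finset.univ.filter (fun χ : IrrCharacter G => χ ∈ B)).card : ℂ) := by
    rw [Finset.sum_comm, Finset.sum_congr rfl (fun χ _ => sum_mul_conj_self_irr χ),
      Finset.sum_const, nsmul_eq_mul, mul_comm]
  rw [← htot, ← Finset.sum_filter_add_sum_filter_not Finset.univ (fun x : G => p ∣ orderOf x)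
    (fun x => ∑ χ ∈ Finset.univ.filter (fun χ : IrrCharacter G => χ ∈ B),
      (χ : G → ℂ) x * conj ((χ : G → ℂ) x)), add_sub_cancel_left, Finset.sum_ite,
    Finset.sum_const_zero, zero_add]

end BlockRankSing

end Cfsg.Agent.Lib.Helper74
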