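import Mathlib
import Cfsg.Agent.Lib.Helper92.BPDefs
import Cfsg.Agent.Lib.Helper80.BPUnit

/-!
# PROJECT BP: the twisted-trace vanishing lemma (helper74)

Abstract form of "`θ(u c) = 0` for an idempotent `c` of `A^{<u>}` which is a relative trace from
`<u^p>`" (layer 3 (iii)), independent of Green's theorem and of `MonicSplits`:

`Λ` a module-finite algebra over a local ring `R`, `τ` a trace form on `Λ` (`τ (x y) = τ (y x)`),
`u` a unit, `c` an idempotent commuting with `u`, `a ∈ c Λ c` commuting with `u ^ p` and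
`∑_{i<p} u^i a u^{-i} = c`; `ζ ∈ R` with `ζ ^ p = 1`, `ζ - 1 ∈ 𝔪`, `ζ - 1` a non-zero-divisor on
the target of `τ`.  Then `τ (u c) = 0`.

Proof: the twisted trace `S = ∑ ζ^i u^i a u^{-i}` is `≡ c` mod `𝔪Λ`, hence a unit of the corner
`c Λ c`, and `ζ • (u S) = S u`; so `ζ • τ (u c) = ζ • τ (S' u S) = τ (S' S u) = τ (u c)`.
-/

set_option autoImplicit false

namespace Cfsg.Agent.Lib.Helper74.BP

open Cfsg.Agent.Lib.Helper92.BP

section Twist

variable {R : Type*} [CommRing R] [IsDomain R] [IsLocalRing R]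
variable {Λ : Type*} [Ring Λ] [Algebra R Λ]

omit [IsDomain R] in
theorem pow_sub_one_mem_maximalIdeal (ζ : R) (hζm : ζ - 1 ∈ IsLocalRing.maximalIdeal R) (i : ℕ) :
    ζ ^ i - 1 ∈ IsLocalRing.maximalIdeal R := by
  induction i with
  | zero => simp
  | succ i ih =>
    have : ζ ^ (i + 1) - 1 = ζ * (ζ ^ i - 1) + (ζ - 1) := by ring
    rw [this]
    exact add_mem (Ideal.mul_mem_left _ _ ih) hζm

omit [IsDomain R] in
/-- **Twisted-trace vanishing.** -/
theorem trace_unit_mul_eq_zero_of_twist [Module.Finite R Λ]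
    {N : Type*} [AddCommGroup N] [Module R N]
    (τ : Λ →ₗ[R] N) (hτ : ∀ x y : Λ, τ (x * y) = τ (y * x))
    (p : ℕ) (ζ : R) (hζp : ζ ^ p = 1) (hζm : ζ - 1 ∈ IsLocalRing.maximalIdeal R)
    (hζN : ∀ n : N, (ζ - 1) • n = 0 → n = 0)
    (u v : Λ) (huv : u * v = 1) (hvu : v * u = 1)
    (c a : Λ) (hc : IsIdempotentElem c) (huc : u * c = c * u) (hca : InCorner c a)
    (hpa : u ^ p * a = a * u ^ p)
    (hsum : ∑ i ∈ Finset.range p, u ^ i * a * v ^ i = c) :
    τ (u * c) = 0 := by
  -- `c` commutes with `v`, `u ^ i`, `v ^ i`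
  have hvc : v * c = c * v := by
    calc v * c = v * c * (u * v) := by rw [huv, mul_one]
      _ = v * (c * u) * v := by simp only [mul_assoc]
      _ = v * (u * c) * v := by rw [huc]
      _ = (v * u) * c * v := by simp only [mul_assoc]
      _ = c * v := by rw [hvu, one_mul]
  have hcu : Commute c u := huc.symm
  have hcv : Commute c v := hvc.symm
  have huvi : ∀ i : ℕ, u ^ i * v ^ i = 1 := by
    intro i
    induction i with
    | zero => simp
    | succ i ih =>
      rw [pow_succ, pow_succ']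
      calc u ^ i * u * (v * v ^ i) = u ^ i * (u * v) * v ^ i := by simp only [mul_assoc]
        _ = 1 := by rw [huv, mul_one, ih]
  set S : Λ := ∑ i ∈ Finset.range p, ζ ^ i • (u ^ i * a * v ^ i) with hS
  -- `S` lies in the corner
  have hcS : c * S = S := by
    rw [hS, Finset.mul_sum]
    refine Finset.sum_congr rfl fun i _ => ?_
    rw [mul_smul_comm]
    congr 1
    rw [← mul_assoc, ← mul_assoc, (hcu.pow_right i).eq, mul_assoc (u ^ i), hca.1]
  have hSc : S * c = S := by
    rw [hS, Finset.sum_mul]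
    refine Finset.sum_congr rfl fun i _ => ?_
    rw [smul_mul_assoc]
    congr 1
    rw [mul_assoc, ← (hcv.pow_right i).eq, ← mul_assoc, mul_assoc (u ^ i), hca.2]
  -- `S ≡ c` modulo `𝔪Λ`
  have hSm : S - c ∈ (IsLocalRing.maximalIdeal R • ⊤ : Submodule R Λ) := by
    have : S - c = ∑ i ∈ Finset.range p, (ζ ^ i - 1) • (u ^ i * a * v ^ i) := by
      rw [hS, ← hsum, ← Finset.sum_sub_distrib]
      refine Finset.sum_congr rfl fun i _ => ?_
      rw [sub_smul, one_smul]
    rw [this]
    refine Submodule.sum_mem _ fun i _ => ?_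
    exact Submodule.smul_mem_smul (pow_sub_one_mem_maximalIdeal ζ hζm i) trivial
  obtain ⟨-, S', hS', hSS', hS'S⟩ :=
    Cfsg.Agent.Lib.Helper80.BP.cornerUnit_of_sub_mem hc S ⟨hcS, hSc⟩ hSm
  -- the twisting relation `ζ • (u S v) = S`
  have hap : u ^ p * a * v ^ p = a := by
    rw [hpa, mul_assoc, huvi, mul_one]
  have htw : ζ • (u * S * v) = S := by
    have h1 : ζ • (u * S * v) = ∑ i ∈ Finset.range p, ζ ^ (i + 1) • (u ^ (i + 1) * a * v ^ (i + 1)) := by
      rw [hS, Finset.mul_sum, Finset.sum_mul, Finset.smul_sum]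
      refine Finset.sum_congr rfl fun i _ => ?_
      rw [mul_smul_comm, smul_mul_assoc, smul_smul, ← pow_succ']
      congr 1
      rw [pow_succ', pow_succ]
      simp only [mul_assoc]
    have e1 := Finset.sum_range_succ' (fun m : ℕ => ζ ^ m • (u ^ m * a * v ^ m)) p
    have e2 := Finset.sum_range_succ (fun m : ℕ => ζ ^ m • (u ^ m * a * v ^ m)) p
    simp only [pow_zero, one_smul, one_mul, mul_one, hζp, hap] at e1 e2
    rw [h1, hS]
    rw [e2] at e1
    exact (add_right_cancel e1).symm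
  have htw' : ζ • (u * S) = S * u := by
    have := congrArg (· * u) htw
    rw [smul_mul_assoc, mul_assoc (u * S), hvu, mul_one] at this
    exact this
  -- conclusion
  have key : ζ • τ (u * c) = τ (u * c) := by
    have h1 : τ (u * c) = τ (S' * (u * S)) := by
      rw [← hSS', ← mul_assoc, hτ]
    calc ζ • τ (u * c) = ζ • τ (S' * (u * S)) := by rw [h1]
      _ = τ (S' * (ζ • (u * S))) := by rw [← map_smul, mul_smul_comm]
      _ = τ (S' * (S * u)) := by rw [htw']
      _ = τ (c * u) := by rw [← mul_assoc, hS'S]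
      _ = τ (u * c) := by rw [huc]
  apply hζN
  rw [sub_smul, one_smul, key, sub_self]

end Twist

end Cfsg.Agent.Lib.Helper74.BP
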