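import Cfsg.Agent.Lib.Helper92.BPChar
import Cfsg.Agent.Lib.Helper51.BPEv
import Cfsg.Agent.Lib.Helper74.BPTwist
import Cfsg.Agent.Lib.Helper9.BPNonlocal
import Cfsg.Agent.Lib.Helper23.BPDecomp
import Cfsg.Agent.Lib.Helper11.BPRank
import Cfsg.Agent.Lib.Helper23.BPBrMul

/-!
# PROJECT BP, module BP-[L3-VAN] (helper74): `χ(u c) = 0` for an idempotent `c` of `A^{<u>}` killed by
the Brauer map `Br_u`.

Route: primitive decomposition of `c` in `A^{<u>}`; each piece is killed by `Br_u`, hence a relative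
trace from the maximal subgroup `S` of `<u>` ([L2-NONLOCAL]); then the twisted-trace lemma
(`Helper74.BPTwist`) — no Green indecomposability needed.
-/

set_option autoImplicit false
set_option linter.unusedSectionVars false
set_option linter.unusedVariables false
set_option linter.style.haveILetI false
set_option linter.unusedSimpArgs false

namespace Cfsg.Agent.Lib.Helper74.BP

open Polynomial Cfsg.Agent.Lib.Helper92.BP

section Root

variable {R : Type*} [CommRing R] [IsDomain R] [IsLocalRing R] [Algebra R ℂ]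

/-- A `MonicSplits` local ring with residue characteristic `p` mapping to `ℂ` contains a `p`-th
root of unity `ζ` with `ζ ≡ 1` mod `𝔪` whose image in `ℂ` is not `1`. -/
theorem exists_root_of_unity (hR : MonicSplits R) (p : ℕ) [Fact p.Prime]
    [CharP (IsLocalRing.ResidueField R) p] :
    ∃ ζ : R, ζ ^ p = 1 ∧ ζ - 1 ∈ IsLocalRing.maximalIdeal R ∧ algebraMap R ℂ ζ ≠ 1 := by
  have hp : p.Prime := Fact.out
  obtain ⟨s, hs⟩ := hR (X ^ p - C (1 : R)) (monic_X_pow_sub_C 1 hp.ne_zero)
  set z : ℂ := Complex.exp (2 * Real.pi * Complex.I / p) with hz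
  have hzp : IsPrimitiveRoot z p := Complex.isPrimitiveRoot_exp p hp.ne_zero
  have hz1 : z ≠ 1 := hzp.ne_one hp.one_lt
  -- evaluate the factorisation at `z`
  have hmap := congrArg (fun f => (f.map (algebraMap R ℂ)).eval z) hs
  simp only [Polynomial.map_sub, Polynomial.map_pow, Polynomial.map_X, map_one,
    Polynomial.map_one, eval_one, eval_sub, eval_pow, eval_X, hzp.pow_eq_one, sub_self,
    Polynomial.map_multiset_prod, Multiset.map_map, eval_multiset_prod] at hmap
  have hzero := hmap.symm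
  rw [Multiset.prod_eq_zero_iff, Multiset.mem_map] at hzero
  obtain ⟨a, has, ha⟩ := hzero
  simp only [Function.comp_apply, Polynomial.map_sub, Polynomial.map_X, Polynomial.map_C,
    eval_sub, eval_X, eval_C] at ha
  have haz : algebraMap R ℂ a = z := (sub_eq_zero.1 ha).symm
  -- `a ^ p = 1`
  have hap : a ^ p = 1 := by
    have h2 := congrArg (fun f => f.eval a) hs
    simp only [eval_sub, eval_pow, eval_X, eval_C, eval_multiset_prod, Multiset.map_map] at h2
    have : (Multiset.map ((fun f => eval a f) ∘ fun a => X - C a) s).prod = 0 := by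
      rw [Multiset.prod_eq_zero_iff, Multiset.mem_map]
      exact ⟨a, has, by simp⟩
    rw [this] at h2
    exact sub_eq_zero.1 h2
  refine ⟨a, hap, ?_, by rw [haz]; exact hz1⟩
  -- `a ≡ 1` modulo `𝔪`
  rw [← IsLocalRing.residue_eq_zero_iff, map_sub, map_one]
  have h3 : (IsLocalRing.residue R a) ^ p = 1 := by rw [← map_pow, hap, map_one]
  have h4 : (IsLocalRing.residue R a - 1) ^ p = 0 := by
    rw [sub_pow_char, h3, one_pow, sub_self]
  exact pow_eq_zero_iff hp.ne_zero |>.1 h4

end Root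

section Van

variable {R : Type*} [CommRing R] [IsDomain R] [IsLocalRing R] [Algebra R ℂ]
variable {G : Type*} [Group G]

/-- `ev χ` as an `R`-linear map `R[G] → ℂ`. -/
noncomputable def evₗ (χ : G → ℂ) : MonoidAlgebra R G →ₗ[R] ℂ where
  toFun := ev χ
  map_add' := Cfsg.Agent.Lib.Helper51.BP.ev_add χ
  map_smul' := by
    intro r a
    rw [Cfsg.Agent.Lib.Helper51.BP.ev_smul, RingHom.id_apply, Algebra.smul_def]

theorem evₗ_apply (χ : G → ℂ) (a : MonoidAlgebra R G) : evₗ (R := R) χ a = ev χ a := rfl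

/-- One primitive piece. -/
theorem evAt_eq_zero_of_isPrimIn [Finite G] (hR : MonicSplits R) {p : ℕ} [Fact p.Prime]
    [CharP (IsLocalRing.ResidueField R) p] {χ : G → ℂ} (hχ : Cfsg.IsClassFunction G χ) {u : G}
    (hu : IsPGroup p (Subgroup.zpowers u)) {x : MonoidAlgebra R G}
    (hx : IsPrimIn R (fixedAlg R (Subgroup.zpowers u)) x)
    (hbr : br R (Subgroup.zpowers u) x = 0) : evAt χ u x = 0 := by
  classical
  have hp : p.Prime := Fact.out
  obtain ⟨S, hSQ, hn, hidx, a, haS, hax⟩ :=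
    Cfsg.Agent.Lib.Helper9.BP.exists_mem_trSet_of_br_eq_zero hR hu hx hbr
  obtain ⟨hxQ, hprim⟩ := hx
  have hxi : x * x = x := congrArg Subtype.val hprim.1
  have hxS : x ∈ fixedAlg R S := Cfsg.Agent.Lib.Helper40.BP.fixedAlg_anti hSQ hxQ
  -- replace `a` by `x a x`
  set a' : MonoidAlgebra R G := x * a * x with ha'
  have ha'S : a' ∈ fixedAlg R S := mul_mem (mul_mem hxS haS) hxS
  have htr : relTr R S (Subgroup.zpowers u) a' = x := by
    rw [ha', ← Cfsg.Agent.Lib.Helper9.BP.relTr_mul' S _ hxQ,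
      ← Cfsg.Agent.Lib.Helper9.BP.mul_relTr' S _ hxQ, hax, hxi, hxi]
  have hcor : InCorner x a' := by
    constructor
    · rw [ha', ← mul_assoc, ← mul_assoc, hxi]
    · rw [ha', mul_assoc, hxi]
  -- `u ∈ Q \ S`
  have huQ : u ∈ Subgroup.zpowers u := Subgroup.mem_zpowers u
  have huS : u ∉ S := by
    intro h
    have hle : Subgroup.zpowers u ≤ S := (Subgroup.zpowers_le).2 h
    have : S.relIndex (Subgroup.zpowers u) = 1 := Subgroup.relIndex_eq_one.2 hle
    rw [hidx] at this
    exact hp.one_lt.ne' this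
  have hsum := Cfsg.Agent.Lib.Helper9.BP.relTr_eq_sum_pow (R := R) hSQ hn hp hidx huQ huS ha'S
  rw [htr] at hsum
  -- `u ^ p ∈ S`
  have hupS : u ^ p ∈ S := by
    haveI := hn
    have hcard : Nat.card (↥(Subgroup.zpowers u) ⧸ S.subgroupOf (Subgroup.zpowers u)) = p := hidx
    have h1 : ((QuotientGroup.mk (⟨u, huQ⟩ : Subgroup.zpowers u) :
        ↥(Subgroup.zpowers u) ⧸ S.subgroupOf (Subgroup.zpowers u))) ^ p = 1 := by
      rw [← hcard]; exact pow_card_eq_one'
    rw [← QuotientGroup.mk_pow, QuotientGroup.eq_one_iff, Subgroup.mem_subgroupOf] at h1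
    simpa using h1
  obtain ⟨ζ, hζp, hζm, hζ1⟩ := exists_root_of_unity (R := R) hR p
  haveI : Module.Finite R (MonoidAlgebra R G) := by
    have := Cfsg.Agent.Lib.Helper23.BP.finite_fixedAlg (R := R) (⊥ : Subgroup G)
    have htop : fixedAlg R (⊥ : Subgroup G) = ⊤ := by
      ext y
      simp only [Algebra.mem_top, iff_true]
      rw [Cfsg.Agent.Lib.Helper40.BP.mem_fixedAlg_iff]
      intro q hq
      rw [Subgroup.mem_bot.1 hq, Cfsg.Agent.Lib.Helper40.BP.conj_one_left]
    rw [htop] at this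
    exact Module.Finite.equiv (Subalgebra.topEquiv (R := R) (A := MonoidAlgebra R G)).toLinearEquiv
  have key := trace_unit_mul_eq_zero_of_twist (R := R) (Λ := MonoidAlgebra R G)
    (evₗ (R := R) χ) (fun y z => Cfsg.Agent.Lib.Helper51.BP.ev_mul_comm χ hχ y z) p ζ hζp hζm
    (by
      intro n hn
      rw [Algebra.smul_def, map_sub, map_one] at hn
      rcases mul_eq_zero.1 hn with h | h
      · exact absurd (sub_eq_zero.1 h) hζ1
      · exact h)
    (MonoidAlgebra.of R G u) (MonoidAlgebra.of R G u⁻¹)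
    (Cfsg.Agent.Lib.Helper40.BP.of_mul_of_inv u) (Cfsg.Agent.Lib.Helper40.BP.of_inv_mul_of u)
    x a' hxi
    (by
      have := (Subalgebra.mem_centralizer_iff R).1 hxQ (MonoidAlgebra.of R G u)
        ⟨u, huQ, rfl⟩
      exact this)
    hcor
    (by
      rw [← map_pow]
      have := (Subalgebra.mem_centralizer_iff R).1 ha'S (MonoidAlgebra.of R G (u ^ p))
        ⟨u ^ p, hupS, rfl⟩
      exact this)
    (by
      rw [hsum]
      refine Finset.sum_congr rfl fun i _ => ?_
      unfold conj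
      rw [map_pow, ← inv_pow, map_pow])
  rw [Cfsg.Agent.Lib.Helper51.BP.evAt_eq]
  exact key

/-- BP-[L3-VAN] : `χ(u c) = 0` for an idempotent `c` of `A^<u>` killed by `Br_u` -/
theorem evAt_eq_zero_of_br_eq_zero [Finite G] (hR : MonicSplits R) {p : ℕ} [Fact p.Prime]
    [CharP (IsLocalRing.ResidueField R) p] {χ : G → ℂ} (hχ : Cfsg.IsClassFunction G χ) {u : G}
    (hu : IsPGroup p (Subgroup.zpowers u)) {c : MonoidAlgebra R G}
    (hc : c ∈ fixedAlg R (Subgroup.zpowers u)) (hci : IsIdempotentElem c)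
    (hbr : br R (Subgroup.zpowers u) c = 0) : evAt χ u c = 0 := by
  classical
  haveI : Module.Finite R (fixedAlg R (Subgroup.zpowers u)) :=
    Cfsg.Agent.Lib.Helper23.BP.finite_fixedAlg _
  haveI : NoZeroSMulDivisors R (fixedAlg R (Subgroup.zpowers u)) :=
    Cfsg.Agent.Lib.Helper23.BP.noZeroSMulDivisors_fixedAlg _
  obtain ⟨rk, hpos, hadd⟩ :=
    Cfsg.Agent.Lib.Helper11.BP.exists_rank_fun (R := R) (Λ := fixedAlg R (Subgroup.zpowers u))
  have hci' : IsIdempotentElem (⟨c, hc⟩ : fixedAlg R (Subgroup.zpowers u)) := Subtype.ext hci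
  obtain ⟨l, hl, -, hs⟩ := Cfsg.Agent.Lib.Helper23.BP.exists_prim_decomp_le rk hpos hadd
    (rk ⟨c, hc⟩) ⟨c, hc⟩ hci' le_rfl
  -- every piece vanishes
  have hpiece : ∀ y ∈ l, evAt χ u (y : MonoidAlgebra R G) = 0 := by
    intro y hy
    obtain ⟨hyp, hyc⟩ := hl y hy
    have hyc' : (y : MonoidAlgebra R G) * c = y := congrArg Subtype.val hyc.2.2
    have hbr' : br R (Subgroup.zpowers u) (y : MonoidAlgebra R G) = 0 := by
      rw [← hyc', Cfsg.Agent.Lib.Helper23.BP.br_mul hu y.2 hc, hbr, mul_zero]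
    exact evAt_eq_zero_of_isPrimIn hR hχ hu ⟨y.2, by simpa using hyp⟩ hbr'
  -- sum up
  have hsumup : ∀ l' : List (fixedAlg R (Subgroup.zpowers u)),
      (∀ y ∈ l', evAt χ u (y : MonoidAlgebra R G) = 0) →
        evAt χ u ((l'.sum : fixedAlg R (Subgroup.zpowers u)) : MonoidAlgebra R G) = 0 := by
    intro l'
    induction l' with
    | nil =>
      intro _
      rw [List.sum_nil, Cfsg.Agent.Lib.Helper51.BP.evAt_eq]
      simp [Cfsg.Agent.Lib.Helper51.BP.ev_zero]
    | cons y l' ih =>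
      intro h
      rw [List.sum_cons, Subalgebra.coe_add, Cfsg.Agent.Lib.Helper51.BP.evAt_eq, mul_add,
        Cfsg.Agent.Lib.Helper51.BP.ev_add, ← Cfsg.Agent.Lib.Helper51.BP.evAt_eq,
        ← Cfsg.Agent.Lib.Helper51.BP.evAt_eq, h y (List.mem_cons_self),
        ih (fun z hz => h z (List.mem_cons_of_mem _ hz)), add_zero]
  have := hsumup l hpiece
  rw [hs] at this
  exact this

end Van

end Cfsg.Agent.Lib.Helper74.BP
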