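import Mathlib
import Cfsg.Prelude.Def_Characters
import Cfsg.Prelude.Def_Blocks
import Cfsg.Agent.Lib.Helper78.CharMore
import Cfsg.Agent.Lib.Helper75.Clifford
import Cfsg.Agent.Lib.Helper75.GaloisPow
import Cfsg.Agent.Lib.Helper75.SchurBound

set_option autoImplicit false
set_option linter.style.haveILetI false
open Cfsg
open scoped ComplexConjugate

universe u

namespace Cfsg.Agent.Lib.Helper74.Blichfeldt

open Cfsg.Agent.Lib.Helper78

/-- Non-identity elements of the cyclic group generated by an element of prime order `p`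
are the powers `x ^ j`, `0 < j < p`. -/
theorem exists_pow_of_mem_zpowers {G : Type u} [Group G] {x : G} {p : ℕ} (hp : p.Prime)
    (hx : orderOf x = p) (u : G) (hu : u ∈ Subgroup.zpowers x) (hu1 : u ≠ 1) :
    ∃ j, 0 < j ∧ j < p ∧ u = x ^ j := by
  obtain ⟨k, hk⟩ := Subgroup.mem_zpowers_iff.mp hu
  subst hk
  have hp0 : (p : ℤ) ≠ 0 := by exact_mod_cast hp.ne_zero
  have h1 : x ^ k = x ^ (k % (p : ℤ)) := by
    rw [← hx]; exact (zpow_mod_orderOf x k).symm
  have h2 : 0 ≤ k % (p : ℤ) := Int.emod_nonneg k hp0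
  have h3 : k % (p : ℤ) < p := Int.emod_lt_of_pos k (by exact_mod_cast hp.pos)
  obtain ⟨j, hj⟩ := Int.eq_ofNat_of_zero_le h2
  refine ⟨j, ?_, ?_, ?_⟩
  · rcases Nat.eq_zero_or_pos j with h0 | h0
    · exfalso; apply hu1; rw [h1, hj, h0]; simp
    · exact h0
  · rw [hj] at h3; exact_mod_cast h3
  · rw [h1, hj, zpow_natCast]

/-- A character of degree `< p - 1` that is not trivial on an element `x` of prime order `p`
takes at least two different values on the non-identity powers of `x`. -/
theorem exists_pow_ne {G : Type u} [Group G] [Fintype G] {ψ : G → ℂ} (hψ : IsCharacter G ψ)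
    {p : ℕ} (hp : p.Prime) {x : G} (hx : orderOf x = p) (hd : charDegree ψ + 1 < p)
    (hne : ψ x ≠ ψ 1) : ∃ j, 0 < j ∧ j < p ∧ ψ (x ^ j) ≠ ψ x := by
  classical
  by_contra hcon
  push Not at hcon
  set C : Subgroup G := Subgroup.zpowers x with hC
  letI : Fintype C := Fintype.ofFinite C
  have hcard : Nat.card C = p := by rw [hC, Nat.card_zpowers, hx]
  set ψC : C → ℂ := fun c => ψ c with hψCdef
  have hψC : IsCharacter C ψC := Cfsg.Agent.Lib.Helper75.isCharacter_res C hψ
  have hval : ∀ u : C, u ≠ 1 → ψC u = ψ x := by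
    intro u hu
    obtain ⟨j, hj0, hjp, hj⟩ := exists_pow_of_mem_zpowers hp hx (u : G) u.2
      (fun h => hu (Subtype.ext h))
    show ψ (u : G) = ψ x
    rw [hj]
    exact hcon j hj0 hjp
  let l0 : IrrCharacter C := ⟨fun _ => 1, isIrrCharacter_one⟩
  have hl1 : ∀ l : IrrCharacter C, (l : C → ℂ) 1 = 1 := fun l =>
    IsIrrCharacter.map_one_of_comm l.2
  have hcardC : (Nat.card C : ℂ) ≠ 0 := by
    rw [hcard]; exact_mod_cast hp.ne_zero
  have hsum0 : ∀ l : IrrCharacter C, l ≠ l0 → ∑ u : C, (l : C → ℂ) u = 0 := by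
    intro l hl
    have h := classInner_irr_ne l.2 l0.2 (fun h => hl (Subtype.ext h))
    unfold classInner at h
    simp only [l0, map_one, mul_one] at h
    rcases mul_eq_zero.mp h with h | h
    · exact absurd (inv_eq_zero.mp h) hcardC
    · exact h
  have hm : ∀ l : IrrCharacter C, l ≠ l0 →
      classInner ψC (l : C → ℂ) = (ψ 1 - ψ x) / (p : ℂ) := by
    intro l hl
    unfold classInner
    rw [hcard]
    have hsplit : ∀ u : C, ψC u * conj ((l : C → ℂ) u) =
        ψ x * conj ((l : C → ℂ) u) + (if u = 1 then (ψ 1 - ψ x) else 0) := by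
      intro u
      by_cases hu : u = 1
      · subst hu
        rw [if_pos rfl, hl1 l]
        show ψ ((1 : C) : G) * conj (1 : ℂ) = _
        simp
      · rw [if_neg hu, hval u hu]; ring
    rw [Finset.sum_congr rfl (fun u _ => hsplit u), Finset.sum_add_distrib, ← Finset.mul_sum,
      ← map_sum, hsum0 l hl]
    simp
    ring
  -- evaluate at 1
  have h1 := congrFun (IsCharacter.eq_sum_irr hψC) 1
  rw [Finset.sum_apply] at h1
  simp only [Pi.smul_apply, smul_eq_mul, hl1, mul_one] at h1
  have hψC1 : ψC 1 = ψ 1 := rfl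
  rw [hψC1] at h1
  -- number of irreducible characters
  have hnum : Fintype.card (IrrCharacter C) = p := by
    have h := sum_irr_charDegree_sq (G := C)
    have h2 : ∀ l : IrrCharacter C, charDegree (l : C → ℂ) = 1 := by
      intro l
      have h3 := IsCharacter.apply_one_eq_charDegree (IsIrrCharacter.isCharacter l.2)
      rw [hl1 l] at h3
      exact_mod_cast h3.symm
    simp only [h2, one_pow, Finset.sum_const, Finset.card_univ, smul_eq_mul, mul_one] at h
    rw [h, hcard]
  obtain ⟨m0, hm0⟩ := IsCharacter.exists_nat_classInner hψC l0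
  -- a nontrivial irreducible character
  have hex : ∃ l1 : IrrCharacter C, l1 ≠ l0 := by
    by_contra hall
    push Not at hall
    have : Fintype.card (IrrCharacter C) ≤ 1 :=
      Fintype.card_le_one_iff.mpr (fun a b => by rw [hall a, hall b])
    rw [hnum] at this
    have := hp.two_le
    omega
  obtain ⟨l1, hl1ne⟩ := hex
  obtain ⟨m, hmm⟩ := IsCharacter.exists_nat_classInner hψC l1
  rw [hm l1 hl1ne] at hmm
  have hsum : ∑ l : IrrCharacter C, classInner ψC (l : C → ℂ) =
      (m0 : ℂ) + ((p : ℂ) - 1) * (m : ℂ) := by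
    rw [← Finset.add_sum_erase Finset.univ _ (Finset.mem_univ l0), hm0]
    congr 1
    rw [Finset.sum_congr rfl (fun l hl => by
      rw [hm l (Finset.ne_of_mem_erase hl), hmm])]
    rw [Finset.sum_const, Finset.card_erase_of_mem (Finset.mem_univ l0), Finset.card_univ, hnum]
    rw [nsmul_eq_mul, Nat.cast_sub hp.one_le]
    simp
  rw [hsum, IsCharacter.apply_one_eq_charDegree hψ] at h1
  have h2 : charDegree ψ = m0 + (p - 1) * m := by
    have : ((charDegree ψ : ℕ) : ℂ) = ((m0 + (p - 1) * m : ℕ) : ℂ) := by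
      rw [h1]; push_cast [Nat.cast_sub hp.one_le]; ring
    exact_mod_cast this
  have hm0' : m = 0 := by
    by_contra h0
    have : 1 ≤ m := Nat.one_le_iff_ne_zero.mpr h0
    have : p - 1 ≤ (p - 1) * m := Nat.le_mul_of_pos_right _ this
    omega
  rw [hm0'] at hmm
  apply hne
  have hp0 : (p : ℂ) ≠ 0 := by exact_mod_cast hp.ne_zero
  have h3 : ψ 1 - ψ x = 0 := by
    have := hmm
    rw [div_eq_iff hp0] at this
    simpa using this
  exact (sub_eq_zero.mp h3).symm


/-- The orthogonality trick: an irreducible character moved by two power maps has an element at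
which both twists differ from it. -/
theorem exists_both_ne {G : Type u} [Group G] [Fintype G] {ψ : G → ℂ} (hψ : IsIrrCharacter G ψ)
    (k l : ℕ) (hk : k.Coprime (Nat.card G)) (hl : l.Coprime (Nat.card G))
    (hk' : (fun g => ψ (g ^ k)) ≠ ψ) (hl' : (fun g => ψ (g ^ l)) ≠ ψ) :
    ∃ g, ψ (g ^ k) ≠ ψ g ∧ ψ (g ^ l) ≠ ψ g := by
  classical
  by_contra hcon
  push Not at hcon
  have hψk := Cfsg.Agent.Lib.Helper75.isIrrCharacter_pow hψ k hk
  have hψl := Cfsg.Agent.Lib.Helper75.isIrrCharacter_pow hψ l hl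
  have hzero : ∑ g : G, (ψ g - ψ (g ^ k)) * conj (ψ g - ψ (g ^ l)) = 0 := by
    apply Finset.sum_eq_zero
    intro g _
    by_cases h : ψ (g ^ k) = ψ g
    · rw [h, sub_self, zero_mul]
    · rw [hcon g h, sub_self, map_zero, mul_zero]
  have hexp : ∑ g : G, (ψ g - ψ (g ^ k)) * conj (ψ g - ψ (g ^ l)) =
      (Nat.card G : ℂ) * (classInner ψ ψ - classInner ψ (fun g => ψ (g ^ l))
        - classInner (fun g => ψ (g ^ k)) ψ
        + classInner (fun g => ψ (g ^ k)) (fun g => ψ (g ^ l))) := by
    have hN : (Nat.card G : ℂ) ≠ 0 := by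
      exact_mod_cast (Nat.card_pos (α := G)).ne'
    unfold classInner
    rw [← mul_sub, ← mul_sub, ← mul_add, ← mul_assoc, mul_inv_cancel₀ hN, one_mul,
      ← Finset.sum_sub_distrib, ← Finset.sum_sub_distrib, ← Finset.sum_add_distrib]
    apply Finset.sum_congr rfl
    intro g _
    rw [map_sub]
    ring
  rw [hzero, classInner_irr_self hψ, classInner_irr_ne hψ hψl (Ne.symm hl'),
    classInner_irr_ne hψk hψ hk', classInner_irr hψk hψl] at hexp
  have hN : (Nat.card G : ℂ) ≠ 0 := by
    exact_mod_cast (Nat.card_pos (α := G)).ne'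
  rcases mul_eq_zero.mp hexp.symm with h | h
  · exact hN h
  · split_ifs at h <;> norm_num at h

/-- **Blichfeldt's lemma** (character form).  If an irreducible character `ψ` of degree
`< min (p, q) - 1` is non-trivial on an element of order `p` and on an element of order `q`,
then the group has an element whose order is divisible by `p` and by `q`. -/
theorem exists_orderOf_dvd {G : Type u} [Group G] [Fintype G] {ψ : G → ℂ}
    (hψ : IsIrrCharacter G ψ) {p q : ℕ} (hp : p.Prime) (hq : q.Prime) {x y : G}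
    (hx : orderOf x = p) (hy : orderOf y = q) (hdp : charDegree ψ + 1 < p)
    (hdq : charDegree ψ + 1 < q) (hxne : ψ x ≠ ψ 1) (hyne : ψ y ≠ ψ 1) :
    ∃ g : G, p ∣ orderOf g ∧ q ∣ orderOf g := by
  classical
  have hψc := IsIrrCharacter.isCharacter hψ
  -- a general construction of the exponent
  have key : ∀ {r : ℕ} (hr : r.Prime) {z : G} (hz : orderOf z = r)
      (hdr : charDegree ψ + 1 < r) (hzne : ψ z ≠ ψ 1),
      ∃ k : ℕ, k.Coprime (Nat.card G) ∧ (fun g => ψ (g ^ k)) ≠ ψ ∧
        ∀ g : G, g ^ k ≠ g → r ∣ orderOf g := by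
    intro r hr z hz hdr hzne
    obtain ⟨j, hj0, hjr, hj⟩ := exists_pow_ne hψc hr hz hdr hzne
    have hrj : ¬ r ∣ j := fun h => by
      have := Nat.le_of_dvd hj0 h
      omega
    -- |G| = r^b * m
    have hcard_pos : 0 < Nat.card G := Nat.card_pos
    obtain ⟨b, m, hm, hNm⟩ := Nat.exists_eq_pow_mul_and_not_dvd hcard_pos.ne' r hr.ne_one
    obtain ⟨k, hkc, hk1, hk2⟩ :=
      Cfsg.Agent.Lib.Helper75.exists_crt_exponent r hr b m hm j hrj
    have hrdvd : r ∣ Nat.card G := by
      rw [← hz]; exact orderOf_dvd_natCard z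
    have hb : b ≠ 0 := by
      rintro rfl
      rw [pow_zero, one_mul] at hNm
      rw [hNm] at hrdvd
      exact hm hrdvd
    refine ⟨k, ?_, ?_, ?_⟩
    · rw [hNm, mul_comm]; exact hkc
    · intro hfun
      have h1 : ψ (z ^ k) = ψ z := congrFun hfun z
      apply hj
      rw [← h1]
      congr 1
      -- z ^ j = z ^ k
      rw [pow_eq_pow_iff_modEq, hz]
      have h3 : k ≡ j [MOD r ^ b] := hk1
      exact (h3.of_dvd (dvd_pow_self r hb)).symm
    · intro g hg
      by_contra hrg
      apply hg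
      have h1 : orderOf g ∣ r ^ b * m := by
        rw [← hNm]; exact orderOf_dvd_natCard g
      have h2 : Nat.Coprime (orderOf g) (r ^ b) :=
        Nat.Coprime.pow_right _ ((Nat.Prime.coprime_iff_not_dvd hr).2 hrg).symm
      have h3 : orderOf g ∣ m := h2.dvd_of_dvd_mul_left h1
      have h4 : k ≡ 1 [MOD m] := hk2
      have h5 : k ≡ 1 [MOD orderOf g] := h4.of_dvd h3
      have : g ^ k = g ^ 1 := by
        rw [pow_eq_pow_iff_modEq]; exact h5
      rw [this, pow_one]
  obtain ⟨k, hk, hk', hkp⟩ := key hp hx hdp hxne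
  obtain ⟨l, hl, hl', hlq⟩ := key hq hy hdq hyne
  obtain ⟨g, hg1, hg2⟩ := exists_both_ne hψ k l hk hl hk' hl'
  refine ⟨g, hkp g (fun h => hg1 (by rw [h])), hlq g (fun h => hg2 (by rw [h]))⟩

end Cfsg.Agent.Lib.Helper74.Blichfeldt
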