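import Mathlib
import Cfsg.Prelude.Def_Characters
import Cfsg.Prelude.Def_Blocks
import Cfsg.Agent.Lib.Helper74.BlichfeldtCore
import Cfsg.Agent.Lib.Helper75.Ito
import Cfsg.Agent.Lib.Helper75.BGChar
import Cfsg.Agent.Lib.Helper15.HHCore
import Cfsg.Agent.Lib.Helper77.Linear
import Cfsg.Agent.Lib.Helper79.Integrality
import Cfsg.Agent.Lib.Helper77.CenterIrr

set_option autoImplicit false
set_option linter.style.haveILetI false
open Cfsg
open scoped ComplexConjugate commutatorElement Pointwise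

universe u

namespace Cfsg.Agent.Lib.Helper74.Blichfeldt

open Cfsg.Agent.Lib.Helper78

/-- `G` has a faithful complex character of degree at most `n`. -/
def HasFaithful (G : Type u) [Group G] (n : ℕ) : Prop :=
  ∃ χ : G → ℂ, IsCharacter G χ ∧ (∀ g : G, χ g = χ 1 → g = 1) ∧ charDegree χ ≤ n

theorem HasFaithful.subgroup {G : Type u} [Group G] {n : ℕ} (h : HasFaithful G n)
    (H : Subgroup G) : HasFaithful H n := by
  obtain ⟨χ, hχ, hf, hd⟩ := h
  refine ⟨fun b : H => χ (b : G), Cfsg.Agent.Lib.Helper75.isCharacter_res H hχ, ?_, hd⟩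
  intro g hg
  exact Subtype.ext (hf (g : G) hg)

/-- A group with a faithful character of degree `< p` and an abelian normal subgroup of
`p`-power index is abelian. -/
theorem HasFaithful.comm_of_abelian_normal {M : Type u} [Group M] [Finite M] {n : ℕ}
    (h : HasFaithful M n) {p : ℕ} (hp : p.Prime) (hnp : n < p) (A : Subgroup M) [A.Normal]
    (hA : ∀ a ∈ A, ∀ b ∈ A, a * b = b * a) {i : ℕ} (hi : A.index = p ^ i) :
    ∀ g k : M, g * k = k * g := by
  classical
  have := Fintype.ofFinite M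
  obtain ⟨χ, hχ, hf, hd⟩ := h
  intro g k
  by_contra hne
  have hg : χ ⁅g, k⁆ ≠ χ 1 := by
    intro hh
    have h1 := hf _ hh
    exact hne (commutatorElement_eq_one_iff_mul_comm.mp h1)
  obtain ⟨φ, hφ, hφg⟩ := Cfsg.Agent.Lib.Helper15.exists_constituent_ne hχ _ hg
  have hle := (Cfsg.Agent.Lib.Helper75.constituent_degree hχ φ hφ).1
  have hdvd := Cfsg.Agent.Lib.Helper75.ito A hA (φ : M → ℂ) φ.2
  rw [hi] at hdvd
  obtain ⟨j, -, hj⟩ := (Nat.dvd_prime_pow hp).mp hdvd
  have hj0 : j = 0 := by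
    by_contra h0
    have : p ≤ p ^ j := Nat.le_self_pow h0 p
    omega
  rw [hj0, pow_zero] at hj
  have h1 : (φ : M → ℂ) 1 = 1 := by
    rw [Cfsg.Agent.Lib.Helper79.irr_apply_one_eq_charDegree φ, hj]; simp
  obtain ⟨f, hf'⟩ := Cfsg.Agent.Lib.Helper77.exists_monoidHom_of_degree_one
    (IsIrrCharacter.isCharacter φ.2) h1
  apply hφg
  rw [hf', hf', commutatorElement_def, map_mul, map_mul, map_mul, map_inv, map_inv, map_one]
  congr 1
  rw [mul_comm (f g) (f k)]
  group

/-- `p`-subgroups are abelian when `n < p`. -/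
theorem HasFaithful.comm_of_isPGroup {G : Type u} [Group G] [Finite G] {n : ℕ}
    (h : HasFaithful G n) {p : ℕ} (hp : p.Prime) (hnp : n < p) (P : Subgroup G)
    (hP : IsPGroup p P) : ∀ x ∈ P, ∀ y ∈ P, x * y = y * x := by
  intro x hx y hy
  haveI : Fact p.Prime := ⟨hp⟩
  obtain ⟨i, hi⟩ := IsPGroup.iff_card.mp hP
  have hbot : (⊥ : Subgroup P).index = p ^ i := by
    rw [Subgroup.index_bot, hi]
  have := (h.subgroup P).comm_of_abelian_normal hp hnp (⊥ : Subgroup P)
    (by
      intro a ha b hb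
      rw [Subgroup.mem_bot.mp ha, Subgroup.mem_bot.mp hb]) hbot ⟨x, hx⟩ ⟨y, hy⟩
  exact congrArg Subtype.val this

/-- A `p`-element (`n < p`) normalizing an abelian subgroup centralizes it. -/
theorem HasFaithful.commute_of_mem_normalizer {G : Type u} [Group G] [Finite G] {n : ℕ}
    (h : HasFaithful G n) {p : ℕ} (hp : p.Prime) (hnp : n < p) (Y : Subgroup G)
    (hY : ∀ a ∈ Y, ∀ b ∈ Y, a * b = b * a) {x : G} (hx : x ∈ Subgroup.normalizer (Y : Set G)) {a : ℕ}
    (hxo : orderOf x = p ^ a) : ∀ u ∈ Y, x * u = u * x := by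
  classical
  intro u hu
  -- work in `M = N_G(Y)`
  set M : Subgroup G := Subgroup.normalizer (Y : Set G) with hM
  have hYM : Y ≤ M := Subgroup.le_normalizer
  let Y' : Subgroup M := Y.subgroupOf M
  haveI : Y'.Normal := Subgroup.normal_in_normalizer
  let x' : M := ⟨x, hx⟩
  let Z' : Subgroup M := Subgroup.zpowers x'
  let R : Subgroup M := Z' ⊔ Y'
  have hrel : Y'.relIndex R = Y'.relIndex Z' := Subgroup.relIndex_sup_right Z' Y'
  have hdvd : Y'.relIndex R ∣ p ^ a := by
    rw [hrel]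
    have h1 : Y'.relIndex Z' ∣ Nat.card Z' := Subgroup.relIndex_dvd_card _ _
    have h2 : Nat.card Z' = p ^ a := by
      rw [Nat.card_zpowers]
      rw [← hxo]
      exact Subgroup.orderOf_mk x hx
    rwa [h2] at h1
  obtain ⟨i, -, hi⟩ := (Nat.dvd_prime_pow hp).mp hdvd
  -- the group `R`
  let A : Subgroup R := Y'.subgroupOf R
  haveI : A.Normal := Subgroup.Normal.subgroupOf inferInstance R
  have hAi : A.index = p ^ i := hi
  have hA : ∀ a ∈ A, ∀ b ∈ A, a * b = b * a := by
    intro a ha b hb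
    have ha' : ((a : M) : G) ∈ Y := ha
    have hb' : ((b : M) : G) ∈ Y := hb
    have := hY _ ha' _ hb'
    apply Subtype.ext
    apply Subtype.ext
    exact this
  have hR : HasFaithful R n := (h.subgroup M).subgroup R
  have hcomm := hR.comm_of_abelian_normal hp hnp A hA hAi
  have hxR : x' ∈ R := Subgroup.mem_sup_left (Subgroup.mem_zpowers x')
  have huR : (⟨u, hYM hu⟩ : M) ∈ R := Subgroup.mem_sup_right (by
    show (⟨u, hYM hu⟩ : M) ∈ Y.subgroupOf M
    exact hu)
  have := hcomm ⟨x', hxR⟩ ⟨⟨u, hYM hu⟩, huR⟩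
  have h2 := congrArg (fun r : R => ((r : M) : G)) this
  exact h2


/-- **Blichfeldt's lemma**: a group with a faithful character of degree `n` whose order is
divisible by two primes `p ≠ q` larger than `n + 1` has commuting elements of orders `p`, `q`. -/
theorem exists_commuting_of_dvd : ∀ (N : ℕ) (G : Type u) [Group G] [Finite G], Nat.card G = N →
    ∀ {n p q : ℕ}, HasFaithful G n → p.Prime → q.Prime → p ≠ q → n + 1 < p → n + 1 < q →
    p ∣ Nat.card G → q ∣ Nat.card G →
    ∃ x y : G, orderOf x = p ∧ orderOf y = q ∧ x * y = y * x := by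
  intro N
  induction N using Nat.strong_induction_on with
  | _ N ih =>
  intro G _ _ hN n p q hF hp hq hpq hnp hnq hpG hqG
  classical
  have := Fintype.ofFinite G
  haveI : Fact p.Prime := ⟨hp⟩
  haveI : Fact q.Prime := ⟨hq⟩
  obtain ⟨χ, hχ, hf, hd⟩ := id hF
  obtain ⟨x₀, hx₀⟩ := exists_prime_orderOf_dvd_card' p hpG
  have hx₀1 : x₀ ≠ 1 := by
    rintro rfl
    rw [orderOf_one] at hx₀
    exact hp.ne_one hx₀.symm
  have hχx : χ x₀ ≠ χ 1 := fun h => hx₀1 (hf _ h)
  obtain ⟨φ, hφ, hφx⟩ := Cfsg.Agent.Lib.Helper15.exists_constituent_ne hχ x₀ hχx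
  have hle := (Cfsg.Agent.Lib.Helper75.constituent_degree hχ φ hφ).1
  by_cases hcase : ∃ y₀ : G, orderOf y₀ = q ∧ (φ : G → ℂ) y₀ ≠ (φ : G → ℂ) 1
  · obtain ⟨y₀, hy₀, hφy⟩ := hcase
    obtain ⟨g, hgp, hgq⟩ := exists_orderOf_dvd φ.2 hp hq hx₀ hy₀ (by omega) (by omega) hφx hφy
    have hg0 : orderOf g ≠ 0 := (orderOf_pos g).ne'
    exact ⟨g ^ (orderOf g / p), g ^ (orderOf g / q), orderOf_pow_orderOf_div hg0 hgp,
      orderOf_pow_orderOf_div hg0 hgq, ((Commute.refl g).pow_pow _ _).eq⟩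
  · push Not at hcase
    set M : Subgroup G := Cfsg.Agent.Lib.Helper77.irrKer φ with hMdef
    have hxM : x₀ ∉ M := fun h => hφx ((Cfsg.Agent.Lib.Helper77.mem_irrKer φ x₀).mp h)
    have hMlt : Nat.card M < N := by
      rw [← hN]
      apply lt_of_le_of_ne (Subgroup.card_le_card_group M)
      intro h
      have := Subgroup.eq_top_of_card_eq M h
      exact hxM (this ▸ Subgroup.mem_top x₀)
    obtain ⟨y₁, hy₁⟩ := exists_prime_orderOf_dvd_card' q hqG
    have hy₁M : y₁ ∈ M := (Cfsg.Agent.Lib.Helper77.mem_irrKer φ y₁).mpr (hcase y₁ hy₁)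
    have hqM : q ∣ Nat.card M := by
      have h1 : orderOf (⟨y₁, hy₁M⟩ : M) = q := by
        rw [← hy₁]; exact Subgroup.orderOf_mk y₁ hy₁M
      rw [← h1]
      exact orderOf_dvd_natCard _
    by_cases hpM : p ∣ Nat.card M
    · obtain ⟨x, y, hx, hy, hxy⟩ := ih _ hMlt M rfl (hF.subgroup M) hp hq hpq hnp hnq hpM hqM
      refine ⟨(x : G), (y : G), ?_, ?_, ?_⟩
      · rw [Subgroup.orderOf_coe]; exact hx
      · rw [Subgroup.orderOf_coe]; exact hy
      · exact congrArg Subtype.val hxy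
    · -- Frattini argument
      obtain ⟨Q₁⟩ : Nonempty (Sylow q M) := inferInstance
      set Y : Subgroup G := (Q₁ : Subgroup M).map M.subtype with hY
      have hfrat : Subgroup.normalizer (Y : Set G) ⊔ M = ⊤ := Sylow.normalizer_sup_eq_top Q₁
      set Nn : Subgroup G := Subgroup.normalizer (Y : Set G) with hNn
      have hrel : M.relIndex (Nn ⊔ M) = M.relIndex Nn := Subgroup.relIndex_sup_right Nn M
      rw [hfrat, Subgroup.relIndex_top_right] at hrel
      have hpN : p ∣ Nat.card Nn := by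
        have h1 : Nat.card M * M.index = Nat.card G := Subgroup.card_mul_index M
        have h2 : p ∣ Nat.card M * M.index := h1 ▸ hpG
        have h3 : p ∣ M.index := (hp.dvd_mul.mp h2).resolve_left hpM
        rw [hrel] at h3
        exact h3.trans (Subgroup.relIndex_dvd_card _ _)
      obtain ⟨x, hx⟩ := exists_prime_orderOf_dvd_card' p hpN
      have hYq : IsPGroup q Y := Q₁.2.map M.subtype
      have hYab := hF.comm_of_isPGroup hq (by omega) Y hYq
      have hxo : orderOf (x : G) = p ^ 1 := by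
        rw [pow_one, Subgroup.orderOf_coe]; exact hx
      have hcomm := hF.commute_of_mem_normalizer hp (by omega) Y hYab x.2 hxo
      have hqQ : q ∣ Nat.card Q₁ := Q₁.dvd_card_of_dvd_card hqM
      obtain ⟨y, hy⟩ := exists_prime_orderOf_dvd_card' q hqQ
      have hyY : ((y : M) : G) ∈ Y := ⟨(y : M), y.2, rfl⟩
      refine ⟨(x : G), ((y : M) : G), ?_, ?_, hcomm _ hyY⟩
      · rw [Subgroup.orderOf_coe]; exact hx
      · rw [Subgroup.orderOf_coe, Subgroup.orderOf_coe]; exact hy


open scoped IsMulCommutative in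
/-- If the Sylow `p`-subgroups are abelian and the centre contains an element of order `p`, the
transfer gives a proper normal subgroup of `p`-power index. -/
theorem exists_normal_of_central {G : Type u} [Group G] [Finite G] {p : ℕ} (hp : p.Prime)
    (hab : ∀ P : Subgroup G, IsPGroup p P → ∀ x ∈ P, ∀ y ∈ P, x * y = y * x)
    {z : G} (hz : z ∈ Subgroup.center G) (hzo : orderOf z = p) :
    ∃ K : Subgroup G, K.Normal ∧ K ≠ ⊤ ∧ ∃ a, K.index = p ^ a := by
  classical
  haveI : Fact p.Prime := ⟨hp⟩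
  obtain ⟨P⟩ : Nonempty (Sylow p G) := inferInstance
  haveI : IsMulCommutative P := ⟨⟨fun a b => Subtype.ext (hab P P.2 a a.2 b b.2)⟩⟩
  let V : G →* P := MonoidHom.transfer (MonoidHom.id P)
  have key : ∀ (k : ℕ) (g₀ : G), g₀⁻¹ * z ^ k * g₀ ∈ (P : Subgroup G) →
      g₀⁻¹ * z ^ k * g₀ = z ^ k := by
    intro k g₀ _
    have hzk : z ^ k ∈ Subgroup.center G := Subgroup.pow_mem _ hz k
    have := Subgroup.mem_center_iff.mp hzk g₀
    rw [mul_assoc, ← this, ← mul_assoc, inv_mul_cancel, one_mul]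
  have hV : V z = ⟨z ^ (P : Subgroup G).index, MonoidHom.transfer_eq_pow_aux z key⟩ :=
    MonoidHom.transfer_eq_pow (MonoidHom.id P) z key
  have hVz : V z ≠ 1 := by
    intro h
    rw [hV] at h
    have h1 : z ^ (P : Subgroup G).index = 1 := congrArg Subtype.val h
    have h2 := orderOf_dvd_of_pow_eq_one h1
    rw [hzo] at h2
    exact P.not_dvd_index h2
  refine ⟨V.ker, inferInstance, ?_, ?_⟩
  · intro h
    apply hVz
    have : z ∈ V.ker := h ▸ Subgroup.mem_top z
    exact MonoidHom.mem_ker.mp this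
  · rw [Subgroup.index_ker]
    have h1 : Nat.card V.range ∣ Nat.card P := Subgroup.card_subgroup_dvd_card _
    obtain ⟨k, hk⟩ := IsPGroup.iff_card.mp P.isPGroup'
    rw [hk] at h1
    obtain ⟨a, -, ha⟩ := (Nat.dvd_prime_pow hp).mp h1
    exact ⟨a, ha⟩


/-- `G` has a Sylow `p`-subgroup and a Sylow `q`-subgroup that commute elementwise. -/
def CommPair (G : Type u) [Group G] (p q : ℕ) : Prop :=
  ∃ X Y : Subgroup G, IsPGroup p X ∧ IsPGroup q Y ∧ ¬ p ∣ X.index ∧ ¬ q ∣ Y.index ∧
    ∀ x ∈ X, ∀ y ∈ Y, x * y = y * x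

theorem CommPair.symm {G : Type u} [Group G] {p q : ℕ} (h : CommPair G p q) : CommPair G q p := by
  obtain ⟨X, Y, hX, hY, hXi, hYi, hc⟩ := h
  exact ⟨Y, X, hY, hX, hYi, hXi, fun y hy x hx => (hc x hx y hy).symm⟩

theorem CommPair.of_subgroup {G : Type u} [Group G] {p q : ℕ} (hp : p.Prime) (hq : q.Prime)
    (H : Subgroup G) (hpH : ¬ p ∣ H.index) (hqH : ¬ q ∣ H.index) (h : CommPair H p q) :
    CommPair G p q := by
  obtain ⟨X, Y, hX, hY, hXi, hYi, hc⟩ := h
  refine ⟨X.map H.subtype, Y.map H.subtype, hX.map _, hY.map _, ?_, ?_, ?_⟩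
  · rw [Subgroup.index_map_subtype]
    exact fun h => (hp.dvd_mul.mp h).elim hXi hpH
  · rw [Subgroup.index_map_subtype]
    exact fun h => (hq.dvd_mul.mp h).elim hYi hqH
  · rintro _ ⟨x, hx, rfl⟩ _ ⟨y, hy, rfl⟩
    exact congrArg Subtype.val (hc x hx y hy)

/-- Frattini step: a commuting pair of a normal subgroup of `p`-power index lifts. -/
theorem CommPair.of_normal {G : Type u} [Group G] [Finite G] {n p q : ℕ} (hF : HasFaithful G n)
    (hp : p.Prime) (hq : q.Prime) (hpq : p ≠ q) (hnp : n + 1 < p) (hnq : n + 1 < q)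
    (K : Subgroup G) [K.Normal] {a : ℕ} (hK : K.index = p ^ a) (h : CommPair K p q) :
    CommPair G p q := by
  classical
  haveI : Fact p.Prime := ⟨hp⟩
  haveI : Fact q.Prime := ⟨hq⟩
  obtain ⟨X₁, Y₁, hX₁, hY₁, hX₁i, hY₁i, hc⟩ := h
  set Q₁ : Sylow q K := hY₁.toSylow hY₁i with hQ₁
  have hQ₁c : (Q₁ : Subgroup K) = Y₁ := IsPGroup.toSylow_coe hY₁ hY₁i
  set Y : Subgroup G := Y₁.map K.subtype with hY
  set X : Subgroup G := X₁.map K.subtype with hX
  have hfrat : Subgroup.normalizer (Y : Set G) ⊔ K = ⊤ := by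
    have := Sylow.normalizer_sup_eq_top Q₁
    rwa [hQ₁c] at this
  set Nn : Subgroup G := Subgroup.normalizer (Y : Set G) with hNn
  have hYq : IsPGroup q Y := hY₁.map _
  have hYab := hF.comm_of_isPGroup hq (by omega) Y hYq
  have hYi : ¬ q ∣ Y.index := by
    rw [hY, Subgroup.index_map_subtype, hK]
    intro h
    rcases hq.dvd_mul.mp h with h | h
    · exact hY₁i h
    · exact hpq ((Nat.prime_dvd_prime_iff_eq hq hp).mp (hq.dvd_of_dvd_pow h)).symm
  -- `X ≤ N_G(Y)`
  have hXN : X ≤ Nn := by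
    rw [hNn]
    apply Subgroup.le_normalizer_iff.mpr
    rintro _ ⟨x, hx, rfl⟩ _ ⟨y, hy, rfl⟩
    refine ⟨y, hy, ?_⟩
    have := hc x hx y hy
    have h2 : (x : G) * (y : G) = (y : G) * (x : G) := congrArg Subtype.val this
    show (y : G) = (x : G) * (y : G) * (x : G)⁻¹
    rw [h2, mul_inv_cancel_right]
  -- `p ∤ |G : N_G(Y)|`
  have hNi : ¬ p ∣ Nn.index := by
    have hrel : K.relIndex (Nn ⊔ K) = K.relIndex Nn := Subgroup.relIndex_sup_right Nn K
    rw [hfrat, Subgroup.relIndex_top_right] at hrel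
    have h1 : (K ⊓ Nn).relIndex Nn * Nn.index = (K ⊓ Nn).index :=
      Subgroup.relIndex_mul_index inf_le_right
    have h2 : (K ⊓ Nn).relIndex K * K.index = (K ⊓ Nn).index :=
      Subgroup.relIndex_mul_index inf_le_left
    rw [Subgroup.inf_relIndex_right, ← hrel] at h1
    rw [Subgroup.inf_relIndex_left] at h2
    have hK0 : K.index ≠ 0 := by rw [hK]; exact pow_ne_zero _ hp.ne_zero
    have h3 : Nn.index = Nn.relIndex K := by
      have : K.index * Nn.index = K.index * Nn.relIndex K := by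
        rw [h1, ← h2, mul_comm]
      exact Nat.eq_of_mul_eq_mul_left (Nat.pos_of_ne_zero hK0) this
    have hXK : X ≤ K := by
      rintro _ ⟨x, -, rfl⟩
      exact x.2
    have h4 : Nn.relIndex K ∣ X.relIndex K := Subgroup.relIndex_dvd_of_le_left K hXN
    have h5 : X.relIndex K = X₁.index := by
      have := Subgroup.relIndex_map_map_of_injective X₁ (⊤ : Subgroup K)
        (f := K.subtype) K.subtype_injective
      rw [Subgroup.relIndex_top_right] at this
      rw [← this, hX]
      congr 1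
      rw [← MonoidHom.range_eq_map, Subgroup.range_subtype]
    rw [h3]
    intro h
    exact hX₁i (h5 ▸ h.trans h4)
  obtain ⟨S⟩ : Nonempty (Sylow p Nn) := inferInstance
  refine ⟨(S : Subgroup Nn).map Nn.subtype, Y, S.2.map _, hYq, ?_, hYi, ?_⟩
  · rw [Subgroup.index_map_subtype]
    exact fun h => (hp.dvd_mul.mp h).elim S.not_dvd_index hNi
  · rintro _ ⟨x, hx, rfl⟩ u hu
    obtain ⟨k, hk⟩ := (IsPGroup.iff_orderOf.mp S.isPGroup') ⟨x, hx⟩
    have hxo : orderOf ((x : Nn) : G) = p ^ k := by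
      rw [Subgroup.orderOf_coe]
      have : orderOf (⟨x, hx⟩ : (S : Subgroup Nn)) = orderOf x := Subgroup.orderOf_mk x hx
      rw [← this, hk]
    exact hF.commute_of_mem_normalizer hp (by omega) Y hYab x.2 hxo u hu


/-- A subgroup containing a `p`-group of `p'`-index has `p'`-index. -/
theorem not_dvd_index_of_le {G : Type u} [Group G] {p : ℕ} {X H : Subgroup G} (hXH : X ≤ H)
    (hX : ¬ p ∣ X.index) : ¬ p ∣ H.index :=
  fun h => hX (h.trans (Subgroup.index_dvd_of_le hXH))

/-- **Commuting Sylow subgroups** for two primes larger than `n + 1`. -/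
theorem commPair : ∀ (N : ℕ) (G : Type u) [Group G] [Finite G], Nat.card G = N →
    ∀ {n p q : ℕ}, HasFaithful G n → p.Prime → q.Prime → p ≠ q → n + 1 < p → n + 1 < q →
    CommPair G p q := by
  intro N
  induction N using Nat.strong_induction_on with
  | _ N ih =>
  intro G _ _ hN n p q hF hp hq hpq hnp hnq
  classical
  haveI : Fact p.Prime := ⟨hp⟩
  haveI : Fact q.Prime := ⟨hq⟩
  have hlt : ∀ H : Subgroup G, H ≠ ⊤ → Nat.card H < N := by
    intro H hH
    rw [← hN]
    apply lt_of_le_of_ne (Subgroup.card_le_card_group H)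
    intro h
    exact hH (Subgroup.eq_top_of_card_eq H h)
  have habp := hF.comm_of_isPGroup hp (by omega : n < p)
  have habq := hF.comm_of_isPGroup hq (by omega : n < q)
  by_cases hpG : p ∣ Nat.card G
  swap
  · obtain ⟨Q⟩ : Nonempty (Sylow q G) := inferInstance
    refine ⟨⊥, Q, IsPGroup.of_bot, Q.2, ?_, Q.not_dvd_index, ?_⟩
    · rwa [Subgroup.index_bot]
    · intro x hx y _
      rw [Subgroup.mem_bot.mp hx, one_mul, mul_one]
  by_cases hqG : q ∣ Nat.card G
  swap
  · obtain ⟨P⟩ : Nonempty (Sylow p G) := inferInstance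
    refine ⟨P, ⊥, P.2, IsPGroup.of_bot, P.not_dvd_index, ?_, ?_⟩
    · rwa [Subgroup.index_bot]
    · intro x _ y hy
      rw [Subgroup.mem_bot.mp hy, one_mul, mul_one]
  by_cases hzp : ∃ z ∈ Subgroup.center G, orderOf z = p
  · obtain ⟨z, hz, hzo⟩ := hzp
    obtain ⟨K, hKn, hKt, a, hKa⟩ := exists_normal_of_central hp habp hz hzo
    have hK := ih _ (hlt K hKt) K rfl (hF.subgroup K) hp hq hpq hnp hnq
    exact hK.of_normal hF hp hq hpq hnp hnq K hKa
  by_cases hzq : ∃ z ∈ Subgroup.center G, orderOf z = q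
  · obtain ⟨z, hz, hzo⟩ := hzq
    obtain ⟨K, hKn, hKt, a, hKa⟩ := exists_normal_of_central hq habq hz hzo
    have hK := ih _ (hlt K hKt) K rfl (hF.subgroup K) hq hp hpq.symm hnq hnp
    exact (hK.of_normal hF hq hp hpq.symm hnq hnp K hKa).symm
  push Not at hzp hzq
  obtain ⟨x, y, hx, hy, hxy⟩ :=
    exists_commuting_of_dvd N G hN hF hp hq hpq hnp hnq hpG hqG
  -- first step: the centralizer of `y`
  set H₁ : Subgroup G := Subgroup.centralizer ({y} : Set G) with hH₁
  have hH₁t : H₁ ≠ ⊤ := by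
    intro h
    apply hzq y _ hy
    rw [Subgroup.mem_center_iff]
    intro g
    have hg : g ∈ H₁ := h ▸ Subgroup.mem_top g
    rw [hH₁, Subgroup.mem_centralizer_iff] at hg
    exact (hg y rfl).symm
  have hqH₁ : ¬ q ∣ H₁.index := by
    have hzq' : IsPGroup q (Subgroup.zpowers y) := by
      apply IsPGroup.of_card (n := 1)
      rw [Nat.card_zpowers, hy, pow_one]
    obtain ⟨Q, hQ⟩ := hzq'.exists_le_sylow
    have hyQ : y ∈ (Q : Subgroup G) := hQ (Subgroup.mem_zpowers y)
    apply not_dvd_index_of_le _ Q.not_dvd_index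
    intro g hg
    rw [hH₁, Subgroup.mem_centralizer_iff]
    intro u hu
    rw [Set.mem_singleton_iff.mp hu]
    exact habq Q Q.2 y hyQ g hg
  have hxH₁ : x ∈ H₁ := by
    rw [hH₁, Subgroup.mem_centralizer_iff]
    intro u hu
    rw [Set.mem_singleton_iff.mp hu]
    exact hxy.symm
  obtain ⟨X₁, Y₁, hX₁, hY₁, hX₁i, hY₁i, hc₁⟩ :=
    ih _ (hlt H₁ hH₁t) H₁ rfl (hF.subgroup H₁) hp hq hpq hnp hnq
  -- an element of order `p` in `X₁`
  have hpH₁ : p ∣ Nat.card H₁ := by
    have h1 : orderOf (⟨x, hxH₁⟩ : H₁) = p := by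
      rw [← hx]; exact Subgroup.orderOf_mk x hxH₁
    rw [← h1]; exact orderOf_dvd_natCard _
  have hpX₁ : p ∣ Nat.card X₁ := by
    have h1 : Nat.card X₁ * X₁.index = Nat.card H₁ := Subgroup.card_mul_index X₁
    rw [← h1] at hpH₁
    exact (hp.dvd_mul.mp hpH₁).resolve_right hX₁i
  obtain ⟨x₁, hx₁⟩ := exists_prime_orderOf_dvd_card' p hpX₁
  set X : Subgroup G := X₁.map H₁.subtype with hX
  set Y : Subgroup G := Y₁.map H₁.subtype with hY
  have hXp : IsPGroup p X := hX₁.map _
  have hYi : ¬ q ∣ Y.index := by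
    rw [hY, Subgroup.index_map_subtype]
    exact fun h => (hq.dvd_mul.mp h).elim hY₁i hqH₁
  have hx₁X : ((x₁ : H₁) : G) ∈ X := ⟨(x₁ : H₁), x₁.2, rfl⟩
  have hx₁o : orderOf ((x₁ : H₁) : G) = p := by
    rw [Subgroup.orderOf_coe, Subgroup.orderOf_coe]; exact hx₁
  -- second step: the centralizer of `X`
  set H₂ : Subgroup G := Subgroup.centralizer (X : Set G) with hH₂
  have hH₂t : H₂ ≠ ⊤ := by
    intro h
    apply hzp _ _ hx₁o
    rw [Subgroup.mem_center_iff]
    intro g
    have hg : g ∈ H₂ := h ▸ Subgroup.mem_top g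
    rw [hH₂, Subgroup.mem_centralizer_iff] at hg
    exact (hg _ hx₁X).symm
  have hYH₂ : Y ≤ H₂ := by
    rintro _ ⟨y', hy', rfl⟩
    rw [hH₂, Subgroup.mem_centralizer_iff]
    rintro _ ⟨x', hx', rfl⟩
    exact congrArg Subtype.val (hc₁ x' hx' y' hy')
  have hqH₂ : ¬ q ∣ H₂.index := not_dvd_index_of_le hYH₂ hYi
  have hpH₂ : ¬ p ∣ H₂.index := by
    obtain ⟨P, hP⟩ := hXp.exists_le_sylow
    apply not_dvd_index_of_le _ P.not_dvd_index
    intro g hg
    rw [hH₂, Subgroup.mem_centralizer_iff]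
    intro u hu
    exact habp P P.2 u (hP hu) g hg
  have h₂ := ih _ (hlt H₂ hH₂t) H₂ rfl (hF.subgroup H₂) hp hq hpq hnp hnq
  exact h₂.of_subgroup hp hq H₂ hpH₂ hqH₂


/-- Given commuting Sylow subgroups for `p, q` and *any* Sylow `p`-subgroup `P`, some Sylow
`q`-subgroup centralizes `P`. -/
theorem CommPair.exists_for {G : Type u} [Group G] [Finite G] {p q : ℕ} (hp : p.Prime)
    (h : CommPair G p q) (P : Subgroup G) (hP : IsPGroup p P) (hPi : ¬ p ∣ P.index) :
    ∃ Y : Subgroup G, ¬ q ∣ Y.index ∧ ∀ x ∈ P, ∀ y ∈ Y, x * y = y * x := by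
  classical
  haveI : Fact p.Prime := ⟨hp⟩
  obtain ⟨X, Y, hX, hY, hXi, hYi, hc⟩ := h
  obtain ⟨g, hg⟩ := MulAction.exists_smul_eq G (hX.toSylow hXi) (hP.toSylow hPi)
  have hg' : MulAut.conj g • X = P := by
    have h1 := congrArg (fun S : Sylow p G => (S : Subgroup G)) hg
    simp only [Sylow.coe_subgroup_smul, IsPGroup.toSylow_coe] at h1
    exact h1
  refine ⟨Y.map (MulAut.conj g).toMonoidHom, ?_, ?_⟩
  · have h1 := Subgroup.index_map_equiv Y (MulAut.conj g)
    intro h
    apply hYi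
    rw [← h1]
    exact h
  · intro x hx
    rintro _ ⟨y, hy, rfl⟩
    rw [← hg', Subgroup.mem_pointwise_smul_iff_inv_smul_mem] at hx
    have hx' : g⁻¹ * x * g ∈ X := by
      simpa [MulAut.smul_def, MulAut.conj_apply] using hx
    have := hc _ hx' y hy
    show x * (g * y * g⁻¹) = g * y * g⁻¹ * x
    have h2 : x = g * (g⁻¹ * x * g) * g⁻¹ := by group
    rw [h2]
    calc g * (g⁻¹ * x * g) * g⁻¹ * (g * y * g⁻¹) = g * ((g⁻¹ * x * g) * y) * g⁻¹ := by group
      _ = g * (y * (g⁻¹ * x * g)) * g⁻¹ := by rw [this]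
      _ = g * y * g⁻¹ * (g * (g⁻¹ * x * g) * g⁻¹) := by group

/-- **Blichfeldt's theorem**: a group with a faithful character of degree `n` has an abelian
Hall subgroup for the set of primes larger than `n + 1`. -/
theorem exists_abelian_hall : ∀ (N : ℕ) (G : Type u) [Group G] [Finite G], Nat.card G = N →
    ∀ {n : ℕ}, HasFaithful G n →
    ∃ A : Subgroup G, (∀ x ∈ A, ∀ y ∈ A, x * y = y * x) ∧
      (∀ r : ℕ, r.Prime → r ∣ Nat.card A → n + 1 < r) ∧
      (∀ r : ℕ, r.Prime → r ∣ A.index → r ≤ n + 1) := by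
  intro N
  induction N using Nat.strong_induction_on with
  | _ N ih =>
  intro G _ _ hN n hF
  classical
  by_cases hcase : ∃ p : ℕ, p.Prime ∧ n + 1 < p ∧ ∃ P : Subgroup G, IsPGroup p P ∧
      ¬ p ∣ P.index ∧ ¬ P ≤ Subgroup.center G
  · obtain ⟨p, hp, hnp, P, hP, hPi, hPc⟩ := hcase
    set H : Subgroup G := Subgroup.centralizer (P : Set G) with hH
    have hHt : H ≠ ⊤ := by
      intro h
      apply hPc
      intro x hx
      rw [Subgroup.mem_center_iff]
      intro g
      have hg : g ∈ H := h ▸ Subgroup.mem_top g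
      rw [hH, Subgroup.mem_centralizer_iff] at hg
      exact (hg x hx).symm
    have hlt : Nat.card H < N := by
      rw [← hN]
      apply lt_of_le_of_ne (Subgroup.card_le_card_group H)
      intro h
      exact hHt (Subgroup.eq_top_of_card_eq H h)
    obtain ⟨A, hA, hA2, hA3⟩ := ih _ hlt H rfl (hF.subgroup H)
    refine ⟨A.map H.subtype, ?_, ?_, ?_⟩
    · rintro _ ⟨x, hx, rfl⟩ _ ⟨y, hy, rfl⟩
      exact congrArg Subtype.val (hA x hx y hy)
    · intro r hr hrd
      rw [Subgroup.card_map_of_injective H.subtype_injective] at hrd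
      exact hA2 r hr hrd
    · intro r hr hrd
      rw [Subgroup.index_map_subtype] at hrd
      rcases hr.dvd_mul.mp hrd with h | h
      · exact hA3 r hr h
      · by_contra hrn
        push Not at hrn
        have habp := hF.comm_of_isPGroup hp (by omega : n < p)
        by_cases hrp : r = p
        · subst hrp
          have hPH : P ≤ H := by
            intro g hg
            rw [hH, Subgroup.mem_centralizer_iff]
            intro u hu
            exact habp P hP u hu g hg
          exact not_dvd_index_of_le hPH hPi h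
        · have hpair := commPair N G hN hF hp hr (Ne.symm hrp) hnp hrn
          obtain ⟨Y, hYi, hc⟩ := hpair.exists_for hp P hP hPi
          have hYH : Y ≤ H := by
            intro y hy
            rw [hH, Subgroup.mem_centralizer_iff]
            intro u hu
            exact hc u hu y hy
          exact not_dvd_index_of_le hYH hYi h
  · push Not at hcase
    let A : Subgroup G :=
      { carrier := {z | z ∈ Subgroup.center G ∧ ∀ r : ℕ, r.Prime → r ∣ orderOf z → n + 1 < r}
        mul_mem' := by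
          rintro a b ⟨ha, ha'⟩ ⟨hb, hb'⟩
          refine ⟨Subgroup.mul_mem _ ha hb, ?_⟩
          intro r hr hrd
          have hcomm : Commute a b := Subgroup.mem_center_iff.mp hb a
          have h1 := hrd.trans hcomm.orderOf_mul_dvd_lcm
          have h2 := h1.trans (Nat.lcm_dvd_mul _ _)
          rcases hr.dvd_mul.mp h2 with h | h
          · exact ha' r hr h
          · exact hb' r hr h
        one_mem' := by
          refine ⟨Subgroup.one_mem _, ?_⟩
          intro r hr hrd
          rw [orderOf_one] at hrd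
          exact absurd (Nat.dvd_one.mp hrd) hr.ne_one
        inv_mem' := by
          rintro a ⟨ha, ha'⟩
          refine ⟨Subgroup.inv_mem _ ha, ?_⟩
          intro r hr hrd
          rw [orderOf_inv] at hrd
          exact ha' r hr hrd }
    refine ⟨A, ?_, ?_, ?_⟩
    · rintro x ⟨hx, -⟩ y ⟨hy, -⟩
      exact Subgroup.mem_center_iff.mp hy x
    · intro r hr hrd
      haveI : Fact r.Prime := ⟨hr⟩
      obtain ⟨a, ha⟩ := exists_prime_orderOf_dvd_card' r hrd
      have h1 : orderOf (a : G) = r := by rw [Subgroup.orderOf_coe]; exact ha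
      exact a.2.2 r hr (h1 ▸ dvd_rfl)
    · intro r hr hrd
      by_contra hrn
      push Not at hrn
      haveI : Fact r.Prime := ⟨hr⟩
      obtain ⟨P⟩ : Nonempty (Sylow r G) := inferInstance
      have hPc := hcase r hr hrn P P.2 P.not_dvd_index
      have hPA : (P : Subgroup G) ≤ A := by
        intro z hz
        refine ⟨hPc hz, ?_⟩
        intro s hs hsd
        obtain ⟨k, hk⟩ := (IsPGroup.iff_orderOf.mp P.isPGroup') ⟨z, hz⟩
        have h1 : orderOf z = r ^ k := by
          have : orderOf (⟨z, hz⟩ : (P : Subgroup G)) = orderOf z := Subgroup.orderOf_mk z hz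
          rw [← this, hk]
        rw [h1] at hsd
        have h2 := (Nat.prime_dvd_prime_iff_eq hs hr).mp (hs.dvd_of_dvd_pow hsd)
        rw [h2]
        exact hrn
      exact not_dvd_index_of_le hPA P.not_dvd_index hrd

end Cfsg.Agent.Lib.Helper74.Blichfeldt
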