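import Cfsg.Agent.Lib.Helper74.FSReal
import Cfsg.Prelude.Def_Characters

/-!
# Real-valued irreducible characters of odd degree have indicator +1 (helper74)

`fs_eq_one_of_real_of_odd_degree` is exactly the statement of S0895.
-/

set_option autoImplicit false

namespace Cfsg.Agent.Lib.Helper74

open Matrix

variable {G : Type*} [Group G] {n : ℕ}

/-- A real-valued irreducible complex matrix representation of odd degree has indicator `+1`. -/
theorem fsInd_eq_one_of_real_of_odd [Fintype G] (ρ : Representation ℂ G (Fin n → ℂ))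
    [ρ.IsIrreducible] (hreal : ∀ g : G, (ρ.character g).im = 0) (hodd : Odd n) :
    fsInd ρ = 1 := by
  obtain ⟨M, h0, hM⟩ := exists_invForm_of_real ρ hreal
  have hu : IsUnit M.det := (Matrix.isUnit_iff_isUnit_det M).mp (hM.isUnit h0)
  have h1 := hM.transpose_eq_fsInd
  have h2 := congrArg Matrix.det h1
  rw [Matrix.det_transpose, Matrix.det_smul, Fintype.card_fin] at h2
  have h3 : fsInd ρ ^ n = 1 := by
    have hne : M.det ≠ 0 := hu.ne_zero
    have : (fsInd ρ ^ n - 1) * M.det = 0 := by rw [sub_mul, one_mul, ← h2, sub_self]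
    rcases mul_eq_zero.mp this with h | h
    · exact sub_eq_zero.mp h
    · exact absurd h hne
  rcases fsInd_trichotomy ρ with h | h | h
  · exfalso
    rw [h, zero_pow (ne_zero_of_irreducible ρ)] at h3
    exact zero_ne_one h3
  · exact h
  · exfalso
    rw [h, hodd.neg_one_pow] at h3
    norm_num at h3

/-- Statement S0895: a real-valued irreducible character of odd degree has Frobenius–Schur
indicator `+1`. -/
theorem fs_eq_one_of_real_of_odd_degree [Fintype G] (χ : G → ℂ) (hχ : Cfsg.IsIrrCharacter G χ)
    (hreal : ∀ g : G, (χ g).im = 0) (d : ℕ) (hd : χ 1 = d) (hodd : Odd d) :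
    (Nat.card G : ℂ)⁻¹ * ∑ s : G, χ (s * s) = 1 := by
  obtain ⟨m, ρ, hirr, rfl⟩ := hχ
  have := hirr
  have hm : m = d := by
    rw [Representation.char_one] at hd
    simp only [Module.finrank_fin_fun] at hd
    exact_mod_cast hd
  subst hm
  have h := fsInd_eq_one_of_real_of_odd ρ hreal hodd
  rw [fsInd_eq_sum_character] at h
  rw [Nat.card_eq_fintype_card]
  exact h

end Cfsg.Agent.Lib.Helper74
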