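import Mathlib
import Cfsg.Agent.Lib.Helper81.Gallagher
import Cfsg.Agent.Lib.Helper77.Linear
import Cfsg.Agent.Lib.Helper79.Integrality
import Cfsg.Agent.Lib.Helper78.CharOrtho

set_option autoImplicit false

namespace Cfsg.Agent.Lib.Helper74

open Cfsg
open scoped ComplexConjugate

universe u

section Bound

variable {G : Type u} [Group G] [Finite G]

/-- a group of linear characters fixing an irreducible character `χ` under multiplication has
order at most `χ(1)²` -/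
theorem card_le_sq_of_twist_fixed (S : Subgroup (G →* ℂˣ)) (χ : IrrCharacter G)
    (hfix : ∀ μ ∈ S, ∀ g, ((μ g : ℂˣ) : ℂ) * (χ : G → ℂ) g = (χ : G → ℂ) g) :
    Nat.card S ≤ (charDegree (χ : G → ℂ)) ^ 2 := by
  classical
  have : Fintype G := Fintype.ofFinite G
  set N : Subgroup G := ⨅ μ : S, (μ : G →* ℂˣ).ker with hN
  have : Fintype N := Fintype.ofFinite _
  -- `χ` vanishes off `N`
  have hvan : ∀ g, g ∉ N → (χ : G → ℂ) g = 0 := by
    intro g hg
    rw [hN, Subgroup.mem_iInf] at hg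
    push Not at hg
    obtain ⟨μ, hμ⟩ := hg
    have h1 := hfix μ.1 μ.2 g
    have h2 : ((((μ : G →* ℂˣ) g : ℂˣ) : ℂ) - 1) * (χ : G → ℂ) g = 0 := by
      rw [sub_mul, h1, one_mul, sub_self]
    rcases mul_eq_zero.mp h2 with h3 | h3
    · exfalso
      apply hμ
      rw [MonoidHom.mem_ker]
      apply Units.ext
      rw [Units.val_one]
      exact sub_eq_zero.mp h3
    · exact h3
  -- norm computation
  have h1 := Cfsg.Agent.Lib.Helper78.classInner_irr_self χ.2
  unfold classInner at h1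
  rw [Cfsg.Agent.Lib.Helper81.sum_eq_sum_subgroup_of_vanish N
    (fun t => (χ : G → ℂ) t * conj ((χ : G → ℂ) t))
    (fun t ht => by rw [hvan t ht, zero_mul])] at h1
  have hG0 : (Nat.card G : ℂ) ≠ 0 := by exact_mod_cast (Nat.card_pos (α := G)).ne'
  have h2 : ∑ k : N, (χ : G → ℂ) k * conj ((χ : G → ℂ) k) = (Nat.card G : ℂ) := by
    field_simp at h1
    exact h1
  set d := charDegree (χ : G → ℂ) with hd
  have h3 : (Nat.card G : ℝ) ≤ (Nat.card N : ℝ) * (d : ℝ) ^ 2 := by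
    have h4 : ∀ k : N, (χ : G → ℂ) k * conj ((χ : G → ℂ) k) =
        ((‖(χ : G → ℂ) k‖ ^ 2 : ℝ) : ℂ) := by
      intro k
      rw [Complex.mul_conj, Complex.normSq_eq_norm_sq]
    rw [Finset.sum_congr rfl fun k _ => h4 k] at h2
    have h5 : ((∑ k : N, ‖(χ : G → ℂ) k‖ ^ 2 : ℝ) : ℂ) = ((Nat.card G : ℝ) : ℂ) := by
      push_cast
      rw [← h2]
      push_cast
      rfl
    have h6 : (∑ k : N, ‖(χ : G → ℂ) k‖ ^ 2 : ℝ) = (Nat.card G : ℝ) := by exact_mod_cast h5
    rw [← h6]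
    have h7 : ∀ k ∈ (Finset.univ : Finset N), ‖(χ : G → ℂ) k‖ ^ 2 ≤ (d : ℝ) ^ 2 := by
      intro k _
      have := Cfsg.Agent.Lib.Helper79.irr_norm_le χ (k : G)
      have h0 : 0 ≤ ‖(χ : G → ℂ) k‖ := norm_nonneg _
      exact pow_le_pow_left₀ h0 this 2
    calc (∑ k : N, ‖(χ : G → ℂ) k‖ ^ 2 : ℝ) ≤ ∑ _k : N, (d : ℝ) ^ 2 := Finset.sum_le_sum h7
      _ = (Nat.card N : ℝ) * (d : ℝ) ^ 2 := by
        rw [Finset.sum_const, Finset.card_univ, nsmul_eq_mul, Nat.card_eq_fintype_card]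
  have h4 : Nat.card G ≤ Nat.card N * d ^ 2 := by exact_mod_cast h3
  have h5 : N.index ≤ d ^ 2 := by
    have h6 := N.card_mul_index
    rw [← h6] at h4
    exact Nat.le_of_mul_le_mul_left h4 Nat.card_pos
  obtain ⟨hfin, hle⟩ := Cfsg.Agent.Lib.Helper81.card_monoidHom_trivial_on_le_index N
  have hinj : Function.Injective (fun μ : S => (⟨μ.1, by
      rw [hN]; exact iInf_le (fun μ : S => (μ : G →* ℂˣ).ker) μ⟩ :
      {ν : G →* ℂˣ // N ≤ ν.ker})) := by
    intro a b hab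
    apply Subtype.ext
    exact congrArg (fun x : {ν : G →* ℂˣ // N ≤ ν.ker} => x.1) hab
  calc Nat.card S ≤ Nat.card {ν : G →* ℂˣ // N ≤ ν.ker} := Nat.card_le_card_of_injective _ hinj
    _ ≤ N.index := hle
    _ ≤ d ^ 2 := h5

end Bound

end Cfsg.Agent.Lib.Helper74
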