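import Mathlib
import Cfsg.Agent.Lib.Helper81.Gallagher
import Cfsg.Agent.Lib.Helper77.Linear
import Cfsg.Agent.Lib.Helper79.Integrality
import Cfsg.Agent.Lib.Helper74.FSCount

set_option autoImplicit false

namespace Cfsg.Agent.Lib.Helper74

open Cfsg
open scoped ComplexConjugate

universe u

section FSInt

variable {G : Type u} [Group G] [Fintype G]

/-- the Frobenius–Schur indicator as an integer -/
noncomputable def fsInt (χ : IrrCharacter G) : ℤ :=
  if fsIndFun (χ : G → ℂ) = 0 then 0 else if fsIndFun (χ : G → ℂ) = 1 then 1 else -1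

theorem fsInt_cast (χ : IrrCharacter G) : ((fsInt χ : ℤ) : ℂ) = fsIndFun (χ : G → ℂ) := by
  unfold fsInt
  rcases fsIndFun_trichotomy χ with h | h | h
  · rw [if_pos h, h]; simp
  · rw [if_neg (by rw [h]; exact one_ne_zero), if_pos h, h]; simp
  · rw [if_neg (by rw [h]; simp), if_neg (by rw [h]; norm_num), h]; simp

theorem fsInt_cases (χ : IrrCharacter G) : fsInt χ = 0 ∨ fsInt χ = 1 ∨ fsInt χ = -1 := by
  unfold fsInt
  split_ifs <;> simp

theorem fsInt_eq_of_fsIndFun_eq {χ ψ : IrrCharacter G}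
    (h : fsIndFun (χ : G → ℂ) = fsIndFun (ψ : G → ℂ)) : fsInt χ = fsInt ψ := by
  unfold fsInt; rw [h]

/-- **Frobenius–Schur count**, integer form -/
theorem card_sq_eq_one_eq_sum_int :
    (Nat.card {s : G // s * s = 1} : ℤ) =
      ∑ χ : IrrCharacter G, fsInt χ * (charDegree (χ : G → ℂ) : ℤ) := by
  have h := card_sq_eq_one_eq_sum (G := G)
  have h2 : ((Nat.card {s : G // s * s = 1} : ℤ) : ℂ) =
      ((∑ χ : IrrCharacter G, fsInt χ * (charDegree (χ : G → ℂ) : ℤ) : ℤ) : ℂ) := by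
    push_cast
    rw [h]
    apply Finset.sum_congr rfl
    intro χ _
    rw [fsInt_cast, Cfsg.Agent.Lib.Helper79.irr_apply_one_eq_charDegree]
  exact_mod_cast h2

/-- the indicator of a linear character `φ` is `1` if `φ² = 1` and `0` otherwise -/
theorem fsIndFun_monoidHom (φ : G →* ℂˣ) :
    fsIndFun (fun g => ((φ g : ℂˣ) : ℂ)) = if φ ^ 2 = 1 then 1 else 0 := by
  classical
  have hcard : (Nat.card G : ℂ) ≠ 0 := by
    have : Nat.card G ≠ 0 := Nat.card_pos.ne'
    exact_mod_cast this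
  unfold fsIndFun
  have h1 : ∀ s : G, (((φ (s * s) : ℂˣ) : ℂ)) = ((Units.coeHom ℂ).comp (φ ^ 2)) s := by
    intro s
    simp [pow_two]
  rw [Finset.sum_congr rfl fun s _ => h1 s]
  split_ifs with h
  · rw [h]
    simp [Finset.sum_const, Finset.card_univ, ← Nat.card_eq_fintype_card, hcard]
  · rw [sum_hom_units_eq_zero, mul_zero]
    intro hone
    apply h
    ext g
    have := congrArg (fun f : G →* ℂ => f g) hone
    simpa using this

theorem charDegree_eq_two_pow (hG : IsPGroup 2 G) (χ : IrrCharacter G) :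
    ∃ j : ℕ, charDegree (χ : G → ℂ) = 2 ^ j := by
  obtain ⟨n, hn⟩ := IsPGroup.iff_card.mp hG
  have h := Cfsg.Agent.Lib.Helper79.irr_charDegree_dvd_card χ
  rw [hn] at h
  obtain ⟨m, -, hm⟩ := (Nat.dvd_prime_pow Nat.prime_two).mp h
  exact ⟨m, hm⟩

open scoped Classical in
/-- the sum of the indicators of the linear characters is the number of real linear characters -/
theorem sum_linear_fsInt :
    ∑ χ ∈ Finset.univ.filter (fun χ : IrrCharacter G => charDegree (χ : G → ℂ) = 1), fsInt χ =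
      (Nat.card {φ : G →* ℂˣ // φ ^ 2 = 1} : ℤ) := by
  have : Finite (G →* ℂˣ) := Finite.of_equiv _ (Cfsg.Agent.Lib.Helper77.linearCharEquiv (G := G))
  have : Fintype (G →* ℂˣ) := Fintype.ofFinite _
  have hmem : ∀ χ : IrrCharacter G,
      χ ∈ Finset.univ.filter (fun χ : IrrCharacter G => charDegree (χ : G → ℂ) = 1) ↔
        (χ : G → ℂ) 1 = 1 := by
    intro χ
    rw [Finset.mem_filter, Cfsg.Agent.Lib.Helper79.irr_apply_one_eq_charDegree]
    simp
  rw [Finset.sum_subtype _ hmem,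
    ← Equiv.sum_comp (Cfsg.Agent.Lib.Helper77.linearCharEquiv (G := G)).symm]
  have h1 : ∀ φ : G →* ℂˣ,
      fsInt ((Cfsg.Agent.Lib.Helper77.linearCharEquiv (G := G)).symm φ).1 =
        if φ ^ 2 = 1 then 1 else 0 := by
    intro φ
    have h2 : fsIndFun ((((Cfsg.Agent.Lib.Helper77.linearCharEquiv (G := G)).symm φ).1 :
        IrrCharacter G) : G → ℂ) = if φ ^ 2 = 1 then 1 else 0 := fsIndFun_monoidHom φ
    unfold fsInt
    rw [h2]
    split_ifs <;> simp_all
  rw [Finset.sum_congr rfl fun φ _ => h1 φ, Finset.sum_boole, Nat.card_eq_fintype_card,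
    Fintype.card_subtype]

open scoped Classical in
/-- the Frobenius–Schur count modulo `4` in a `2`-group -/
theorem fs_congruence (hG : IsPGroup 2 G) :
    ∃ k : ℤ, (Nat.card {s : G // s * s = 1} : ℤ) =
      (Nat.card {φ : G →* ℂˣ // φ ^ 2 = 1} : ℤ) +
      2 * ∑ χ ∈ Finset.univ.filter (fun χ : IrrCharacter G => charDegree (χ : G → ℂ) = 2),
        fsInt χ + 4 * k := by
  have hpt : ∀ χ : IrrCharacter G, ∃ r : ℤ, fsInt χ * (charDegree (χ : G → ℂ) : ℤ) =
      (if charDegree (χ : G → ℂ) = 1 then fsInt χ else 0) +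
      2 * (if charDegree (χ : G → ℂ) = 2 then fsInt χ else 0) + 4 * r := by
    intro χ
    obtain ⟨j, hj⟩ := charDegree_eq_two_pow hG χ
    rcases j with _ | _ | j
    · refine ⟨0, ?_⟩
      rw [hj]; simp
    · refine ⟨0, ?_⟩
      rw [hj]; simp; ring
    · refine ⟨fsInt χ * 2 ^ j, ?_⟩
      have h1 : (2 : ℕ) ^ (j + 1 + 1) ≠ 1 := by
        have : 2 ^ (j + 1 + 1) = 4 * 2 ^ j := by ring
        omega
      have h2 : (2 : ℕ) ^ (j + 1 + 1) ≠ 2 := by
        have : 2 ^ (j + 1 + 1) = 4 * 2 ^ j := by ring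
        have : 0 < 2 ^ j := by positivity
        omega
      rw [hj, if_neg h1, if_neg h2]
      push_cast
      ring
  choose r hr using hpt
  refine ⟨∑ χ, r χ, ?_⟩
  rw [card_sq_eq_one_eq_sum_int, Finset.sum_congr rfl fun χ _ => hr χ, Finset.sum_add_distrib,
    Finset.sum_add_distrib, ← Finset.mul_sum, ← Finset.mul_sum, ← Finset.sum_filter,
    ← Finset.sum_filter, sum_linear_fsInt]

end FSInt

end Cfsg.Agent.Lib.Helper74
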