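import Mathlib
import Cfsg.Agent.Lib.Helper77.Linear
import Cfsg.Agent.Lib.Helper1.PGroupMax
import Cfsg.Agent.Lib.Helper78.CharOrtho

set_option autoImplicit false

namespace Cfsg.Agent.Lib.Helper74

open Cfsg

universe u

section RealLin

variable {G : Type u} [Group G]

/-- the linear characters with `φ² = 1` -/
def realLin (G : Type u) [Group G] : Subgroup (G →* ℂˣ) := (powMonoidHom 2).ker

/-- the linear characters with `φ⁴ = 1` -/
def quartLin (G : Type u) [Group G] : Subgroup (G →* ℂˣ) := (powMonoidHom 4).ker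

theorem mem_realLin {φ : G →* ℂˣ} : φ ∈ realLin G ↔ φ ^ 2 = 1 := by
  unfold realLin
  rw [MonoidHom.mem_ker, powMonoidHom_apply]

theorem mem_quartLin {φ : G →* ℂˣ} : φ ∈ quartLin G ↔ φ ^ 4 = 1 := by
  unfold quartLin
  rw [MonoidHom.mem_ker, powMonoidHom_apply]

theorem realLin_le_quartLin : realLin G ≤ quartLin G := by
  intro φ hφ
  rw [mem_realLin] at hφ
  rw [mem_quartLin]
  have : φ ^ 4 = φ ^ 2 * φ ^ 2 := by rw [← pow_add]
  rw [this, hφ]
  exact mul_one (1 : G →* ℂˣ)

theorem isPGroup_realLin : IsPGroup 2 (realLin G) := by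
  intro φ
  refine ⟨1, ?_⟩
  apply Subtype.ext
  have := mem_realLin.mp φ.2
  simpa using this

theorem isPGroup_quartLin : IsPGroup 2 (quartLin G) := by
  intro φ
  refine ⟨2, ?_⟩
  apply Subtype.ext
  have := mem_quartLin.mp φ.2
  simpa using this

open scoped Classical in
/-- the sign homomorphism of a subgroup of index `2` -/
noncomputable def signHomOfIndexTwo (M : Subgroup G) (h : M.index = 2) : G →* ℂˣ where
  toFun g := if g ∈ M then 1 else -1
  map_one' := if_pos M.one_mem
  map_mul' a b := by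
    have := Subgroup.mul_mem_iff_of_index_two h (a := a) (b := b)
    by_cases ha : a ∈ M <;> by_cases hb : b ∈ M <;> simp [ha, hb, this]

open scoped Classical in
theorem signHomOfIndexTwo_apply (M : Subgroup G) (h : M.index = 2) (g : G) :
    signHomOfIndexTwo M h g = if g ∈ M then 1 else -1 := rfl

theorem signHomOfIndexTwo_mem (M : Subgroup G) (h : M.index = 2) :
    signHomOfIndexTwo M h ∈ realLin G := by
  classical
  rw [mem_realLin]
  ext g
  rw [MonoidHom.pow_apply, signHomOfIndexTwo_apply]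
  split_ifs <;> simp

theorem signHomOfIndexTwo_ker (M : Subgroup G) (h : M.index = 2) :
    (signHomOfIndexTwo M h).ker = M := by
  classical
  ext g
  rw [MonoidHom.mem_ker, signHomOfIndexTwo_apply]
  constructor
  · intro hg
    by_contra hgM
    rw [if_neg hgM] at hg
    have := congrArg (fun u : ℂˣ => (u : ℂ)) hg
    norm_num at this
  · intro hg
    rw [if_pos hg]

variable [Finite G]

/-- a non-cyclic finite group has two distinct maximal subgroups -/
theorem exists_two_coatoms_of_not_isCyclic (hnc : ¬ IsCyclic G) :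
    ∃ M₁ M₂ : Subgroup G, IsCoatom M₁ ∧ IsCoatom M₂ ∧ M₁ ≠ M₂ := by
  have hnt : Nontrivial G := by
    by_contra h
    rw [not_nontrivial_iff_subsingleton] at h
    exact hnc inferInstance
  have hbt : (⊥ : Subgroup G) ≠ ⊤ := bot_ne_top
  obtain ⟨M₁, hM₁, -⟩ := (eq_top_or_exists_le_coatom (⊥ : Subgroup G)).resolve_left hbt
  obtain ⟨x, hx⟩ : ∃ x : G, x ∉ M₁ := by
    by_contra h
    push Not at h
    exact hM₁.1 (eq_top_iff.mpr fun x _ => h x)
  have hzx : Subgroup.zpowers x ≠ ⊤ := by
    intro h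
    apply hnc
    exact ⟨⟨x, fun y => by rw [← Subgroup.mem_zpowers_iff]; rw [h]; trivial⟩⟩
  obtain ⟨M₂, hM₂, hle⟩ := (eq_top_or_exists_le_coatom (Subgroup.zpowers x)).resolve_left hzx
  refine ⟨M₁, M₂, hM₁, hM₂, ?_⟩
  intro h
  exact hx (h ▸ hle (Subgroup.mem_zpowers x))

/-- in a non-cyclic finite `2`-group the number of real linear characters is divisible by `4` -/
theorem four_dvd_card_realLin (hG : IsPGroup 2 G) (hnc : ¬ IsCyclic G) :
    4 ∣ Nat.card (realLin G) := by
  have : Fact (Nat.Prime 2) := ⟨Nat.prime_two⟩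
  have hfin : Finite (G →* ℂˣ) :=
    Finite.of_equiv _ (Cfsg.Agent.Lib.Helper77.linearCharEquiv (G := G))
  obtain ⟨M₁, M₂, hM₁, hM₂, hne⟩ := exists_two_coatoms_of_not_isCyclic hnc
  have h1 : M₁.index = 2 := Cfsg.Agent.Lib.Helper1.coatom_index_of_isPGroup hG hM₁
  have h2 : M₂.index = 2 := Cfsg.Agent.Lib.Helper1.coatom_index_of_isPGroup hG hM₂
  set l₁ : realLin G := ⟨signHomOfIndexTwo M₁ h1, signHomOfIndexTwo_mem M₁ h1⟩ with hl₁
  set l₂ : realLin G := ⟨signHomOfIndexTwo M₂ h2, signHomOfIndexTwo_mem M₂ h2⟩ with hl₂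
  have hl₁1 : l₁ ≠ 1 := by
    intro h
    have h3 := congrArg (fun l : realLin G => (l : G →* ℂˣ).ker) h
    simp only [hl₁, signHomOfIndexTwo_ker, Subgroup.coe_one, MonoidHom.ker_one] at h3
    exact hM₁.1 h3
  have hl₂1 : l₂ ≠ 1 := by
    intro h
    have h3 := congrArg (fun l : realLin G => (l : G →* ℂˣ).ker) h
    simp only [hl₂, signHomOfIndexTwo_ker, Subgroup.coe_one, MonoidHom.ker_one] at h3
    exact hM₂.1 h3
  have hl₁₂ : l₁ ≠ l₂ := by
    intro h
    have h3 := congrArg (fun l : realLin G => (l : G →* ℂˣ).ker) h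
    simp only [hl₁, hl₂, signHomOfIndexTwo_ker] at h3
    exact hne h3
  obtain ⟨k, hk⟩ := IsPGroup.iff_card.mp (isPGroup_realLin (G := G))
  have h3 : 3 ≤ Nat.card (realLin G) := by
    classical
    have : Fintype (realLin G) := Fintype.ofFinite _
    rw [Nat.card_eq_fintype_card]
    have hsub : ({1, l₁, l₂} : Finset (realLin G)) ⊆ Finset.univ := Finset.subset_univ _
    have hcard : ({1, l₁, l₂} : Finset (realLin G)).card = 3 := by
      rw [Finset.card_insert_of_notMem, Finset.card_insert_of_notMem, Finset.card_singleton]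
      · simpa using hl₁₂
      · simp only [Finset.mem_insert, Finset.mem_singleton, not_or]
        exact ⟨hl₁1.symm, hl₂1.symm⟩
    calc 3 = ({1, l₁, l₂} : Finset (realLin G)).card := hcard.symm
      _ ≤ Finset.univ.card := Finset.card_le_card hsub
      _ = Fintype.card (realLin G) := Finset.card_univ
  rw [hk] at h3 ⊢
  rcases k with _ | _ | k
  · norm_num at h3
  · norm_num at h3
  · exact ⟨2 ^ k, by ring⟩

end RealLin

end Cfsg.Agent.Lib.Helper74
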