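import Mathlib
import Cfsg.Agent.Lib.Helper74.AFTCount
import Cfsg.Agent.Lib.Helper74.AFTTwist
import Cfsg.Agent.Lib.Helper74.AFTLin
import Cfsg.Agent.Lib.Helper74.AFTBound

set_option autoImplicit false

namespace Cfsg.Agent.Lib.Helper74

open Cfsg
open scoped ComplexConjugate

universe u

section AFT

variable {G : Type u} [Group G] [Fintype G]

theorem smul_irr_apply (μ : G →* ℂˣ) (χ : IrrCharacter G) (g : G) :
    ((μ • χ : IrrCharacter G) : G → ℂ) g = ((μ g : ℂˣ) : ℂ) * (χ : G → ℂ) g := rfl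

theorem charDegree_smul_irr (μ : G →* ℂˣ) (χ : IrrCharacter G) :
    charDegree ((μ • χ : IrrCharacter G) : G → ℂ) = charDegree (χ : G → ℂ) := by
  unfold charDegree
  rw [smul_irr_apply, map_one, Units.val_one, one_mul]

theorem fsInt_eq_zero_iff (χ : IrrCharacter G) : fsInt χ = 0 ↔ fsIndFun (χ : G → ℂ) = 0 := by
  rw [← fsInt_cast]
  exact Int.cast_eq_zero.symm

theorem fsInt_smul_of_mem_realLin {l : G →* ℂˣ} (hl : l ∈ realLin G) (χ : IrrCharacter G) :
    fsInt (l • χ) = fsInt χ := by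
  apply fsInt_eq_of_fsIndFun_eq
  unfold fsIndFun
  congr 1
  apply Finset.sum_congr rfl
  intro s _
  rw [smul_irr_apply]
  have h1 : l (s * s) = 1 := by
    have := congrArg (fun f : G →* ℂˣ => f s) (mem_realLin.mp hl)
    simpa [pow_two] using this
  rw [h1, Units.val_one, one_mul]

/-- real-valued irreducible characters of degree `2`, acted on by the real linear characters -/
def realDegTwo (G : Type u) [Group G] [Fintype G] :
    SubMulAction (realLin G) (IrrCharacter G) where
  carrier := {χ | charDegree (χ : G → ℂ) = 2 ∧ fsInt χ ≠ 0}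
  smul_mem' := by
    intro l χ hχ
    refine ⟨?_, ?_⟩
    · rw [Subgroup.smul_def, charDegree_smul_irr]; exact hχ.1
    · rw [Subgroup.smul_def, fsInt_smul_of_mem_realLin l.2]; exact hχ.2

theorem mem_realDegTwo {χ : IrrCharacter G} :
    χ ∈ realDegTwo G ↔ charDegree (χ : G → ℂ) = 2 ∧ fsInt χ ≠ 0 := Iff.rfl

/-- those fixed by all real linear characters, acted on by the linear characters of order
dividing `4` -/
def realDegTwoFixed (G : Type u) [Group G] [Fintype G] :
    SubMulAction (quartLin G) (IrrCharacter G) where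
  carrier := {χ | charDegree (χ : G → ℂ) = 2 ∧ fsInt χ ≠ 0 ∧
    ∀ l : G →* ℂˣ, l ∈ realLin G → l • χ = χ}
  smul_mem' := by
    intro μ χ hχ
    obtain ⟨h1, h2, h3⟩ := hχ
    refine ⟨?_, ?_, ?_⟩
    · rw [Subgroup.smul_def, charDegree_smul_irr]; exact h1
    · -- real-valued
      rw [Ne, fsInt_eq_zero_iff, fsIndFun_eq_zero_iff]
      rintro ⟨s, hs⟩
      apply hs
      have hreal : ((χ : G → ℂ) s).im = 0 :=
        im_eq_zero_of_fsIndFun_ne_zero χ (fun h => h2 ((fsInt_eq_zero_iff χ).mpr h)) s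
      rw [Subgroup.smul_def, smul_irr_apply]
      -- `μ² • χ = χ`
      have hμ2 : (μ : G →* ℂˣ) ^ 2 ∈ realLin G := by
        rw [mem_realLin, ← pow_mul]
        exact mem_quartLin.mp μ.2
      have h4 := congrArg (fun ψ : IrrCharacter G => (ψ : G → ℂ) s) (h3 _ hμ2)
      simp only [smul_irr_apply] at h4
      have h5 : ((((μ : G →* ℂˣ) s : ℂˣ) : ℂ) ^ 2 - 1) * (χ : G → ℂ) s = 0 := by
        rw [sub_mul, one_mul, sub_eq_zero]
        rw [MonoidHom.pow_apply, Units.val_pow_eq_pow_val] at h4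
        exact h4
      rcases mul_eq_zero.mp h5 with h6 | h6
      · have h7 : ((((μ : G →* ℂˣ) s : ℂˣ) : ℂ) - 1) * ((((μ : G →* ℂˣ) s : ℂˣ) : ℂ) + 1) = 0 := by
          rw [← h6]; ring
        rcases mul_eq_zero.mp h7 with h8 | h8
        · rw [sub_eq_zero.mp h8, one_mul]; exact hreal
        · rw [eq_neg_of_add_eq_zero_left h8, neg_one_mul, Complex.neg_im, hreal, neg_zero]
      · rw [h6, mul_zero, Complex.zero_im]
    · intro l hl
      rw [Subgroup.smul_def, smul_comm, h3 l hl]

end AFT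

end Cfsg.Agent.Lib.Helper74
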