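import Mathlib
import Cfsg.Agent.Lib.Helper74.AFTSets

set_option autoImplicit false

namespace Cfsg.Agent.Lib.Helper74

open Cfsg
open scoped ComplexConjugate

universe u

section AFTMain

variable {G : Type u} [Group G] [Fintype G]

/-- the solutions of `s * s = 1` are the identity and the involutions -/
theorem card_sq_eq_one_eq_succ :
    Nat.card {s : G // s * s = 1} = 1 + Nat.card {x : G // orderOf x = 2} := by
  classical
  have : Fact (Nat.Prime 2) := ⟨Nat.prime_two⟩
  rw [Nat.card_eq_fintype_card, Nat.card_eq_fintype_card, Fintype.card_subtype,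
    Fintype.card_subtype]
  have h1 : (Finset.univ.filter fun s : G => s * s = 1) =
      insert 1 (Finset.univ.filter fun x : G => orderOf x = 2) := by
    ext s
    simp only [Finset.mem_filter, Finset.mem_univ, true_and, Finset.mem_insert]
    rw [orderOf_eq_prime_iff, pow_two]
    constructor
    · intro h
      by_cases hs : s = 1
      · exact Or.inl hs
      · exact Or.inr ⟨h, hs⟩
    · rintro (h | h)
      · rw [h, one_mul]
      · exact h.1
  rw [h1, Finset.card_insert_of_notMem, add_comm]
  simp

open scoped Classical in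
/-- parity of the number of real-valued irreducible characters of degree `2` -/
theorem sum_fsInt_degTwo_mod_two :
    (∑ χ ∈ Finset.univ.filter (fun χ : IrrCharacter G => charDegree (χ : G → ℂ) = 2),
      fsInt χ) % 2 = (Nat.card (realDegTwo G) : ℤ) % 2 := by
  have h1 : Nat.card (realDegTwo G) =
      (Finset.univ.filter (fun χ : IrrCharacter G => charDegree (χ : G → ℂ) = 2 ∧
        fsInt χ ≠ 0)).card := by
    rw [Nat.card_eq_fintype_card, ← Fintype.card_subtype]
    apply Fintype.card_congr
    exact Equiv.refl _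
  rw [h1, Finset.card_eq_sum_ones, Finset.sum_filter, Finset.sum_filter]
  push_cast
  rw [Finset.sum_int_mod, Finset.sum_int_mod (f := fun χ : IrrCharacter G =>
    if charDegree (χ : G → ℂ) = 2 ∧ fsInt χ ≠ 0 then (1 : ℤ) else 0)]
  congr 1
  apply Finset.sum_congr rfl
  intro χ _
  by_cases hd : charDegree (χ : G → ℂ) = 2
  · rcases fsInt_cases χ with h | h | h
    · simp [hd, h]
    · simp [hd, h]
    · simp [hd, h]
  · simp [hd]

omit [Fintype G] in
/-- every linear character of a finite `2`-group has `2`-power order -/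
theorem monoidHom_pow_card_eq_one (φ : G →* ℂˣ) : φ ^ Nat.card G = 1 := by
  ext g
  rw [MonoidHom.pow_apply, ← map_pow, pow_card_eq_one', map_one, MonoidHom.one_apply]

/-- if the linear characters of order dividing `4` all have order dividing `2`, then so do all
linear characters of a `2`-group -/
theorem realLin_eq_top_of_eq_quartLin (hG : IsPGroup 2 G) (h : realLin G = quartLin G) :
    realLin G = ⊤ := by
  rw [eq_top_iff]
  intro φ _
  obtain ⟨n, hn⟩ := IsPGroup.iff_card.mp hG
  have h1 : φ ^ 2 ^ n = 1 := by rw [← hn]; exact monoidHom_pow_card_eq_one φ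
  -- minimal exponent
  have hex : ∃ j : ℕ, φ ^ 2 ^ j = 1 := ⟨n, h1⟩
  classical
  set j := Nat.find hex with hj
  have hjs : φ ^ 2 ^ j = 1 := Nat.find_spec hex
  rw [mem_realLin]
  by_cases hj2 : j ≤ 1
  · have : (2 : ℕ) ^ j ∣ 2 := by
      interval_cases j <;> simp
    obtain ⟨c, hc⟩ := this
    rw [hc, pow_mul, hjs]
    exact one_pow (M := G →* ℂˣ) c
  · exfalso
    push Not at hj2
    obtain ⟨i, hi⟩ : ∃ i, j = i + 2 := ⟨j - 2, by omega⟩
    have h2 : (φ ^ 2 ^ i) ^ 4 = 1 := by
      rw [← pow_mul]
      have : 2 ^ i * 4 = 2 ^ j := by rw [hi]; ring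
      rw [this, hjs]
    have h3 : φ ^ 2 ^ i ∈ quartLin G := mem_quartLin.mpr h2
    rw [← h] at h3
    have h4 := mem_realLin.mp h3
    rw [← pow_mul] at h4
    have h5 : 2 ^ i * 2 = 2 ^ (i + 1) := by ring
    rw [h5] at h4
    have := Nat.find_min' hex h4
    omega

/-- **Alperin–Feit–Thompson**: a finite `2`-group whose number of involutions is `≡ 1 (mod 4)`
is cyclic or has commutator subgroup of index `4`. -/
theorem alperin_feit_thompson (hG : IsPGroup 2 G)
    (ht : Nat.card {x : G // orderOf x = 2} % 4 = 1) :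
    IsCyclic G ∨ (commutator G).index = 4 := by
  classical
  have hp2 : Fact (Nat.Prime 2) := ⟨Nat.prime_two⟩
  by_cases hnc : IsCyclic G
  · exact Or.inl hnc
  right
  have hfinD : Finite (G →* ℂˣ) :=
    Finite.of_equiv _ (Cfsg.Agent.Lib.Helper77.linearCharEquiv (G := G))
  have h4 : 4 ∣ Nat.card (realLin G) := four_dvd_card_realLin hG hnc
  -- the count
  obtain ⟨k, hk⟩ := fs_congruence (G := G) hG
  have hΛ : Nat.card {φ : G →* ℂˣ // φ ^ 2 = 1} = Nat.card (realLin G) :=
    Nat.card_congr (Equiv.subtypeEquivRight fun φ => mem_realLin.symm)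
  rw [card_sq_eq_one_eq_succ, hΛ] at hk
  set t := Nat.card {x : G // orderOf x = 2} with htdef
  set S₂ := ∑ χ ∈ Finset.univ.filter (fun χ : IrrCharacter G => charDegree (χ : G → ℂ) = 2),
      fsInt χ with hS₂
  have hodd : S₂ % 2 = 1 := by
    obtain ⟨c, hc⟩ := h4
    rw [hc] at hk
    push_cast at hk
    omega
  have hA : Nat.card (realDegTwo G) % 2 = 1 := by
    have := sum_fsInt_degTwo_mod_two (G := G)
    rw [← hS₂, hodd] at this
    omega
  -- first fixed point count
  have h1 := (isPGroup_realLin (G := G)).card_modEq_card_fixedPoints (realDegTwo G)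
  have hF : Nat.card (MulAction.fixedPoints (realLin G) (realDegTwo G)) % 2 = 1 := by
    unfold Nat.ModEq at h1
    omega
  -- identify with the second set
  have hequiv : Nat.card (MulAction.fixedPoints (realLin G) (realDegTwo G)) =
      Nat.card (realDegTwoFixed G) := by
    apply Nat.card_congr
    refine ⟨fun x => ⟨x.1.1, x.1.2.1, x.1.2.2, fun l hl => ?_⟩,
      fun y => ⟨⟨y.1, y.2.1, y.2.2.1⟩, fun l => ?_⟩, fun x => rfl, fun y => rfl⟩
    · exact congrArg Subtype.val (x.2 ⟨l, hl⟩)
    · apply Subtype.ext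
      exact y.2.2.2 l.1 l.2
  rw [hequiv] at hF
  -- second fixed point count
  have h2 := (isPGroup_quartLin (G := G)).card_modEq_card_fixedPoints (realDegTwoFixed G)
  have hF2 : Nat.card (MulAction.fixedPoints (quartLin G) (realDegTwoFixed G)) % 2 = 1 := by
    unfold Nat.ModEq at h2
    omega
  have hne : Nonempty (MulAction.fixedPoints (quartLin G) (realDegTwoFixed G)) := by
    by_contra hemp
    rw [not_nonempty_iff] at hemp
    rw [Nat.card_of_isEmpty] at hF2
    omega
  obtain ⟨⟨⟨χ, hχ⟩, hfix⟩⟩ := hne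
  -- the bound
  have hbound : Nat.card (quartLin G) ≤ (charDegree (χ : G → ℂ)) ^ 2 := by
    apply card_le_sq_of_twist_fixed
    intro μ hμ g
    have := congrArg (fun y : realDegTwoFixed G => ((y : IrrCharacter G) : G → ℂ) g)
      (hfix ⟨μ, hμ⟩)
    exact this
  rw [hχ.1] at hbound
  have hle : Nat.card (realLin G) ≤ Nat.card (quartLin G) :=
    Subgroup.card_le_of_le realLin_le_quartLin
  have hpos : 0 < Nat.card (realLin G) := Nat.card_pos
  have hΛ4 : Nat.card (realLin G) = 4 := by
    obtain ⟨c, hc⟩ := h4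
    have : c = 1 := by
      rw [hc] at hle hpos
      omega
    rw [hc, this]
  have hU4 : Nat.card (quartLin G) = 4 := by omega
  have heq : realLin G = quartLin G :=
    Subgroup.eq_of_le_of_card_ge realLin_le_quartLin (by rw [hΛ4, hU4])
  have htop := realLin_eq_top_of_eq_quartLin hG heq
  have hD : Nat.card (G →* ℂˣ) = 4 := by
    rw [← hΛ4, htop, Subgroup.card_top]
  rw [← Cfsg.Agent.Lib.Helper77.card_linear_characters,
    Nat.card_congr (Cfsg.Agent.Lib.Helper77.linearCharEquiv (G := G)), hD]

end AFTMain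

end Cfsg.Agent.Lib.Helper74
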