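import Mathlib
import Cfsg.Agent.Lib.Helper74.IndLinear

set_option autoImplicit false

namespace Cfsg.Agent.Lib.Helper74

open Cfsg Cfsg.Agent.Lib.Helper78 Cfsg.Agent.Lib.Helper75

universe u

section GenInd

/-- in a commutative group, inducing from `⊤` the generator indicator gives the generator
indicator -/
theorem indFun_top_genInd (A : Type u) [Group A] [Fintype A] [IsMulCommutative A] :
    indFun (⊤ : Subgroup A) (fun a => genInd (⊤ : Subgroup A) a * (1 : A → ℂ) a) = genInd A := by
  classical
  funext g
  unfold indFun
  simp only [extendByZero_genInd_mul]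
  have hx : ∀ x : A, x⁻¹ * g * x = g := by
    intro x
    rw [mul_comm' x⁻¹ g, mul_assoc, inv_mul_cancel, mul_one]
  simp only [hx, Finset.sum_const, Finset.card_univ, nsmul_eq_mul, Pi.one_apply, mul_one]
  rw [genInd_apply]
  have hA : (Nat.card (⊤ : Subgroup A) : ℂ) ≠ 0 := by
    have : Nat.card (⊤ : Subgroup A) ≠ 0 := Nat.card_pos.ne'
    exact_mod_cast this
  have hcard : Nat.card (⊤ : Subgroup A) = Nat.card A := Subgroup.card_top
  have hF : (Fintype.card A : ℂ) = (Nat.card (⊤ : Subgroup A) : ℂ) := by
    rw [hcard, Nat.card_eq_fintype_card]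
  rw [hF]
  split_ifs
  · rw [hcard] at hA ⊢; field_simp
  · simp

/-- the generator indicator of a finite cyclic group is an integer combination of homomorphisms -/
theorem isZHom_genInd_aux : ∀ n : ℕ, ∀ (A : Type u) [Group A] [Fintype A] [IsCyclic A],
    Nat.card A = n → IsZHom (genInd A) := by
  intro n
  induction n using Nat.strong_induction_on with
  | _ n ih =>
    intro A _ _ _ hn
    classical
    have : Fintype (Subgroup A) := Fintype.ofFinite _
    have hK := sum_indFun_genInd_mul (G := A) (f := (1 : A → ℂ)) (fun _ _ => rfl)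
    rw [← Finset.add_sum_erase Finset.univ _ (Finset.mem_univ (⊤ : Subgroup A)),
      indFun_top_genInd] at hK
    have hrest : IsZHom (∑ B ∈ Finset.univ.erase (⊤ : Subgroup A),
        indFun B (fun a : B => genInd B a * (1 : A → ℂ) a)) := by
      apply isZHom_sum
      intro B hB
      have hBtop : B ≠ ⊤ := (Finset.mem_erase.mp hB).1
      have hlt : Nat.card B < n := by
        rw [← hn, ← B.card_mul_index]
        have h1 : 1 < B.index := Subgroup.one_lt_index_of_ne_top hBtop
        have h2 : 0 < Nat.card B := Nat.card_pos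
        nlinarith
      have hB' := ih (Nat.card B) hlt B rfl
      apply IsZHom.indFun
      have : (fun a : B => genInd B a * (1 : A → ℂ) a) = genInd B := by
        funext a; simp
      rw [this]
      exact hB'
    have : genInd A = (Nat.card A : ℂ) • (1 : A → ℂ) - ∑ B ∈ Finset.univ.erase (⊤ : Subgroup A),
        indFun B (fun a : B => genInd B a * (1 : A → ℂ) a) := by
      rw [← hK]; abel
    rw [this]
    exact IsZHom.sub (IsZHom.natCast_smul isZHom_one _) hrest

theorem isZHom_genInd (A : Type u) [Group A] [Fintype A] [IsCyclic A] : IsZHom (genInd A) :=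
  isZHom_genInd_aux _ A rfl

theorem genInd_eq_zero_of_not_isCyclic (A : Type u) [Group A] (h : ¬ IsCyclic A) : genInd A = 0 := by
  classical
  funext a
  rw [genInd_apply, if_neg]
  · rfl
  · intro htop
    apply h
    exact ⟨⟨a, fun x => by
      have : x ∈ (⊤ : Subgroup A) := Subgroup.mem_top x
      rwa [← htop] at this⟩⟩

end GenInd

end Cfsg.Agent.Lib.Helper74
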