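import Mathlib
import Cfsg.Agent.Lib.Helper74.GenIndZ

set_option autoImplicit false

namespace Cfsg.Agent.Lib.Helper74

open Cfsg Cfsg.Agent.Lib.Helper78 Cfsg.Agent.Lib.Helper75

universe u

section Artin

variable {G : Type u} [Group G] [Fintype G]

theorem indFun_zhomSum (A : Subgroup G) (l : List ((A →* ℂˣ) × ℤ)) :
    indFun A (zhomSum l) = (l.map fun t => (t.2 : ℂ) • indFun A (fun a => ((t.1 a : ℂˣ) : ℂ))).sum := by
  unfold zhomSum
  rw [indFun_list_sum, List.map_map]
  congr 1
  apply List.map_congr_left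
  intro t _
  rw [Function.comp_apply, indFun_smul]
  rfl

/-- **Artin's induction theorem** (explicit form with denominator `|G|`). -/
theorem artin_induction (χ : G → ℂ) (hχ : IsCharacter G χ) :
    ∃ l : List ((A : Subgroup G) × ((A →* ℂˣ) × ℤ)), (∀ t ∈ l, IsCyclic t.1) ∧
      (Nat.card G : ℂ) • χ =
        (l.map fun t => (t.2.2 : ℂ) • indFun t.1 (fun a => ((t.2.1 a : ℂˣ) : ℂ))).sum := by
  classical
  have : Fintype (Subgroup G) := Fintype.ofFinite _
  have key : ∀ A : Subgroup G, ∃ lA : List ((A →* ℂˣ) × ℤ), (lA ≠ [] → IsCyclic A) ∧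
      indFun A (fun a : A => genInd A a * χ a)
        = (lA.map fun t => (t.2 : ℂ) • indFun A (fun a => ((t.1 a : ℂˣ) : ℂ))).sum := by
    intro A
    by_cases hA : IsCyclic A
    · have : Fintype A := Fintype.ofFinite A
      have hres : IsCharacter A (fun a : A => χ a) := isCharacter_res A hχ
      have hz : IsZHom (fun a : A => genInd A a * χ a) :=
        IsZHom.mul (isZHom_genInd A) (IsCharacter.isZHom_of_comm hres)
      obtain ⟨lA, hlA⟩ := exists_list_of_isZHom hz
      exact ⟨lA, fun _ => hA, by rw [hlA, indFun_zhomSum]⟩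
    · refine ⟨[], fun h => absurd rfl h, ?_⟩
      have : (fun a : A => genInd A a * χ a) = 0 := by
        funext a
        rw [genInd_eq_zero_of_not_isCyclic A hA]
        simp
      rw [this, indFun_zero]
      rfl
  choose lA h1 h2 using key
  refine ⟨(Finset.univ : Finset (Subgroup G)).toList.flatMap
    (fun A => (lA A).map (fun t => (⟨A, t⟩ : (A : Subgroup G) × ((A →* ℂˣ) × ℤ)))), ?_, ?_⟩
  · intro t ht
    rw [List.mem_flatMap] at ht
    obtain ⟨A, _, htA⟩ := ht
    rw [List.mem_map] at htA
    obtain ⟨s, hs, rfl⟩ := htA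
    exact h1 A (List.ne_nil_of_mem hs)
  · rw [← sum_indFun_genInd_mul (IsCharacter.isClassFunction hχ)]
    rw [List.map_flatMap, List.flatMap_def, List.sum_flatten]
    simp only [List.map_map]
    rw [← Finset.sum_map_toList]
    congr 1
    apply List.map_congr_left
    intro A _
    rw [Function.comp_apply, h2 A]
    rfl

end Artin

end Cfsg.Agent.Lib.Helper74
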