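import Cfsg.Agent.Lib.Helper3.BPGreen
import Cfsg.Agent.Lib.Helper39.IndBorel
import Cfsg.Agent.Lib.Helper80.CharBasic
import Cfsg.Agent.S0148

/-!
# PROJECT BP, support for BP-[L4-C2] : induction from a normal subgroup of index `p` (helper74)

`S ⊴ Q` of index `p`, `t ∈ Q ∖ S`, `ψ'` a (generalized) character of `S`.  Then
`sumConj p S Q t ψ' : u ↦ Σ_{i<p} ψ'(t^{-i} u t^i)` (extension by zero off `S`) is a (generalized)
character of `Q`: it is `Ind_S^Q ψ'` (`Cfsg.Agent.S0148.result`).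
-/

set_option autoImplicit false

namespace Cfsg.Agent.Lib.Helper74.BP

open Cfsg

variable {G : Type*} [Group G]

/-- `u ↦ Σ_{i<p} ψ'(t^{-i} u t^i)` on `Q` (`ψ'` extended by zero off `S`). -/
noncomputable def sumConj (p : ℕ) (S Q : Subgroup G) (t : G) (ψ' : S → ℂ) : Q → ℂ :=
  fun u => ∑ i ∈ Finset.range p, extendByZero S ψ' ((t ^ i)⁻¹ * (u : G) * t ^ i)

theorem sumConj_apply (p : ℕ) (S Q : Subgroup G) (t : G) (ψ' : S → ℂ) (u : Q) :
    sumConj p S Q t ψ' u =
      ∑ i ∈ Finset.range p, extendByZero S ψ' ((t ^ i)⁻¹ * (u : G) * t ^ i) := rfl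

theorem sumConj_sub (p : ℕ) (S Q : Subgroup G) (t : G) (χ₁ χ₂ : S → ℂ) :
    sumConj p S Q t (χ₁ - χ₂) = sumConj p S Q t χ₁ - sumConj p S Q t χ₂ := by
  funext u
  rw [Pi.sub_apply, sumConj_apply, sumConj_apply, sumConj_apply, ← Finset.sum_sub_distrib]
  refine Finset.sum_congr rfl fun i _ => ?_
  by_cases hy : (t ^ i)⁻¹ * (u : G) * t ^ i ∈ S
  · rw [Cfsg.Agent.Lib.Helper39.extendByZero_of_mem S _ hy,
      Cfsg.Agent.Lib.Helper39.extendByZero_of_mem S _ hy,
      Cfsg.Agent.Lib.Helper39.extendByZero_of_mem S _ hy, Pi.sub_apply]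
  · rw [Cfsg.Agent.Lib.Helper39.extendByZero_of_not_mem S _ hy,
      Cfsg.Agent.Lib.Helper39.extendByZero_of_not_mem S _ hy,
      Cfsg.Agent.Lib.Helper39.extendByZero_of_not_mem S _ hy, sub_zero]

/-- `sumConj` of a character of `S` is the induced character. -/
theorem isCharacter_sumConj [Finite G] {p : ℕ} (hp : p.Prime) {S Q : Subgroup G} (hSQ : S ≤ Q)
    (hn : (S.subgroupOf Q).Normal) (hidx : S.relIndex Q = p) {t : G} (ht : t ∈ Q) (htS : t ∉ S)
    {χ : S → ℂ} (hχ : IsCharacter S χ) : IsCharacter Q (sumConj p S Q t χ) := by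
  classical
  let _ : Fintype Q := Fintype.ofFinite Q
  set e : S.subgroupOf Q →* S := (Subgroup.subgroupOfEquivOfLe hSQ).toMonoidHom with he
  set θ : S.subgroupOf Q → ℂ := fun h => χ (e h) with hθdef
  have hθ : IsCharacter (S.subgroupOf Q) θ := Cfsg.Agent.Lib.Helper80.isCharacter_comp e hχ
  have hθc : ∀ h k : S.subgroupOf Q, θ (k⁻¹ * h * k) = θ h := by
    intro h k
    have := Cfsg.Agent.Lib.Helper80.isClassFunction_of_isCharacter hθ h k⁻¹
    rwa [inv_inv] at this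
  have hind := Cfsg.Agent.S0148.result (S.subgroupOf Q) θ hθ
  obtain ⟨-, hcos⟩ := Cfsg.Agent.Lib.Helper3.BP.GI.exists_pow_coset hn hp hidx ht htS
  -- coset representatives `t^i`
  set rep : Fin p → Q := fun i => (⟨t, ht⟩ : Q) ^ (i : ℕ) with hrep
  have hsurj : Function.Surjective
      (fun i : Fin p => (QuotientGroup.mk (rep i) : Q ⧸ S.subgroupOf Q)) := by
    intro q
    obtain ⟨q0, rfl⟩ := QuotientGroup.mk_surjective q
    obtain ⟨i, hi, hmem⟩ := hcos q0 q0.2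
    refine ⟨⟨i, hi⟩, ?_⟩
    show (QuotientGroup.mk (rep ⟨i, hi⟩) : Q ⧸ S.subgroupOf Q) = QuotientGroup.mk q0
    rw [QuotientGroup.eq, Subgroup.mem_subgroupOf]
    simpa [hrep] using hmem
  have hbij : Function.Bijective
      (fun i : Fin p => (QuotientGroup.mk (rep i) : Q ⧸ S.subgroupOf Q)) := by
    apply hsurj.bijective_of_nat_card_le
    rw [Nat.card_fin]
    exact le_of_eq hidx.symm
  have key : sumConj p S Q t χ = indFun (S.subgroupOf Q) θ := by
    funext u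
    rw [Cfsg.Agent.Lib.Helper39.indFun_eq_sum_reps (S.subgroupOf Q) θ hθc rep hbij u,
      sumConj_apply, Finset.sum_range]
    refine Finset.sum_congr rfl fun i _ => ?_
    have hcoe : (((rep i)⁻¹ * u * rep i : Q) : G) = (t ^ (i : ℕ))⁻¹ * (u : G) * t ^ (i : ℕ) := by
      simp [hrep]
    by_cases hy : (t ^ (i : ℕ))⁻¹ * (u : G) * t ^ (i : ℕ) ∈ S
    · have hy' : (rep i)⁻¹ * u * rep i ∈ S.subgroupOf Q := by
        rw [Subgroup.mem_subgroupOf, hcoe]; exact hy
      rw [Cfsg.Agent.Lib.Helper39.extendByZero_of_mem S _ hy,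
        Cfsg.Agent.Lib.Helper39.extendByZero_of_mem (S.subgroupOf Q) _ hy']
      show χ _ = χ (e _)
      congr 1
    · have hy' : (rep i)⁻¹ * u * rep i ∉ S.subgroupOf Q := by
        rw [Subgroup.mem_subgroupOf, hcoe]; exact hy
      rw [Cfsg.Agent.Lib.Helper39.extendByZero_of_not_mem S _ hy,
        Cfsg.Agent.Lib.Helper39.extendByZero_of_not_mem (S.subgroupOf Q) _ hy']
  rw [key]
  exact hind

/-- (IND) `sumConj` of a generalized character of `S` is a generalized character of `Q`. -/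
theorem isGeneralizedCharacter_sumConj [Finite G] {p : ℕ} (hp : p.Prime) {S Q : Subgroup G}
    (hSQ : S ≤ Q) (hn : (S.subgroupOf Q).Normal) (hidx : S.relIndex Q = p) {t : G} (ht : t ∈ Q)
    (htS : t ∉ S) {ψ' : S → ℂ} (hψ' : IsGeneralizedCharacter S ψ') :
    IsGeneralizedCharacter Q (sumConj p S Q t ψ') := by
  obtain ⟨χ₁, χ₂, h₁, h₂, rfl⟩ := hψ'
  exact ⟨sumConj p S Q t χ₁, sumConj p S Q t χ₂, isCharacter_sumConj hp hSQ hn hidx ht htS h₁,
    isCharacter_sumConj hp hSQ hn hidx ht htS h₂, sumConj_sub p S Q t χ₁ χ₂⟩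

end Cfsg.Agent.Lib.Helper74.BP
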