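import Cfsg.Agent.Lib.Helper92.BPBlock
import Cfsg.Agent.Lib.Helper3.BPLocalSource
import Cfsg.Agent.Lib.Helper3.BPLocal
import Cfsg.Agent.Lib.Helper31.BPBrTr
import Cfsg.Agent.Lib.Helper52.BPWlog
import Cfsg.Agent.Lib.Helper52.BPD0
import Cfsg.Agent.Lib.Helper23.BPDecomp
import Cfsg.Agent.Lib.Helper23.BPMvN
import Cfsg.Agent.Lib.Helper11.BPRank
import Cfsg.Agent.Lib.Helper9.BPBr3
import Cfsg.Agent.Lib.Helper44.BPBr5
import Cfsg.Agent.S4655

/-!
# PROJECT BP, BP-[U] : THEOREM U (purity of local primitive idempotents) (helper74)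

Abstract part: `R` a local domain with `MonicSplits R` and residue field `k` of characteristic `p`,
`A = R[G]`, `P` a `p`-subgroup, `i` a local primitive idempotent of `A^P`, and for every subgroup
`S ≤ P` a central idempotent `z S ∈ k[C_G(S)]` (in use the block idempotent `ē_{f_S}` of the unique
subpair `(S, f_S) ≤ (P, e)`), compatible with Lemma A (`hA`) and stable under `N_P(S)` (`hconj`).
Then `Br_S(l') z_S = Br_S(l')` for every local primitive idempotent `l' ≤ i` of `A^S`
(`purity_local_abs`) and `Br_Q(i) z_Q = Br_Q(i)` for all `Q ≤ P` (`purity_abs`).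
-/

set_option autoImplicit false

namespace Cfsg.Agent.Lib.Helper74.BP

open Cfsg.Agent.Lib.Helper92.BP

section Abstract

variable {R : Type*} [CommRing R] [IsDomain R] [IsLocalRing R] {G : Type*} [Group G]

omit [IsLocalRing R] in
/-- An idempotent of `A^Q` is a sum of pairwise orthogonal primitive idempotents of `A^Q` below
it (`Fin`-indexed form of `Helper23.BP.exists_prim_decomp_le`). -/
theorem exists_fin_prim_decomp [Finite G] (Q : Subgroup G) {c : MonoidAlgebra R G}
    (hc : c ∈ fixedAlg R Q) (hci : IsIdempotentElem c) :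
    ∃ (n : ℕ) (l : Fin n → MonoidAlgebra R G),
      (∀ r, IsPrimIn R (fixedAlg R Q) (l r) ∧ IdemLE (l r) c) ∧
      (∀ r r', r ≠ r' → l r * l r' = 0) ∧ ∑ r, l r = c := by
  classical
  have : Module.Finite R (fixedAlg R Q) := Cfsg.Agent.Lib.Helper23.BP.finite_fixedAlg _
  have : NoZeroSMulDivisors R (fixedAlg R Q) :=
    Cfsg.Agent.Lib.Helper23.BP.noZeroSMulDivisors_fixedAlg _
  obtain ⟨rk, hpos, hadd⟩ :=
    Cfsg.Agent.Lib.Helper11.BP.exists_rank_fun (R := R) (Λ := fixedAlg R Q)
  have hci' : IsIdempotentElem (⟨c, hc⟩ : fixedAlg R Q) := Subtype.ext hci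
  obtain ⟨L, hL, hLo, hs⟩ := Cfsg.Agent.Lib.Helper23.BP.exists_prim_decomp_le rk hpos hadd
    (rk ⟨c, hc⟩) ⟨c, hc⟩ hci' le_rfl
  refine ⟨L.length, fun r => ((L.get r : fixedAlg R Q) : MonoidAlgebra R G), ?_, ?_, ?_⟩
  · intro r
    obtain ⟨h1, h2⟩ := hL (L.get r) (List.get_mem L r)
    refine ⟨⟨(L.get r).2, by simpa using h1⟩, ?_, ?_, ?_⟩
    · exact congrArg Subtype.val h2.1
    · exact congrArg Subtype.val h2.2.1
    · exact congrArg Subtype.val h2.2.2
  · intro r r' hne
    rw [List.pairwise_iff_get] at hLo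
    rcases lt_or_gt_of_ne hne with h | h
    · exact congrArg Subtype.val (hLo r r' h).1
    · exact congrArg Subtype.val (hLo r' r h).2
  · have h1 : (∑ r : Fin L.length, L.get r) = L.sum := by
      rw [← List.sum_ofFn, List.ofFn_get]
    have h2 := congrArg (Subalgebra.val (fixedAlg R Q)) (h1.trans hs)
    rw [map_sum] at h2
    exact h2

omit [IsDomain R] [IsLocalRing R] in
theorem conj_mem_centralizer_of_mem_normalizer {S : Subgroup G} {t z : G}
    (ht : t ∈ Subgroup.normalizer (S : Set G)) (hz : z ∈ Subgroup.centralizer (S : Set G)) :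
    t * z * t⁻¹ ∈ Subgroup.centralizer (S : Set G) := by
  rw [Subgroup.mem_centralizer_iff] at hz ⊢
  intro s hs
  have hs' : t⁻¹ * s * t ∈ S := (Subgroup.mem_normalizer_iff''.1 ht s).1 hs
  have h := hz _ hs'
  calc s * (t * z * t⁻¹) = t * ((t⁻¹ * s * t) * z) * t⁻¹ := by group
    _ = t * (z * (t⁻¹ * s * t)) * t⁻¹ := by rw [h]
    _ = t * z * t⁻¹ * s := by group

omit [IsDomain R] in
/-- `Br_S` vanishes on `conj t a` if it vanishes on `a` (`t ∈ N_G(S)`). -/
theorem br_conj_eq_zero {S : Subgroup G} {t : G}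
    (ht : t ∈ Subgroup.normalizer (S : Set G)) {a : MonoidAlgebra R G} (h : br R S a = 0) :
    br R S (conj R t a) = 0 := by
  rw [Cfsg.Agent.Lib.Helper40.BP.br_eq_zero_iff] at h ⊢
  intro z hz
  rw [Cfsg.Agent.Lib.Helper40.BP.coeff_conj]
  apply h
  have := conj_mem_centralizer_of_mem_normalizer (inv_mem ht) hz
  simpa using this

omit [IsDomain R] [IsLocalRing R] in
theorem conj_inv_conj (t : G) (a : MonoidAlgebra R G) : conj R t⁻¹ (conj R t a) = a := by
  rw [Cfsg.Agent.Lib.Helper40.BP.conj_conj, inv_mul_cancel,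
    Cfsg.Agent.Lib.Helper40.BP.conj_one_left]

omit [IsDomain R] [IsLocalRing R] in
theorem conj_conj_inv (t : G) (a : MonoidAlgebra R G) : conj R t (conj R t⁻¹ a) = a := by
  rw [Cfsg.Agent.Lib.Helper40.BP.conj_conj, mul_inv_cancel,
    Cfsg.Agent.Lib.Helper40.BP.conj_one_left]

omit [IsDomain R] [IsLocalRing R] in
theorem conj_mem_fixedAlg_of_mem_normalizer {S : Subgroup G} {t : G}
    (ht : t ∈ Subgroup.normalizer (S : Set G)) {a : MonoidAlgebra R G} (ha : a ∈ fixedAlg R S) :
    conj R t a ∈ fixedAlg R S :=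
  Cfsg.Agent.Lib.Helper3.BP.GI.conj_mem_of_normalizes S t
    (fun s hs => (Subgroup.mem_normalizer_iff''.1 ht s).1 hs) ha

omit [IsDomain R] in
/-- Conjugation by `t ∈ N_G(S)` preserves local primitive idempotents of `A^S`. -/
theorem isLocalPrim_conj {S : Subgroup G} {t : G}
    (ht : t ∈ Subgroup.normalizer (S : Set G)) {c : MonoidAlgebra R G}
    (hc : IsLocalPrim R S c) : IsLocalPrim R S (conj R t c) := by
  obtain ⟨⟨hcS, hci, hc0, hprim⟩, hbr⟩ := hc
  have hci' : IsIdempotentElem c := congrArg Subtype.val hci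
  have hmem := conj_mem_fixedAlg_of_mem_normalizer (R := R) ht hcS
  refine ⟨⟨hmem, ?_, ?_, ?_⟩, ?_⟩
  · apply Subtype.ext
    show conj R t c * conj R t c = conj R t c
    rw [← Cfsg.Agent.Lib.Helper40.BP.conj_mul, hci'.eq]
  · intro h0
    apply hc0
    apply Subtype.ext
    have h1 : conj R t c = 0 := congrArg Subtype.val h0
    show c = 0
    rw [← conj_inv_conj (R := R) t c, h1, Cfsg.Agent.Lib.Helper40.BP.conj_zero]
  · intro f hf
    have hfS : conj R t⁻¹ (f : MonoidAlgebra R G) ∈ fixedAlg R S :=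
      conj_mem_fixedAlg_of_mem_normalizer (R := R) (inv_mem ht) f.2
    have h1 : (f : MonoidAlgebra R G) * f = f := congrArg Subtype.val hf.1
    have h2 : conj R t c * (f : MonoidAlgebra R G) = f := congrArg Subtype.val hf.2.1
    have h3 : (f : MonoidAlgebra R G) * conj R t c = f := congrArg Subtype.val hf.2.2
    have hle : IdemLE (⟨conj R t⁻¹ (f : MonoidAlgebra R G), hfS⟩ : fixedAlg R S) ⟨c, hcS⟩ := by
      refine ⟨?_, ?_, ?_⟩
      · apply Subtype.ext
        show conj R t⁻¹ (f : MonoidAlgebra R G) * conj R t⁻¹ f = conj R t⁻¹ f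
        rw [← Cfsg.Agent.Lib.Helper40.BP.conj_mul, h1]
      · apply Subtype.ext
        show c * conj R t⁻¹ (f : MonoidAlgebra R G) = conj R t⁻¹ f
        conv_lhs => rw [← conj_inv_conj (R := R) t c]
        rw [← Cfsg.Agent.Lib.Helper40.BP.conj_mul, h2]
      · apply Subtype.ext
        show conj R t⁻¹ (f : MonoidAlgebra R G) * c = conj R t⁻¹ f
        conv_lhs => rw [← conj_inv_conj (R := R) t c]
        rw [← Cfsg.Agent.Lib.Helper40.BP.conj_mul, h3]
    rcases hprim _ hle with h | h
    · left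
      apply Subtype.ext
      have h' : conj R t⁻¹ (f : MonoidAlgebra R G) = 0 := congrArg Subtype.val h
      show (f : MonoidAlgebra R G) = 0
      rw [← conj_conj_inv (R := R) t f, h', Cfsg.Agent.Lib.Helper40.BP.conj_zero]
    · right
      apply Subtype.ext
      have h' : conj R t⁻¹ (f : MonoidAlgebra R G) = c := congrArg Subtype.val h
      show (f : MonoidAlgebra R G) = conj R t c
      rw [← h', conj_conj_inv]
  · intro h0
    apply hbr
    have := br_conj_eq_zero (R := R) (inv_mem ht) h0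
    rwa [conj_inv_conj] at this

omit [IsDomain R] in
/-- Transfer of `IsLocalPrim` along a Murray–von Neumann equivalence inside `A^S`. -/
theorem isLocalPrim_of_mvn [Finite G] {p : ℕ} [Fact p.Prime]
    [CharP (IsLocalRing.ResidueField R) p] {S : Subgroup G} (hS : IsPGroup p S)
    {l' l'' a b : MonoidAlgebra R G} (hl' : IsLocalPrim R S l') (hl''S : l'' ∈ fixedAlg R S)
    (hl''i : IsIdempotentElem l'') (ha : a ∈ fixedAlg R S) (hb : b ∈ fixedAlg R S)
    (hab : a * b = l') (hba : b * a = l'') : IsLocalPrim R S l'' := by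
  obtain ⟨⟨hl'S, hprim⟩, hbr⟩ := hl'
  refine ⟨⟨hl''S, ?_⟩, ?_⟩
  · refine Cfsg.Agent.Lib.Helper23.BP.isPrimIdem_of_mvn hprim (Subtype.ext hl''i)
      ⟨⟨a, ha⟩, ⟨b, hb⟩, Subtype.ext hab, Subtype.ext hba⟩
  · intro h0
    apply hbr
    have hi' : IsIdempotentElem l' := congrArg Subtype.val hprim.1
    have h1 : l' = a * l'' * b := by
      rw [← hba, ← mul_assoc, hab, mul_assoc, hab]; exact hi'.symm
    rw [h1, Cfsg.Agent.Lib.Helper23.BP.br_mul hS (mul_mem ha hl''S) hb,
      Cfsg.Agent.Lib.Helper23.BP.br_mul hS ha hl''S, h0, mul_zero, zero_mul]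

omit [IsDomain R] in
/-- If `l' ≤ l₁` in `A^S` and `Br_S(l₁)` is fixed by `z`, then so is `Br_S(l')`. -/
theorem br_mul_eq_of_idemLE [Finite G] {p : ℕ} [Fact p.Prime]
    [CharP (IsLocalRing.ResidueField R) p] {S : Subgroup G} (hS : IsPGroup p S)
    {l' l₁ : MonoidAlgebra R G} (hl' : l' ∈ fixedAlg R S) (hl₁ : l₁ ∈ fixedAlg R S)
    (hle : l' * l₁ = l')
    (z : MonoidAlgebra (IsLocalRing.ResidueField R) (Subgroup.centralizer (S : Set G)))
    (h : br R S l₁ * z = br R S l₁) : br R S l' * z = br R S l' := by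
  have h1 : br R S l' = br R S l' * br R S l₁ := by
    rw [← Cfsg.Agent.Lib.Helper23.BP.br_mul hS hl' hl₁, hle]
  rw [h1, mul_assoc, h]

omit [IsDomain R] [IsLocalRing R] in
theorem card_lt_card_of_lt' [Finite G] {A B : Subgroup G} (h : A < B) :
    Nat.card A < Nat.card B := by
  classical
  exact Set.ncard_lt_ncard (s := (A : Set G)) (t := (B : Set G)) h (Set.toFinite _)

omit [IsDomain R] [IsLocalRing R] in
/-- For `Q < P` with `P` a `p`-group: `N_P(Q)` is strictly bigger than `Q`. -/
theorem lt_inf_normalizer' [Finite G] {p : ℕ} [Fact p.Prime] {P Q : Subgroup G}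
    (hP : IsPGroup p P) (hQP : Q < P) : Q < P ⊓ Subgroup.normalizer (Q : Set G) := by
  have hnil : Group.IsNilpotent P := hP.isNilpotent
  have hlt : Q.subgroupOf P < ⊤ := by
    rw [lt_top_iff_ne_top, Ne, Subgroup.subgroupOf_eq_top]
    exact not_le_of_gt hQP
  have h := Group.normalizerCondition_of_isNilpotent (G := P) (Q.subgroupOf P) hlt
  rw [← Subgroup.subgroupOf_normalizer_eq hQP.le] at h
  obtain ⟨x, hx1, hx2⟩ := SetLike.exists_of_lt h
  refine lt_of_le_of_ne (le_inf hQP.le Subgroup.le_normalizer) ?_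
  intro heq
  apply hx2
  rw [Subgroup.mem_subgroupOf]
  rw [heq]
  exact ⟨x.2, Subgroup.mem_subgroupOf.mp hx1⟩

/-- CLAIM (U'), abstract form: every local primitive idempotent `l' ≤ i` of `A^S`, `S ≤ P`, has
`Br_S(l') z_S = Br_S(l')`. -/
theorem purity_local_abs [Finite G] (hR : MonicSplits R) {p : ℕ} [Fact p.Prime]
    [CharP (IsLocalRing.ResidueField R) p] {P : Subgroup G} (hP : IsPGroup p P)
    {i : MonoidAlgebra R G} (hi : IsLocalPrim R P i)
    (z : ∀ S : Subgroup G,
      MonoidAlgebra (IsLocalRing.ResidueField R) (Subgroup.centralizer (S : Set G)))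
    (hzc : ∀ S : Subgroup G, S ≤ P → ∀ y, z S * y = y * z S)
    (hzP : br R P i * z P = br R P i)
    (hA : ∀ S T : Subgroup G, S ≤ T → T ≤ P → T ≤ Subgroup.normalizer (S : Set G) →
      ∀ l₁ : MonoidAlgebra R G, IsLocalPrim R T l₁ → br R T l₁ * z T = br R T l₁ →
        br R S l₁ * z S = br R S l₁)
    (hconj : ∀ S : Subgroup G, S ≤ P → ∀ t ∈ P, t ∈ Subgroup.normalizer (S : Set G) →
      ∀ a : MonoidAlgebra R G, a ∈ fixedAlg R S → br R S a * z S = br R S a →
        br R S (conj R t a) * z S = br R S (conj R t a))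
    (hBCP : ∀ {Q N : Subgroup G}, Q ≤ N → N ≤ P → P ⊓ Subgroup.normalizer (Q : Set G) ≤ N →
      ∀ {l : MonoidAlgebra R G}, IsPrimIn R (fixedAlg R N) l → IdemLE l i → l ∈ trSet R Q N →
      (∀ T : Subgroup G, T ≤ N → Nat.card T < Nat.card Q → l ∉ trSet R T N) →
        i ∈ trSet R Q P) :
    ∀ (n : ℕ) (S : Subgroup G), S ≤ P → Nat.card P - Nat.card S ≤ n →
      ∀ l' : MonoidAlgebra R G, IsLocalPrim R S l' → IdemLE l' i →
        br R S l' * z S = br R S l' := by
  classical
  obtain ⟨⟨hiP, hiprim⟩, hibr⟩ := hi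
  have hii : IsIdempotentElem i := congrArg Subtype.val hiprim.1
  -- the case `S = P`
  have base : ∀ l' : MonoidAlgebra R G, IsLocalPrim R P l' → IdemLE l' i →
      br R P l' * z P = br R P l' := by
    intro l' hl' hle
    rcases hiprim.2.2 ⟨l', hl'.1.1⟩
      ⟨Subtype.ext hle.1, Subtype.ext hle.2.1, Subtype.ext hle.2.2⟩ with h | h
    · exfalso
      apply hl'.2
      have h' : l' = 0 := congrArg Subtype.val h
      rw [h', Cfsg.Agent.Lib.Helper40.BP.br_zero]
    · have h' : l' = i := congrArg Subtype.val h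
      rw [h']
      exact hzP
  intro n
  induction n with
  | zero =>
    intro S hSP hn l' hl' hle
    have hSeq : S = P := by
      by_contra hne
      have := card_lt_card_of_lt' (lt_of_le_of_ne hSP hne)
      omega
    subst hSeq
    exact base l' hl' hle
  | succ n ih =>
    intro S hSP hn l' hl' hle
    by_cases hSeq : S = P
    · subst hSeq
      exact base l' hl' hle
    have hSlt : S < P := lt_of_le_of_ne hSP hSeq
    have hSN : S < P ⊓ Subgroup.normalizer (S : Set G) := lt_inf_normalizer' hP hSlt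
    have hcSN := card_lt_card_of_lt' hSN
    set N : Subgroup G := P ⊓ Subgroup.normalizer (S : Set G) with hNdef
    have hNP : N ≤ P := inf_le_left
    have hNnorm : N ≤ Subgroup.normalizer (S : Set G) := inf_le_right
    have hNp : IsPGroup p N := hP.to_le hNP
    have hSp : IsPGroup p S := hP.to_le hSP
    have hiN : i ∈ fixedAlg R N := Cfsg.Agent.Lib.Helper40.BP.fixedAlg_anti hNP hiP
    -- Step 1: primitive decomposition of `i` in `A^N`
    obtain ⟨m, l, hl, hlorth, hlsum⟩ := exists_fin_prim_decomp (R := R) N hiN hii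
    -- Step 2: WLOG `l' ≤ l r`
    obtain ⟨r, -, l'', a, b, hl''S, haS, hbS, hl''le, hab, hba⟩ :=
      Cfsg.Agent.Lib.Helper52.BP.exists_mvn_le_summand hR hl'.1 Finset.univ l
        (fun r _ => ⟨Cfsg.Agent.Lib.Helper40.BP.fixedAlg_anti hSN.le (hl r).1.1, (hl r).2.1⟩)
        (fun r _ r' _ hne => hlorth r r' hne)
        (by rw [hlsum]; exact hle)
    have hl''loc : IsLocalPrim R S l'' :=
      isLocalPrim_of_mvn hSp hl' hl''S hl''le.1 haS hbS hab hba
    suffices h : br R S l'' * z S = br R S l'' by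
      have h' := Cfsg.Agent.Lib.Helper52.BP.br_mul_eq_of_mvn hSp hbS haS (z S) (hzc S hSP)
        (by rw [hab]; exact hle.1) (by rw [hba]; exact h)
      rwa [hab] at h'
    have hLprim : IsPrimIn R (fixedAlg R N) (l r) := (hl r).1
    have hLi : IdemLE (l r) i := (hl r).2
    -- Step 3: the local source of `l r`
    obtain ⟨T, l₁, hTN, hl₁loc, htr, hLl₁, hl₁L, horth⟩ :=
      Cfsg.Agent.Lib.Helper3.BP.exists_local_source' hR (Nat.card N) rfl hNp hLprim
    have hLS : l r ∈ fixedAlg R S :=
      Cfsg.Agent.Lib.Helper40.BP.fixedAlg_anti hSN.le hLprim.1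
    have hbrL : br R S (l r) ≠ 0 := by
      intro h0
      apply hl''loc.2
      rw [← hl''le.2.2, Cfsg.Agent.Lib.Helper23.BP.br_mul hSp hl''S hLS, h0, mul_zero]
    have hl₁T : l₁ ∈ fixedAlg R T := hl₁loc.1.1
    have hST : S ≤ T := by
      by_contra hnot
      apply hbrL
      rw [← htr]
      exact Cfsg.Agent.Lib.Helper31.BP.br_relTr_of_not_le hNp hSN.le hTN hNnorm hnot hl₁T
    have hl₁S : l₁ ∈ fixedAlg R S := Cfsg.Agent.Lib.Helper40.BP.fixedAlg_anti hST hl₁T
    have hl₁i : IsIdempotentElem l₁ := congrArg Subtype.val hl₁loc.1.2.1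
    let _ : Fintype (N ⧸ T.subgroupOf N) := Fintype.ofFinite _
    have hLsum : l r = ∑ x : N ⧸ T.subgroupOf N, conj R ((Quotient.out x : N) : G) l₁ := by
      rw [← htr]
      exact Cfsg.Agent.Lib.Helper9.BP.relTr_eq_sum T N l₁
    have houtN : ∀ x : N ⧸ T.subgroupOf N,
        ((Quotient.out x : N) : G) ∈ Subgroup.normalizer (S : Set G) :=
      fun x => hNnorm (Quotient.out x).2
    obtain ⟨x, -, l₃, a', b', hl₃S, ha'S, hb'S, hl₃le, hab', hba'⟩ :=
      Cfsg.Agent.Lib.Helper52.BP.exists_mvn_le_summand hR hl''loc.1 Finset.univ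
        (fun x : N ⧸ T.subgroupOf N => conj R ((Quotient.out x : N) : G) l₁)
        (fun x _ => ⟨conj_mem_fixedAlg_of_mem_normalizer (houtN x) hl₁S, by
          show conj R _ l₁ * conj R _ l₁ = conj R _ l₁
          rw [← Cfsg.Agent.Lib.Helper40.BP.conj_mul, hl₁i.eq]⟩)
        (fun x _ x' _ hne => by
          have hy : ((Quotient.out x : N) : G)⁻¹ * ((Quotient.out x' : N) : G) ∉ T := by
            intro hmem
            apply hne
            have h1 : (Quotient.out x : N)⁻¹ * (Quotient.out x' : N) ∈ T.subgroupOf N := by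
              rw [Subgroup.mem_subgroupOf]
              simpa using hmem
            have h2 := (QuotientGroup.eq (s := T.subgroupOf N)).2 h1
            rwa [QuotientGroup.out_eq', QuotientGroup.out_eq'] at h2
          have hyN : ((Quotient.out x : N) : G)⁻¹ * ((Quotient.out x' : N) : G) ∈ N :=
            mul_mem (inv_mem (Quotient.out x).2) (Quotient.out x').2
          have h3 := horth _ hyN hy
          have h4 : conj R ((Quotient.out x' : N) : G) l₁ =
              conj R ((Quotient.out x : N) : G)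
                (conj R (((Quotient.out x : N) : G)⁻¹ * ((Quotient.out x' : N) : G)) l₁) := by
            rw [Cfsg.Agent.Lib.Helper40.BP.conj_conj, mul_inv_cancel_left]
          show conj R _ l₁ * conj R _ l₁ = 0
          rw [h4, ← Cfsg.Agent.Lib.Helper40.BP.conj_mul, h3,
            Cfsg.Agent.Lib.Helper40.BP.conj_zero])
        (by rw [← hLsum]; exact hl''le)
    set t : G := ((Quotient.out x : N) : G) with htdef
    have htN : t ∈ N := (Quotient.out x).2
    have htnorm : t ∈ Subgroup.normalizer (S : Set G) := hNnorm htN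
    have hl₃loc : IsLocalPrim R S l₃ :=
      isLocalPrim_of_mvn hSp hl''loc hl₃S hl₃le.1 ha'S hb'S hab' hba'
    suffices h : br R S l₃ * z S = br R S l₃ by
      have h' := Cfsg.Agent.Lib.Helper52.BP.br_mul_eq_of_mvn hSp hb'S ha'S (z S) (hzc S hSP)
        (by rw [hab']; exact hl''le.1) (by rw [hba']; exact h)
      rwa [hab'] at h'
    -- conjugate back: `l₄ = t⁻¹ l₃ t ≤ l₁`
    have hl₄loc : IsLocalPrim R S (conj R t⁻¹ l₃) := isLocalPrim_conj (inv_mem htnorm) hl₃loc
    have hl₄le : conj R t⁻¹ l₃ * l₁ = conj R t⁻¹ l₃ := by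
      have h := congrArg (conj R t⁻¹) hl₃le.2.2
      rwa [Cfsg.Agent.Lib.Helper40.BP.conj_mul, conj_inv_conj] at h
    have hl₄le' : l₁ * conj R t⁻¹ l₃ = conj R t⁻¹ l₃ := by
      have h := congrArg (conj R t⁻¹) hl₃le.2.1
      rwa [Cfsg.Agent.Lib.Helper40.BP.conj_mul, conj_inv_conj] at h
    have hl₄i : IsIdempotentElem (conj R t⁻¹ l₃) := congrArg Subtype.val hl₄loc.1.2.1
    suffices h : br R S (conj R t⁻¹ l₃) * z S = br R S (conj R t⁻¹ l₃) by
      have h' := hconj S hSP t (hNP htN) htnorm _ hl₄loc.1.1 h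
      rwa [conj_conj_inv] at h'
    -- Step 4
    by_cases hSTeq : S = T
    · exfalso
      subst hSTeq
      have hl₄eq : conj R t⁻¹ l₃ = l₁ := by
        rcases hl₁loc.1.2.2.2 ⟨conj R t⁻¹ l₃, hl₄loc.1.1⟩
          ⟨Subtype.ext hl₄i, Subtype.ext hl₄le', Subtype.ext hl₄le⟩ with h | h
        · exfalso
          apply hl₄loc.2
          have h' : conj R t⁻¹ l₃ = 0 := congrArg Subtype.val h
          rw [h', Cfsg.Agent.Lib.Helper40.BP.br_zero]
        · exact congrArg Subtype.val h
      have hLtr : l r ∈ trSet R S N := ⟨l₁, hl₁T, htr⟩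
      have hmin : ∀ T' : Subgroup G, T' ≤ N → Nat.card T' < Nat.card S →
          l r ∉ trSet R T' N := by
        rintro T' hT'N hcard ⟨a₀, ha₀, ha₀tr⟩
        apply hbrL
        rw [← ha₀tr]
        refine Cfsg.Agent.Lib.Helper31.BP.br_relTr_of_not_le hNp hSN.le hT'N hNnorm ?_ ha₀
        intro hST'
        have := Subgroup.card_le_of_le hST'
        omega
      obtain ⟨a₀, ha₀, ha₀tr⟩ := hBCP hSN.le hNP le_rfl hLprim hLi hLtr hmin
      apply hibr
      rw [← ha₀tr]
      exact Cfsg.Agent.Lib.Helper9.BP.br_relTr hP hSlt ha₀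
    · have hSTlt : S < T := lt_of_le_of_ne hST hSTeq
      have hTP : T ≤ P := hTN.trans hNP
      have hl₁le : IdemLE l₁ i := by
        refine ⟨hl₁i, ?_, ?_⟩
        · rw [← hLl₁, ← mul_assoc, hLi.2.1]
        · rw [← hl₁L, mul_assoc, hLi.2.2]
      have hcard : Nat.card P - Nat.card T ≤ n := by
        have := card_lt_card_of_lt' hSTlt
        omega
      have h1 := ih T hTP hcard l₁ hl₁loc hl₁le
      have h2 := hA S T hST hTP (hTN.trans hNnorm) l₁ hl₁loc h1
      exact br_mul_eq_of_idemLE hSp hl₄loc.1.1 hl₁S hl₄le (z S) h2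

/-- THEOREM U, abstract form: `Br_Q(i) z_Q = Br_Q(i)` for every `Q ≤ P`. -/
theorem purity_abs [Finite G] (hR : MonicSplits R) {p : ℕ} [Fact p.Prime]
    [CharP (IsLocalRing.ResidueField R) p] {P : Subgroup G} (hP : IsPGroup p P)
    {i : MonoidAlgebra R G} (hi : IsLocalPrim R P i)
    (z : ∀ S : Subgroup G,
      MonoidAlgebra (IsLocalRing.ResidueField R) (Subgroup.centralizer (S : Set G)))
    (hzc : ∀ S : Subgroup G, S ≤ P → ∀ y, z S * y = y * z S)
    (hzP : br R P i * z P = br R P i)
    (hA : ∀ S T : Subgroup G, S ≤ T → T ≤ P → T ≤ Subgroup.normalizer (S : Set G) →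
      ∀ l₁ : MonoidAlgebra R G, IsLocalPrim R T l₁ → br R T l₁ * z T = br R T l₁ →
        br R S l₁ * z S = br R S l₁)
    (hconj : ∀ S : Subgroup G, S ≤ P → ∀ t ∈ P, t ∈ Subgroup.normalizer (S : Set G) →
      ∀ a : MonoidAlgebra R G, a ∈ fixedAlg R S → br R S a * z S = br R S a →
        br R S (conj R t a) * z S = br R S (conj R t a))
    (hBCP : ∀ {Q N : Subgroup G}, Q ≤ N → N ≤ P → P ⊓ Subgroup.normalizer (Q : Set G) ≤ N →
      ∀ {l : MonoidAlgebra R G}, IsPrimIn R (fixedAlg R N) l → IdemLE l i → l ∈ trSet R Q N →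
      (∀ T : Subgroup G, T ≤ N → Nat.card T < Nat.card Q → l ∉ trSet R T N) →
        i ∈ trSet R Q P)
    {Q : Subgroup G} (hQP : Q ≤ P) : br R Q i * z Q = br R Q i := by
  classical
  have hU := purity_local_abs hR hP hi z hzc hzP hA hconj hBCP (Nat.card P - Nat.card Q) Q hQP
    le_rfl
  obtain ⟨⟨hiP, hiprim⟩, -⟩ := hi
  have hii : IsIdempotentElem i := congrArg Subtype.val hiprim.1
  have hiQ : i ∈ fixedAlg R Q := Cfsg.Agent.Lib.Helper40.BP.fixedAlg_anti hQP hiP
  obtain ⟨m, l, hl, -, hlsum⟩ := exists_fin_prim_decomp (R := R) Q hiQ hii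
  have hpiece : ∀ r, br R Q (l r) * z Q = br R Q (l r) := by
    intro r
    by_cases h0 : br R Q (l r) = 0
    · rw [h0, zero_mul]
    · exact hU (l r) ⟨(hl r).1, h0⟩ (hl r).2
  rw [← hlsum, Cfsg.Agent.Lib.Helper40.BP.br_sum, Finset.sum_mul]
  exact Finset.sum_congr rfl (fun r _ => hpiece r)

/-- `Br_S ∘ conj t` only depends on `Br_S` (`t ∈ N_G(S)`). -/
theorem br_conj_congr [Finite G] {S : Subgroup G} {t : G}
    (ht : t ∈ Subgroup.normalizer (S : Set G)) {a b : MonoidAlgebra R G}
    (h : br R S a = br R S b) : br R S (conj R t a) = br R S (conj R t b) := by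
  apply Cfsg.Agent.Lib.Helper40.BP.br_ext
  intro z'
  have hz : t⁻¹ * (z' : G) * t ∈ Subgroup.centralizer (S : Set G) := by
    have := conj_mem_centralizer_of_mem_normalizer (inv_mem ht) z'.2
    simpa using this
  have hzz : (z' : G) = t * ((⟨_, hz⟩ : Subgroup.centralizer (S : Set G)) : G) * t⁻¹ := by
    simp [mul_assoc]
  rw [Cfsg.Agent.Lib.Helper31.BP.br_conj ht a ⟨_, hz⟩ z' hzz,
    Cfsg.Agent.Lib.Helper31.BP.br_conj ht b ⟨_, hz⟩ z' hzz, h]

omit [IsDomain R] [IsLocalRing R] in
/-- `incl` of `R[C_G(S)]` lands in `A^S`. -/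
theorem incl_mem_fixedAlg (S : Subgroup G)
    (x : MonoidAlgebra R (Subgroup.centralizer (S : Set G))) :
    incl R (Subgroup.centralizer (S : Set G)) x ∈ fixedAlg R S := by
  induction x using MonoidAlgebra.induction_on with
  | of z =>
    have : incl R (Subgroup.centralizer (S : Set G)) (MonoidAlgebra.of R _ z) =
        MonoidAlgebra.of R G (z : G) := by
      simp [incl]
    rw [this]
    exact Cfsg.Agent.Lib.Helper40.BP.of_mem_fixedAlg S z.2
  | add f g hf hg => rw [map_add]; exact add_mem hf hg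
  | smul r f hf =>
    have : incl R (Subgroup.centralizer (S : Set G)) (r • f) =
        r • incl R (Subgroup.centralizer (S : Set G)) f := by
      simp [incl]
    rw [this]
    exact Subalgebra.smul_mem _ hf r

omit [IsDomain R] in
/-- `Br_S ∘ incl = red` on `R[C_G(S)]`. -/
theorem br_incl (S : Subgroup G) (x : MonoidAlgebra R (Subgroup.centralizer (S : Set G))) :
    br R S (incl R (Subgroup.centralizer (S : Set G)) x) =
      red R (Subgroup.centralizer (S : Set G)) x :=
  Cfsg.Agent.Lib.Helper44.BP.br_mapDomain S x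

end Abstract

section Blocks

open Cfsg Cfsg.Agent.Lib.Helper16

variable {G : Type*} [Group G] [Finite G] {p : ℕ} [Fact p.Prime] {M : Ideal AlgInt}
  [hMp : M.IsPrime]

/-- BP-[U] : THEOREM U (purity), modulo the modules BP-[D1] (`blockIdemK_central`), BP-[D3]
(`isNormalSubpair_iff_idem`, the `P`-stability clause), BP-[U-A] (`lemmaA`) and BP-[U-BCP] (`bcp`),
taken as hypotheses with their skeleton statements (specialised to `G`). -/
theorem purity_of (hM : IsPModular p M)
    (hD1 : ∀ (S : Subgroup G) (f : Set (IrrCharacter (Subgroup.centralizer (S : Set G)))),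
      IsPBlock M f → ∀ y : MonoidAlgebra (IsLocalRing.ResidueField (localSubring M))
        (Subgroup.centralizer (S : Set G)), blockIdemK M f * y = y * blockIdemK M f)
    (hD3 : ∀ (Q P : Subgroup G) (f : Set (IrrCharacter (Subgroup.centralizer (Q : Set G))))
      (e : Set (IrrCharacter (Subgroup.centralizer (P : Set G)))),
      IsNormalSubpair p M Q f P e → ∀ x ∈ P,
        conj (localSubring M) x (incl _ _ (blockIdemR M f)) = incl _ _ (blockIdemR M f))
    (hLemA : ∀ {Q P : Subgroup G}, IsPGroup p P → Q ≤ P →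
      P ≤ Subgroup.normalizer (Q : Set G) → ∀ {i : MonoidAlgebra (localSubring M) G},
      IsLocalPrim (localSubring M) P i →
      ∀ {e : Set (IrrCharacter (Subgroup.centralizer (P : Set G)))}, IsPBlock M e →
      br (localSubring M) P i * blockIdemK M e = br (localSubring M) P i →
      ∃ f : Set (IrrCharacter (Subgroup.centralizer (Q : Set G))),
        IsNormalSubpair p M Q f P e ∧
          br (localSubring M) Q i * blockIdemK M f = br (localSubring M) Q i)
    (hBCP : ∀ {Q N P : Subgroup G}, IsPGroup p P → Q ≤ N → N ≤ P →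
      P ⊓ Subgroup.normalizer (Q : Set G) ≤ N → ∀ {i l : MonoidAlgebra (localSubring M) G},
      IsPrimIn (localSubring M) (fixedAlg (localSubring M) P) i →
      IsPrimIn (localSubring M) (fixedAlg (localSubring M) N) l → IdemLE l i →
      l ∈ trSet (localSubring M) Q N →
      (∀ T : Subgroup G, T ≤ N → Nat.card T < Nat.card Q → l ∉ trSet (localSubring M) T N) →
        i ∈ trSet (localSubring M) Q P)
    {Q P : Subgroup G}
    {f : Set (IrrCharacter (Subgroup.centralizer (Q : Set G)))}
    {e : Set (IrrCharacter (Subgroup.centralizer (P : Set G)))}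
    (hPe : IsBrauerPair p M P e) (hle : SubpairLE p M Q f P e)
    {i : MonoidAlgebra (localSubring M) G} (hi : IsLocalPrim (localSubring M) P i)
    (hie : br (localSubring M) P i * blockIdemK M e = br (localSubring M) P i) :
    br (localSubring M) Q i * blockIdemK M f = br (localSubring M) Q i := by
  classical
  let _ : Fintype G := Fintype.ofFinite G
  have : CharP (IsLocalRing.ResidueField (localSubring M)) p :=
    Cfsg.Agent.Lib.Helper52.BP.charP_residueField hM
  have hR : MonicSplits (localSubring M) := Cfsg.Agent.Lib.Helper3.BP.monicSplits_localSubring M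
  have hP : IsPGroup p P := hPe.1
  have hQP : Q ≤ P := Cfsg.Agent.S4655.le_le hle
  -- the unique subpairs below `(P, e)`
  have hex : ∀ S : Subgroup G, S ≤ P →
      ∃ g : Set (IrrCharacter (Subgroup.centralizer (S : Set G))),
        IsPBlock M g ∧ SubpairLE p M S g P e :=
    fun S hS => (Cfsg.Agent.S4655.result p M hM P S e hPe hS).exists
  choose fS hfS using hex
  have huniq : ∀ (S : Subgroup G) (hS : S ≤ P)
      (g : Set (IrrCharacter (Subgroup.centralizer (S : Set G)))),
      SubpairLE p M S g P e → g = fS S hS := by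
    intro S hS g hg
    have hgB : IsPBlock M g :=
      (Cfsg.Agent.S4655.le_pair_left (a := ⟨S, g⟩) (b := ⟨P, e⟩) hg hPe).2
    exact (Cfsg.Agent.S4655.result p M hM P S e hPe hS).unique ⟨hgB, hg⟩ (hfS S hS)
  set z : ∀ S : Subgroup G, MonoidAlgebra (IsLocalRing.ResidueField (localSubring M))
      (Subgroup.centralizer (S : Set G)) :=
    fun S => if h : S ≤ P then blockIdemK M (fS S h) else 0 with hzdef
  have hz : ∀ (S : Subgroup G) (hS : S ≤ P), z S = blockIdemK M (fS S hS) := by
    intro S hS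
    rw [hzdef]
    exact dif_pos hS
  have key := purity_abs (R := localSubring M) hR hP hi z
    (by
      intro S hS y
      rw [hz S hS]
      exact hD1 S _ (hfS S hS).1 y)
    (by
      rw [hz P le_rfl, ← huniq P le_rfl e Relation.ReflTransGen.refl]
      exact hie)
    (by
      intro S T hST hTP hTnorm l₁ hl₁ h
      rw [hz T hTP] at h
      rw [hz S (hST.trans hTP)]
      obtain ⟨g, hg, hgbr⟩ := hLemA (hP.to_le hTP) hST hTnorm hl₁ (hfS T hTP).1 h
      have hgle : SubpairLE p M S g P e :=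
        Relation.ReflTransGen.head (show NormalSubpairRel p M ⟨S, g⟩ ⟨T, fS T hTP⟩ from hg)
          (hfS T hTP).2
      rw [← huniq S (hST.trans hTP) g hgle]
      exact hgbr)
    (by
      intro S hS t htP htn a ha h
      rw [hz S hS] at h ⊢
      -- `(S, f_S) ⊴ (N_P(S), f_N)`
      have hNP : P ⊓ Subgroup.normalizer (S : Set G) ≤ P := inf_le_left
      have hSN : S ≤ P ⊓ Subgroup.normalizer (S : Set G) := le_inf hS Subgroup.le_normalizer
      obtain ⟨g, hg, -⟩ := Cfsg.Agent.S4656.result p M hM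
        (P ⊓ Subgroup.normalizer (S : Set G)) S (fS _ hNP) ⟨hP.to_le hNP, (hfS _ hNP).1⟩ hSN
        inf_le_right
      have hgle : SubpairLE p M S g P e :=
        Relation.ReflTransGen.head (show NormalSubpairRel p M ⟨S, g⟩
          ⟨P ⊓ Subgroup.normalizer (S : Set G), fS _ hNP⟩ from hg) (hfS _ hNP).2
      have hgeq := huniq S hS g hgle
      rw [hgeq] at hg
      have hstab := hD3 _ _ _ _ hg t ⟨htP, htn⟩
      -- the computation
      have hES : incl (localSubring M) (Subgroup.centralizer (S : Set G))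
          (blockIdemR M (fS S hS)) ∈ fixedAlg (localSubring M) S := incl_mem_fixedAlg S _
      have hbrE : br (localSubring M) S (incl (localSubring M)
          (Subgroup.centralizer (S : Set G)) (blockIdemR M (fS S hS))) =
          blockIdemK M (fS S hS) := br_incl S _
      have hSp : IsPGroup p S := hP.to_le hS
      have h1 : br (localSubring M) S (a * incl (localSubring M)
          (Subgroup.centralizer (S : Set G)) (blockIdemR M (fS S hS))) =
          br (localSubring M) S a := by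
        rw [Cfsg.Agent.Lib.Helper23.BP.br_mul hSp ha hES, hbrE, h]
      have h2 := br_conj_congr (R := localSubring M) htn h1
      rw [Cfsg.Agent.Lib.Helper40.BP.conj_mul, hstab,
        Cfsg.Agent.Lib.Helper23.BP.br_mul hSp (conj_mem_fixedAlg_of_mem_normalizer htn ha) hES,
        hbrE] at h2
      exact h2)
    (by
      intro Q' N hQN hNP hnorm l hl hli hlQ hmin
      exact hBCP hP hQN hNP hnorm hi.1 hl hli hlQ hmin)
    hQP
  rw [hz Q hQP, ← huniq Q hQP f hle] at key
  exact key

end Blocks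

end Cfsg.Agent.Lib.Helper74.BP
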