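import Cfsg.Agent.Lib.Helper74.BPPurity
import Cfsg.Agent.Lib.Helper77.BPBlockD1
import Cfsg.Agent.Lib.Helper3.BPBcp

/-!
# PROJECT BP, BP-[U] : THEOREM U with BP-[D1] and BP-[U-BCP] discharged (helper74)

`purity_of2` = `purity_of` with `hD1 := Helper77.BP.blockIdemK_central`, `hBCP := Helper3.BP.bcp`;
remaining hypotheses: the stability clause of BP-[D3] and BP-[U-A] `lemmaA`.
-/

set_option autoImplicit false

namespace Cfsg.Agent.Lib.Helper74.BP

open Cfsg Cfsg.Agent.Lib.Helper16 Cfsg.Agent.Lib.Helper92.BP

variable {G : Type*} [Group G] [Finite G] {p : ℕ} [Fact p.Prime] {M : Ideal AlgInt}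
  [hMp : M.IsPrime]

theorem purity_of2 (hM : IsPModular p M)
    (hD3 : ∀ (Q P : Subgroup G) (f : Set (IrrCharacter (Subgroup.centralizer (Q : Set G))))
      (e : Set (IrrCharacter (Subgroup.centralizer (P : Set G)))),
      IsNormalSubpair p M Q f P e → ∀ x ∈ P,
        conj (localSubring M) x (incl _ _ (blockIdemR M f)) = incl _ _ (blockIdemR M f))
    (hLemA : ∀ {Q P : Subgroup G}, IsPGroup p P → Q ≤ P →
      P ≤ Subgroup.normalizer (Q : Set G) → ∀ {i : MonoidAlgebra (localSubring M) G},
      IsLocalPrim (localSubring M) P i →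
      ∀ {e : Set (IrrCharacter (Subgroup.centralizer (P : Set G)))}, IsPBlock M e →
      br (localSubring M) P i * blockIdemK M e = br (localSubring M) P i →
      ∃ f : Set (IrrCharacter (Subgroup.centralizer (Q : Set G))),
        IsNormalSubpair p M Q f P e ∧
          br (localSubring M) Q i * blockIdemK M f = br (localSubring M) Q i)
    {Q P : Subgroup G}
    {f : Set (IrrCharacter (Subgroup.centralizer (Q : Set G)))}
    {e : Set (IrrCharacter (Subgroup.centralizer (P : Set G)))}
    (hPe : IsBrauerPair p M P e) (hle : SubpairLE p M Q f P e)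
    {i : MonoidAlgebra (localSubring M) G} (hi : IsLocalPrim (localSubring M) P i)
    (hie : br (localSubring M) P i * blockIdemK M e = br (localSubring M) P i) :
    br (localSubring M) Q i * blockIdemK M f = br (localSubring M) Q i := by
  have : CharP (IsLocalRing.ResidueField (localSubring M)) p :=
    Cfsg.Agent.Lib.Helper52.BP.charP_residueField hM
  exact purity_of hM
    (fun S f hf y => Cfsg.Agent.Lib.Helper77.BP.blockIdemK_central hM hf y)
    hD3 hLemA
    (fun hP hQN hNP hnorm _ _ hi hl hli hlQ hmin =>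
      Cfsg.Agent.Lib.Helper3.BP.bcp (Cfsg.Agent.Lib.Helper3.BP.monicSplits_localSubring M)
        hP hQN hNP hnorm hi hl hli hlQ hmin)
    hPe hle hi hie

end Cfsg.Agent.Lib.Helper74.BP
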