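import Mathlib

/-!
# PROJECT BP, BP-[ROB-COUNT] (helper74): orbit counting for an action given as a functional relation
-/

set_option autoImplicit false

namespace Cfsg.Agent.Lib.Helper74.BP

/-- BP-[ROB-COUNT] : orbit counting for an action given as a functional relation. -/
theorem index_dvd_card_of_rel {L : Type*} [Group L] [Finite L] {X : Type*} [Finite X]
    (L₀ : Subgroup L) (R : L → X → X → Prop) (hex : ∀ l x, ∃ y, R l x y)
    (huniq : ∀ l x y y', R l x y → R l x y' → y = y') (hone : ∀ x, R 1 x x)
    (hmul : ∀ l l' x y z, R l x y → R l' y z → R (l' * l) x z)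
    (hstab : ∀ l x, R l x x → l ∈ L₀) : L₀.index ∣ Nat.card X := by
  classical
  choose act hact using hex
  let _ : MulAction L X :=
    { smul := act
      one_smul := fun x => huniq 1 x _ _ (hact 1 x) (hone x)
      mul_smul := fun l' l x => huniq (l' * l) x _ _ (hact (l' * l) x)
        (hmul l l' x _ _ (hact l x) (hact l' (act l x))) }
  have hst : ∀ x : X, MulAction.stabilizer L x ≤ L₀ := by
    intro x l hl
    rw [MulAction.mem_stabilizer_iff] at hl
    apply hstab l x
    have h := hact l x
    have hl' : act l x = x := hl
    rwa [hl'] at h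
  have horb : ∀ x : X, L₀.index ∣ Nat.card (MulAction.orbit L x) := by
    intro x
    have h1 : Nat.card (MulAction.orbit L x) = (MulAction.stabilizer L x).index := by
      rw [Subgroup.index, Nat.card_congr (MulAction.orbitEquivQuotientStabilizer L x)]
    rw [h1]
    exact Subgroup.index_dvd_of_le (hst x)
  have : Fintype (MulAction.orbitRel.Quotient L X) := Fintype.ofFinite _
  rw [Nat.card_congr (MulAction.selfEquivSigmaOrbits' L X), Nat.card_sigma]
  refine Finset.dvd_sum fun ω _ => ?_
  induction ω using Quotient.inductionOn' with
  | h x =>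
    rw [MulAction.orbitRel.Quotient.orbit_mk]
    exact horb x

end Cfsg.Agent.Lib.Helper74.BP
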