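import Mathlib

/-!
# PROJECT BP, BP-[ROB-DUAL] (helper74): finite abelian duality for `P ⧸ N`, `N ⊇ [P, P]`
-/

set_option autoImplicit false

namespace Cfsg.Agent.Lib.Helper74.BP

open scoped commutatorElement

/-- `P ⧸ N` is commutative when `N` contains the commutator subgroup. -/
theorem quotient_mul_comm {P : Type*} [Group P] (N : Subgroup P) [N.Normal]
    (hN : commutator P ≤ N) (a b : P ⧸ N) : a * b = b * a := by
  obtain ⟨x, rfl⟩ := QuotientGroup.mk_surjective a
  obtain ⟨y, rfl⟩ := QuotientGroup.mk_surjective b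
  rw [← QuotientGroup.mk_mul, ← QuotientGroup.mk_mul, QuotientGroup.eq]
  apply hN
  have h : (x * y)⁻¹ * (y * x) = ⁅y⁻¹, x⁻¹⁆ := by
    rw [commutatorElement_def]; group
  rw [h]
  exact Subgroup.commutator_mem_commutator (Subgroup.mem_top _) (Subgroup.mem_top _)

theorem hasEnoughRoots_exponent' (A : Type*) [Group A] [Finite A] :
    HasEnoughRootsOfUnity ℂ (Monoid.exponent A) := by
  have : NeZero ((Monoid.exponent A : ℕ) : ℂ) :=
    ⟨by exact_mod_cast (Monoid.exponent_ne_zero_of_finite (G := A))⟩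
  infer_instance

/-- BP-[ROB-DUAL] : there are `|P : N|` characters of `P` trivial on `N ⊇ [P, P]`. -/
theorem card_dual_of_commutator_le {P : Type*} [Group P] [Finite P] (N : Subgroup P) [N.Normal]
    (hN : commutator P ≤ N) : Nat.card (P ⧸ N →* ℂˣ) = N.index := by
  let _ : CommGroup (P ⧸ N) :=
    { (inferInstance : Group (P ⧸ N)) with mul_comm := quotient_mul_comm N hN }
  have := hasEnoughRoots_exponent' (P ⧸ N)
  exact CommGroup.card_monoidHom_of_hasEnoughRootsOfUnity (P ⧸ N) ℂ

/-- BP-[ROB-DUAL] : the characters trivial on a further subgroup `Z` have index `|Z : Z ∩ N|`. -/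
theorem index_dual_trivial_on {P : Type*} [Group P] [Finite P] (N : Subgroup P) [N.Normal]
    (hN : commutator P ≤ N) (Z : Subgroup P) (L₀ : Subgroup (P ⧸ N →* ℂˣ))
    (hL₀ : ∀ l : P ⧸ N →* ℂˣ, l ∈ L₀ ↔ ∀ z ∈ Z, l (QuotientGroup.mk z) = 1) :
    L₀.index = N.relIndex Z := by
  let _ : CommGroup (P ⧸ N) :=
    { (inferInstance : Group (P ⧸ N)) with mul_comm := quotient_mul_comm N hN }
  have hroots := hasEnoughRoots_exponent' (P ⧸ N)
  -- the image of `Z` in `P ⧸ N`
  set φ : Z →* P ⧸ N := (QuotientGroup.mk' N).comp Z.subtype with hφ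
  have hker : φ.ker = N.subgroupOf Z := by
    ext z
    rw [MonoidHom.mem_ker, Subgroup.mem_subgroupOf, hφ]
    simp [QuotientGroup.eq_one_iff]
  have hroots' := hasEnoughRoots_exponent' φ.range
  -- restriction to the image
  have hsurj := MonoidHom.domRestrict_surjective (G := P ⧸ N) (M := ℂ) φ.range
  have hL : L₀ = (MonoidHom.domRestrictHom φ.range ℂˣ).ker := by
    ext l
    rw [hL₀, MonoidHom.mem_ker]
    constructor
    · intro h
      ext ⟨y, z, rfl⟩
      have := h z z.2
      simpa [hφ] using this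
    · intro h z hz
      have := DFunLike.congr_fun h ⟨φ ⟨z, hz⟩, ⟨⟨z, hz⟩, rfl⟩⟩
      simpa [hφ] using this
  rw [hL, Subgroup.index_ker, MonoidHom.range_eq_top.2 hsurj, Subgroup.card_top,
    CommGroup.card_monoidHom_of_hasEnoughRootsOfUnity φ.range ℂ, ← Subgroup.index_ker, hker]
  rfl

end Cfsg.Agent.Lib.Helper74.BP
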