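import Mathlib
import Cfsg.Agent.Lib.Helper74.BlichfeldtHall
import Cfsg.Agent.Lib.Helper75.Monomial

set_option autoImplicit false
set_option linter.style.haveILetI false
open Cfsg
open scoped ComplexConjugate commutatorElement Pointwise

universe u

namespace Cfsg.Agent.Lib.Helper74.Blichfeldt

open Cfsg.Agent.Lib.Helper78

/-- A nilpotent group (for instance a `p`-group) with a faithful character of degree `≤ n`
has an abelian subgroup of index dividing `n!`. -/
theorem exists_abelian_index_dvd_factorial {P : Type u} [Group P] [Finite P]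
    [Group.IsNilpotent P] {n : ℕ} (hF : HasFaithful P n) :
    ∃ C : Subgroup P, (∀ x ∈ C, ∀ y ∈ C, x * y = y * x) ∧ C.index ∣ n.factorial := by
  classical
  have := Fintype.ofFinite P
  obtain ⟨χ, hχ, hf, hd⟩ := hF
  let I := {ψ : IrrCharacter P // classInner χ (ψ : P → ℂ) ≠ 0}
  have hmono : ∀ ψ : I, ∃ (H : Subgroup P) (lam : H →* ℂˣ),
      (ψ.1 : P → ℂ) = indFun H (fun h => (lam h : ℂ)) :=
    fun ψ => Cfsg.Agent.Lib.Helper75.nilpotent_monomial _ ψ.1.2
  choose H lam hH using hmono
  let Ω := Σ ψ : I, P ⧸ H ψ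
  let f : P →* Equiv.Perm Ω := MulAction.toPermHom P Ω
  have hker : ∀ x ∈ f.ker, ∀ (ψ : I) (t : P), t⁻¹ * x * t ∈ H ψ := by
    intro x hx ψ t
    have h1 : f x = 1 := MonoidHom.mem_ker.mp hx
    have h2 : f x ⟨ψ, (t : P ⧸ H ψ)⟩ = ⟨ψ, (t : P ⧸ H ψ)⟩ := by rw [h1]; rfl
    have h3 : f x ⟨ψ, (t : P ⧸ H ψ)⟩ = ⟨ψ, ((x * t : P) : P ⧸ H ψ)⟩ := rfl
    rw [h3] at h2
    have h4 : ((x * t : P) : P ⧸ H ψ) = (t : P ⧸ H ψ) := by
      have := Sigma.mk.inj_iff.mp h2
      exact eq_of_heq this.2
    have h5 := QuotientGroup.eq.mp h4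
    have h6 := (H ψ).inv_mem h5
    have h7 : ((x * t)⁻¹ * t)⁻¹ = t⁻¹ * x * t := by group
    rwa [h7] at h6
  refine ⟨f.ker, ?_, ?_⟩
  · intro x hx y hy
    by_contra hne
    have hg : χ ⁅x, y⁆ ≠ χ 1 := by
      intro hh
      exact hne (commutatorElement_eq_one_iff_mul_comm.mp (hf _ hh))
    obtain ⟨φ, hφ, hφg⟩ := Cfsg.Agent.Lib.Helper15.exists_constituent_ne hχ _ hg
    apply hφg
    set ψ : I := ⟨φ, hφ⟩ with hψ
    have hφeq : (φ : P → ℂ) = indFun (H ψ) (fun h => (lam ψ h : ℂ)) := hH ψ
    rw [hφeq, Cfsg.Agent.Lib.Helper75.indFun_one]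
    unfold indFun
    have hterm : ∀ t : P, extendByZero (H ψ) (fun h => (lam ψ h : ℂ)) (t⁻¹ * ⁅x, y⁆ * t) = 1 := by
      intro t
      have ha := hker x hx ψ t
      have hb := hker y hy ψ t
      have hc : t⁻¹ * ⁅x, y⁆ * t = ⁅t⁻¹ * x * t, t⁻¹ * y * t⁆ := by
        simp only [commutatorElement_def]; group
      have hmem : ⁅t⁻¹ * x * t, t⁻¹ * y * t⁆ ∈ H ψ := by
        rw [commutatorElement_def]
        exact (H ψ).mul_mem ((H ψ).mul_mem ((H ψ).mul_mem ha hb) ((H ψ).inv_mem ha))
          ((H ψ).inv_mem hb)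
      rw [hc]
      have h1 : (⁅t⁻¹ * x * t, t⁻¹ * y * t⁆ : P) =
          ((⁅(⟨t⁻¹ * x * t, ha⟩ : H ψ), ⟨t⁻¹ * y * t, hb⟩⁆ : H ψ) : P) := by
        simp [commutatorElement_def]
      rw [h1, Cfsg.Agent.Lib.Helper75.extendByZero_coe]
      have h2 : lam ψ ⁅(⟨t⁻¹ * x * t, ha⟩ : H ψ), ⟨t⁻¹ * y * t, hb⟩⁆ = 1 := by
        rw [commutatorElement_def, map_mul, map_mul, map_mul, map_inv, map_inv]
        rw [mul_comm (lam ψ ⟨t⁻¹ * x * t, ha⟩) (lam ψ ⟨t⁻¹ * y * t, hb⟩)]
        group
      rw [h2]; simp
    rw [Finset.sum_congr rfl (fun t _ => hterm t)]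
    simp only [Finset.sum_const, Finset.card_univ, nsmul_eq_mul, mul_one, map_one, Units.val_one]
    have h1 : (Nat.card (H ψ) : ℂ) ≠ 0 := by
      exact_mod_cast (Nat.card_pos (α := H ψ)).ne'
    have h2 := Subgroup.card_mul_index (H ψ)
    rw [← Nat.card_eq_fintype_card, ← h2]
    push_cast
    field_simp
  · rw [Subgroup.index_ker]
    have h1 : Nat.card f.range ∣ Nat.card (Equiv.Perm Ω) := Subgroup.card_subgroup_dvd_card _
    rw [Nat.card_perm] at h1
    apply h1.trans
    apply Nat.factorial_dvd_factorial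
    -- `|Ω| ≤ n`
    have hΩ : Nat.card Ω = ∑ ψ : I, charDegree (ψ.1 : P → ℂ) := by
      rw [Nat.card_sigma]
      apply Finset.sum_congr rfl
      intro ψ _
      have h2 := congrFun (hH ψ) 1
      rw [Cfsg.Agent.Lib.Helper75.indFun_one,
        Cfsg.Agent.Lib.Helper79.irr_apply_one_eq_charDegree] at h2
      simp only [map_one, Units.val_one, mul_one] at h2
      have : Nat.card (P ⧸ H ψ) = (H ψ).index := (Subgroup.index_eq_card (H ψ)).symm
      rw [this]
      exact_mod_cast h2.symm
    obtain ⟨m, hm⟩ := (isCharacter_iff_exists_nat_combination χ).mp hχ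
    have hdeg := Cfsg.Agent.Lib.Helper75.charDegree_nat_combination m hχ hm
    have hci : ∀ φ : IrrCharacter P, classInner χ (φ : P → ℂ) = (m φ : ℂ) := by
      intro φ
      have h2 := classInner_nat_combination (fun φ => (m φ : ℂ)) φ
      rw [← hm] at h2
      exact h2
    have hmI : ∀ ψ : I, 1 ≤ m ψ.1 := by
      intro ψ
      have h3 := ψ.2
      rw [hci ψ.1] at h3
      have : m ψ.1 ≠ 0 := by
        intro h0; apply h3; rw [h0]; simp
      omega
    have hle : ∑ ψ : I, charDegree (ψ.1 : P → ℂ) ≤ charDegree χ := by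
      rw [hdeg]
      have h2 : ∑ ψ : I, charDegree (ψ.1 : P → ℂ) ≤
          ∑ ψ : I, m ψ.1 * charDegree (ψ.1 : P → ℂ) := by
        apply Finset.sum_le_sum
        intro ψ _
        exact Nat.le_mul_of_pos_left _ (hmI ψ)
      apply h2.trans
      rw [← Finset.sum_subtype (Finset.univ.filter
        (fun φ : IrrCharacter P => classInner χ (φ : P → ℂ) ≠ 0))
        (fun φ => by simp) (fun φ => m φ * charDegree (φ : P → ℂ))]
      exact Finset.sum_le_sum_of_subset (Finset.filter_subset _ _)
    omega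


/-- A product of powers of distinct primes each dividing `N` divides `N`. -/
theorem prod_prime_pow_dvd (T : Finset ℕ) (hT : ∀ p ∈ T, p.Prime) (e : ℕ → ℕ) (N : ℕ)
    (h : ∀ p ∈ T, p ^ e p ∣ N) : ∏ p ∈ T, p ^ e p ∣ N := by
  classical
  induction T using Finset.induction_on with
  | empty => simp
  | insert a T ha ih =>
    rw [Finset.prod_insert ha]
    apply Nat.Coprime.mul_dvd_of_dvd_of_dvd
    · apply Nat.Coprime.prod_right
      intro p hp
      apply Nat.Coprime.pow
      apply (Nat.coprime_primes (hT a (Finset.mem_insert_self a T))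
        (hT p (Finset.mem_insert_of_mem hp))).mpr
      rintro rfl
      exact ha hp
    · exact h a (Finset.mem_insert_self a T)
    · exact ih (fun p hp => hT p (Finset.mem_insert_of_mem hp))
        (fun p hp => h p (Finset.mem_insert_of_mem hp))

/-- **Jordan's theorem**, Blichfeldt's bound (Isaacs 14.12). -/
theorem jordan_bound {G : Type u} [Group G] [Finite G] {n : ℕ} (hF : HasFaithful G n)
    (A : Subgroup G) [A.Normal]
    (hA : ∀ H : Subgroup G, (∀ x ∈ H, ∀ y ∈ H, x * y = y * x) → A.relIndex H ≤ 12 ^ n) :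
    A.index ≤ n.factorial * 12 ^ (n * (Nat.primeCounting (n + 1) + 1)) := by
  classical
  set I := A.index with hIdef
  have hI : I ≠ 0 := Subgroup.index_ne_zero_of_finite
  have key1 : ∀ (H : Subgroup G) (p : ℕ), p.Prime → ¬ p ∣ H.index →
      p ^ (I.factorization p) ∣ A.relIndex H := by
    intro H p hp hpH
    have h1 : A.relIndex (H ⊔ A) = A.relIndex H := Subgroup.relIndex_sup_right H A
    have h2 : A.relIndex (H ⊔ A) * (H ⊔ A).index = A.index :=
      Subgroup.relIndex_mul_index le_sup_right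
    rw [h1] at h2
    have h3 : ¬ p ∣ (H ⊔ A).index :=
      fun h => hpH (h.trans (Subgroup.index_dvd_of_le le_sup_left))
    have h4 : p ^ (I.factorization p) ∣ A.relIndex H * (H ⊔ A).index := by
      rw [h2]; exact Nat.ordProj_dvd I p
    exact (Nat.Coprime.pow_left _ ((Nat.Prime.coprime_iff_not_dvd hp).2 h3)).dvd_of_dvd_mul_right h4
  have hrel0 : ∀ H : Subgroup G, A.relIndex H ≠ 0 := fun H => by
    have : (A.subgroupOf H).index ≠ 0 := Subgroup.index_ne_zero_of_finite
    exact this
  obtain ⟨B, hB, hB2, hB3⟩ := exists_abelian_hall _ G rfl hF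
  set S := I.primeFactors.filter (fun p => p ≤ n + 1) with hS
  set L := I.primeFactors.filter (fun p => ¬ p ≤ n + 1) with hL
  have hprod : I = (∏ p ∈ S, p ^ I.factorization p) * ∏ p ∈ L, p ^ I.factorization p := by
    rw [hS, hL, Finset.prod_filter_mul_prod_filter_not]
    exact (Nat.prod_factorization_pow_eq_self hI).symm
  -- the large primes
  have hLle : ∏ p ∈ L, p ^ I.factorization p ≤ 12 ^ n := by
    have h1 : ∏ p ∈ L, p ^ I.factorization p ∣ A.relIndex B := by
      apply prod_prime_pow_dvd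
      · intro p hp
        exact Nat.prime_of_mem_primeFactors (Finset.mem_filter.mp hp).1
      · intro p hp
        have hpp := Nat.prime_of_mem_primeFactors (Finset.mem_filter.mp hp).1
        apply key1 B p hpp
        intro hd
        exact (Finset.mem_filter.mp hp).2 (hB3 p hpp hd)
    exact (Nat.le_of_dvd (Nat.pos_of_ne_zero (hrel0 B)) h1).trans (hA B hB)
  -- the small primes
  have hn0 : n.factorial ≠ 0 := Nat.factorial_ne_zero n
  have hSterm : ∀ p ∈ S, p ^ I.factorization p ≤ p ^ (n.factorial.factorization p) * 12 ^ n := by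
    intro p hp
    have hpp := Nat.prime_of_mem_primeFactors (Finset.mem_filter.mp hp).1
    haveI : Fact p.Prime := ⟨hpp⟩
    obtain ⟨P⟩ : Nonempty (Sylow p G) := inferInstance
    haveI : Group.IsNilpotent P := P.isPGroup'.isNilpotent
    obtain ⟨C, hC, hCi⟩ := exists_abelian_index_dvd_factorial (hF.subgroup (P : Subgroup G))
    set C' : Subgroup G := C.map (P : Subgroup G).subtype with hC'
    have hC'P : C' ≤ P := by
      rintro _ ⟨c, -, rfl⟩
      exact c.2
    have hC'ab : ∀ x ∈ C', ∀ y ∈ C', x * y = y * x := by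
      rintro _ ⟨x, hx, rfl⟩ _ ⟨y, hy, rfl⟩
      exact congrArg Subtype.val (hC x hx y hy)
    have h1 : A.relIndex (C' ⊓ P) * C'.relIndex P = (A ⊓ C').relIndex P :=
      Subgroup.relIndex_inf_mul_relIndex A C' P
    rw [inf_of_le_left hC'P] at h1
    have h2 : C'.relIndex P = C.index := by
      have := Subgroup.relIndex_map_map_of_injective C (⊤ : Subgroup (P : Subgroup G))
        (f := (P : Subgroup G).subtype) (P : Subgroup G).subtype_injective
      rw [Subgroup.relIndex_top_right] at this
      rw [← this, hC']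
      congr 1
      rw [← MonoidHom.range_eq_map, Subgroup.range_subtype]
    have h3a : p ^ I.factorization p ∣ A.relIndex (P : Subgroup G) :=
      key1 (P : Subgroup G) p hpp P.not_dvd_index
    have h3b : A.relIndex (P : Subgroup G) ∣ (A ⊓ C').relIndex (P : Subgroup G) :=
      Subgroup.relIndex_dvd_of_le_left (P : Subgroup G) (inf_le_left : A ⊓ C' ≤ A)
    have h3 : p ^ I.factorization p ∣ (A ⊓ C').relIndex (P : Subgroup G) := h3a.trans h3b
    have h4 : C.index ≤ p ^ (n.factorial.factorization p) := by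
      obtain ⟨k, hk⟩ := IsPGroup.iff_card.mp P.isPGroup'
      have h5 : C.index ∣ Nat.card (P : Subgroup G) := Subgroup.index_dvd_card C
      rw [hk] at h5
      obtain ⟨j, -, hj⟩ := (Nat.dvd_prime_pow hpp).mp h5
      rw [hj] at hCi ⊢
      exact Nat.pow_le_pow_right hpp.pos ((hpp.pow_dvd_iff_le_factorization hn0).mp hCi)
    have h6 : (A ⊓ C').relIndex P ≠ 0 := by
      have : ((A ⊓ C').subgroupOf P).index ≠ 0 := Subgroup.index_ne_zero_of_finite
      exact this
    calc p ^ I.factorization p ≤ (A ⊓ C').relIndex P :=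
          Nat.le_of_dvd (Nat.pos_of_ne_zero h6) h3
      _ = A.relIndex C' * C.index := by rw [← h1, h2]
      _ ≤ 12 ^ n * p ^ (n.factorial.factorization p) :=
          Nat.mul_le_mul (hA C' hC'ab) h4
      _ = p ^ (n.factorial.factorization p) * 12 ^ n := mul_comm _ _
  have hSle : ∏ p ∈ S, p ^ I.factorization p ≤
      n.factorial * 12 ^ (n * Nat.primeCounting (n + 1)) := by
    calc ∏ p ∈ S, p ^ I.factorization p
        ≤ ∏ p ∈ S, (p ^ (n.factorial.factorization p) * 12 ^ n) :=
          Finset.prod_le_prod' hSterm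
      _ = (∏ p ∈ S, p ^ (n.factorial.factorization p)) * (12 ^ n) ^ S.card := by
          rw [Finset.prod_mul_distrib, Finset.prod_const]
      _ ≤ n.factorial * 12 ^ (n * Nat.primeCounting (n + 1)) := by
          apply Nat.mul_le_mul
          · apply Nat.le_of_dvd (Nat.pos_of_ne_zero hn0)
            apply prod_prime_pow_dvd
            · intro p hp
              exact Nat.prime_of_mem_primeFactors (Finset.mem_filter.mp hp).1
            · intro p _
              exact Nat.ordProj_dvd _ p
          · rw [← pow_mul]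
            apply Nat.pow_le_pow_right (by norm_num)
            apply Nat.mul_le_mul_left
            have hsub : S ⊆ (Finset.range (n + 2)).filter Nat.Prime := by
              intro p hp
              have h1 := Finset.mem_filter.mp hp
              rw [Finset.mem_filter, Finset.mem_range]
              exact ⟨by omega, Nat.prime_of_mem_primeFactors h1.1⟩
            have hcard := Finset.card_le_card hsub
            have hpc : Nat.primeCounting (n + 1) =
                ((Finset.range (n + 2)).filter Nat.Prime).card := by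
              rw [Nat.primeCounting, Nat.primeCounting', Nat.count_eq_card_filter_range]
            omega
  calc I = (∏ p ∈ S, p ^ I.factorization p) * ∏ p ∈ L, p ^ I.factorization p := hprod
    _ ≤ (n.factorial * 12 ^ (n * Nat.primeCounting (n + 1))) * 12 ^ n :=
        Nat.mul_le_mul hSle hLle
    _ = n.factorial * 12 ^ (n * (Nat.primeCounting (n + 1) + 1)) := by
        rw [mul_assoc, ← pow_add]
        congr 2

end Cfsg.Agent.Lib.Helper74.Blichfeldt
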