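import Cfsg.Agent.Lib.Helper74.FSCount
import Cfsg.Agent.Lib.Helper74.RealCount

/-!
# Brauer–Fowler inequalities from the Frobenius–Schur count (helper74)

* `card_involutions_le_sum_degree`: `t ≤ ∑ χ(1)` over nonprincipal real-valued irreducible `χ`.
* `exists_real_irr_degree_le`: some such `χ` has `χ(1) ≤ (|G| - 1) / t`.
* `exists_class_size_le`: some `x ≠ 1` has at most `((|G| - 1) / t)²` conjugates.
-/

set_option autoImplicit false

namespace Cfsg.Agent.Lib.Helper74

open Cfsg Cfsg.Agent.Lib.Helper78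
open scoped ComplexConjugate

variable {G : Type*} [Group G] [Fintype G]

/-- The principal character as an element of `IrrCharacter G`. -/
noncomputable def oneIrr : IrrCharacter G := ⟨fun _ => 1, isIrrCharacter_one⟩

omit [Fintype G] in
theorem oneIrr_apply (g : G) : ((oneIrr : IrrCharacter G) : G → ℂ) g = 1 := rfl

omit [Fintype G] in
theorem eq_oneIrr_iff (χ : IrrCharacter G) : χ = oneIrr ↔ (χ : G → ℂ) = (fun _ => 1) :=
  ⟨fun h => by rw [h]; rfl, fun h => Subtype.ext h⟩

omit [Fintype G] in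
/-- `s * s = 1` iff `s = 1` or `s` is an involution. -/
theorem mul_self_eq_one_iff' (s : G) : s * s = 1 ↔ s = 1 ∨ orderOf s = 2 := by
  rw [orderOf_eq_prime_iff (p := 2), sq]
  constructor
  · intro h
    by_cases h1 : s = 1
    · left; exact h1
    · right; exact ⟨h, h1⟩
  · rintro (h | ⟨h, _⟩)
    · rw [h, one_mul]
    · exact h

/-- The number of square roots of `1` is one more than the number of involutions. -/
theorem card_sq_eq_one : Nat.card {s : G // s * s = 1} = 1 + Nat.card {x : G // orderOf x = 2} := by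
  classical
  rw [Nat.card_eq_fintype_card, Nat.card_eq_fintype_card, Fintype.card_subtype,
    Fintype.card_subtype]
  have h : (Finset.univ.filter (fun s : G => s * s = 1))
      = insert (1 : G) (Finset.univ.filter (fun s : G => orderOf s = 2)) := by
    ext s
    simp only [Finset.mem_filter, Finset.mem_univ, true_and, Finset.mem_insert]
    exact mul_self_eq_one_iff' s
  rw [h, Finset.card_insert_of_notMem, add_comm]
  simp

theorem fsIndFun_im (χ : IrrCharacter G) : (fsIndFun (χ : G → ℂ)).im = 0 := by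
  rcases fsIndFun_trichotomy χ with h | h | h <;> simp [h]

theorem fsIndFun_re_le_one (χ : IrrCharacter G) : (fsIndFun (χ : G → ℂ)).re ≤ 1 := by
  rcases fsIndFun_trichotomy χ with h | h | h <;> simp [h]

theorem fsIndFun_re_eq_zero_of_not_real (χ : IrrCharacter G)
    (h : ¬ ∀ g : G, ((χ : G → ℂ) g).im = 0) : (fsIndFun (χ : G → ℂ)).re = 0 := by
  push Not at h
  rw [(fsIndFun_eq_zero_iff χ).mpr h]
  simp

open Classical in
/-- The nonprincipal real-valued irreducible characters. -/
noncomputable def realNonprincipal (G : Type*) [Group G] [Fintype G] : Finset (IrrCharacter G) :=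
  Finset.univ.filter (fun χ => (χ : G → ℂ) ≠ (fun _ => 1) ∧ ∀ g : G, ((χ : G → ℂ) g).im = 0)

theorem mem_realNonprincipal (χ : IrrCharacter G) :
    χ ∈ realNonprincipal G ↔ (χ : G → ℂ) ≠ (fun _ => 1) ∧ ∀ g : G, ((χ : G → ℂ) g).im = 0 := by
  classical
  simp [realNonprincipal]

/-- **Brauer–Fowler, first step**: the number of involutions is at most the sum of the degrees of
the nonprincipal real-valued irreducible characters. -/
theorem card_involutions_le_sum_degree :
    (Nat.card {x : G // orderOf x = 2} : ℝ) ≤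
      ∑ χ ∈ realNonprincipal G, (charDegree (χ : G → ℂ) : ℝ) := by
  classical
  have h1 := card_sq_eq_one_eq_sum (G := G)
  rw [card_sq_eq_one] at h1
  have h2 := congrArg Complex.re h1
  rw [Complex.re_sum] at h2
  have h3 : ∀ χ : IrrCharacter G, (fsIndFun (χ : G → ℂ) * (χ : G → ℂ) 1).re
      = (fsIndFun (χ : G → ℂ)).re * (charDegree (χ : G → ℂ) : ℝ) := by
    intro χ
    rw [IsCharacter.apply_one_eq_charDegree (IsIrrCharacter.isCharacter χ.2)]
    simp [Complex.mul_re, fsIndFun_im]
  simp only [h3] at h2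
  rw [← Finset.add_sum_erase _ _ (Finset.mem_univ (oneIrr : IrrCharacter G))] at h2
  have h4 : (fsIndFun ((oneIrr : IrrCharacter G) : G → ℂ)).re
      * (charDegree ((oneIrr : IrrCharacter G) : G → ℂ) : ℝ) = 1 := by
    have hd : charDegree ((oneIrr : IrrCharacter G) : G → ℂ) = 1 := by
      simp [charDegree, oneIrr]
    have hν : fsIndFun ((oneIrr : IrrCharacter G) : G → ℂ) = 1 := fsIndFun_one
    rw [hd, hν]; simp
  rw [h4] at h2
  push_cast at h2
  have h5 : (Nat.card {x : G // orderOf x = 2} : ℝ)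
      = ∑ χ ∈ Finset.univ.erase (oneIrr : IrrCharacter G),
          (fsIndFun (χ : G → ℂ)).re * (charDegree (χ : G → ℂ) : ℝ) := by
    simp only [Complex.add_re, Complex.one_re, Complex.natCast_re] at h2
    linarith
  rw [h5]
  have h6 : realNonprincipal G ⊆ Finset.univ.erase (oneIrr : IrrCharacter G) := by
    intro χ hχ
    rw [mem_realNonprincipal] at hχ
    rw [Finset.mem_erase]
    exact ⟨fun h => hχ.1 ((eq_oneIrr_iff χ).mp h), Finset.mem_univ _⟩
  rw [← Finset.sum_sdiff h6]
  have h7 : ∑ χ ∈ Finset.univ.erase (oneIrr : IrrCharacter G) \ realNonprincipal G,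
      (fsIndFun (χ : G → ℂ)).re * (charDegree (χ : G → ℂ) : ℝ) = 0 := by
    apply Finset.sum_eq_zero
    intro χ hχ
    rw [Finset.mem_sdiff, Finset.mem_erase, mem_realNonprincipal] at hχ
    have hne : (χ : G → ℂ) ≠ (fun _ => 1) := fun h => hχ.1.1 ((eq_oneIrr_iff χ).mpr h)
    have hnr : ¬ ∀ g : G, ((χ : G → ℂ) g).im = 0 := fun h => hχ.2 ⟨hne, h⟩
    rw [fsIndFun_re_eq_zero_of_not_real χ hnr, zero_mul]
  rw [h7, zero_add]
  apply Finset.sum_le_sum
  intro χ _
  have := fsIndFun_re_le_one χ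
  have hd : (0 : ℝ) ≤ (charDegree (χ : G → ℂ) : ℝ) := Nat.cast_nonneg _
  nlinarith

theorem realNonprincipal_subset :
    realNonprincipal G ⊆ Finset.univ.erase (oneIrr : IrrCharacter G) := by
  intro χ hχ
  rw [mem_realNonprincipal] at hχ
  rw [Finset.mem_erase]
  exact ⟨fun h => hχ.1 ((eq_oneIrr_iff χ).mp h), Finset.mem_univ _⟩

/-- The squares of the degrees of the nonprincipal real characters sum to at most `|G| - 1`. -/
theorem sum_sq_realNonprincipal_le :
    ∑ χ ∈ realNonprincipal G, (charDegree (χ : G → ℂ) : ℝ) ^ 2 ≤ (Nat.card G : ℝ) - 1 := by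
  classical
  have h := sum_irr_charDegree_sq (G := G)
  have h' : ∑ χ : IrrCharacter G, (charDegree (χ : G → ℂ) : ℝ) ^ 2 = (Nat.card G : ℝ) := by
    exact_mod_cast h
  rw [← Finset.add_sum_erase _ _ (Finset.mem_univ (oneIrr : IrrCharacter G))] at h'
  have hd : charDegree ((oneIrr : IrrCharacter G) : G → ℂ) = 1 := by
    simp [charDegree, oneIrr]
  rw [hd] at h'
  have h2 : ∑ χ ∈ realNonprincipal G, (charDegree (χ : G → ℂ) : ℝ) ^ 2
      ≤ ∑ χ ∈ Finset.univ.erase (oneIrr : IrrCharacter G), (charDegree (χ : G → ℂ) : ℝ) ^ 2 :=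
    Finset.sum_le_sum_of_subset_of_nonneg realNonprincipal_subset (fun _ _ _ => sq_nonneg _)
  push_cast at h'
  linarith

/-- **Brauer–Fowler (b)**: if `G` has `t ≥ 1` involutions, some nonprincipal real-valued
irreducible character has degree at most `(|G| - 1) / t`. -/
theorem exists_real_irr_degree_le (ht : 0 < Nat.card {x : G // orderOf x = 2}) :
    ∃ χ ∈ realNonprincipal G, (charDegree (χ : G → ℂ) : ℝ) ≤
      ((Nat.card G : ℝ) - 1) / (Nat.card {x : G // orderOf x = 2} : ℝ) := by
  by_contra hcon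
  push Not at hcon
  obtain ⟨t, ht_def⟩ : ∃ t : ℝ, t = (Nat.card {x : G // orderOf x = 2} : ℝ) := ⟨_, rfl⟩
  rw [← ht_def] at hcon
  have htpos : 0 < t := by rw [ht_def]; exact_mod_cast ht
  have h1 := card_involutions_le_sum_degree (G := G)
  rw [← ht_def] at h1
  have h2 := sum_sq_realNonprincipal_le (G := G)
  -- t * d > g - 1 for all χ in R
  have h3 : ∀ χ ∈ realNonprincipal G, ((Nat.card G : ℝ) - 1) * (charDegree (χ : G → ℂ) : ℝ)
      ≤ t * (charDegree (χ : G → ℂ) : ℝ) ^ 2 := by
    intro χ hχ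
    have h := hcon χ hχ
    rw [div_lt_iff₀ htpos] at h
    have hd : (0 : ℝ) ≤ (charDegree (χ : G → ℂ) : ℝ) := Nat.cast_nonneg _
    nlinarith
  have h4 : ((Nat.card G : ℝ) - 1) * ∑ χ ∈ realNonprincipal G, (charDegree (χ : G → ℂ) : ℝ)
      ≤ t * ∑ χ ∈ realNonprincipal G, (charDegree (χ : G → ℂ) : ℝ) ^ 2 := by
    rw [Finset.mul_sum, Finset.mul_sum]
    exact Finset.sum_le_sum h3
  -- strictness: the set is nonempty
  have hne : (realNonprincipal G).Nonempty := by
    by_contra hemp
    rw [Finset.not_nonempty_iff_eq_empty] at hemp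
    rw [hemp, Finset.sum_empty] at h1
    linarith
  obtain ⟨χ₀, hχ₀⟩ := hne
  have h5 := hcon χ₀ hχ₀
  rw [div_lt_iff₀ htpos] at h5
  have hg1 : (0 : ℝ) ≤ (Nat.card G : ℝ) - 1 := by
    have : 1 ≤ Nat.card G := Nat.card_pos
    have : (1 : ℝ) ≤ (Nat.card G : ℝ) := by exact_mod_cast this
    linarith
  -- strict version of h4
  have h4' : ((Nat.card G : ℝ) - 1) * ∑ χ ∈ realNonprincipal G, (charDegree (χ : G → ℂ) : ℝ)
      < t * ∑ χ ∈ realNonprincipal G, (charDegree (χ : G → ℂ) : ℝ) ^ 2 := by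
    rw [Finset.mul_sum, Finset.mul_sum]
    apply Finset.sum_lt_sum h3
    refine ⟨χ₀, hχ₀, ?_⟩
    have hd0 : (0 : ℝ) < (charDegree (χ₀ : G → ℂ) : ℝ) := by
      have := IsIrrCharacter.charDegree_pos χ₀.2
      exact_mod_cast this
    nlinarith
  have h6 : ((Nat.card G : ℝ) - 1) * t
      ≤ ((Nat.card G : ℝ) - 1) * ∑ χ ∈ realNonprincipal G, (charDegree (χ : G → ℂ) : ℝ) :=
    mul_le_mul_of_nonneg_left h1 hg1
  have h7 : t * ∑ χ ∈ realNonprincipal G, (charDegree (χ : G → ℂ) : ℝ) ^ 2
      ≤ t * ((Nat.card G : ℝ) - 1) := mul_le_mul_of_nonneg_left h2 htpos.le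
  linarith

open Classical in
/-- The number of real-valued irreducible characters is one more than the number of nonprincipal
ones. -/
theorem card_real_irr_eq_succ :
    Nat.card {χ : IrrCharacter G // ∀ g : G, ((χ : G → ℂ) g).im = 0}
      = (realNonprincipal G).card + 1 := by
  rw [Nat.card_eq_fintype_card, Fintype.card_subtype]
  have h : (Finset.univ.filter (fun χ : IrrCharacter G => ∀ g : G, ((χ : G → ℂ) g).im = 0))
      = insert (oneIrr : IrrCharacter G) (realNonprincipal G) := by
    ext χ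
    simp only [Finset.mem_filter, Finset.mem_univ, true_and, Finset.mem_insert,
      mem_realNonprincipal]
    constructor
    · intro h
      by_cases h1 : χ = oneIrr
      · left; exact h1
      · right; exact ⟨fun h2 => h1 ((eq_oneIrr_iff χ).mpr h2), h⟩
    · rintro (h | h)
      · intro g; rw [h]; simp [oneIrr]
      · exact h.2
  rw [h, Finset.card_insert_of_notMem]
  intro h1
  rw [mem_realNonprincipal] at h1
  exact h1.1 rfl

open Classical in
/-- The number of nonprincipal real-valued irreducible characters, as a sum over the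
non-identity real elements of the reciprocals of their class sizes. -/
theorem card_realNonprincipal_eq_sum :
    ((realNonprincipal G).card : ℝ) = ∑ x ∈ Finset.univ.erase (1 : G),
      (if IsConj x x⁻¹ then ((Subgroup.centralizer ({x} : Set G)).index : ℝ)⁻¹ else 0) := by
  have hcard : (Nat.card G : ℝ) ≠ 0 := by
    have : Nat.card G ≠ 0 := Nat.card_pos.ne'
    exact_mod_cast this
  have h1 := card_real_irr_eq_avg (G := G)
  rw [card_real_irr_eq_succ] at h1
  -- rewrite each summand as a real number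
  have h2 : ∀ x : G, (Nat.card G : ℂ)⁻¹ *
      (if IsConj x x⁻¹ then (Nat.card (Subgroup.centralizer ({x} : Set G)) : ℂ) else 0)
      = (((if IsConj x x⁻¹ then ((Subgroup.centralizer ({x} : Set G)).index : ℝ)⁻¹ else 0 : ℝ)) : ℂ) := by
    intro x
    by_cases hx : IsConj x x⁻¹
    · rw [if_pos hx, if_pos hx]
      have hci := (Subgroup.centralizer ({x} : Set G)).card_mul_index
      have hidx : ((Subgroup.centralizer ({x} : Set G)).index : ℂ) ≠ 0 := by
        have := (Subgroup.centralizer ({x} : Set G)).index_ne_zero_of_finite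
        exact_mod_cast this
      have hcardC : (Nat.card G : ℂ) ≠ 0 := by exact_mod_cast hcard
      have hci' : (Nat.card (Subgroup.centralizer ({x} : Set G)) : ℂ)
          * ((Subgroup.centralizer ({x} : Set G)).index : ℂ) = (Nat.card G : ℂ) := by
        exact_mod_cast hci
      push_cast
      rw [← hci']
      field_simp
    · rw [if_neg hx, if_neg hx]; simp
  rw [Finset.mul_sum] at h1
  simp only [h2] at h1
  rw [← Complex.ofReal_sum] at h1
  have h3 : (((realNonprincipal G).card + 1 : ℕ) : ℝ) = ∑ x : G,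
      (if IsConj x x⁻¹ then ((Subgroup.centralizer ({x} : Set G)).index : ℝ)⁻¹ else 0) := by
    exact_mod_cast h1
  rw [← Finset.add_sum_erase _ _ (Finset.mem_univ (1 : G))] at h3
  have h4 : (if IsConj (1 : G) (1 : G)⁻¹ then
      ((Subgroup.centralizer ({(1 : G)} : Set G)).index : ℝ)⁻¹ else 0) = 1 := by
    have hc : Subgroup.centralizer ({1} : Set G) = ⊤ := by
      ext x; simp [Subgroup.mem_centralizer_iff]
    rw [if_pos (by rw [inv_one]), hc]
    simp
  rw [h4] at h3
  push_cast at h3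
  linarith

/-- **Brauer–Fowler (a)**: if `G` has `t ≥ 1` involutions, some non-identity element has at most
`((|G| - 1) / t)²` conjugates. -/
theorem exists_class_size_le (ht : 0 < Nat.card {x : G // orderOf x = 2}) :
    ∃ x : G, x ≠ 1 ∧ ((Subgroup.centralizer ({x} : Set G)).index : ℝ) ≤
      (((Nat.card G : ℝ) - 1) / (Nat.card {x : G // orderOf x = 2} : ℝ)) ^ 2 := by
  classical
  by_contra hcon
  push Not at hcon
  obtain ⟨t, ht_def⟩ : ∃ t : ℝ, t = (Nat.card {x : G // orderOf x = 2} : ℝ) := ⟨_, rfl⟩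
  rw [← ht_def] at hcon
  have htpos : 0 < t := by rw [ht_def]; exact_mod_cast ht
  have h1 := card_involutions_le_sum_degree (G := G)
  rw [← ht_def] at h1
  have h2 := sum_sq_realNonprincipal_le (G := G)
  obtain ⟨r, hr_def⟩ : ∃ r : ℝ, r = ((realNonprincipal G).card : ℝ) := ⟨_, rfl⟩
  obtain ⟨γ, hγ_def⟩ : ∃ γ : ℝ, γ = (Nat.card G : ℝ) - 1 := ⟨_, rfl⟩
  rw [← hγ_def] at hcon h2
  -- Cauchy–Schwarz: t² ≤ r * γ
  have hCS : t ^ 2 ≤ r * γ := by
    have hcs := Finset.sum_mul_sq_le_sq_mul_sq (realNonprincipal G)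
      (fun _ => (1 : ℝ)) (fun χ => (charDegree (χ : G → ℂ) : ℝ))
    simp only [one_mul, one_pow, Finset.sum_const, nsmul_eq_mul, mul_one] at hcs
    rw [← hr_def] at hcs
    have hsum_nonneg : 0 ≤ ∑ χ ∈ realNonprincipal G, (charDegree (χ : G → ℂ) : ℝ) :=
      Finset.sum_nonneg (fun _ _ => Nat.cast_nonneg _)
    have hr0 : 0 ≤ r := by rw [hr_def]; exact Nat.cast_nonneg _
    calc t ^ 2 ≤ (∑ χ ∈ realNonprincipal G, (charDegree (χ : G → ℂ) : ℝ)) ^ 2 :=
          pow_le_pow_left₀ htpos.le h1 2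
      _ ≤ r * ∑ χ ∈ realNonprincipal G, (charDegree (χ : G → ℂ) : ℝ) ^ 2 := hcs
      _ ≤ r * γ := mul_le_mul_of_nonneg_left h2 hr0
  -- γ > 0: there is an involution, so |G| ≥ 2
  have hγpos : 0 < γ := by
    have hr0 : 0 ≤ r := by rw [hr_def]; exact Nat.cast_nonneg _
    by_contra hγ
    push Not at hγ
    have : r * γ ≤ 0 := mul_nonpos_of_nonneg_of_nonpos hr0 hγ
    have : 0 < t ^ 2 := by positivity
    linarith
  -- r = Σ over non-identity real elements of 1 / class size < (|G| - 1) * t² / γ²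
  have hr := card_realNonprincipal_eq_sum (G := G)
  rw [← hr_def] at hr
  have hterm : ∀ x ∈ Finset.univ.erase (1 : G),
      (if IsConj x x⁻¹ then ((Subgroup.centralizer ({x} : Set G)).index : ℝ)⁻¹ else 0)
        ≤ t ^ 2 / γ ^ 2 := by
    intro x hx
    have hx1 : x ≠ 1 := (Finset.mem_erase.mp hx).1
    have h := hcon x hx1
    have hpos : (0 : ℝ) < (γ / t) ^ 2 := by positivity
    split_ifs
    · rw [div_pow] at h
      have : ((Subgroup.centralizer ({x} : Set G)).index : ℝ)⁻¹ ≤ (γ ^ 2 / t ^ 2)⁻¹ :=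
        inv_anti₀ (by positivity) h.le
      rw [inv_div] at this
      exact this
    · positivity
  have hcardE : ((Finset.univ.erase (1 : G)).card : ℝ) = γ := by
    rw [Finset.card_erase_of_mem (Finset.mem_univ _), Finset.card_univ, hγ_def,
      Nat.card_eq_fintype_card]
    have : 1 ≤ Fintype.card G := Fintype.card_pos
    push_cast [Nat.cast_sub this]
    ring
  -- strict inequality for at least one term
  have hne : (Finset.univ.erase (1 : G)).Nonempty := by
    rw [← Finset.card_pos]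
    have : (0 : ℝ) < ((Finset.univ.erase (1 : G)).card : ℝ) := by rw [hcardE]; exact hγpos
    exact_mod_cast this
  obtain ⟨x₀, hx₀⟩ := hne
  have hstrict : (if IsConj x₀ x₀⁻¹ then
      ((Subgroup.centralizer ({x₀} : Set G)).index : ℝ)⁻¹ else 0) < t ^ 2 / γ ^ 2 := by
    have hx1 : x₀ ≠ 1 := (Finset.mem_erase.mp hx₀).1
    have h := hcon x₀ hx1
    split_ifs
    · rw [div_pow] at h
      have : ((Subgroup.centralizer ({x₀} : Set G)).index : ℝ)⁻¹ < (γ ^ 2 / t ^ 2)⁻¹ :=
        inv_strictAnti₀ (by positivity) h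
      rw [inv_div] at this
      exact this
    · positivity
  have hlt : r < γ * (t ^ 2 / γ ^ 2) := by
    have h0 : ∑ _x ∈ Finset.univ.erase (1 : G), t ^ 2 / γ ^ 2 = γ * (t ^ 2 / γ ^ 2) := by
      rw [Finset.sum_const, nsmul_eq_mul, hcardE]
    rw [hr, ← h0]
    exact Finset.sum_lt_sum hterm ⟨x₀, hx₀, hstrict⟩
  have : γ * (t ^ 2 / γ ^ 2) = t ^ 2 / γ := by
    field_simp
  rw [this, lt_div_iff₀ hγpos] at hlt
  linarith

end Cfsg.Agent.Lib.Helper74
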