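import Mathlib
import Cfsg.Agent.Lib.Helper75.IndTrans
import Cfsg.Agent.Lib.Helper75.IndNormal
import Cfsg.Agent.Lib.Helper80.CharBasic
import Cfsg.Agent.Lib.Helper81.IrrTwist

set_option autoImplicit false

namespace Cfsg.Agent.Lib.Helper74

open Cfsg Cfsg.Agent.Lib.Helper78 Cfsg.Agent.Lib.Helper75

universe u

section Elementary

/-- `IsElementary` is invariant under isomorphism -/
theorem isElementary_of_mulEquiv {p : ℕ} {E E' : Type u} [Group E] [Group E'] (e : E ≃* E')
    (h : IsElementary p E) : IsElementary p E' := by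
  obtain ⟨x, hx, hcop, k, hk⟩ := h
  refine ⟨e x, ?_, ?_, k, ?_⟩
  · rw [Subgroup.mem_center_iff] at hx ⊢
    intro y
    have := hx (e.symm y)
    have h2 := congrArg e this
    simpa using h2
  · rw [e.orderOf_eq]; exact hcop
  · rw [← hk]
    have : Subgroup.zpowers (e x) = (Subgroup.zpowers x).map e.toMonoidHom := by
      rw [MonoidHom.map_zpowers]; rfl
    rw [this]
    exact Subgroup.index_map_equiv _ e

end Elementary

section Span

variable {G : Type u} [Group G] [Fintype G]

/-- the generators: functions induced from characters of `p`-elementary subgroups -/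
def elemGen (p : ℕ) (G : Type u) [Group G] [Fintype G] : Set (G → ℂ) :=
  {f | ∃ (E : Subgroup G) (φ : E → ℂ), IsElementary p E ∧ IsCharacter E φ ∧ f = indFun E φ}

/-- the `ℤ`-span of the functions induced from characters of `p`-elementary subgroups -/
def elemSpan (p : ℕ) (G : Type u) [Group G] [Fintype G] : AddSubgroup (G → ℂ) :=
  AddSubgroup.closure (elemGen p G)

theorem indFun_mem_elemSpan {p : ℕ} (E : Subgroup G) {φ : E → ℂ} (hE : IsElementary p E)
    (hφ : IsCharacter E φ) : indFun E φ ∈ elemSpan p G :=
  AddSubgroup.subset_closure ⟨E, φ, hE, hφ, rfl⟩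

/-- `elemSpan` is an ideal: stable under multiplication by characters -/
theorem mul_mem_elemSpan {p : ℕ} {f : G → ℂ} (hf : f ∈ elemSpan p G) {χ : G → ℂ}
    (hχ : IsCharacter G χ) : f * χ ∈ elemSpan p G := by
  unfold elemSpan at hf
  induction hf using AddSubgroup.closure_induction with
  | mem x hx =>
    obtain ⟨E, φ, hE, hφ, rfl⟩ := hx
    rw [indFun_mul_classFunction E φ (IsCharacter.isClassFunction hχ)]
    apply indFun_mem_elemSpan E hE
    exact Cfsg.Agent.Lib.Helper80.isCharacter_mul hφ (isCharacter_res E hχ)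
  | zero => rw [zero_mul]; exact AddSubgroup.zero_mem _
  | add x y _ _ hx hy => rw [add_mul]; exact AddSubgroup.add_mem _ hx hy
  | neg x _ hx => rw [neg_mul]; exact AddSubgroup.neg_mem _ hx

/-- induction maps `elemSpan` of a subgroup into `elemSpan` of the group -/
theorem indFun_mem_elemSpan_of_mem {p : ℕ} (T : Subgroup G) [Fintype T] {f : T → ℂ}
    (hf : f ∈ elemSpan p T) : indFun T f ∈ elemSpan p G := by
  unfold elemSpan at hf
  induction hf using AddSubgroup.closure_induction with
  | mem x hx =>
    obtain ⟨E, φ, hE, hφ, rfl⟩ := hx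
    rw [indFun_indFun T E φ]
    apply indFun_mem_elemSpan
    · exact isElementary_of_mulEquiv (E.equivMapOfInjective T.subtype T.subtype_injective) hE
    · exact Cfsg.Agent.Lib.Helper81.isCharacter_comp hφ
        ((E.equivMapOfInjective T.subtype T.subtype_injective).symm.toMonoidHom)
  | zero => rw [Cfsg.Agent.Lib.Helper75.indFun_zero]; exact AddSubgroup.zero_mem _
  | add x y _ _ hx hy =>
    rw [Cfsg.Agent.Lib.Helper75.indFun_add]; exact AddSubgroup.add_mem _ hx hy
  | neg x _ hx =>
    have : indFun T (-x) = - indFun T x := by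
      have := Cfsg.Agent.Lib.Helper75.indFun_smul (H := T) (-1 : ℂ) x
      simpa using this
    rw [this]; exact AddSubgroup.neg_mem _ hx

end Span

end Cfsg.Agent.Lib.Helper74
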