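import Mathlib

set_option autoImplicit false

namespace Cfsg.Agent.Lib.Helper74.C2F4Arith

theorem prime_dvd_arith (m p : ℕ) (hp : p.Prime) (q : ℕ) (hq : q = 2 ^ (2 * m + 1))
    (h : p ∣ q ^ 24 * (q - 1) ^ 4 * ((1 + q) ^ 2 * (1 + q ^ 2))) : p ∣ q * (q ^ 4 - 1) := by
  have hq1 : 1 ≤ q := by rw [hq]; exact Nat.one_le_two_pow
  have e : q ^ 4 - 1 = (q - 1) * ((1 + q) * (1 + q ^ 2)) := by
    obtain ⟨k, rfl⟩ : ∃ k, q = k + 1 := ⟨q - 1, by omega⟩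
    simp only [Nat.add_sub_cancel]
    have : (k + 1) ^ 4 = k * ((1 + (k + 1)) * (1 + (k + 1) ^ 2)) + 1 := by ring
    omega
  rw [e]
  rcases (Nat.Prime.dvd_mul hp).1 h with h1 | h1
  · rcases (Nat.Prime.dvd_mul hp).1 h1 with h2 | h2
    · exact Dvd.dvd.mul_right (hp.dvd_of_dvd_pow h2) _
    · exact Dvd.dvd.mul_left (Dvd.dvd.mul_right (hp.dvd_of_dvd_pow h2) _) _
  · rcases (Nat.Prime.dvd_mul hp).1 h1 with h2 | h2
    · exact Dvd.dvd.mul_left (Dvd.dvd.mul_left (Dvd.dvd.mul_right (hp.dvd_of_dvd_pow h2) _) _) _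
    · exact Dvd.dvd.mul_left (Dvd.dvd.mul_left (Dvd.dvd.mul_left h2 _) _) _

end Cfsg.Agent.Lib.Helper74.C2F4Arith
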