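import Cfsg.Agent.Lib.Helper74.SchurOrth

/-!
# The contragredient of a matrix representation and invariant bilinear forms (helper74)
-/

set_option autoImplicit false

namespace Cfsg.Agent.Lib.Helper74

open Matrix

variable {G : Type*} [Group G] {k : Type*} [Field k] {n : ℕ}

/-- The contragredient representation `g ↦ (X g⁻¹)ᵀ` on `Fin n → k`. -/
noncomputable def contra (ρ : Representation k G (Fin n → k)) : Representation k G (Fin n → k) where
  toFun g := Matrix.toLin' (matOf ρ g⁻¹)ᵀ
  map_one' := by simp [matOf_one]; rfl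
  map_mul' g h := by
    rw [_root_.mul_inv_rev, matOf_mul, Matrix.transpose_mul, Matrix.toLin'_mul]
    rfl

theorem contra_apply (ρ : Representation k G (Fin n → k)) (g : G) :
    contra ρ g = Matrix.toLin' (matOf ρ g⁻¹)ᵀ := rfl

theorem matOf_contra (ρ : Representation k G (Fin n → k)) (g : G) :
    matOf (contra ρ) g = (matOf ρ g⁻¹)ᵀ := by
  simp [matOf, contra_apply]

theorem contra_character (ρ : Representation k G (Fin n → k)) (g : G) :
    (contra ρ).character g = ρ.character g⁻¹ := by
  rw [← trace_matOf, matOf_contra, Matrix.trace_transpose, trace_matOf]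

/-- `M` is an invariant bilinear form for `ρ`: `Xᵀ M X = M`. -/
def IsInvForm (ρ : Representation k G (Fin n → k)) (M : Matrix (Fin n) (Fin n) k) : Prop :=
  ∀ g : G, (matOf ρ g)ᵀ * M * matOf ρ g = M

theorem IsInvForm.mul_matOf {ρ : Representation k G (Fin n → k)} {M : Matrix (Fin n) (Fin n) k}
    (hM : IsInvForm ρ M) (g : G) : M * matOf ρ g = (matOf ρ g⁻¹)ᵀ * M := by
  have h := hM g
  calc M * matOf ρ g = ((matOf ρ g⁻¹)ᵀ * (matOf ρ g)ᵀ) * (M * matOf ρ g) := by
        rw [← Matrix.transpose_mul, matOf_mul_inv, Matrix.transpose_one, Matrix.one_mul]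
    _ = (matOf ρ g⁻¹)ᵀ * ((matOf ρ g)ᵀ * M * matOf ρ g) := by
        simp only [Matrix.mul_assoc]
    _ = (matOf ρ g⁻¹)ᵀ * M := by rw [h]

theorem isInvForm_of_mul_matOf {ρ : Representation k G (Fin n → k)} {M : Matrix (Fin n) (Fin n) k}
    (hM : ∀ g : G, M * matOf ρ g = (matOf ρ g⁻¹)ᵀ * M) : IsInvForm ρ M := by
  intro g
  rw [Matrix.mul_assoc, hM g, ← Matrix.mul_assoc, ← Matrix.transpose_mul, matOf_inv_mul,
    Matrix.transpose_one, Matrix.one_mul]

theorem IsInvForm.transpose {ρ : Representation k G (Fin n → k)} {M : Matrix (Fin n) (Fin n) k}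
    (hM : IsInvForm ρ M) : IsInvForm ρ Mᵀ := by
  intro g
  have h := congrArg Matrix.transpose (hM g)
  simpa [Matrix.transpose_mul, Matrix.mul_assoc] using h

/-- An invariant form gives an intertwining map `ρ → contra ρ`. -/
noncomputable def IsInvForm.toIntertwining {ρ : Representation k G (Fin n → k)}
    {M : Matrix (Fin n) (Fin n) k} (hM : IsInvForm ρ M) :
    Representation.IntertwiningMap ρ (contra ρ) :=
  ⟨Matrix.toLin' M, fun g => by
    rw [← toLin'_matOf, contra_apply, ← Matrix.toLin'_mul, ← Matrix.toLin'_mul, hM.mul_matOf]⟩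

theorem isInvForm_of_intertwining {ρ : Representation k G (Fin n → k)}
    (T : Representation.IntertwiningMap ρ (contra ρ)) :
    IsInvForm ρ (LinearMap.toMatrix' T.toLinearMap) := by
  apply isInvForm_of_mul_matOf
  intro g
  have h := T.isIntertwining' g
  have h2 := congrArg LinearMap.toMatrix' h
  rw [LinearMap.toMatrix'_comp, LinearMap.toMatrix'_comp] at h2
  rw [contra_apply, LinearMap.toMatrix'_toLin'] at h2
  exact h2

/-- A nonzero invariant form of an irreducible representation is invertible. -/
theorem IsInvForm.isUnit {ρ : Representation k G (Fin n → k)} [ρ.IsIrreducible]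
    {M : Matrix (Fin n) (Fin n) k} (hM : IsInvForm ρ M) (h0 : M ≠ 0) : IsUnit M := by
  rcases Representation.IsIrreducible.injective_or_eq_zero hM.toIntertwining with h | h
  · rw [← Matrix.mulVec_injective_iff_isUnit]
    exact h
  · exfalso
    apply h0
    have h1 : hM.toIntertwining.toLinearMap = 0 := by rw [h]; rfl
    have h2 : Matrix.toLin' M = 0 := h1
    simpa using congrArg LinearMap.toMatrix' h2

end Cfsg.Agent.Lib.Helper74
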