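import Mathlib
import Cfsg.Agent.Lib.Helper74.DefZero

set_option autoImplicit false

namespace Cfsg.Agent.Lib.Helper74

open Cfsg Cfsg.Agent.Lib.Helper78
open scoped ComplexConjugate

universe u

section S4478

variable {G : Type u} [Group G] [Fintype G] (χ : IrrCharacter G)

/-- hypothesis bundle of S4478 -/
structure DZHyp (χ : IrrCharacter G) : Prop where
  h2 : 2 ^ (Nat.card G).factorization 2 ∣ charDegree (χ : G → ℂ)
  hp : ∀ p : ℕ, p.Prime → p ≠ 2 → (∃ g : G, orderOf g = 2 * p) →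
    p ^ (Nat.card G).factorization p ∣ charDegree (χ : G → ℂ)

variable {χ}

theorem DZHyp.vanish2 (h : DZHyp χ) {g : G} (hg : 2 ∣ orderOf g) : (χ : G → ℂ) g = 0 :=
  irr_eq_zero_of_full_power_dvd χ Nat.prime_two h.h2 hg

theorem DZHyp.vanishp (h : DZHyp χ) {p : ℕ} (hp : p.Prime) (hp2 : p ≠ 2)
    (hex : ∃ u : G, orderOf u = 2 * p) {g : G} (hg : p ∣ orderOf g) : (χ : G → ℂ) g = 0 :=
  irr_eq_zero_of_full_power_dvd χ hp (h.hp p hp hp2 hex) hg

theorem DZHyp.vanish_sq (h : DZHyp χ) {g : G} (hg : 2 ∣ orderOf g) (hg2 : orderOf g ≠ 2) :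
    (χ : G → ℂ) (g * g) = 0 := by
  have hpos : 0 < orderOf g := orderOf_pos g
  obtain ⟨k, hk⟩ := hg
  have hk2 : 2 ≤ k := by omega
  have hsq : orderOf (g * g) = k := by
    rw [← pow_two, orderOf_pow, hk]
    have : Nat.gcd (2 * k) 2 = 2 := by
      rw [Nat.gcd_comm]; exact Nat.gcd_eq_left (Dvd.intro k rfl)
    rw [this]; omega
  by_cases hk' : 2 ∣ k
  · exact h.vanish2 (by rw [hsq]; exact hk')
  · have hp := Nat.minFac_prime (show k ≠ 1 by omega)
    have hpk : k.minFac ∣ k := Nat.minFac_dvd k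
    have hp2 : k.minFac ≠ 2 := fun h2 => hk' (h2 ▸ hpk)
    obtain ⟨m, hm⟩ := hpk
    have hm0 : m ≠ 0 := by
      rintro rfl; omega
    have hex : ∃ u : G, orderOf u = 2 * k.minFac := by
      refine ⟨g ^ m, ?_⟩
      rw [orderOf_pow_of_dvd hm0 (by rw [hk]; exact Dvd.intro_left (2 * k.minFac) (by rw [mul_assoc, ← hm]))]
      rw [hk]
      apply Nat.div_eq_of_eq_mul_left (Nat.pos_of_ne_zero hm0)
      rw [mul_assoc, ← hm]
    exact h.vanishp hp hp2 hex (by rw [hsq]; exact Nat.minFac_dvd k)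

theorem DZHyp.vanish_cent (h : DZHyp χ) {s c : G} (hs : orderOf s = 2) (hc : c * s = s * c)
    (hc1 : c ≠ 1) : (χ : G → ℂ) c = 0 := by
  have hpos : 0 < orderOf c := orderOf_pos c
  have ho1 : orderOf c ≠ 1 := fun h1 => hc1 (orderOf_eq_one_iff.mp h1)
  by_cases h2 : 2 ∣ orderOf c
  · exact h.vanish2 h2
  · have hp := Nat.minFac_prime ho1
    have hpo : (orderOf c).minFac ∣ orderOf c := Nat.minFac_dvd _
    have hp2 : (orderOf c).minFac ≠ 2 := fun h' => h2 (h' ▸ hpo)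
    obtain ⟨m, hm⟩ := hpo
    have hm0 : m ≠ 0 := by
      rintro rfl; omega
    have hv : orderOf (c ^ m) = (orderOf c).minFac := by
      rw [orderOf_pow_of_dvd hm0 (Dvd.intro_left _ hm.symm)]
      apply Nat.div_eq_of_eq_mul_left (Nat.pos_of_ne_zero hm0)
      exact hm
    have hcomm : Commute (c ^ m) s := (Commute.pow_left (show Commute c s from hc) m)
    have hex : ∃ u : G, orderOf u = 2 * (orderOf c).minFac := by
      refine ⟨c ^ m * s, ?_⟩
      rw [hcomm.orderOf_mul_eq_mul_orderOf_of_coprime, hv, hs, mul_comm]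
      rw [hv, hs]
      exact (Nat.coprime_primes hp Nat.prime_two).mpr hp2
    exact h.vanishp hp hp2 hex (Nat.minFac_dvd _)

end S4478

end Cfsg.Agent.Lib.Helper74
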