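import Mathlib
import Cfsg.Agent.Lib.Helper74.DZVanish

set_option autoImplicit false

namespace Cfsg.Agent.Lib.Helper74

open Cfsg Cfsg.Agent.Lib.Helper78
open scoped ComplexConjugate

universe u

section S4478b

variable {G : Type u} [Group G] [Fintype G] {χ : IrrCharacter G}

/-- squaring permutes the elements of odd order -/
theorem sum_odd_sq (f : G → ℂ) [DecidablePred fun g : G => Odd (orderOf g)] :
    ∑ g ∈ Finset.univ.filter (fun g : G => Odd (orderOf g)), f (g * g)
      = ∑ g ∈ Finset.univ.filter (fun g : G => Odd (orderOf g)), f g := by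
  apply Finset.sum_nbij' (fun g => g * g) (fun k => k ^ ((orderOf k + 1) / 2))
  · intro g hg
    simp only [Finset.mem_filter, Finset.mem_univ, true_and] at hg ⊢
    rw [← pow_two, Nat.Coprime.orderOf_pow (Nat.Coprime.symm (Nat.coprime_two_left.mpr hg))]
    exact hg
  · intro k hk
    simp only [Finset.mem_filter, Finset.mem_univ, true_and] at hk ⊢
    exact Odd.of_dvd_nat hk (orderOf_pow_dvd _)
  · intro g hg
    simp only [Finset.mem_filter, Finset.mem_univ, true_and] at hg
    have ho : orderOf (g * g) = orderOf g := by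
      rw [← pow_two, Nat.Coprime.orderOf_pow (Nat.Coprime.symm (Nat.coprime_two_left.mpr hg))]
    simp only [ho]
    obtain ⟨m, hm⟩ := hg
    have : (orderOf g + 1) / 2 = m + 1 := by omega
    rw [this, ← pow_two, ← pow_mul]
    have : 2 * (m + 1) = orderOf g + 1 := by omega
    rw [this, pow_succ, pow_orderOf_eq_one, one_mul]
  · intro k hk
    simp only [Finset.mem_filter, Finset.mem_univ, true_and] at hk
    obtain ⟨m, hm⟩ := hk
    have : (orderOf k + 1) / 2 = m + 1 := by omega
    rw [this, ← pow_add]
    have : m + 1 + (m + 1) = orderOf k + 1 := by omega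
    rw [this, pow_succ, pow_orderOf_eq_one, one_mul]
  · intro g _
    rfl

omit [Fintype G] in
theorem irr_ne_one_of_two_dvd (h2 : 2 ∣ charDegree (χ : G → ℂ)) :
    (χ : G → ℂ) ≠ fun _ => 1 := by
  intro h
  have h1 := IsCharacter.apply_one_eq_charDegree (IsIrrCharacter.isCharacter χ.2)
  have h3 : (χ : G → ℂ) 1 = 1 := by rw [h]
  rw [h3] at h1
  have : charDegree (χ : G → ℂ) = 1 := by exact_mod_cast h1.symm
  omega

theorem sum_irr_eq_zero (hne : (χ : G → ℂ) ≠ fun _ => 1) : ∑ g : G, (χ : G → ℂ) g = 0 := by
  have h := classInner_irr_ne χ.2 (isIrrCharacter_one (G := G)) hne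
  unfold classInner at h
  have hG : (Nat.card G : ℂ)⁻¹ ≠ 0 := by
    apply inv_ne_zero
    have : Nat.card G ≠ 0 := Nat.card_pos.ne'
    exact_mod_cast this
  have := (mul_eq_zero.mp h).resolve_left hG
  simpa using this

/-- the sum of `χ (g²)` under the defect-zero hypotheses -/
theorem DZHyp.sum_sq (h : DZHyp χ) (heven : Even (Nat.card G)) :
    ∑ g : G, (χ : G → ℂ) (g * g)
      = (Nat.card {g : G // orderOf g = 2} : ℂ) * (charDegree (χ : G → ℂ) : ℂ) := by
  classical
  have hn1 : 1 ≤ (Nat.card G).factorization 2 := by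
    have hGpos : Nat.card G ≠ 0 := Nat.card_pos.ne'
    exact (Nat.Prime.dvd_iff_one_le_factorization Nat.prime_two hGpos).mp heven.two_dvd
  have h2x : 2 ∣ charDegree (χ : G → ℂ) :=
    (dvd_pow_self 2 (by omega)).trans h.h2
  have hχ1 := irr_ne_one_of_two_dvd h2x
  rw [← Finset.sum_filter_add_sum_filter_not Finset.univ (fun g : G => Odd (orderOf g))]
  -- odd part
  have hodd : ∑ g ∈ Finset.univ.filter (fun g : G => Odd (orderOf g)), (χ : G → ℂ) (g * g) = 0 := by
    rw [sum_odd_sq (fun g => (χ : G → ℂ) g)]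
    have htot := sum_irr_eq_zero hχ1
    rw [← Finset.sum_filter_add_sum_filter_not Finset.univ (fun g : G => Odd (orderOf g))] at htot
    have heven0 : ∑ g ∈ Finset.univ.filter (fun g : G => ¬ Odd (orderOf g)), (χ : G → ℂ) g = 0 := by
      apply Finset.sum_eq_zero
      intro g hg
      simp only [Finset.mem_filter, Finset.mem_univ, true_and, Nat.not_odd_iff_even] at hg
      exact h.vanish2 hg.two_dvd
    rw [heven0, add_zero] at htot
    exact htot
  rw [hodd, zero_add]
  -- even part
  have heven' : ∀ g ∈ Finset.univ.filter (fun g : G => ¬ Odd (orderOf g)),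
      (χ : G → ℂ) (g * g) = if orderOf g = 2 then (charDegree (χ : G → ℂ) : ℂ) else 0 := by
    intro g hg
    simp only [Finset.mem_filter, Finset.mem_univ, true_and, Nat.not_odd_iff_even] at hg
    split_ifs with ho
    · have : g * g = 1 := by rw [← pow_two, ← ho, pow_orderOf_eq_one]
      rw [this, IsCharacter.apply_one_eq_charDegree (IsIrrCharacter.isCharacter χ.2)]
    · exact h.vanish_sq hg.two_dvd ho
  rw [Finset.sum_congr rfl heven', Finset.sum_filter]
  have : ∀ g : G, (if ¬ Odd (orderOf g) then
      (if orderOf g = 2 then (charDegree (χ : G → ℂ) : ℂ) else 0) else 0)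
      = if orderOf g = 2 then (charDegree (χ : G → ℂ) : ℂ) else 0 := by
    intro g
    by_cases ho : orderOf g = 2
    · have : ¬ Odd (orderOf g) := by rw [ho]; decide
      rw [if_pos this]
    · rw [if_neg ho]; simp
  simp only [this]
  rw [← Finset.sum_filter, Finset.sum_const, nsmul_eq_mul, Nat.card_eq_fintype_card,
    Fintype.card_subtype]

end S4478b

end Cfsg.Agent.Lib.Helper74
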