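import Mathlib
import Cfsg.Agent.Lib.Helper74.DZSum
import Cfsg.Agent.Lib.Helper74.FrobTI
import Cfsg.Agent.Lib.Helper75.Clifford

set_option autoImplicit false

namespace Cfsg.Agent.Lib.Helper74

open Cfsg Cfsg.Agent.Lib.Helper78 Cfsg.Agent.Lib.Helper75
open scoped ComplexConjugate

universe u

section S4478c

variable {G : Type u} [Group G] [Fintype G] {χ : IrrCharacter G}

/-- `ν(χ) = 1` and `t · χ(1) = |G|` where `t` is the number of involutions -/
theorem DZHyp.fs_and_count (h : DZHyp χ) (heven : Even (Nat.card G)) :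
    fsIndFun (χ : G → ℂ) = 1 ∧
      Nat.card {g : G // orderOf g = 2} * charDegree (χ : G → ℂ) = Nat.card G := by
  have hsum := h.sum_sq heven
  have hGpos : 0 < Nat.card G := Nat.card_pos
  have hxpos : 0 < charDegree (χ : G → ℂ) := IsIrrCharacter.charDegree_pos χ.2
  have htpos : 0 < Nat.card {g : G // orderOf g = 2} := by
    obtain ⟨g, hg⟩ := exists_prime_orderOf_dvd_card' (G := G) 2 heven.two_dvd
    have : Nonempty {g : G // orderOf g = 2} := ⟨⟨g, hg⟩⟩
    exact Nat.card_pos
  have hν : fsIndFun (χ : G → ℂ)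
      = ((Nat.card {g : G // orderOf g = 2} * charDegree (χ : G → ℂ) : ℕ) : ℂ) / (Nat.card G : ℂ) := by
    unfold fsIndFun
    rw [hsum]
    push_cast
    ring
  have hpos : (0 : ℝ) < ((Nat.card {g : G // orderOf g = 2} * charDegree (χ : G → ℂ) : ℕ) : ℝ)
      / (Nat.card G : ℝ) := by positivity
  have hre : (fsIndFun (χ : G → ℂ)).re
      = ((Nat.card {g : G // orderOf g = 2} * charDegree (χ : G → ℂ) : ℕ) : ℝ) / (Nat.card G : ℝ) := by
    rw [hν]
    have : (((Nat.card {g : G // orderOf g = 2} * charDegree (χ : G → ℂ) : ℕ) : ℂ) / (Nat.card G : ℂ))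
        = (((((Nat.card {g : G // orderOf g = 2} * charDegree (χ : G → ℂ) : ℕ) : ℝ)
          / (Nat.card G : ℝ)) : ℝ) : ℂ) := by push_cast; rfl
    rw [this, Complex.ofReal_re]
  have hone : fsIndFun (χ : G → ℂ) = 1 := by
    rcases fsIndFun_trichotomy χ with h0 | h1 | hm1
    · rw [h0, Complex.zero_re] at hre; linarith
    · exact h1
    · rw [hm1, Complex.neg_re, Complex.one_re] at hre; linarith
  refine ⟨hone, ?_⟩
  rw [hone] at hν
  have hG0 : (Nat.card G : ℂ) ≠ 0 := by exact_mod_cast hGpos.ne'
  have : ((Nat.card {g : G // orderOf g = 2} * charDegree (χ : G → ℂ) : ℕ) : ℂ) = (Nat.card G : ℂ) := by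
    field_simp at hν
    exact hν.symm
  exact_mod_cast this

/-- the centralizer of an involution has order dividing `χ(1)` -/
theorem DZHyp.card_centralizer_dvd (h : DZHyp χ) {s : G} (hs : orderOf s = 2) :
    Nat.card (Subgroup.centralizer ({s} : Set G)) ∣ charDegree (χ : G → ℂ) := by
  classical
  set C := Subgroup.centralizer ({s} : Set G) with hC
  have : Fintype C := Fintype.ofFinite C
  have hres : IsCharacter C (fun c : C => (χ : G → ℂ) c) :=
    isCharacter_res C (IsIrrCharacter.isCharacter χ.2)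
  obtain ⟨n, hn⟩ := IsCharacter.exists_nat_classInner_char hres
    (IsIrrCharacter.isCharacter (isIrrCharacter_one (G := C)))
  unfold classInner at hn
  have hsum : ∑ c : C, (χ : G → ℂ) c * conj ((fun _ : C => (1 : ℂ)) c)
      = (charDegree (χ : G → ℂ) : ℂ) := by
    rw [Finset.sum_eq_single (1 : C)]
    · simp [IsCharacter.apply_one_eq_charDegree (IsIrrCharacter.isCharacter χ.2)]
    · intro c _ hc1
      have hcs : (c : G) * s = s * c := by
        have := Subgroup.mem_centralizer_iff.mp c.2 s (Set.mem_singleton s)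
        exact this.symm
      rw [h.vanish_cent hs hcs (fun h' => hc1 (Subtype.ext h')), zero_mul]
    · intro h'; exact absurd (Finset.mem_univ _) h'
  rw [hsum] at hn
  have hC0 : (Nat.card C : ℂ) ≠ 0 := by
    have : Nat.card C ≠ 0 := Nat.card_pos.ne'
    exact_mod_cast this
  have : (charDegree (χ : G → ℂ) : ℂ) = ((n * Nat.card C : ℕ) : ℂ) := by
    push_cast
    field_simp at hn
    rw [hn]; ring
  have h' : charDegree (χ : G → ℂ) = n * Nat.card C := by exact_mod_cast this
  exact Dvd.intro_left n h'.symm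

end S4478c

end Cfsg.Agent.Lib.Helper74
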