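import Mathlib
import Cfsg.Agent.Lib.Helper74.DZCount

set_option autoImplicit false

namespace Cfsg.Agent.Lib.Helper74

open Cfsg Cfsg.Agent.Lib.Helper78 Cfsg.Agent.Lib.Helper75
open scoped ComplexConjugate

universe u

section S4478d

variable {G : Type u} [Group G] [Fintype G] {χ : IrrCharacter G}

omit [Fintype G] in
theorem orderOf_eq_of_isConj' {a b : G} (h : IsConj a b) : orderOf b = orderOf a := by
  obtain ⟨c, hc⟩ := isConj_iff.mp h
  rw [← hc]
  exact (MulAut.conj c).orderOf_eq a

theorem DZHyp.main (h : DZHyp χ) (heven : Even (Nat.card G)) :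
    (∀ s t : G, orderOf s = 2 → orderOf t = 2 → IsConj s t) ∧
    (∀ s : G, orderOf s = 2 →
      Nat.card (Subgroup.centralizer ({s} : Set G)) = charDegree (χ : G → ℂ) ∧
      (Nat.card (Subgroup.centralizer ({s} : Set G))).Coprime
        (Subgroup.centralizer ({s} : Set G)).index) ∧
    (Nat.card G : ℂ)⁻¹ * ∑ g : G, (χ : G → ℂ) (g * g) = 1 := by
  classical
  obtain ⟨hfs, hcount⟩ := h.fs_and_count heven
  have hGpos : Nat.card G ≠ 0 := Nat.card_pos.ne'
  have hxpos : 0 < charDegree (χ : G → ℂ) := IsIrrCharacter.charDegree_pos χ.2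
  have ht : Nat.card {g : G // orderOf g = 2}
      = (Finset.univ.filter (fun g : G => orderOf g = 2)).card := by
    rw [Nat.card_eq_fintype_card, Fintype.card_subtype]
  -- facts about each involution
  have key : ∀ s : G, orderOf s = 2 →
      Nat.card (Subgroup.centralizer ({s} : Set G)) = charDegree (χ : G → ℂ) ∧
      Finset.univ.filter (fun g : G => IsConj s g) = Finset.univ.filter (fun g : G => orderOf g = 2) := by
    intro s hs
    have hdvd := h.card_centralizer_dvd hs
    have hle : Nat.card (Subgroup.centralizer ({s} : Set G)) ≤ charDegree (χ : G → ℂ) :=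
      Nat.le_of_dvd hxpos hdvd
    have hsub : Finset.univ.filter (fun g : G => IsConj s g)
        ⊆ Finset.univ.filter (fun g : G => orderOf g = 2) := by
      intro g hg
      simp only [Finset.mem_filter, Finset.mem_univ, true_and] at hg ⊢
      rw [orderOf_eq_of_isConj' hg, hs]
    have hidx := card_isConj_eq_index s
    have hile : (Subgroup.centralizer ({s} : Set G)).index ≤ Nat.card {g : G // orderOf g = 2} := by
      rw [ht, ← hidx]
      exact Finset.card_le_card hsub
    have hmul := (Subgroup.centralizer ({s} : Set G)).card_mul_index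
    have hcpos : 0 < Nat.card (Subgroup.centralizer ({s} : Set G)) := Nat.card_pos
    have htpos : 0 < Nat.card {g : G // orderOf g = 2} := by
      have : Nonempty {g : G // orderOf g = 2} := ⟨⟨s, hs⟩⟩
      exact Nat.card_pos
    have hc : Nat.card (Subgroup.centralizer ({s} : Set G)) = charDegree (χ : G → ℂ) := by
      by_contra hne
      have hlt : Nat.card (Subgroup.centralizer ({s} : Set G)) < charDegree (χ : G → ℂ) :=
        lt_of_le_of_ne hle hne
      have h1 : Nat.card (Subgroup.centralizer ({s} : Set G)) *
          (Subgroup.centralizer ({s} : Set G)).index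
          ≤ Nat.card (Subgroup.centralizer ({s} : Set G)) * Nat.card {g : G // orderOf g = 2} :=
        Nat.mul_le_mul_left _ hile
      have h2 : Nat.card (Subgroup.centralizer ({s} : Set G)) * Nat.card {g : G // orderOf g = 2}
          < charDegree (χ : G → ℂ) * Nat.card {g : G // orderOf g = 2} :=
        Nat.mul_lt_mul_of_pos_right hlt htpos
      rw [hmul, ← hcount] at h1
      linarith [mul_comm (charDegree (χ : G → ℂ)) (Nat.card {g : G // orderOf g = 2})]
    refine ⟨hc, ?_⟩
    apply Finset.eq_of_subset_of_card_le hsub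
    rw [hidx, ← ht]
    -- index = t
    rw [hc, ← hcount] at hmul
    have : (Subgroup.centralizer ({s} : Set G)).index = Nat.card {g : G // orderOf g = 2} := by
      have h3 : charDegree (χ : G → ℂ) * (Subgroup.centralizer ({s} : Set G)).index
          = charDegree (χ : G → ℂ) * Nat.card {g : G // orderOf g = 2} := by
        rw [hmul, mul_comm]
      exact Nat.eq_of_mul_eq_mul_left hxpos h3
    rw [this]
  refine ⟨?_, ?_, hfs⟩
  · intro s t hs ht'
    have := (key s hs).2
    have hmem : t ∈ Finset.univ.filter (fun g : G => orderOf g = 2) := by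
      simp [ht']
    rw [← this] at hmem
    simpa using hmem
  · intro s hs
    refine ⟨(key s hs).1, ?_⟩
    apply Nat.coprime_of_dvd
    intro p hp hpc hpi
    -- `p ^ a ∣ χ(1)`
    have hpa : p ^ (Nat.card G).factorization p ∣ charDegree (χ : G → ℂ) := by
      by_cases hp2 : p = 2
      · subst hp2; exact h.h2
      · apply h.hp p hp hp2
        have : Fact p.Prime := ⟨hp⟩
        obtain ⟨c₀, hc₀⟩ := exists_prime_orderOf_dvd_card' (G := Subgroup.centralizer ({s} : Set G)) p hpc
        have hc₀G : orderOf (c₀ : G) = p := by rw [Subgroup.orderOf_coe, hc₀]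
        have hcomm : Commute (c₀ : G) s := by
          have := Subgroup.mem_centralizer_iff.mp c₀.2 s (Set.mem_singleton s)
          exact this.symm
        refine ⟨(c₀ : G) * s, ?_⟩
        rw [hcomm.orderOf_mul_eq_mul_orderOf_of_coprime, hc₀G, hs, mul_comm]
        rw [hc₀G, hs]
        exact (Nat.coprime_primes hp Nat.prime_two).mpr hp2
    have hmul := (Subgroup.centralizer ({s} : Set G)).card_mul_index
    rw [(key s hs).1] at hmul
    have : p ^ ((Nat.card G).factorization p + 1) ∣ Nat.card G := by
      rw [pow_succ]
      conv_rhs => rw [← hmul]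
      exact Nat.mul_dvd_mul hpa hpi
    exact Nat.pow_succ_factorization_not_dvd hGpos hp this

end S4478d

end Cfsg.Agent.Lib.Helper74
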