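import Mathlib
import Cfsg.Agent.Lib.Helper3.DefOneGenData
import Cfsg.Agent.Lib.Helper78.DefOneUniq
import Cfsg.Agent.Lib.Helper82.ExtFirstMain

/-!
# Module G-BLK for S4507 (helper74; helper77 landed the same theorem as
`Cfsg.Agent.Lib.Helper77.DefOneGal.mem_block_of_eq_on_pRegular` in `Lib/Helper77/DefOneGalBlk.lean`;
this copy lives in its own namespace to avoid a name clash)

`mem_block_of_eq_on_pRegular`: an irreducible character agreeing with a member of the
`p`-block `B` on all `p`-regular elements lies in `B` (Osima's idempotent argument: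
the block idempotent coefficients vanish at `p`-singular elements).
-/

set_option autoImplicit false
set_option linter.unusedSectionVars false

namespace Cfsg.Agent.Lib.Helper74.DefOneGalBlk

open Cfsg Cfsg.Agent.Lib.Helper78 Cfsg.Agent.Lib.Helper16 Cfsg.Agent.Lib.Helper3.DefOneGen
open scoped ComplexConjugate IsMulCommutative

variable {G : Type*} [Group G] [Fintype G] {p : ℕ} [hp : Fact p.Prime] (P : Sylow p G)
  (hP : Nat.card P = p)
variable [Fintype ↥(Subgroup.centralizer ((P : Subgroup G) : Set G))] [Fintype ↥(P : Subgroup G)]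
  [IsMulCommutative ↥(P : Subgroup G)] [Fintype (↥(P : Subgroup G) →* ℂˣ)]
  [Fintype ↥(Subgroup.normalizer ((P : Subgroup G) : Set G))]
variable {M : Ideal AlgInt}

open scoped Classical in
/-- `∑_g blockCoeff B g * ψ g = ψ 1` if `ψ ∈ B`, and `0` otherwise. -/
theorem sum_blockCoeff_mul_irr (B : Set (IrrCharacter G)) (ψ : IrrCharacter G) :
    ∑ g : G, blockCoeff B g * (ψ : G → ℂ) g = if ψ ∈ B then (ψ : G → ℂ) 1 else 0 := by
  have h1 : ∀ g : G, blockCoeff B g * (ψ : G → ℂ) g =
      ∑ χ ∈ Finset.univ.filter (fun χ : IrrCharacter G => χ ∈ B),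
        (χ : G → ℂ) 1 * ((Nat.card G : ℂ)⁻¹ * ((ψ : G → ℂ) g * conj ((χ : G → ℂ) g))) := by
    intro g
    unfold blockCoeff
    rw [finsum_mem_eq_sum_of_subset (t := Finset.univ.filter (fun χ : IrrCharacter G => χ ∈ B))
      _ (by intro χ hχ; simpa using hχ.1) (by intro χ hχ; simpa using hχ)]
    rw [Finset.mul_sum, Finset.sum_mul]
    apply Finset.sum_congr rfl
    intro χ _
    ring
  simp_rw [h1]
  rw [Finset.sum_comm]
  have h2 : ∀ χ : IrrCharacter G,
      ∑ g : G, (χ : G → ℂ) 1 * ((Nat.card G : ℂ)⁻¹ * ((ψ : G → ℂ) g * conj ((χ : G → ℂ) g))) =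
      (χ : G → ℂ) 1 * (if ψ = χ then 1 else 0) := by
    intro χ
    rw [← Finset.mul_sum, ← Finset.mul_sum]
    congr 1
    have := classInner_irr ψ.2 χ.2
    unfold classInner at this
    rw [this]
    by_cases h : ψ = χ
    · rw [if_pos h, if_pos (by rw [h])]
    · rw [if_neg h, if_neg (fun h' => h (Subtype.ext h'))]
  simp_rw [h2]
  by_cases hψ : ψ ∈ B
  · rw [if_pos hψ]
    rw [Finset.sum_eq_single ψ]
    · simp
    · intro χ _ hne
      rw [if_neg (Ne.symm hne), mul_zero]
    · intro h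
      exfalso
      exact h (by simpa using hψ)
  · rw [if_neg hψ]
    apply Finset.sum_eq_zero
    intro χ hχ
    have hχB : χ ∈ B := by simpa using hχ
    rw [if_neg (fun h : ψ = χ => hψ (h ▸ hχB)), mul_zero]

/-- MODULE G-BLK -/
theorem mem_block_of_eq_on_pRegular (hM : IsPModular p M) {B : Set (IrrCharacter G)}
    (hB : IsPBlock M B) {χ ψ : IrrCharacter G} (hχ : χ ∈ B)
    (h : ∀ g : G, ¬ p ∣ orderOf g → (ψ : G → ℂ) g = (χ : G → ℂ) g) : ψ ∈ B := by
  classical
  by_contra hψ
  have h1 := sum_blockCoeff_mul_irr B ψ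
  have h2 := sum_blockCoeff_mul_irr B χ
  rw [if_neg hψ] at h1
  rw [if_pos hχ] at h2
  have h3 : ∑ g : G, blockCoeff B g * (ψ : G → ℂ) g = ∑ g : G, blockCoeff B g * (χ : G → ℂ) g := by
    apply Finset.sum_congr rfl
    intro g _
    by_cases hg : p ∣ orderOf g
    · have h0 : blockCoeff B g = 0 := by
        have hw := weak_block_orthogonality hM hB 1 g
          (by rw [orderOf_one]; exact hM.1.one_lt.ne' ∘ Nat.dvd_one.mp) hg
        unfold blockCoeff
        rw [hw, mul_zero]
      rw [h0]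
      simp
    · rw [h g hg]
  rw [h1, h2] at h3
  exact IsIrrCharacter.apply_one_ne_zero χ.2 h3.symm

end Cfsg.Agent.Lib.Helper74.DefOneGalBlk
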