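import Mathlib
import Cfsg.Agent.Lib.Helper3.DefOneGenData
import Cfsg.Agent.Lib.Helper78.DefOneUniq
import Cfsg.Agent.Lib.Helper82.ExtFirstMain

/-!
# Module G-EXP for S4507 (helper74, for helper77)

`fpart_expansion`: the second-main-theorem expansion
`F (y s) = ∑_{ϑ ∈ Irr(C), P ≤ ker ϑ} fpart F ϑ y * ϑ s` for a class function `F` of `G`,
`y ∈ P`, `s ∈ C = C_G(P)` `p`-regular (pure character theory of `C = P × K`).
-/

set_option autoImplicit false
set_option linter.unusedSectionVars false

namespace Cfsg.Agent.Lib.Helper77.DefOneGal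

open Cfsg Cfsg.Agent.Lib.Helper78 Cfsg.Agent.Lib.Helper16 Cfsg.Agent.Lib.Helper3.DefOneGen
open scoped ComplexConjugate IsMulCommutative

section Abstract

variable {K A : Type*} [Group K] [Fintype K] [CommGroup A] [Fintype A] {p : ℕ}
  {π : K →* A} {ι : A →* K}

/-- A class function of `K` invariant under translation by the central subgroup `ι A` is
orthogonal to every irreducible character not having `ι A` in its kernel. -/
theorem classInner_eq_zero_of_not_inKer (h : IsCentralSplit p π ι) {f : K → ℂ}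
    (hinv : ∀ a c, f (ι a * c) = f c) (ξ : IrrCharacter K)
    (hξ : ¬ InKer ι (ξ : K → ℂ)) : classInner f (ξ : K → ℂ) = 0 := by
  have hcen : ∀ a, ι a ∈ Subgroup.center K := by
    intro a
    rw [Subgroup.mem_center_iff]
    intro k
    exact (h.central a k).symm
  have hex : ∃ a, Cfsg.Agent.Lib.Helper82.cScalar ξ (ι a) ≠ 1 := by
    by_contra hall
    push Not at hall
    apply hξ
    intro a k
    rw [Cfsg.Agent.Lib.Helper82.irr_central_mul ξ (hcen a) k, hall a, one_mul]
  obtain ⟨a, ha⟩ := hex
  unfold classInner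
  have hsum : ∑ c : K, f c * conj ((ξ : K → ℂ) c) =
      conj (Cfsg.Agent.Lib.Helper82.cScalar ξ (ι a)) * ∑ c : K, f c * conj ((ξ : K → ℂ) c) := by
    conv_lhs => rw [← Equiv.sum_comp (Equiv.mulLeft (ι a))]
    rw [Finset.mul_sum]
    apply Finset.sum_congr rfl
    intro c _
    simp only [Equiv.coe_mulLeft]
    rw [hinv, Cfsg.Agent.Lib.Helper82.irr_central_mul ξ (hcen a) c, map_mul]
    ring
  have hne : conj (Cfsg.Agent.Lib.Helper82.cScalar ξ (ι a)) ≠ 1 := by
    intro h1
    apply ha
    have := congrArg conj h1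
    simpa using this
  have h0 : ∑ c : K, f c * conj ((ξ : K → ℂ) c) = 0 := by
    by_contra hS
    apply hne
    have h2 : (conj (Cfsg.Agent.Lib.Helper82.cScalar ξ (ι a)) - 1) *
        ∑ c : K, f c * conj ((ξ : K → ℂ) c) = 0 := by
      rw [sub_mul, one_mul, ← hsum, sub_self]
    rcases mul_eq_zero.mp h2 with h3 | h3
    · exact sub_eq_zero.mp h3
    · exact absurd h3 hS
  rw [h0, mul_zero]

open scoped Classical in
/-- Expansion of a `ι A`-invariant class function of `K` in the irreducible characters having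
`ι A` in the kernel, with coefficients computed on the `p`-regular elements. -/
theorem expansion_of_invariant (h : IsCentralSplit p π ι) {f : K → ℂ}
    (hf : IsClassFunction K f) (hinv : ∀ a c, f (ι a * c) = f c) (s : K) :
    f s = ∑ ϑ ∈ Finset.univ.filter (fun ϑ : IrrCharacter K => InKer ι (ϑ : K → ℂ)),
      ((Fintype.card A : ℂ) / (Fintype.card K : ℂ) *
        ∑ s' : K, if p ∣ orderOf s' then 0 else f s' * conj ((ϑ : K → ℂ) s')) *
        (ϑ : K → ℂ) s := by
  have hexp := congrFun (classFunction_eq_sum_irr hf) s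
  rw [Finset.sum_apply] at hexp
  rw [hexp, Finset.sum_filter]
  apply Finset.sum_congr rfl
  intro ξ _
  rw [Pi.smul_apply, smul_eq_mul]
  by_cases hξ : InKer ι (ξ : K → ℂ)
  · rw [if_pos hξ]
    congr 1
    unfold classInner
    rw [h.sum_eq, Nat.card_eq_fintype_card]
    have h5 : ∀ a : A, (∑ s' : K, if p ∣ orderOf s' then (0 : ℂ) else
        f (ι a * s') * conj ((ξ : K → ℂ) (ι a * s'))) =
        ∑ s' : K, if p ∣ orderOf s' then (0 : ℂ) else f s' * conj ((ξ : K → ℂ) s') := by
      intro a
      apply Finset.sum_congr rfl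
      intro s' _
      split_ifs with h6
      · rfl
      · rw [hinv, hξ]
    rw [Finset.sum_congr rfl (fun a _ => h5 a), Finset.sum_const, Finset.card_univ, nsmul_eq_mul]
    ring
  · rw [if_neg hξ, classInner_eq_zero_of_not_inKer h hinv ξ hξ, zero_mul]

end Abstract

variable {G : Type*} [Group G] [Fintype G] {p : ℕ} [hp : Fact p.Prime] (P : Sylow p G)
  (hP : Nat.card P = p)
variable [Fintype ↥(Subgroup.centralizer ((P : Subgroup G) : Set G))] [Fintype ↥(P : Subgroup G)]
  [IsMulCommutative ↥(P : Subgroup G)] [Fintype (↥(P : Subgroup G) →* ℂˣ)]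
  [Fintype ↥(Subgroup.normalizer ((P : Subgroup G) : Set G))]
variable {M : Ideal AlgInt}

include hP in
open scoped Classical in
/-- MODULE G-EXP -/
theorem fpart_expansion {F : G → ℂ} (hF : IsClassFunction G F) {y : G}
    (hy : y ∈ (P : Subgroup G))
    (s : ↥(Subgroup.centralizer ((P : Subgroup G) : Set G))) (hs : ¬ p ∣ orderOf s) :
    F (y * (s : G)) =
      ∑ ϑ ∈ Finset.univ.filter (fun ϑ : IrrCharacter ↥(Subgroup.centralizer
          ((P : Subgroup G) : Set G)) =>
          InKer (Subgroup.inclusion (le_centralizer_of_card_prime hP))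
            (ϑ : ↥(Subgroup.centralizer ((P : Subgroup G) : Set G)) → ℂ)),
        fpart p (Subgroup.centralizer ((P : Subgroup G) : Set G)) F
          (ϑ : ↥(Subgroup.centralizer ((P : Subgroup G) : Set G)) → ℂ) y *
          (ϑ : ↥(Subgroup.centralizer ((P : Subgroup G) : Set G)) → ℂ) s := by
  have hsp := ppart_spec P hP
  set ι : ↥(P : Subgroup G) →* ↥(Subgroup.centralizer ((P : Subgroup G) : Set G)) :=
    Subgroup.inclusion (le_centralizer_of_card_prime hP) with hι
  set π : ↥(Subgroup.centralizer ((P : Subgroup G) : Set G)) →* ↥(P : Subgroup G) :=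
    ppart P hP with hπ
  -- the auxiliary class function on `C`
  let gt : ↥(Subgroup.centralizer ((P : Subgroup G) : Set G)) → ℂ :=
    fun c => F (y * (((ι (π c))⁻¹ * c :
      ↥(Subgroup.centralizer ((P : Subgroup G) : Set G))) : G))
  have hgt_inv : ∀ a c, gt (ι a * c) = gt c := by
    intro a c
    show F (y * (((ι (π (ι a * c)))⁻¹ * (ι a * c) :
      ↥(Subgroup.centralizer ((P : Subgroup G) : Set G))) : G)) =
      F (y * (((ι (π c))⁻¹ * c : ↥(Subgroup.centralizer ((P : Subgroup G) : Set G))) : G))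
    rw [map_mul, hsp.right_inv, map_mul, mul_inv_rev]
    congr 3
    rw [mul_assoc, inv_mul_cancel_left]
  have hgt_reg : ∀ c : ↥(Subgroup.centralizer ((P : Subgroup G) : Set G)),
      ¬ p ∣ orderOf c → gt c = F (y * (c : G)) := by
    intro c hc
    show F (y * (((ι (π c))⁻¹ * c :
      ↥(Subgroup.centralizer ((P : Subgroup G) : Set G))) : G)) = F (y * (c : G))
    rw [(hsp.ker_iff c).mpr hc, map_one, inv_one, one_mul]
  have hyC : ∀ k : ↥(Subgroup.centralizer ((P : Subgroup G) : Set G)),
      (k : G) * y = y * (k : G) := by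
    intro k
    have hk := k.2
    rw [Subgroup.mem_centralizer_iff] at hk
    exact (hk y hy).symm
  have hgt_class : IsClassFunction ↥(Subgroup.centralizer ((P : Subgroup G) : Set G)) gt := by
    intro c k
    show F (y * (((ι (π (k * c * k⁻¹)))⁻¹ * (k * c * k⁻¹) :
      ↥(Subgroup.centralizer ((P : Subgroup G) : Set G))) : G)) =
      F (y * (((ι (π c))⁻¹ * c : ↥(Subgroup.centralizer ((P : Subgroup G) : Set G))) : G))
    have h1 : π (k * c * k⁻¹) = π c := by
      rw [map_mul, map_mul, map_inv, mul_comm (π k), mul_assoc, mul_inv_cancel, mul_one]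
    rw [h1]
    have h2 : (ι (π c))⁻¹ * (k * c * k⁻¹) = k * ((ι (π c))⁻¹ * c) * k⁻¹ := by
      have h3 : (ι (π c))⁻¹ * k = k * (ι (π c))⁻¹ := by
        have hc : Commute (ι (π c)) k := hsp.central (π c) k
        exact hc.inv_left.eq
      rw [← mul_assoc, ← mul_assoc, h3]
      group
    rw [h2]
    have h4 : y * ((k * ((ι (π c))⁻¹ * c) * k⁻¹ :
        ↥(Subgroup.centralizer ((P : Subgroup G) : Set G))) : G) =
        (k : G) * (y * (((ι (π c))⁻¹ * c :
          ↥(Subgroup.centralizer ((P : Subgroup G) : Set G))) : G)) * (k : G)⁻¹ := by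
      simp only [Subgroup.coe_mul, Subgroup.coe_inv]
      have h5 : ∀ u v : G, y * ((k : G) * u * v) = ((k : G) * y) * u * v := by
        intro u v
        rw [hyC k]
        group
      rw [h5]
      group
    rw [h4]
    exact hF _ _
  -- expansion
  have hexp := expansion_of_invariant hsp hgt_class hgt_inv s
  rw [hgt_reg s hs] at hexp
  rw [hexp]
  apply Finset.sum_congr rfl
  intro ξ _
  congr 1
  unfold fpart
  rw [card_P_eq P hP]
  congr 1
  apply Finset.sum_congr rfl
  intro s' _
  split_ifs with h6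
  · rfl
  · rw [hgt_reg s' h6]

end Cfsg.Agent.Lib.Helper77.DefOneGal
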