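import Cfsg.Agent.Lib.Helper74.FrobSchur

/-!
# The Frobenius–Schur indicator is 0, 1 or -1 (helper74)

`fsInd ρ = |G|⁻¹ ∑ g, tr (X g * X g)` for a matrix representation `ρ` on `Fin n → k`.
* `fsInd_trichotomy`, `fsInd_ne_zero_iff` (nonzero invariant form), `fsInd_eq_one_iff`
  (nonzero symmetric invariant form).
-/

set_option autoImplicit false

namespace Cfsg.Agent.Lib.Helper74

open Matrix

variable {G : Type*} [Group G] {k : Type*} [Field k] {n m : ℕ}

/-- The averaged "conjugate" `∑ g, X g * A * Y g⁻¹` intertwines `σ` and `ρ`. -/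
theorem sum_mul_mul_inv_comm [Fintype G] (ρ : Representation k G (Fin n → k))
    (σ : Representation k G (Fin m → k)) (A : Matrix (Fin n) (Fin m) k) (h : G) :
    matOf ρ h * (∑ g, matOf ρ g * A * matOf σ g⁻¹) = (∑ g, matOf ρ g * A * matOf σ g⁻¹) * matOf σ h := by
  rw [Matrix.mul_sum, Matrix.sum_mul]
  refine Fintype.sum_equiv (Equiv.mulLeft h) _ _ (fun g => ?_)
  simp only [Equiv.coe_mulLeft, _root_.mul_inv_rev, matOf_mul]
  simp only [Matrix.mul_assoc, matOf_inv_mul, Matrix.mul_one]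

/-- The Frobenius–Schur sum as a sum of entries of averaged conjugates w.r.t. the contragredient. -/
theorem sum_trace_sq_eq_sum_entries [Fintype G] (ρ : Representation k G (Fin n → k)) :
    ∑ g, (matOf ρ g * matOf ρ g).trace =
      ∑ i, ∑ j, (∑ g, matOf ρ g * Matrix.single j i (1 : k) * matOf (contra ρ) g⁻¹ :
        Matrix (Fin n) (Fin n) k) i j := by
  have h1 : ∀ g, (matOf ρ g * matOf ρ g).trace = ∑ i, ∑ j, matOf ρ g i j * matOf ρ g j i := by
    intro g
    simp [Matrix.trace, Matrix.mul_apply]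
  have h3 : ∀ (g : G) (i j : Fin n),
      (matOf ρ g * Matrix.single j i (1 : k) * matOf (contra ρ) g⁻¹) i j
      = matOf ρ g i j * matOf ρ g j i := by
    intro g i j
    rw [Matrix.mul_apply, Finset.sum_eq_single i]
    · rw [Matrix.mul_single_apply_same, mul_one, matOf_contra, inv_inv, Matrix.transpose_apply]
    · intro b _ hb
      rw [Matrix.mul_single_apply_of_ne _ _ _ _ _ hb, zero_mul]
    · intro hk
      exact absurd (Finset.mem_univ i) hk
  simp only [h1, Matrix.sum_apply, h3]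
  rw [Finset.sum_comm]
  refine Finset.sum_congr rfl (fun i _ => ?_)
  rw [Finset.sum_comm]

/-- If the Frobenius–Schur sum of an irreducible representation is nonzero, there is a nonzero
invariant bilinear form. -/
theorem exists_invForm_of_sum_trace_sq_ne_zero [Fintype G] (ρ : Representation k G (Fin n → k))
    [ρ.IsIrreducible] (hν : ∑ g, (matOf ρ g * matOf ρ g).trace ≠ 0) :
    ∃ M : Matrix (Fin n) (Fin n) k, M ≠ 0 ∧ IsInvForm ρ M := by
  -- some averaged conjugate is nonzero
  obtain ⟨A, hA⟩ : ∃ A : Matrix (Fin n) (Fin n) k,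
      (∑ g, matOf ρ g * A * matOf (contra ρ) g⁻¹) ≠ 0 := by
    by_contra hcon
    push Not at hcon
    apply hν
    rw [sum_trace_sq_eq_sum_entries]
    simp [hcon]
  set Φ := ∑ g, matOf ρ g * A * matOf (contra ρ) g⁻¹ with hΦ
  have hcomm : ∀ h, matOf ρ h * Φ = Φ * matOf (contra ρ) h :=
    sum_mul_mul_inv_comm ρ (contra ρ) A
  let T : Representation.IntertwiningMap (contra ρ) ρ :=
    ⟨Matrix.toLin' Φ, fun g => by
      rw [← toLin'_matOf, ← toLin'_matOf, ← Matrix.toLin'_mul, ← Matrix.toLin'_mul, hcomm]⟩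
  have hsurj : Function.Surjective (Matrix.toLin' Φ) := by
    rcases Representation.IsIrreducible.surjective_or_eq_zero (ρ := ρ) T with h | h
    · exact h
    · exfalso
      apply hA
      have h1 : T.toLinearMap = 0 := by rw [h]; rfl
      have h2 : Matrix.toLin' Φ = 0 := h1
      simpa using congrArg LinearMap.toMatrix' h2
  have hinj : Function.Injective (Matrix.toLin' Φ) :=
    (LinearMap.injective_iff_surjective).mpr hsurj
  have hunit : IsUnit Φ := by
    rw [← Matrix.mulVec_injective_iff_isUnit]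
    exact hinj
  obtain ⟨u, hu⟩ := hunit
  refine ⟨(u⁻¹ : (Matrix (Fin n) (Fin n) k)ˣ), ?_, ?_⟩
  · intro h0
    apply hA
    rw [← hu]
    calc (u : Matrix (Fin n) (Fin n) k)
        = u * ((u⁻¹ : (Matrix (Fin n) (Fin n) k)ˣ) : Matrix (Fin n) (Fin n) k) * u := by
          rw [Units.mul_inv, Matrix.one_mul]
      _ = 0 := by rw [h0, Matrix.mul_zero, Matrix.zero_mul]
  · apply isInvForm_of_mul_matOf
    intro g
    have h1 := hcomm g
    rw [matOf_contra, ← hu] at h1
    -- X g * u = u * (X g⁻¹)ᵀ  ⇒  u⁻¹ * X g = (X g⁻¹)ᵀ * u⁻¹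
    calc ((u⁻¹ : (Matrix (Fin n) (Fin n) k)ˣ) : Matrix (Fin n) (Fin n) k) * matOf ρ g
        = (u⁻¹ : (Matrix (Fin n) (Fin n) k)ˣ) * (matOf ρ g * (u : Matrix (Fin n) (Fin n) k))
            * (u⁻¹ : (Matrix (Fin n) (Fin n) k)ˣ) := by
          rw [Matrix.mul_assoc, Matrix.mul_assoc, Units.mul_inv, Matrix.mul_one]
      _ = (matOf ρ g⁻¹)ᵀ * (u⁻¹ : (Matrix (Fin n) (Fin n) k)ˣ) := by
          rw [h1, ← Matrix.mul_assoc, Units.inv_mul, Matrix.one_mul]

/-- The Frobenius–Schur indicator of a matrix representation. -/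
noncomputable def fsInd [Fintype G] (ρ : Representation k G (Fin n → k)) : k :=
  (Fintype.card G : k)⁻¹ * ∑ g, (matOf ρ g * matOf ρ g).trace

theorem fsInd_eq_sum_character [Fintype G] (ρ : Representation k G (Fin n → k)) :
    fsInd ρ = (Fintype.card G : k)⁻¹ * ∑ g, ρ.character (g * g) := by
  unfold fsInd
  congr 1
  refine Finset.sum_congr rfl (fun s _ => ?_)
  rw [← matOf_mul, trace_matOf]

theorem IsInvForm.transpose_eq_fsInd [Fintype G] [IsAlgClosed k] [CharZero k]
    {ρ : Representation k G (Fin n → k)} [ρ.IsIrreducible] {M : Matrix (Fin n) (Fin n) k}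
    (hM : IsInvForm ρ M) : Mᵀ = fsInd ρ • M := hM.transpose_eq

/-- A nonzero invariant form forces `ν² = 1`. -/
theorem IsInvForm.fsInd_sq [Fintype G] [IsAlgClosed k] [CharZero k]
    {ρ : Representation k G (Fin n → k)} [ρ.IsIrreducible] {M : Matrix (Fin n) (Fin n) k}
    (hM : IsInvForm ρ M) (h0 : M ≠ 0) : fsInd ρ * fsInd ρ = 1 := by
  have h1 := hM.transpose_eq_fsInd
  have h2 : M = (fsInd ρ * fsInd ρ) • M := by
    calc M = Mᵀᵀ := (Matrix.transpose_transpose M).symm
      _ = (fsInd ρ • M)ᵀ := by rw [← h1]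
      _ = fsInd ρ • Mᵀ := Matrix.transpose_smul _ _
      _ = (fsInd ρ * fsInd ρ) • M := by rw [h1, smul_smul]
  by_contra hne
  apply h0
  have h3 : (fsInd ρ * fsInd ρ - 1) • M = 0 := by
    rw [sub_smul, one_smul, ← h2, sub_self]
  rcases smul_eq_zero.mp h3 with h | h
  · exact absurd (sub_eq_zero.mp h) hne
  · exact h

/-- The Frobenius–Schur indicator of an irreducible representation is `0`, `1` or `-1`. -/
theorem fsInd_trichotomy [Fintype G] [IsAlgClosed k] [CharZero k]
    (ρ : Representation k G (Fin n → k)) [ρ.IsIrreducible] :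
    fsInd ρ = 0 ∨ fsInd ρ = 1 ∨ fsInd ρ = -1 := by
  by_cases hν : ∑ g, (matOf ρ g * matOf ρ g).trace = 0
  · left; simp [fsInd, hν]
  · right
    obtain ⟨M, h0, hM⟩ := exists_invForm_of_sum_trace_sq_ne_zero ρ hν
    have h := hM.fsInd_sq h0
    have h' : (fsInd ρ - 1) * (fsInd ρ + 1) = 0 := by ring_nf; rw [sq, h]; ring
    rcases mul_eq_zero.mp h' with h1 | h1
    · left; exact sub_eq_zero.mp h1
    · right; exact eq_neg_of_add_eq_zero_left h1

/-- `ν ≠ 0` iff there is a nonzero invariant bilinear form. -/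
theorem fsInd_ne_zero_iff [Fintype G] [IsAlgClosed k] [CharZero k]
    (ρ : Representation k G (Fin n → k)) [ρ.IsIrreducible] :
    fsInd ρ ≠ 0 ↔ ∃ M : Matrix (Fin n) (Fin n) k, M ≠ 0 ∧ IsInvForm ρ M := by
  constructor
  · intro h
    apply exists_invForm_of_sum_trace_sq_ne_zero
    intro h0
    apply h
    simp [fsInd, h0]
  · rintro ⟨M, h0, hM⟩ hν
    have := hM.fsInd_sq h0
    rw [hν] at this
    simp at this

/-- `ν = 1` iff there is a nonzero symmetric invariant bilinear form. -/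
theorem fsInd_eq_one_iff [Fintype G] [IsAlgClosed k] [CharZero k]
    (ρ : Representation k G (Fin n → k)) [ρ.IsIrreducible] :
    fsInd ρ = 1 ↔ ∃ M : Matrix (Fin n) (Fin n) k, M ≠ 0 ∧ IsInvForm ρ M ∧ Mᵀ = M := by
  constructor
  · intro h
    have hne : fsInd ρ ≠ 0 := by rw [h]; exact one_ne_zero
    obtain ⟨M, h0, hM⟩ := (fsInd_ne_zero_iff ρ).mp hne
    refine ⟨M, h0, hM, ?_⟩
    rw [hM.transpose_eq_fsInd, h, one_smul]
  · rintro ⟨M, h0, hM, hsym⟩
    have h1 := hM.transpose_eq_fsInd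
    rw [hsym] at h1
    by_contra hne
    apply h0
    have h3 : (fsInd ρ - 1) • M = 0 := by
      rw [sub_smul, one_smul, ← h1, sub_self]
    rcases smul_eq_zero.mp h3 with h | h
    · exact absurd (sub_eq_zero.mp h) hne
    · exact h

end Cfsg.Agent.Lib.Helper74
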