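import Cfsg.Agent.Lib.Helper74.Hilbert90

/-!
# From a semilinear structure `A` (`A * conj A = 1`, `X g * A = A * conj (X g)`) to a real representation (helper74)
-/

set_option autoImplicit false

namespace Cfsg.Agent.Lib.Helper74

open Matrix
open scoped ComplexConjugate

variable {G : Type*} [Group G] {n : ℕ}

/-- A matrix fixed by entrywise conjugation is the complexification of a real matrix. -/
theorem map_ofReal_map_re_of_cj_eq {M : Matrix (Fin n) (Fin n) ℂ} (h : cj M = M) :
    (M.map Complex.re).map (Complex.ofReal) = M := by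
  ext i j
  have h1 := congrFun (congrFun h i) j
  rw [cj_apply] at h1
  simp only [Matrix.map_apply]
  exact (Complex.conj_eq_iff_re.mp h1)

theorem map_ofReal_injective :
    Function.Injective (fun M : Matrix (Fin n) (Fin n) ℝ => M.map Complex.ofReal) := by
  intro M N h
  ext i j
  have h1 := congrFun (congrFun h i) j
  simpa using h1

/-- If a complex matrix representation commutes semilinearly with `A` where `A * conj A = 1`, it is
conjugate to a real representation. -/
theorem exists_real_rep_of_semilinear (ρ : Representation ℂ G (Fin n → ℂ))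
    (A : Matrix (Fin n) (Fin n) ℂ) (hA : A * cj A = 1)
    (hcomm : ∀ g, matOf ρ g * A = A * cj (matOf ρ g)) :
    ∃ ρr : Representation ℝ G (Fin n → ℝ),
      ∀ g, ((LinearMap.trace ℝ (Fin n → ℝ) (ρr g) : ℝ) : ℂ) = ρ.character g := by
  obtain ⟨P, hPu, hP⟩ := hilbert90 A hA
  obtain ⟨u, hu⟩ := hPu
  have hA' : cj A * A = 1 := by
    have := congrArg cj hA
    rw [cj_mul, cj_cj, cj_one] at this
    exact this
  -- conj P = conj A * P
  have hcjP : cj P = cj A * P := by
    calc cj P = cj A * A * cj P := by rw [hA', Matrix.one_mul]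
      _ = cj A * (A * cj P) := Matrix.mul_assoc _ _ _
      _ = cj A * P := by rw [hP]
  set Q : Matrix (Fin n) (Fin n) ℂ := ((u⁻¹ : (Matrix (Fin n) (Fin n) ℂ)ˣ) : Matrix (Fin n) (Fin n) ℂ) with hQ
  have hQP : Q * P = 1 := by rw [hQ, ← hu]; exact Units.inv_mul u
  have hPQ : P * Q = 1 := by rw [hQ, ← hu]; exact Units.mul_inv u
  -- the conjugated matrices
  let R : G → Matrix (Fin n) (Fin n) ℂ := fun g => Q * matOf ρ g * P
  have hR_mul : ∀ g h, R (g * h) = R g * R h := by
    intro g h
    simp only [R, matOf_mul]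
    calc Q * (matOf ρ g * matOf ρ h) * P = Q * matOf ρ g * 1 * matOf ρ h * P := by
          simp only [Matrix.mul_one, Matrix.mul_assoc]
      _ = Q * matOf ρ g * P * (Q * matOf ρ h * P) := by
          rw [← hPQ]; simp only [Matrix.mul_assoc]
  have hR_one : R 1 = 1 := by
    simp only [R, matOf_one, Matrix.mul_one, hQP]
  have hPR : ∀ g, P * R g = matOf ρ g * P := by
    intro g
    simp only [R]
    rw [← Matrix.mul_assoc, ← Matrix.mul_assoc, hPQ, Matrix.one_mul]
  have hR_real : ∀ g, cj (R g) = R g := by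
    intro g
    -- conj (X g) * conj A = conj A * X g
    have h1 : cj (matOf ρ g) * cj A = cj A * matOf ρ g := by
      have := congrArg cj (hcomm g)
      rw [cj_mul, cj_mul, cj_cj] at this
      exact this
    -- conj of P * R g = X g * P
    have h2 : cj P * cj (R g) = cj (matOf ρ g) * cj P := by
      rw [← cj_mul, ← cj_mul, hPR]
    rw [hcjP, ← Matrix.mul_assoc, h1, Matrix.mul_assoc, Matrix.mul_assoc, ← hPR] at h2
    -- cancel conj A * P on the left
    have h3 : Q * A * (cj A * (P * cj (R g))) = Q * A * (cj A * (P * R g)) := by rw [h2]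
    simp only [Matrix.mul_assoc] at h3
    rw [← Matrix.mul_assoc A (cj A), hA, Matrix.one_mul, ← Matrix.mul_assoc Q P, hQP,
      Matrix.one_mul, ← Matrix.mul_assoc A (cj A), hA, Matrix.one_mul, ← Matrix.mul_assoc Q P, hQP,
      Matrix.one_mul] at h3
    exact h3
  let Rr : G → Matrix (Fin n) (Fin n) ℝ := fun g => (R g).map Complex.re
  have hRr : ∀ g, (Rr g).map Complex.ofReal = R g := fun g => map_ofReal_map_re_of_cj_eq (hR_real g)
  have hRr_mul : ∀ g h, Rr (g * h) = Rr g * Rr h := by
    intro g h
    apply map_ofReal_injective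
    show (Rr (g * h)).map Complex.ofReal = (Rr g * Rr h).map Complex.ofReal
    rw [hRr, hR_mul, ← hRr g, ← hRr h]
    exact (Matrix.map_mul (f := Complex.ofRealHom)).symm
  have hRr_one : Rr 1 = 1 := by
    apply map_ofReal_injective
    show (Rr 1).map Complex.ofReal = (1 : Matrix (Fin n) (Fin n) ℝ).map Complex.ofReal
    rw [hRr, hR_one]
    ext i j
    by_cases h : i = j <;> simp [Matrix.one_apply, h]
  refine ⟨{ toFun := fun g => Matrix.toLin' (Rr g)
            map_one' := by rw [hRr_one, Matrix.toLin'_one]; rfl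
            map_mul' := fun g h => by rw [hRr_mul, Matrix.toLin'_mul]; rfl }, ?_⟩
  intro g
  show ((LinearMap.trace ℝ (Fin n → ℝ) (Matrix.toLin' (Rr g)) : ℝ) : ℂ) = ρ.character g
  rw [Matrix.trace_toLin'_eq]
  have h1 : ((Rr g).trace : ℂ) = (R g).trace := by
    rw [← hRr g]
    simp [Matrix.trace]
  rw [h1, ← trace_matOf]
  simp only [R]
  rw [Matrix.trace_mul_comm, ← Matrix.mul_assoc, hPQ, Matrix.one_mul]

end Cfsg.Agent.Lib.Helper74
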