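import Cfsg.Agent.Lib.Helper74.Hilbert90
import Cfsg.Agent.Lib.Helper74.Unitary
import Cfsg.Agent.Lib.Helper74.RealForm

/-!
# From a symmetric invariant form to a semilinear structure (helper74)
-/

set_option autoImplicit false

namespace Cfsg.Agent.Lib.Helper74

open Matrix
open scoped ComplexConjugate ComplexOrder

variable {G : Type*} [Group G] {n : ℕ}

theorem cj_eq_transpose_of_isHermitian {H : Matrix (Fin n) (Fin n) ℂ} (hH : H.IsHermitian) :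
    cj H = Hᵀ := by
  have h1 : cj Hᵀ = H := hH
  have h2 := congrArg Matrix.transpose h1
  rw [← cj_transpose] at h2
  simpa using h2

/-- Positivity of the Schur scalar. -/
theorem pos_of_smul_posDef_eq {H K : Matrix (Fin n) (Fin n) ℂ} (hn : n ≠ 0) (hH : H.PosDef)
    (hK : K.PosDef) {c : ℂ} (h : c • H = K) : 0 < c.re ∧ c.im = 0 := by
  have : Nonempty (Fin n) := ⟨⟨0, Nat.pos_of_ne_zero hn⟩⟩
  have h1 : 0 < H.trace := hH.trace_pos
  have h2 : 0 < K.trace := hK.trace_pos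
  rw [← h, Matrix.trace_smul, smul_eq_mul] at h2
  rw [Complex.pos_iff] at h1 h2
  obtain ⟨h1r, h1i⟩ := h1
  obtain ⟨h2r, h2i⟩ := h2
  rw [Complex.mul_re, ← h1i] at h2r
  rw [Complex.mul_im, ← h1i] at h2i
  simp only [mul_zero, sub_zero, zero_add] at h2r h2i
  have hci : c.im = 0 := by
    rcases mul_eq_zero.mp h2i.symm with h | h
    · exact h
    · exact absurd h h1r.ne'
  refine ⟨?_, hci⟩
  by_contra hneg
  push Not at hneg
  have : c.re * H.trace.re ≤ 0 := mul_nonpos_of_nonpos_of_nonneg hneg h1r.le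
  linarith

/-- From a nonzero symmetric invariant bilinear form of an irreducible complex matrix
representation to a semilinear structure: a matrix `A` with `A * conj A = 1` and
`X g * A = A * conj (X g)`. -/
theorem exists_semilinear_of_symm_form [Fintype G] (ρ : Representation ℂ G (Fin n → ℂ))
    [ρ.IsIrreducible] {M : Matrix (Fin n) (Fin n) ℂ} (hM : IsInvForm ρ M) (h0 : M ≠ 0)
    (hsym : Mᵀ = M) :
    ∃ A : Matrix (Fin n) (Fin n) ℂ, A * cj A = 1 ∧ ∀ g, matOf ρ g * A = A * cj (matOf ρ g) := by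
  have hn : n ≠ 0 := ne_zero_of_irreducible ρ
  obtain ⟨H, hHdef⟩ : ∃ H, H = hermForm ρ := ⟨_, rfl⟩
  have hHpd : H.PosDef := hHdef ▸ hermForm_posDef ρ
  have hHdet : IsUnit H.det := (Matrix.isUnit_iff_isUnit_det H).mp hHpd.isUnit
  obtain ⟨Hi, hHi⟩ : ∃ Hi, Hi = H⁻¹ := ⟨_, rfl⟩
  have hHHi : H * Hi = 1 := hHi ▸ Matrix.mul_nonsing_inv H hHdet
  have hHiH : Hi * H = 1 := hHi ▸ Matrix.nonsing_inv_mul H hHdet
  obtain ⟨A₀, hA₀⟩ : ∃ A₀, A₀ = Hi * cj M := ⟨_, rfl⟩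
  -- (1) X g * H⁻¹ = H⁻¹ * (X g⁻¹)ᴴ
  have h1 : ∀ g, matOf ρ g * Hi = Hi * (matOf ρ g⁻¹)ᴴ := by
    intro g
    have h := conjTranspose_mul_hermForm ρ g⁻¹
    rw [inv_inv, ← hHdef] at h
    calc matOf ρ g * Hi = Hi * (H * matOf ρ g) * Hi := by
          rw [← Matrix.mul_assoc, hHiH, Matrix.one_mul]
      _ = Hi * ((matOf ρ g⁻¹)ᴴ * H) * Hi := by rw [h]
      _ = Hi * (matOf ρ g⁻¹)ᴴ := by
          rw [Matrix.mul_assoc, Matrix.mul_assoc, hHHi, Matrix.mul_one]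
  -- (2) conj M * conj (X g) = (X g⁻¹)ᴴ * conj M
  have h2 : ∀ g, cj M * cj (matOf ρ g) = (matOf ρ g⁻¹)ᴴ * cj M := by
    intro g
    have h := congrArg cj (hM.mul_matOf g)
    rw [cj_mul, cj_mul] at h
    exact h
  -- (3) semilinearity of A₀
  have h3 : ∀ g, matOf ρ g * A₀ = A₀ * cj (matOf ρ g) := by
    intro g
    rw [hA₀, ← Matrix.mul_assoc, h1, Matrix.mul_assoc, ← h2, Matrix.mul_assoc]
  have h3' : ∀ g, cj (matOf ρ g) * cj A₀ = cj A₀ * matOf ρ g := by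
    intro g
    have h := congrArg cj (h3 g)
    rw [cj_mul, cj_mul, cj_cj] at h
    exact h
  -- (4) A₀ * conj A₀ is a scalar
  have h4 : ∀ g, matOf ρ g * (A₀ * cj A₀) = (A₀ * cj A₀) * matOf ρ g := by
    intro g
    rw [← Matrix.mul_assoc, h3, Matrix.mul_assoc, h3', Matrix.mul_assoc]
  obtain ⟨c, hc⟩ := schur_scalar ρ (A₀ * cj A₀) h4
  -- (5) c is a positive real
  have hMu : IsUnit M := hM.isUnit h0
  have hcjM : cj M = Mᴴ := by
    rw [conjTranspose_eq_cj_transpose, hsym]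
  have hcjHi : cj Hi = (Hᵀ)⁻¹ := by
    have hh : Hᵀ * cj Hi = 1 := by
      rw [← cj_eq_transpose_of_isHermitian hHpd.isHermitian, ← cj_mul, hHHi, cj_one]
    exact (Matrix.inv_eq_right_inv hh).symm
  have hK : (Mᴴ * (Hᵀ)⁻¹ * M).PosDef := by
    apply Matrix.PosDef.conjTranspose_mul_mul_same hHpd.transpose.inv
    exact (Matrix.mulVec_injective_iff_isUnit).mpr hMu
  have hcH : c • H = Mᴴ * (Hᵀ)⁻¹ * M := by
    have : H * (A₀ * cj A₀) = Mᴴ * (Hᵀ)⁻¹ * M := by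
      rw [hA₀, cj_mul, cj_cj, hcjHi, hcjM]
      rw [← Matrix.mul_assoc, ← Matrix.mul_assoc, ← Matrix.mul_assoc, hHHi, Matrix.one_mul]
    rw [← this, hc, Matrix.mul_smul, Matrix.mul_one]
  obtain ⟨hcre, hcim⟩ := pos_of_smul_posDef_eq hn hHpd hK hcH
  -- (6) rescale
  obtain ⟨s, hs⟩ : ∃ s : ℝ, s = Real.sqrt c.re := ⟨_, rfl⟩
  have hspos : 0 < s := hs ▸ Real.sqrt_pos.mpr hcre
  have hss : ((s : ℂ)⁻¹) * ((s : ℂ)⁻¹) * c = 1 := by
    have hc' : c = ((s * s : ℝ) : ℂ) := by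
      rw [hs, Real.mul_self_sqrt hcre.le]
      apply Complex.ext <;> simp [hcim]
    rw [hc']
    push_cast
    have : (s : ℂ) ≠ 0 := by exact_mod_cast hspos.ne'
    field_simp
  refine ⟨(s : ℂ)⁻¹ • A₀, ?_, ?_⟩
  · rw [cj_smul, Matrix.smul_mul, Matrix.mul_smul, smul_smul, hc, smul_smul]
    have : conj ((s : ℂ)⁻¹) = (s : ℂ)⁻¹ := by
      rw [map_inv₀, Complex.conj_ofReal]
    rw [this, hss, one_smul]
  · intro g
    rw [Matrix.mul_smul, Matrix.smul_mul, h3]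

end Cfsg.Agent.Lib.Helper74
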