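import Cfsg.Agent.Lib.Helper74.FSInd
import Cfsg.Agent.Lib.Helper74.SemiLinear
import Cfsg.Agent.Lib.Helper74.RealRep
import Cfsg.Agent.Lib.Helper74.EquivOfChar

/-!
# Frobenius–Schur: `ν = 1` iff realizable over `ℝ` (helper74)
-/

set_option autoImplicit false

namespace Cfsg.Agent.Lib.Helper74

open Matrix
open scoped ComplexConjugate

variable {G : Type*} [Group G] {n : ℕ}

/-- `ν = 1` implies the representation is realizable over `ℝ`. -/
theorem exists_real_rep_of_fsInd_eq_one [Fintype G] (ρ : Representation ℂ G (Fin n → ℂ))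
    [ρ.IsIrreducible] (h : fsInd ρ = 1) :
    ∃ ρr : Representation ℝ G (Fin n → ℝ),
      ∀ g, ((LinearMap.trace ℝ (Fin n → ℝ) (ρr g) : ℝ) : ℂ) = ρ.character g := by
  obtain ⟨M, h0, hM, hsym⟩ := (fsInd_eq_one_iff ρ).mp h
  obtain ⟨A, hA1, hA2⟩ := exists_semilinear_of_symm_form ρ hM h0 hsym
  exact exists_real_rep_of_semilinear ρ A hA1 hA2

/-- The complexification of a real matrix representation. -/
noncomputable def complexify {m : ℕ} (ρr : Representation ℝ G (Fin m → ℝ)) :
    Representation ℂ G (Fin m → ℂ) where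
  toFun g := Matrix.toLin' ((matOf ρr g).map Complex.ofReal)
  map_one' := by
    rw [matOf_one]
    have : (1 : Matrix (Fin m) (Fin m) ℝ).map Complex.ofReal = 1 := by
      ext i j
      by_cases h : i = j <;> simp [Matrix.one_apply, h]
    rw [this, Matrix.toLin'_one]; rfl
  map_mul' g h := by
    rw [matOf_mul]
    have : (matOf ρr g * matOf ρr h).map Complex.ofReal
        = (matOf ρr g).map Complex.ofReal * (matOf ρr h).map Complex.ofReal :=
      Matrix.map_mul (f := Complex.ofRealHom)
    rw [this, Matrix.toLin'_mul]; rfl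

theorem matOf_complexify {m : ℕ} (ρr : Representation ℝ G (Fin m → ℝ)) (g : G) :
    matOf (complexify ρr) g = (matOf ρr g).map Complex.ofReal := by
  simp [matOf, complexify]

theorem complexify_character {m : ℕ} (ρr : Representation ℝ G (Fin m → ℝ)) (g : G) :
    (complexify ρr).character g = ((LinearMap.trace ℝ (Fin m → ℝ) (ρr g) : ℝ) : ℂ) := by
  rw [← trace_matOf, matOf_complexify]
  have : LinearMap.trace ℝ (Fin m → ℝ) (ρr g) = (matOf ρr g).trace := by
    rw [trace_matOf]; rfl
  rw [this]
  simp [Matrix.trace]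

/-- The averaged Euclidean form `∑ g, (R g)ᵀ * R g` of a real matrix representation. -/
noncomputable def euclForm [Fintype G] {m : ℕ} (ρr : Representation ℝ G (Fin m → ℝ)) :
    Matrix (Fin m) (Fin m) ℝ :=
  ∑ g, (matOf ρr g)ᵀ * matOf ρr g

theorem euclForm_invariant [Fintype G] {m : ℕ} (ρr : Representation ℝ G (Fin m → ℝ)) (h : G) :
    (matOf ρr h)ᵀ * euclForm ρr * matOf ρr h = euclForm ρr := by
  unfold euclForm
  rw [Matrix.mul_sum, Matrix.sum_mul]
  refine Fintype.sum_equiv (Equiv.mulRight h) _ _ (fun g => ?_)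
  simp [matOf_mul, Matrix.transpose_mul, Matrix.mul_assoc]

theorem euclForm_transpose [Fintype G] {m : ℕ} (ρr : Representation ℝ G (Fin m → ℝ)) :
    (euclForm ρr)ᵀ = euclForm ρr := by
  unfold euclForm
  rw [Matrix.transpose_sum]
  refine Finset.sum_congr rfl (fun g _ => ?_)
  rw [Matrix.transpose_mul, Matrix.transpose_transpose]

theorem euclForm_apply_self_pos [Fintype G] {m : ℕ} (ρr : Representation ℝ G (Fin m → ℝ))
    (i : Fin m) : 0 < euclForm ρr i i := by
  unfold euclForm
  rw [Matrix.sum_apply]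
  apply Finset.sum_pos'
  · intro g _
    rw [Matrix.mul_apply]
    apply Finset.sum_nonneg
    intro k _
    rw [Matrix.transpose_apply]
    exact mul_self_nonneg _
  · refine ⟨1, Finset.mem_univ _, ?_⟩
    rw [matOf_one]
    simp

/-- If a real representation has the character of an irreducible complex matrix representation
`ρ`, then `ν(ρ) = 1`. -/
theorem fsInd_eq_one_of_real_rep [Fintype G] (ρ : Representation ℂ G (Fin n → ℂ))
    [ρ.IsIrreducible] {m : ℕ} (ρr : Representation ℝ G (Fin m → ℝ))
    (h : ∀ g, ((LinearMap.trace ℝ (Fin m → ℝ) (ρr g) : ℝ) : ℂ) = ρ.character g) :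
    fsInd ρ = 1 := by
  have hchar : (complexify ρr).character = ρ.character := by
    funext g
    rw [complexify_character, h]
  obtain ⟨φ⟩ := equiv_of_character_eq ρ (complexify ρr) hchar
  have hirr : (complexify ρr).IsIrreducible := isIrreducible_of_equiv φ
  have hν : fsInd ρ = fsInd (complexify ρr) := by
    rw [fsInd_eq_sum_character, fsInd_eq_sum_character, hchar]
  rw [hν, fsInd_eq_one_iff]
  have hm : m ≠ 0 := ne_zero_of_irreducible (complexify ρr)
  refine ⟨(euclForm ρr).map Complex.ofReal, ?_, ?_, ?_⟩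
  · intro h0
    have h1 := congrFun (congrFun h0 ⟨0, Nat.pos_of_ne_zero hm⟩) ⟨0, Nat.pos_of_ne_zero hm⟩
    simp only [Matrix.map_apply, Matrix.zero_apply, Complex.ofReal_eq_zero] at h1
    exact (euclForm_apply_self_pos ρr _).ne' h1
  · intro g
    rw [matOf_complexify]
    have h1 : ((matOf ρr g)ᵀ * euclForm ρr * matOf ρr g).map Complex.ofReal
        = (euclForm ρr).map Complex.ofReal := by rw [euclForm_invariant]
    have h2 : ((matOf ρr g)ᵀ * euclForm ρr * matOf ρr g).map Complex.ofReal
        = ((matOf ρr g).map Complex.ofReal)ᵀ * (euclForm ρr).map Complex.ofReal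
          * (matOf ρr g).map Complex.ofReal := by
      have e1 := Matrix.map_mul (f := Complex.ofRealHom) (L := (matOf ρr g)ᵀ * euclForm ρr)
        (M := matOf ρr g)
      have e2 := Matrix.map_mul (f := Complex.ofRealHom) (L := (matOf ρr g)ᵀ)
        (M := euclForm ρr)
      rw [e2] at e1
      exact e1
    rw [← h2, h1]
  · rw [← Matrix.transpose_map, euclForm_transpose]

end Cfsg.Agent.Lib.Helper74
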