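import Mathlib
import Cfsg.Agent.S0035
import Cfsg.Agent.S0589
import Cfsg.Agent.Lib.Helper35.Frobenius

set_option autoImplicit false

namespace Cfsg.Agent.Lib.Helper74

open Cfsg
open scoped Pointwise

universe u

section InvAb

variable {G : Type u} [Group G]

/-- the index of a Frobenius complement (= order of the kernel) is coprime to its order -/
theorem coprime_index_card_of_frobenius [Finite G] (H : Subgroup G)
    (hH : IsFrobeniusComplement H) : Nat.Coprime H.index (Nat.card H) := by
  have h := (Cfsg.Agent.S0034.result H hH).2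
  -- index ≡ 1 mod |H|
  have h' : H.index ≡ 1 [MOD Nat.card H] := h
  have := h'.gcd_eq
  rw [Nat.Coprime, this]
  simp

/-- In a Frobenius group, a kernel element commuting with a nonidentity complement element
is trivial. -/
theorem eq_one_of_commute_of_frobenius (H : Subgroup G) (hH : IsFrobeniusComplement H)
    {w h : G} (hw : w ∈ frobeniusKernel H) (hh : h ∈ H) (h1 : h ≠ 1) (hc : w * h = h * w) :
    w = 1 := by
  rcases hw with rfl | hw
  · rfl
  · exfalso
    have hwH : w ∉ H := by
      intro hwH
      apply hw 1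
      rw [map_one, one_smul]
      exact hwH
    have hbot := hH.2.2 w hwH
    have hmem : h ∈ H ⊓ MulAut.conj w • H := by
      refine Subgroup.mem_inf.mpr ⟨hh, ?_⟩
      rw [Cfsg.Agent.S0034.mem_conj_smul_iff]
      have : w⁻¹ * h * w = h := by
        rw [mul_assoc, ← hc, ← mul_assoc, inv_mul_cancel, one_mul]
      rw [this]
      exact hh
    rw [hbot, Subgroup.mem_bot] at hmem
    exact h1 hmem

/-- the centre of a subgroup, as a subgroup of the ambient group -/
def centerOf (K : Subgroup G) : Subgroup G := K ⊓ Subgroup.centralizer (K : Set G)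

theorem centerOf_le (K : Subgroup G) : centerOf K ≤ K := inf_le_left

theorem centerOf_comm (K : Subgroup G) {a b : G} (ha : a ∈ centerOf K) (hb : b ∈ centerOf K) :
    a * b = b * a := by
  have h1 := Subgroup.mem_centralizer_iff.mp ha.2 b hb.1
  exact h1.symm

theorem conj_mem_centerOf (K : Subgroup G) {g : G} (hg : g ∈ Subgroup.normalizer (K : Set G))
    {w : G} (hw : w ∈ centerOf K) : g * w * g⁻¹ ∈ centerOf K := by
  have hw1 : w ∈ K := hw.1
  have hw2 : w ∈ Subgroup.centralizer (K : Set G) := hw.2
  refine Subgroup.mem_inf.mpr ⟨(Subgroup.mem_normalizer_iff.mp hg w).mp hw1, ?_⟩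
  rw [Subgroup.mem_centralizer_iff]
  intro k hk
  -- k' = g⁻¹ k g ∈ K
  have hk' : g⁻¹ * k * g ∈ K := by
    have := (Subgroup.mem_normalizer_iff.mp (Subgroup.inv_mem _ hg) k).mp hk
    simpa using this
  have hc := Subgroup.mem_centralizer_iff.mp hw2 _ hk'
  -- hc : g⁻¹ k g * w = w * g⁻¹ k g
  calc k * (g * w * g⁻¹) = g * ((g⁻¹ * k * g) * w) * g⁻¹ := by group
    _ = g * (w * (g⁻¹ * k * g)) * g⁻¹ := by rw [hc]
    _ = g * w * g⁻¹ * k := by group

theorem normalizer_le_normalizer_centerOf (K : Subgroup G) :
    Subgroup.normalizer (K : Set G) ≤ Subgroup.normalizer (centerOf K : Set G) := by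
  intro g hg
  rw [Subgroup.mem_normalizer_iff]
  intro w
  constructor
  · intro hw
    exact conj_mem_centerOf K hg hw
  · intro hw
    have := conj_mem_centerOf K (Subgroup.inv_mem _ hg) hw
    have e : g⁻¹ * (g * w * g⁻¹) * g⁻¹⁻¹ = w := by group
    rwa [e] at this

end InvAb

end Cfsg.Agent.Lib.Helper74
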