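import Mathlib
import Cfsg.Agent.Lib.Helper74.FrobGroup

set_option autoImplicit false

namespace Cfsg.Agent.Lib.Helper74

universe u

section ClassCount

variable {G : Type u} [Group G]

/-- number of elements commuting with `a` -/
noncomputable def nComm (a : G) : ℕ := Nat.card {b : G // Commute a b}

theorem nComm_one [Finite G] : nComm (1 : G) = Nat.card G := by
  unfold nComm
  exact Nat.card_congr ⟨fun b => b.1, fun b => ⟨b, Commute.one_left b⟩, fun _ => rfl, fun _ => rfl⟩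

theorem nComm_conj (a x : G) : nComm (x⁻¹ * a * x) = nComm a := by
  unfold nComm
  refine Nat.card_congr ⟨fun b => ⟨x * b.1 * x⁻¹, ?_⟩, fun b => ⟨x⁻¹ * b.1 * x, ?_⟩, ?_, ?_⟩
  · have hb : (x⁻¹ * a * x) * b.1 = b.1 * (x⁻¹ * a * x) := b.2
    show a * (x * b.1 * x⁻¹) = (x * b.1 * x⁻¹) * a
    have := congrArg (fun t => x * t * x⁻¹) hb
    have e1 : x * (x⁻¹ * a * x * b.1) * x⁻¹ = a * (x * b.1 * x⁻¹) := by group
    have e2 : x * (b.1 * (x⁻¹ * a * x)) * x⁻¹ = (x * b.1 * x⁻¹) * a := by group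
    rw [e1, e2] at this
    exact this
  · have hb : a * b.1 = b.1 * a := b.2
    show (x⁻¹ * a * x) * (x⁻¹ * b.1 * x) = (x⁻¹ * b.1 * x) * (x⁻¹ * a * x)
    have e1 : (x⁻¹ * a * x) * (x⁻¹ * b.1 * x) = x⁻¹ * (a * b.1) * x := by group
    have e2 : (x⁻¹ * b.1 * x) * (x⁻¹ * a * x) = x⁻¹ * (b.1 * a) * x := by group
    rw [e1, e2, hb]
  · intro b
    apply Subtype.ext
    show x⁻¹ * (x * b.1 * x⁻¹) * x = b.1
    group
  · intro b
    apply Subtype.ext
    show x * (x⁻¹ * b.1 * x) * x⁻¹ = b.1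
    group

theorem nComm_subgroup (A : Subgroup G) (a : A) (h : ∀ b : G, Commute (a : G) b → b ∈ A) :
    nComm (a : G) = nComm a := by
  unfold nComm
  refine Nat.card_congr ⟨fun b => ⟨⟨b.1, h b.1 b.2⟩, ?_⟩, fun b => ⟨b.1, ?_⟩, ?_, ?_⟩
  · apply Subtype.ext
    exact b.2
  · have := congrArg Subtype.val b.2
    exact this
  · intro b; rfl
  · intro b; rfl

theorem card_comm_eq_sum [Fintype G] :
    Nat.card {p : G × G // Commute p.1 p.2} = ∑ a : G, nComm a := by
  have e : {p : G × G // Commute p.1 p.2} ≃ Σ a : G, {b : G // Commute a b} :=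
    { toFun := fun p => ⟨p.1.1, ⟨p.1.2, p.2⟩⟩
      invFun := fun q => ⟨(q.1, q.2.1), q.2.2⟩
      left_inv := fun p => rfl
      right_inv := fun q => rfl }
  rw [Nat.card_congr e, Nat.card_sigma]
  rfl

theorem card_mul_conjClasses_eq_sum [Fintype G] :
    Nat.card (ConjClasses G) * Nat.card G = ∑ a : G, nComm a := by
  rw [← card_comm_eq_card_conjClasses_mul_card, card_comm_eq_sum]

end ClassCount

end Cfsg.Agent.Lib.Helper74
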