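import Mathlib
import Cfsg.Agent.Lib.Helper74.NComm

set_option autoImplicit false

namespace Cfsg.Agent.Lib.Helper74

universe u

section FrobClassCount

variable {G : Type u} [Group G] [Finite G] (K H : Subgroup G) [hK : K.Normal]

omit [Finite G] in
/-- In a Frobenius group `G = K ⋊ H` the centralizer of a nonidentity element of the complement
lies in the complement. -/
theorem mem_of_commute_of_fpf (hKH : K ⊓ H = ⊥) (hKH' : K ⊔ H = ⊤)
    (hfpf : ∀ h ∈ H, h ≠ 1 → ∀ k ∈ K, h * k = k * h → k = 1)
    {h : G} (hh : h ∈ H) (h1 : h ≠ 1) {g : G} (hg : Commute h g) : g ∈ H := by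
  have hgtop : g ∈ K ⊔ H := by rw [hKH']; exact Subgroup.mem_top g
  obtain ⟨k, hk, h', hh', rfl⟩ := Subgroup.mem_sup_of_normal_left.mp hgtop
  have hc : h * (k * h') = (k * h') * h := hg
  -- `u = (h k h⁻¹)⁻¹ k = h h' h⁻¹ h'⁻¹` lies in `K ⊓ H`
  have hu : (h * k * h⁻¹)⁻¹ * k = h * h' * h⁻¹ * h'⁻¹ := by
    have e1 : (h * k * h⁻¹)⁻¹ * k = (h * k * h⁻¹)⁻¹ * ((k * h') * h) * h⁻¹ * h'⁻¹ := by group
    rw [e1, ← hc]
    group
  have huK : (h * k * h⁻¹)⁻¹ * k ∈ K := K.mul_mem (K.inv_mem (hK.conj_mem k hk h)) hk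
  have huH : (h * k * h⁻¹)⁻¹ * k ∈ H := by
    rw [hu]
    exact H.mul_mem (H.mul_mem (H.mul_mem hh hh') (H.inv_mem hh)) (H.inv_mem hh')
  have hbot : (h * k * h⁻¹)⁻¹ * k ∈ K ⊓ H := ⟨huK, huH⟩
  rw [hKH, Subgroup.mem_bot] at hbot
  have hk' : h * k = k * h := by
    have : k = h * k * h⁻¹ := by
      have := inv_mul_eq_one.mp hbot
      exact this.symm
    calc h * k = (h * k * h⁻¹) * h := by group
      _ = k * h := by rw [← this]
  have := hfpf h hh h1 k hk hk'
  subst this
  simpa using hh'

/-- the class number formula of a Frobenius group -/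
theorem frobenius_class_count (hKH : K ⊓ H = ⊥) (hKH' : K ⊔ H = ⊤)
    (hfpf : ∀ h ∈ H, h ≠ 1 → ∀ k ∈ K, h * k = k * h → k = 1) :
    Nat.card H * Nat.card (ConjClasses G) + 1 =
      Nat.card H * Nat.card (ConjClasses H) + Nat.card (ConjClasses K) := by
  classical
  have : Fintype G := Fintype.ofFinite G
  have hcompl : Subgroup.IsComplement' K H := by
    apply Subgroup.isComplement'_of_disjoint_and_mul_eq_univ (disjoint_iff.mpr hKH)
    rw [← Subgroup.normal_mul, hKH']
    rfl
  let e : K × H ≃ G := Equiv.ofBijective _ hcompl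
  have he : ∀ p : K × H, e p = (p.1 : G) * (p.2 : G) := fun _ => rfl
  have hGcard : Nat.card G = Nat.card K * Nat.card H := by
    rw [← Nat.card_prod]; exact (Nat.card_congr e).symm
  -- pointwise facts
  have hP1 : ∀ k : K, nComm (k : G) + (if k = 1 then Nat.card K else 0)
      = nComm k + (if k = 1 then Nat.card G else 0) := by
    intro k
    by_cases hk : k = 1
    · subst hk
      rw [if_pos rfl, if_pos rfl, Subgroup.coe_one, nComm_one, nComm_one]
      ring
    · rw [if_neg hk, if_neg hk, add_zero, add_zero]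
      apply nComm_subgroup K k
      intro b hb
      have hk1 : (k : G) ≠ 1 := fun h => hk (Subtype.ext h)
      apply centralizer_le_of_fpf K H hKH' hfpf k.2 hk1
      rw [Subgroup.mem_centralizer_singleton_iff]
      exact hb.eq.symm
  have hP2 : ∀ (h : H) (k : K), h ≠ 1 → nComm ((k : G) * (h : G)) = nComm h := by
    intro h k hh1
    have hh1' : (h : G) ≠ 1 := fun h' => hh1 (Subtype.ext h')
    obtain ⟨x, _, hx⟩ := exists_conj_eq_mul_of_fpf K H hfpf h.2 hh1' k.2
    rw [hx, nComm_conj]
    apply nComm_subgroup H h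
    intro b hb
    exact mem_of_commute_of_fpf K H hKH hKH' hfpf h.2 hh1' hb
  -- sum over `K`
  have hsumK : ∑ k : K, nComm (k : G) + Nat.card K
      = Nat.card (ConjClasses K) * Nat.card K + Nat.card G := by
    have := Finset.sum_congr (s₁ := (Finset.univ : Finset K)) rfl (fun k _ => hP1 k)
    rw [Finset.sum_add_distrib, Finset.sum_add_distrib, Finset.sum_ite_eq' , Finset.sum_ite_eq',
      if_pos (Finset.mem_univ _), if_pos (Finset.mem_univ _)] at this
    rw [this, card_mul_conjClasses_eq_sum]
  -- per `h`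
  have hPh : ∀ h : H, ∑ k : K, nComm ((k : G) * (h : G)) + (if h = 1 then Nat.card K else 0)
      = Nat.card K * nComm h
        + (if h = 1 then Nat.card (ConjClasses K) * Nat.card K else 0) := by
    intro h
    by_cases hh : h = 1
    · subst hh
      rw [if_pos rfl, if_pos rfl, nComm_one]
      simp only [Subgroup.coe_one, mul_one]
      rw [hsumK, hGcard]
      ring
    · rw [if_neg hh, if_neg hh, add_zero, add_zero]
      rw [Finset.sum_congr rfl (fun k _ => hP2 h k hh), Finset.sum_const, Finset.card_univ,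
        smul_eq_mul, Nat.card_eq_fintype_card]
  -- total
  have htotal : Nat.card (ConjClasses G) * Nat.card G + Nat.card K
      = Nat.card K * (Nat.card (ConjClasses H) * Nat.card H)
        + Nat.card (ConjClasses K) * Nat.card K := by
    rw [card_mul_conjClasses_eq_sum, card_mul_conjClasses_eq_sum (G := H)]
    rw [← e.sum_comp, Fintype.sum_prod_type_right]
    simp only [he]
    have := Finset.sum_congr (s₁ := (Finset.univ : Finset H)) rfl (fun h _ => hPh h)
    rw [Finset.sum_add_distrib, Finset.sum_add_distrib, Finset.sum_ite_eq', Finset.sum_ite_eq',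
      if_pos (Finset.mem_univ _), if_pos (Finset.mem_univ _), ← Finset.mul_sum] at this
    exact this
  have hKpos : 0 < Nat.card K := Nat.card_pos
  rw [hGcard] at htotal
  have : Nat.card K * (Nat.card H * Nat.card (ConjClasses G) + 1)
      = Nat.card K * (Nat.card H * Nat.card (ConjClasses H) + Nat.card (ConjClasses K)) := by
    calc Nat.card K * (Nat.card H * Nat.card (ConjClasses G) + 1)
        = Nat.card (ConjClasses G) * (Nat.card K * Nat.card H) + Nat.card K := by ring
      _ = Nat.card K * (Nat.card (ConjClasses H) * Nat.card H)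
        + Nat.card (ConjClasses K) * Nat.card K := htotal
      _ = _ := by ring
  exact Nat.eq_of_mul_eq_mul_left hKpos this

end FrobClassCount

end Cfsg.Agent.Lib.Helper74
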