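import Mathlib
import Cfsg.Agent.Lib.Helper74.FrobAux

set_option autoImplicit false

namespace Cfsg.Agent.Lib.Helper74

open Cfsg
open scoped Pointwise

universe u

section InvAb2

variable {G : Type u} [Group G] [Finite G]

/-- A Frobenius complement `H` normalizes some nontrivial abelian subgroup of its kernel. -/
theorem exists_invariant_abelian_of_frobenius (H : Subgroup G) (hH : IsFrobeniusComplement H)
    (N : Subgroup G) (hN : (N : Set G) = frobeniusKernel H) [hNn : N.Normal]
    (hc : Subgroup.IsComplement' N H) :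
    ∃ W : Subgroup G, W ≤ N ∧ W ≠ ⊥ ∧ (∀ a ∈ W, ∀ b ∈ W, a * b = b * a) ∧
      H ≤ Subgroup.normalizer (W : Set G) := by
  classical
  have hNcard : Nat.card N = H.index := by
    have := Cfsg.Agent.S0034.card_kernel H hH
    rw [← this, ← hN]
    rfl
  have hNidx : N.index = Nat.card H := hc.symm.index_eq_card
  have hcop : Nat.Coprime (Nat.card N) (Nat.card H) := by
    rw [hNcard]; exact coprime_index_card_of_frobenius H hH
  have hN1 : 1 < Nat.card N := by
    rw [hNcard]; exact Subgroup.one_lt_index_of_ne_top hH.2.1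
  -- a prime `r` dividing `|N|` and a Sylow `r`-subgroup of `N`
  obtain ⟨r, hr, hrdvd⟩ := Nat.exists_prime_and_dvd (Nat.ne_of_gt hN1)
  have : Fact r.Prime := ⟨hr⟩
  obtain ⟨R⟩ : Nonempty (Sylow r N) := inferInstance
  have hRne : (R : Subgroup N) ≠ ⊥ := R.ne_bot_of_dvd_card hrdvd
  set R' : Subgroup G := (R : Subgroup N).map N.subtype with hR'
  have hR'N : R' ≤ N := by
    rintro _ ⟨x, _, rfl⟩
    exact x.2
  have hfrat : Subgroup.normalizer (R' : Set G) ⊔ N = ⊤ := Sylow.normalizer_sup_eq_top R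
  set L : Subgroup G := Subgroup.normalizer (R' : Set G) with hL
  -- Schur–Zassenhaus in `L`
  have hNLidx : (N.subgroupOf L).index = Nat.card H := by
    rw [← Subgroup.relIndex, ← Subgroup.relIndex_sup_right, hfrat, Subgroup.relIndex_top_right, hNidx]
  have hNLcard : Nat.card (N.subgroupOf L) ∣ Nat.card N := by
    rw [← Subgroup.inf_subgroupOf_right,
      Nat.card_congr (Subgroup.subgroupOfEquivOfLe (inf_le_right : N ⊓ L ≤ L)).toEquiv]
    exact Subgroup.card_dvd_of_le inf_le_left
  have hcopL : Nat.Coprime (Nat.card (N.subgroupOf L)) (N.subgroupOf L).index := by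
    rw [hNLidx]
    exact Nat.Coprime.coprime_dvd_left hNLcard hcop
  obtain ⟨C, hC⟩ := Subgroup.exists_right_complement'_of_coprime hcopL
  have hCcard : Nat.card C = Nat.card H := by
    rw [← hNLidx]; exact hC.symm.index_eq_card.symm
  set C' : Subgroup G := C.map L.subtype with hC'
  have hC'card : Nat.card C' = Nat.card H := by
    rw [← hCcard]
    exact Subgroup.card_map_of_injective L.subtype_injective
  have hC'L : C' ≤ L := by
    rintro _ ⟨x, _, rfl⟩
    exact x.2
  -- conjugate `C'` into `H`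
  obtain ⟨x, hx⟩ := Cfsg.Agent.S0589.result H hH C' (by rw [hC'card])
  have hxeq : C' = MulAut.conj x • H := by
    apply Subgroup.eq_of_le_of_card_ge hx
    rw [hC'card, ← Nat.card_congr (Subgroup.equivSMul (MulAut.conj x) H).toEquiv]
  -- the conjugate Sylow subgroup normalized by `H`
  set R'' : Subgroup G := MulAut.conj x⁻¹ • R' with hR''
  have hmemR'' : ∀ y : G, y ∈ R'' ↔ x * y * x⁻¹ ∈ R' := by
    intro y
    rw [hR'', Cfsg.Agent.S0034.mem_conj_smul_iff, inv_inv]
  have hHnorm : H ≤ Subgroup.normalizer (R'' : Set G) := by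
    intro h hh
    have hg : x * h * x⁻¹ ∈ L := by
      apply hC'L
      rw [hxeq, Cfsg.Agent.S0034.mem_conj_smul_iff]
      have : x⁻¹ * (x * h * x⁻¹) * x = h := by group
      rw [this]
      exact hh
    rw [Subgroup.mem_normalizer_iff]
    intro y
    rw [hmemR'', hmemR'']
    have := (Subgroup.mem_normalizer_iff.mp hg) (x * y * x⁻¹)
    rw [this]
    have e : x * h * x⁻¹ * (x * y * x⁻¹) * (x * h * x⁻¹)⁻¹ = x * (h * y * h⁻¹) * x⁻¹ := by group
    rw [e]
  have hR''N : R'' ≤ N := by
    intro y hy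
    have h1 := hR'N ((hmemR'' y).mp hy)
    have h2 := hNn.conj_mem _ h1 x⁻¹
    have e : x⁻¹ * (x * y * x⁻¹) * x⁻¹⁻¹ = y := by group
    rwa [e] at h2
  -- `R''` is a nontrivial `r`-group
  let e1 : (R : Subgroup N) ≃* R' := (R : Subgroup N).equivMapOfInjective N.subtype N.subtype_injective
  let e2 : R' ≃* R'' := Subgroup.equivSMul (MulAut.conj x⁻¹) R'
  have hpg : IsPGroup r R'' := (R.2.of_equiv e1).of_equiv e2
  have hnt : Nontrivial R'' := by
    have h0 : Nontrivial (R : Subgroup N) := (Subgroup.nontrivial_iff_ne_bot _).mpr hRne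
    exact (e1.trans e2).toEquiv.symm.nontrivial
  have hcnt : Nontrivial (Subgroup.center R'') := hpg.center_nontrivial
  obtain ⟨z, hz⟩ := exists_ne (1 : Subgroup.center R'')
  have hzc : ∀ k : R'', k * z.1 = z.1 * k := fun k => (Subgroup.mem_center_iff.mp z.2 k)
  refine ⟨centerOf R'', (centerOf_le R'').trans hR''N, ?_, fun a ha b hb => centerOf_comm R'' ha hb,
    hHnorm.trans (normalizer_le_normalizer_centerOf R'')⟩
  intro hbot
  have hzmem : ((z.1 : R'') : G) ∈ centerOf R'' := by
    refine Subgroup.mem_inf.mpr ⟨z.1.2, ?_⟩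
    rw [Subgroup.mem_centralizer_iff]
    intro k hk
    exact congrArg Subtype.val (hzc ⟨k, hk⟩)
  rw [hbot, Subgroup.mem_bot] at hzmem
  apply hz
  apply Subtype.ext
  apply Subtype.ext
  exact hzmem

end InvAb2

end Cfsg.Agent.Lib.Helper74
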