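import Mathlib
import Cfsg.Agent.Lib.Helper74.FrobInvAb
import Cfsg.Agent.S0037

set_option autoImplicit false

namespace Cfsg.Agent.Lib.Helper74

open Cfsg
open scoped Pointwise

universe u

section Conj

variable {G : Type u} [Group G]

/-- the statement of S0666 for the group `G`, as a hypothesis -/
def S0666Hyp (G : Type u) [Group G] : Prop :=
  ∀ (V F : Subgroup G) (_ : IsMulCommutative V) (_ : V ≠ ⊥)
    (_ : F ≤ Subgroup.normalizer (V : Set G)) (H : Subgroup ↥F)
    (_ : Cfsg.IsFrobeniusComplement H)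
    (_ : (Nat.card V).Coprime (Nat.card (Cfsg.frobeniusKernel H)))
    (_ : V ⊓ Subgroup.centralizer (Subtype.val '' Cfsg.frobeniusKernel H : Set G) = ⊥),
    V ⊓ Subgroup.centralizer ((H.map F.subtype : Subgroup G) : Set G) ≠ ⊥

/-- conjugates of Frobenius complements are Frobenius complements -/
theorem isFrobeniusComplement_conj {H : Subgroup G} (hH : IsFrobeniusComplement H) (g : G) :
    IsFrobeniusComplement (MulAut.conj g • H) := by
  refine ⟨?_, ?_, ?_⟩
  · intro h
    apply hH.1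
    rw [eq_bot_iff]
    intro y hy
    have : g * y * g⁻¹ ∈ MulAut.conj g • H := by
      rw [Cfsg.Agent.S0034.mem_conj_smul_iff]
      have e : g⁻¹ * (g * y * g⁻¹) * g = y := by group
      rwa [e]
    rw [h, Subgroup.mem_bot] at this
    rw [Subgroup.mem_bot]
    have e : y = g⁻¹ * (g * y * g⁻¹) * g := by group
    rw [e, this]; group
  · intro h
    apply hH.2.1
    rw [eq_top_iff]
    intro y _
    have : g * y * g⁻¹ ∈ MulAut.conj g • H := by rw [h]; exact Subgroup.mem_top _
    rw [Cfsg.Agent.S0034.mem_conj_smul_iff] at this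
    have e : g⁻¹ * (g * y * g⁻¹) * g = y := by group
    rwa [e] at this
  · intro y hy
    have hy' : g⁻¹ * y * g ∉ H := fun h => hy (Cfsg.Agent.S0034.mem_conj_smul_iff.mpr h)
    have hbot := hH.2.2 _ hy'
    rw [eq_bot_iff]
    intro z hz
    rw [Subgroup.mem_inf] at hz
    obtain ⟨hz1, hz2⟩ := hz
    rw [Cfsg.Agent.S0034.mem_conj_smul_iff] at hz1 hz2
    rw [Cfsg.Agent.S0034.mem_conj_smul_iff] at hz2
    have hmem : g⁻¹ * z * g ∈ H ⊓ MulAut.conj (g⁻¹ * y * g) • H := by
      refine Subgroup.mem_inf.mpr ⟨hz1, ?_⟩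
      rw [Cfsg.Agent.S0034.mem_conj_smul_iff]
      have e : (g⁻¹ * y * g)⁻¹ * (g⁻¹ * z * g) * (g⁻¹ * y * g) = g⁻¹ * (y⁻¹ * z * y) * g := by group
      rw [e]
      exact hz2
    rw [hbot, Subgroup.mem_bot] at hmem
    rw [Subgroup.mem_bot]
    have e : z = g * (g⁻¹ * z * g) * g⁻¹ := by group
    rw [e, hmem]; group

end Conj

end Cfsg.Agent.Lib.Helper74
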