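import Mathlib
import Cfsg.Agent.Lib.Helper74.FrobConjAux

set_option autoImplicit false

namespace Cfsg.Agent.Lib.Helper74

open Cfsg
open scoped Pointwise

universe u

section Main

variable {G : Type u} [Group G] [Finite G]

/-- Nested Frobenius complements are equal (given the statement of S0666). -/
theorem eq_of_le_of_frobenius (hS : S0666Hyp G) {H H₁ : Subgroup G}
    (hH : IsFrobeniusComplement H) (hH₁ : IsFrobeniusComplement H₁) (hle : H₁ ≤ H) : H₁ = H := by
  classical
  by_contra hne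
  have hnle : ¬ H ≤ H₁ := fun h => hne (le_antisymm hle h)
  -- `H₁` is a Frobenius complement of the group `H`
  have hinf : H ⊓ MulAut.conj (1 : G) • H₁ = H₁ := by
    rw [map_one, one_smul]; exact inf_eq_right.mpr hle
  have hF : IsFrobeniusComplement (H₁.subgroupOf H) := by
    have := Cfsg.Agent.Lib.Helper35.isFrobeniusComplement_subgroupOf (L := H) hH₁ (1 : G)
      (by rw [hinf]; exact hH₁.1) (by rw [map_one, one_smul]; exact hnle)
    rwa [hinf] at this
  -- the kernel of `H` and an invariant abelian subgroup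
  obtain ⟨N, hN, hNn, hc⟩ := Cfsg.Agent.S0035.result H hH
  obtain ⟨W, hWN, hW1, hWab, hWnorm⟩ := exists_invariant_abelian_of_frobenius H hH N hN hc
  have hWker : ∀ w ∈ W, w ∈ frobeniusKernel H := fun w hw => by
    rw [← hN]; exact hWN hw
  have hNcard : Nat.card N = H.index := by
    have := Cfsg.Agent.S0034.card_kernel H hH
    rw [← this, ← hN]
    rfl
  have hcop : Nat.Coprime (Nat.card N) (Nat.card H) := by
    rw [hNcard]; exact coprime_index_card_of_frobenius H hH
  have hWabI : IsMulCommutative W := ⟨⟨fun a b => Subtype.ext (hWab a a.2 b b.2)⟩⟩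
  -- the kernel of `H₁` in `H`
  have hKcard : Nat.card (frobeniusKernel (H₁.subgroupOf H)) = (H₁.subgroupOf H).index :=
    Cfsg.Agent.S0034.card_kernel _ hF
  have hcop' : (Nat.card W).Coprime (Nat.card (frobeniusKernel (H₁.subgroupOf H))) := by
    rw [hKcard]
    exact Nat.Coprime.coprime_dvd_left (Subgroup.card_dvd_of_le hWN)
      (Nat.Coprime.coprime_dvd_right (Subgroup.index_dvd_card _) hcop)
  have hidx : 1 < (H₁.subgroupOf H).index := Subgroup.one_lt_index_of_ne_top hF.2.1
  obtain ⟨m, hmK, hm1⟩ : ∃ m : H, m ∈ frobeniusKernel (H₁.subgroupOf H) ∧ m ≠ 1 := by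
    rw [← hKcard, Nat.card_coe_set_eq] at hidx
    obtain ⟨a, b, ha, hb, hab⟩ := (Set.one_lt_ncard_iff).mp hidx
    by_cases ha1 : a = 1
    · exact ⟨b, hb, fun h => hab (ha1.trans h.symm)⟩
    · exact ⟨a, ha, ha1⟩
  have hCK : W ⊓ Subgroup.centralizer
      (Subtype.val '' frobeniusKernel (H₁.subgroupOf H) : Set G) = ⊥ := by
    rw [eq_bot_iff]
    intro w hw
    rw [Subgroup.mem_inf] at hw
    obtain ⟨hwW, hwC⟩ := hw
    rw [Subgroup.mem_bot]
    have hcomm := Subgroup.mem_centralizer_iff.mp hwC (m : G) ⟨m, hmK, rfl⟩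
    exact eq_one_of_commute_of_frobenius H hH (hWker w hwW) m.2
      (fun h => hm1 (Subtype.ext h)) hcomm.symm
  have hconcl := hS W H hWabI hW1 hWnorm (H₁.subgroupOf H) hF hcop' hCK
  apply hconcl
  rw [eq_bot_iff]
  intro w hw
  rw [Subgroup.mem_inf] at hw
  obtain ⟨hwW, hwC⟩ := hw
  rw [Subgroup.mem_bot]
  obtain ⟨h₁, hh₁, hh₁1⟩ := (Subgroup.bot_or_exists_ne_one H₁).resolve_left hH₁.1
  have hmem : h₁ ∈ ((H₁.subgroupOf H).map H.subtype : Subgroup G) := by
    rw [Subgroup.subgroupOf_map_subtype]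
    exact Subgroup.mem_inf.mpr ⟨hh₁, hle hh₁⟩
  have hcomm := Subgroup.mem_centralizer_iff.mp hwC h₁ hmem
  exact eq_one_of_commute_of_frobenius H hH (hWker w hwW) (hle hh₁) hh₁1 hcomm.symm

/-- All Frobenius complements are conjugate (given the statement of S0666). -/
theorem frobenius_complements_conj (hS : S0666Hyp G) (H H₀ : Subgroup G)
    (hH : IsFrobeniusComplement H) (hH₀ : IsFrobeniusComplement H₀) :
    ∃ g : G, MulAut.conj g • H₀ = H := by
  rcases le_total (Nat.card H₀) (Nat.card H) with hle | hle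
  · obtain ⟨g, hg⟩ := Cfsg.Agent.S0037.result H H₀ hH hH₀ hle
    exact ⟨g, eq_of_le_of_frobenius hS hH (isFrobeniusComplement_conj hH₀ g) hg⟩
  · obtain ⟨g, hg⟩ := Cfsg.Agent.S0037.result H₀ H hH₀ hH hle
    have := eq_of_le_of_frobenius hS hH₀ (isFrobeniusComplement_conj hH g) hg
    refine ⟨g⁻¹, ?_⟩
    rw [← this, map_inv, inv_smul_smul]

end Main

end Cfsg.Agent.Lib.Helper74
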