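import Cfsg.Agent.Lib.Helper74.Contra

/-!
# Frobenius–Schur: invariant bilinear forms of an irreducible matrix representation (helper74)

Main result `IsInvForm.transpose_eq`: for `ρ` irreducible on `Fin n → k` (`k` algebraically closed
of characteristic zero), every invariant bilinear form `M` (`Xᵀ M X = M`) satisfies
`Mᵀ = ν • M` with `ν = |G|⁻¹ ∑ g, tr (X g * X g)` the Frobenius–Schur indicator.
-/

set_option autoImplicit false

namespace Cfsg.Agent.Lib.Helper74

open Matrix

variable {G : Type*} [Group G] {k : Type*} [Field k] {n : ℕ}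

theorem sum_entry_mul_swap [Fintype G] [IsAlgClosed k] (ρ : Representation k G (Fin n → k))
    [ρ.IsIrreducible] {M N : Matrix (Fin n) (Fin n) k} (hM : IsInvForm ρ M) (hMN : M * N = 1)
    (i j : Fin n) :
    (n : k) * ∑ g, matOf ρ g i j * matOf ρ g j i = (Fintype.card G : k) * (M i j * N i j) := by
  have hX : ∀ g, matOf ρ g j i = ∑ l, ∑ k', M i k' * matOf ρ g⁻¹ k' l * N l j := by
    intro g
    have h1 : (matOf ρ g)ᵀ = M * matOf ρ g⁻¹ * N := by
      rw [hM.mul_matOf g⁻¹, inv_inv, Matrix.mul_assoc, hMN, Matrix.mul_one]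
    have h2 := congrFun (congrFun h1 i) j
    rw [Matrix.transpose_apply] at h2
    rw [h2, Matrix.mul_apply]
    refine Finset.sum_congr rfl (fun l _ => ?_)
    rw [Matrix.mul_apply, Finset.sum_mul]
  calc (n : k) * ∑ g, matOf ρ g i j * matOf ρ g j i
      = (n : k) * ∑ g, matOf ρ g i j * ∑ l, ∑ k', M i k' * matOf ρ g⁻¹ k' l * N l j := by
        congr 1
        refine Finset.sum_congr rfl (fun g _ => ?_)
        rw [hX g]
    _ = ∑ l, ∑ k', M i k' * N l j * ((n : k) * ∑ g, matOf ρ g i j * matOf ρ g⁻¹ k' l) := by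
        simp only [Finset.mul_sum]
        rw [Finset.sum_comm]
        refine Finset.sum_congr rfl (fun l _ => ?_)
        rw [Finset.sum_comm]
        refine Finset.sum_congr rfl (fun k' _ => ?_)
        refine Finset.sum_congr rfl (fun g _ => ?_)
        ring
    _ = ∑ l, ∑ k', M i k' * N l j * (if i = l ∧ j = k' then (Fintype.card G : k) else 0) := by
        simp only [sum_entry_mul_entry]
    _ = (Fintype.card G : k) * (M i j * N i j) := by
        rw [Finset.sum_eq_single i, Finset.sum_eq_single j]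
        · simp; ring
        · intro b _ hb
          simp [Ne.symm hb]
        · intro h; exact absurd (Finset.mem_univ j) h
        · intro b _ hb
          apply Finset.sum_eq_zero
          intro c _
          simp [Ne.symm hb]
        · intro h; exact absurd (Finset.mem_univ i) h

theorem sum_trace_sq [Fintype G] [IsAlgClosed k] (ρ : Representation k G (Fin n → k))
    [ρ.IsIrreducible] {M N : Matrix (Fin n) (Fin n) k} (hM : IsInvForm ρ M) (hMN : M * N = 1) :
    (n : k) * ∑ g, (matOf ρ g * matOf ρ g).trace = (Fintype.card G : k) * (Mᵀ * N).trace := by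
  have h1 : ∀ g, (matOf ρ g * matOf ρ g).trace = ∑ i, ∑ j, matOf ρ g i j * matOf ρ g j i := by
    intro g
    simp [Matrix.trace, Matrix.mul_apply]
  have h2 : (Mᵀ * N).trace = ∑ i, ∑ j, M i j * N i j := by
    simp only [Matrix.trace, Matrix.diag_apply, Matrix.mul_apply, Matrix.transpose_apply]
    rw [Finset.sum_comm]
  simp only [h1, h2]
  rw [Finset.sum_comm, Finset.mul_sum, Finset.mul_sum]
  refine Finset.sum_congr rfl (fun i _ => ?_)
  rw [Finset.sum_comm, Finset.mul_sum, Finset.mul_sum]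
  refine Finset.sum_congr rfl (fun j _ => ?_)
  exact sum_entry_mul_swap ρ hM hMN i j


/-- For a nonzero invariant form `M` of an irreducible representation, `Mᵀ = c • M` for a scalar
`c`. -/
theorem IsInvForm.exists_transpose_eq_smul [IsAlgClosed k] {ρ : Representation k G (Fin n → k)}
    [ρ.IsIrreducible] {M N : Matrix (Fin n) (Fin n) k} (hM : IsInvForm ρ M) (hMN : M * N = 1)
    (hNM : N * M = 1) : ∃ c : k, Mᵀ = c • M := by
  have hcomm : ∀ g, matOf ρ g * (N * Mᵀ) = (N * Mᵀ) * matOf ρ g := by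
    intro g
    have h1 : matOf ρ g * N = N * (matOf ρ g⁻¹)ᵀ := by
      calc matOf ρ g * N = N * (M * matOf ρ g) * N := by
            rw [← Matrix.mul_assoc, hNM, Matrix.one_mul]
        _ = N * ((matOf ρ g⁻¹)ᵀ * M) * N := by rw [hM.mul_matOf]
        _ = N * (matOf ρ g⁻¹)ᵀ := by
            rw [Matrix.mul_assoc, Matrix.mul_assoc, hMN, Matrix.mul_one]
    rw [← Matrix.mul_assoc, h1, Matrix.mul_assoc, Matrix.mul_assoc, hM.transpose.mul_matOf]
  obtain ⟨c, hc⟩ := schur_scalar ρ (N * Mᵀ) hcomm
  refine ⟨c, ?_⟩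
  calc Mᵀ = M * (N * Mᵀ) := by rw [← Matrix.mul_assoc, hMN, Matrix.one_mul]
    _ = c • M := by rw [hc]; simp

/-- **Frobenius–Schur**: every invariant bilinear form `M` of an irreducible representation
satisfies `Mᵀ = ν • M`, `ν` the Frobenius–Schur indicator. -/
theorem IsInvForm.transpose_eq [Fintype G] [IsAlgClosed k] [CharZero k]
    {ρ : Representation k G (Fin n → k)} [ρ.IsIrreducible] {M : Matrix (Fin n) (Fin n) k}
    (hM : IsInvForm ρ M) :
    Mᵀ = ((Fintype.card G : k)⁻¹ * ∑ g, (matOf ρ g * matOf ρ g).trace) • M := by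
  by_cases h0 : M = 0
  · subst h0; simp
  have hn : (n : k) ≠ 0 := by
    intro hn
    have hn' : n = 0 := by exact_mod_cast hn
    subst hn'
    exact h0 (Subsingleton.elim _ _)
  have hG : (Fintype.card G : k) ≠ 0 := by
    have : Fintype.card G ≠ 0 := Fintype.card_ne_zero
    exact_mod_cast this
  obtain ⟨N, hMN, hNM⟩ : ∃ N, M * N = 1 ∧ N * M = 1 := by
    have hu := hM.isUnit h0
    obtain ⟨u, hu⟩ := hu
    exact ⟨(u⁻¹ : (Matrix (Fin n) (Fin n) k)ˣ), by rw [← hu]; simp, by rw [← hu]; simp⟩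
  obtain ⟨c, hc⟩ := hM.exists_transpose_eq_smul hMN hNM
  have h1 := sum_trace_sq ρ hM hMN
  rw [hc, Matrix.smul_mul, hMN, Matrix.trace_smul, Matrix.trace_one, Fintype.card_fin,
    smul_eq_mul] at h1
  have h2 : ∑ g, (matOf ρ g * matOf ρ g).trace = (Fintype.card G : k) * c := by
    apply mul_left_cancel₀ hn
    rw [h1]; ring
  rw [hc, h2, ← mul_assoc, inv_mul_cancel₀ hG, one_mul]

end Cfsg.Agent.Lib.Helper74
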