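import Mathlib
import Cfsg.Agent.Lib.Helper76.GOut.P1Defs

/-!
# GOUT-[P1-SIX-SOLV] (hedge, helper74): `N(P)` is solvable, in `_of` form

Project GOUT (= S3066, coordinator helper76), block P1.  Hypotheses: the centralizer is solvable ([P1-CENT] + S0205),
the statement of [P1-SIX-AUT] for `P`, and Burnside `2^a 3^b` (S0144).
-/

set_option autoImplicit false

namespace Cfsg.Agent.Lib.Helper74.GOutSixSolv

open Cfsg.Agent.Lib.Helper76.GOut

universe u

/-- a positive number all of whose prime factors are `2` or `3` is `2 ^ a * 3 ^ b` -/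
theorem exists_two_pow_mul_three_pow (n : ℕ) (hn : 0 < n)
    (h : ∀ r : ℕ, r.Prime → r ∣ n → r = 2 ∨ r = 3) : ∃ a b : ℕ, n = 2 ^ a * 3 ^ b := by
  induction n using Nat.strong_induction_on with
  | _ n ih =>
    by_cases h1 : n = 1
    · exact ⟨0, 0, by simp [h1]⟩
    · obtain ⟨r, hr, hrn⟩ := Nat.exists_prime_and_dvd h1
      obtain ⟨m, rfl⟩ := hrn
      have hm : 0 < m := Nat.pos_of_ne_zero (by rintro rfl; simp at hn)
      have hlt : m < r * m := by
        have := hr.two_le
        nlinarith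
      obtain ⟨a, b, hab⟩ := ih m hlt hm (fun s hs hsm => h s hs (Dvd.dvd.mul_left hsm r))
      rcases h r hr (Dvd.intro m rfl) with rfl | rfl
      · exact ⟨a + 1, b, by rw [hab]; ring⟩
      · exact ⟨a, b + 1, by rw [hab]; ring⟩

/-- **GOUT-[P1-SIX-SOLV]**, `_of` form.  Exact sheet statement:
`six_isSolvable_normalizer hn P hP hirr := six_isSolvable_normalizer_of P
   (Cfsg.Agent.S0205.result (odd_card_centralizer_of_irrSub P hirr))
   (fun r hr hr5 x hx k hxr => six_mem_centralizer_of_normalizer hn P hP hirr r hr hr5 x hx k hxr)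
   (fun G _ _ a b h => Cfsg.Agent.S0144.result 2 3 a b Nat.prime_two Nat.prime_three h)`. -/
theorem six_isSolvable_normalizer_of {V : Type u} [AddCommGroup V] [Module (ZMod 2) V] [Finite V]
    (P : Subgroup (V ≃ₗ[ZMod 2] V))
    (hCsol : Group.IsSolvable ↥(Subgroup.centralizer (P : Set (V ≃ₗ[ZMod 2] V))))
    (haut : ∀ r : ℕ, r.Prime → 5 ≤ r → ∀ x : V ≃ₗ[ZMod 2] V,
      x ∈ Subgroup.normalizer (P : Set (V ≃ₗ[ZMod 2] V)) → ∀ k : ℕ, x ^ r ^ k = 1 →
        x ∈ Subgroup.centralizer (P : Set (V ≃ₗ[ZMod 2] V)))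
    (hburn : ∀ (G : Type u) [Group G] [Finite G] (a b : ℕ), Nat.card G = 2 ^ a * 3 ^ b →
      Group.IsSolvable G) :
    Group.IsSolvable ↥(Subgroup.normalizer (P : Set (V ≃ₗ[ZMod 2] V))) := by
  classical
  set N : Subgroup (V ≃ₗ[ZMod 2] V) := Subgroup.normalizer (P : Set (V ≃ₗ[ZMod 2] V)) with hN
  set C : Subgroup (V ≃ₗ[ZMod 2] V) := Subgroup.centralizer (P : Set (V ≃ₗ[ZMod 2] V)) with hC
  have hCN : C ≤ N := Subgroup.centralizer_le_normalizer _
  let C' : Subgroup ↥N := C.subgroupOf N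
  have hC'n : C'.Normal := Subgroup.normal_subgroupOf_centralizer_normalizer _
  have : Group.IsSolvable ↥C' :=
    Group.isSolvable_of_isSolvable_injective (f := (Subgroup.subgroupOfEquivOfLe hCN).toMonoidHom)
      (Subgroup.subgroupOfEquivOfLe hCN).injective
  -- the quotient is a `{2,3}`-group
  have hprime : ∀ r : ℕ, r.Prime → r ∣ Nat.card (↥N ⧸ C') → r = 2 ∨ r = 3 := by
    intro r hr hdvd
    by_contra hne
    rw [not_or] at hne
    have hr5 : 5 ≤ r := by
      have h2 := hr.two_le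
      rcases Nat.lt_or_ge r 5 with hlt | hge
      · interval_cases r
        · exact absurd rfl hne.1
        · exact absurd rfl hne.2
        · exact absurd hr (by decide)
      · exact hge
    have : Fact r.Prime := ⟨hr⟩
    obtain ⟨R⟩ : Nonempty (Sylow r ↥N) := inferInstance
    have hRC : (R : Subgroup ↥N) ≤ C' := by
      intro x hx
      obtain ⟨k, hk⟩ := R.2 ⟨x, hx⟩
      have hk' : (x : V ≃ₗ[ZMod 2] V) ^ r ^ k = 1 := by
        have := congrArg (fun y : ↥(R : Subgroup ↥N) => ((y : ↥N) : V ≃ₗ[ZMod 2] V)) hk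
        simpa using this
      exact haut r hr hr5 x.1 x.2 k hk'
    have h1 : C'.index ∣ (R : Subgroup ↥N).index := Subgroup.index_dvd_of_le hRC
    have h2 : ¬ r ∣ (R : Subgroup ↥N).index := R.not_dvd_index
    rw [← Subgroup.index_eq_card] at hdvd
    exact h2 (hdvd.trans h1)
  obtain ⟨a, b, hab⟩ := exists_two_pow_mul_three_pow (Nat.card (↥N ⧸ C')) Nat.card_pos hprime
  have : Group.IsSolvable (↥N ⧸ C') := hburn _ a b hab
  exact Group.isSolvable_of_ker_le_range C'.subtype (QuotientGroup.mk' C')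
    (by rw [QuotientGroup.ker_mk', Subgroup.range_subtype])

end Cfsg.Agent.Lib.Helper74.GOutSixSolv
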