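import Cfsg.Agent.Lib.Helper74.SchurOrth
import Mathlib.LinearAlgebra.Matrix.Charpoly.Coeff
import Mathlib.Analysis.Complex.Basic

/-!
# Entrywise conjugation of complex matrices and Hilbert 90 for `GL_n(ℂ/ℝ)` (helper74)
-/

set_option autoImplicit false

namespace Cfsg.Agent.Lib.Helper74

open Matrix
open scoped ComplexConjugate

variable {n : ℕ}

/-- Entrywise complex conjugate of a matrix. -/
noncomputable def cj (M : Matrix (Fin n) (Fin n) ℂ) : Matrix (Fin n) (Fin n) ℂ :=
  M.map (starRingEnd ℂ)

theorem cj_apply (M : Matrix (Fin n) (Fin n) ℂ) (i j : Fin n) : cj M i j = conj (M i j) := rfl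

theorem cj_mul (M N : Matrix (Fin n) (Fin n) ℂ) : cj (M * N) = cj M * cj N :=
  Matrix.map_mul

theorem cj_add (M N : Matrix (Fin n) (Fin n) ℂ) : cj (M + N) = cj M + cj N := by
  ext i j; simp [cj_apply]

theorem cj_smul (c : ℂ) (M : Matrix (Fin n) (Fin n) ℂ) : cj (c • M) = conj c • cj M := by
  ext i j; simp [cj_apply]

theorem cj_one : cj (1 : Matrix (Fin n) (Fin n) ℂ) = 1 := by
  ext i j
  by_cases h : i = j <;> simp [cj_apply, Matrix.one_apply, h]

theorem cj_cj (M : Matrix (Fin n) (Fin n) ℂ) : cj (cj M) = M := by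
  ext i j; simp [cj_apply]

theorem cj_injective : Function.Injective (cj : Matrix (Fin n) (Fin n) ℂ → _) := by
  intro M N h
  rw [← cj_cj M, h, cj_cj]

theorem conjTranspose_eq_cj_transpose (M : Matrix (Fin n) (Fin n) ℂ) : Mᴴ = cj Mᵀ := rfl

theorem cj_transpose (M : Matrix (Fin n) (Fin n) ℂ) : cj Mᵀ = (cj M)ᵀ := rfl

/-- Cayley parametrisation of the unit circle is injective. -/
theorem cayley_injective : Function.Injective
    (fun t : ℝ => -((1 + (t : ℂ) * Complex.I) / (1 - (t : ℂ) * Complex.I))) := by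
  intro s t h
  simp only [neg_inj] at h
  have hs : (1 - (s : ℂ) * Complex.I) ≠ 0 := by
    intro h0
    have := congrArg Complex.re h0
    simp at this
  have ht : (1 - (t : ℂ) * Complex.I) ≠ 0 := by
    intro h0
    have := congrArg Complex.re h0
    simp at this
  rw [div_eq_div_iff hs ht] at h
  have h2 := congrArg Complex.im h
  simp at h2
  linarith

/-- **Hilbert 90** for `GL_n(ℂ/ℝ)`: if `A * conj A = 1` then `A = P * (conj P)⁻¹` for an invertible `P`;
we state it as `A * conj P = P`. -/
theorem hilbert90 (A : Matrix (Fin n) (Fin n) ℂ) (hA : A * cj A = 1) :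
    ∃ P : Matrix (Fin n) (Fin n) ℂ, IsUnit P ∧ A * cj P = P := by
  -- choose t with -(1+it)/(1-it) not a root of the characteristic polynomial of A
  have hfin : {t : ℝ | (A.charpoly).IsRoot
      (-((1 + (t : ℂ) * Complex.I) / (1 - (t : ℂ) * Complex.I)))}.Finite := by
    have h1 : (A.charpoly.rootSet ℂ).Finite := Polynomial.rootSet_finite _ _
    refine (h1.preimage (cayley_injective.injOn)).subset ?_
    intro t ht
    simp only [Set.mem_preimage, Polynomial.mem_rootSet]
    exact ⟨(Matrix.charpoly_monic A).ne_zero, by simpa using ht⟩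
  obtain ⟨t, ht⟩ := hfin.exists_notMem
  simp only [Set.mem_ofPred_eq, Polynomial.IsRoot.def, Matrix.eval_charpoly] at ht
  set a : ℂ := 1 + (t : ℂ) * Complex.I with ha
  set b : ℂ := 1 - (t : ℂ) * Complex.I with hb
  have hb0 : b ≠ 0 := by
    intro h0
    have := congrArg Complex.re h0
    simp [hb] at this
  have hab : conj a = b := by
    simp [ha, hb]; ring
  have hba : conj b = a := by
    simp [ha, hb]
  refine ⟨a • 1 + b • A, ?_, ?_⟩
  · -- a • 1 + b • A = (-b) • (scalar (-(a/b)) - A)
    have h1 : a • (1 : Matrix (Fin n) (Fin n) ℂ) + b • A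
        = (-b) • (Matrix.scalar (Fin n) (-(a / b)) - A) := by
      ext i j
      by_cases hij : i = j
      · subst hij
        simp [Matrix.scalar_apply, Matrix.diagonal_apply_eq]
        field_simp
        ring
      · simp [Matrix.scalar_apply, Matrix.diagonal_apply_ne _ hij, Matrix.one_apply_ne hij]
    rw [h1, Matrix.isUnit_iff_isUnit_det, Matrix.det_smul]
    exact (isUnit_iff_ne_zero.mpr (pow_ne_zero _ (neg_ne_zero.mpr hb0))).mul
      (isUnit_iff_ne_zero.mpr ht)
  · rw [cj_add, cj_smul, cj_smul, cj_one, hab, hba, Matrix.mul_add, Matrix.mul_smul,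
      Matrix.mul_smul, Matrix.mul_one, hA, add_comm]

end Cfsg.Agent.Lib.Helper74
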