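import Mathlib
import Cfsg.Agent.Lib.Helper16.KSH.Defs
import Cfsg.Agent.Lib.Helper55.KSH.Quot

/-!
# KSH-[DIM-W] (hedge, helper74)
-/

set_option autoImplicit false

namespace Cfsg.Agent.Lib.Helper74.KSH

open Cfsg Cfsg.Agent.Lib.Helper16.KSH

/-- **KSH-[DIM-W]** (exact skeleton statement) -/
theorem finrank_quot_ker_sup_commSpace {k : Type*} [Field k] {A S : Type*} [Ring A] [Algebra k A]
    [Ring S] [Algebra k S] [FiniteDimensional k A] (π : A →ₐ[k] S) (hπ : Function.Surjective π) :
    Module.finrank k (A ⧸ (LinearMap.ker π.toLinearMap ⊔ commSpace k A)) =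
      Module.finrank k (S ⧸ commSpace k S) := by
  have hmap : (commSpace k A).map π.toLinearMap = commSpace k S :=
    map_commSpace_of_surjective π hπ
  let f : A →ₗ[k] (S ⧸ commSpace k S) := (commSpace k S).mkQ.comp π.toLinearMap
  have hf : Function.Surjective f := (Submodule.mkQ_surjective _).comp hπ
  have hker : LinearMap.ker f = LinearMap.ker π.toLinearMap ⊔ commSpace k A := by
    rw [LinearMap.ker_comp, Submodule.ker_mkQ, ← hmap, Submodule.comap_map_eq, sup_comm]
  rw [← hker]
  exact (f.quotKerEquivOfSurjective hf).finrank_eq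

end Cfsg.Agent.Lib.Helper74.KSH
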