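import Mathlib
import Cfsg.Agent.Lib.Helper41.PIM.Defs
import Cfsg.Agent.Lib.Helper75.PIMSing
import Cfsg.Agent.Lib.Helper16.KSH.Defs

/-!
# KSH-[POW], KSH-[NIL], KSH-[CLE] (helper74): powers and Külshammer's space `T(kG)`

Project KSH (coordinator helper16).  `_of` forms: the statements of [QQ] (`hqq1`, `hqq2`) and [COMM] (`hcomm`) are
hypotheses.  `commSpace_le_TT` is exact.
-/

set_option autoImplicit false
set_option linter.unusedSectionVars false

namespace Cfsg.Agent.Lib.Helper74.KSH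

open Cfsg Cfsg.Agent.Lib.Helper41.PIM Cfsg.Agent.Lib.Helper75.PIM Cfsg.Agent.Lib.Helper16.KSH

universe u

variable {G : Type u} [Group G] [Fintype G]

theorem clsSet_conj (x : G) (g h : G) (hg : g ∈ clsSet x) : h * g * h⁻¹ ∈ clsSet x := by
  obtain ⟨c, hc⟩ := isConj_iff.1 hg
  refine isConj_iff.2 ⟨c * h⁻¹, ?_⟩
  rw [← hc]
  group

theorem secSet_conj (p : ℕ) (x : G) (g h : G) (hg : g ∈ secSet p x) : h * g * h⁻¹ ∈ secSet p x := by
  show IsConj ((h * g * h⁻¹) ^ qq p G) x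
  rw [conj_pow]
  exact clsSet_conj x _ h hg

theorem sumOn_eq_zero_of_empty {R : Type*} [Semiring R] (S : Set G) (hS : ∀ g, g ∉ S)
    (a : MonoidAlgebra R G) : sumOn S a = 0 := by
  classical
  unfold sumOn
  exact Finset.sum_eq_zero fun g _ => if_neg (hS g)

theorem sumOn_sub' {R : Type*} [Ring R] (S : Set G) (a b : MonoidAlgebra R G) :
    sumOn S (a - b) = sumOn S a - sumOn S b := by
  rw [← sumOnHom_apply, ← sumOnHom_apply, ← sumOnHom_apply, map_sub]

theorem sumOn_smul' {R : Type*} [CommRing R] (S : Set G) (c : R) (a : MonoidAlgebra R G) :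
    sumOn S (c • a) = c * sumOn S a := by
  classical
  unfold sumOn
  rw [Finset.mul_sum]
  refine Finset.sum_congr rfl fun g _ => ?_
  split_ifs <;> simp

/-- class sums of a `qq`-th power -/
theorem sumOn_clsSet_pow_qq {k : Type*} [Field k] (p : ℕ) [Fact p.Prime] [CharP k p]
    (a : MonoidAlgebra k G) (x : G) :
    sumOn (clsSet x) (a ^ qq p G) = (sumOn (secSet p x) a) ^ qq p G :=
  sumOn_pow_char_pow p _ (clsSet x) (clsSet_conj x) a

/-- section sums of a `qq`-th power -/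
theorem sumOn_secSet_pow_qq {k : Type*} [Field k] (p : ℕ) [Fact p.Prime] [CharP k p]
    (hqq1 : ∀ g : G, ¬ p ∣ orderOf (g ^ qq p G))
    (hqq2 : ∀ g : G, ¬ p ∣ orderOf g → g ^ qq p G = g)
    (a : MonoidAlgebra k G) (x : G) :
    sumOn (secSet p x) (a ^ qq p G) = (sumOn (secSet p x) a) ^ qq p G := by
  have h := sumOn_pow_char_pow p
    (Nat.totient (ordCompl[p] (Fintype.card G)) * ((Fintype.card G).factorization p + 1))
    (secSet p x) (secSet_conj p x) a
  have hset : {y : G | y ^ qq p G ∈ secSet p x} = secSet p x := by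
    ext y
    show IsConj ((y ^ qq p G) ^ qq p G) x ↔ IsConj (y ^ qq p G) x
    rw [hqq2 _ (hqq1 y)]
  have h' : sumOn (secSet p x) (a ^ qq p G) =
      (sumOn {y : G | y ^ qq p G ∈ secSet p x} a) ^ qq p G := h
  rw [h', hset]

theorem qq_ne_zero (p : ℕ) [hp : Fact p.Prime] : qq p G ≠ 0 :=
  pow_ne_zero _ hp.out.ne_zero

theorem secSet_empty_of_dvd (p : ℕ) (hqq1 : ∀ g : G, ¬ p ∣ orderOf (g ^ qq p G)) (x : G)
    (hx : p ∣ orderOf x) : ∀ g, g ∉ secSet p x := by
  intro g hg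
  obtain ⟨c, hc⟩ := (hg : IsConj (g ^ qq p G) x)
  have := hc.orderOf_eq
  exact hqq1 g (this ▸ hx)

/-- **KSH-[POW]** (1), `_of` form -/
theorem mem_TT_iff_pow_mem_commSpace_of {k : Type*} [Field k] (p : ℕ) [Fact p.Prime] [CharP k p]
    (hqq1 : ∀ g : G, ¬ p ∣ orderOf (g ^ qq p G))
    (hcomm : ∀ a : MonoidAlgebra k G,
      a ∈ commSpace k (MonoidAlgebra k G) ↔ ∀ x : G, sumOn (clsSet x) a = 0)
    (a : MonoidAlgebra k G) : a ∈ TT k p G ↔ a ^ qq p G ∈ commSpace k (MonoidAlgebra k G) := by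
  rw [hcomm, mem_TT]
  constructor
  · intro h x
    rw [sumOn_clsSet_pow_qq]
    by_cases hx : p ∣ orderOf x
    · rw [sumOn_eq_zero_of_empty _ (secSet_empty_of_dvd p hqq1 x hx), zero_pow (qq_ne_zero p)]
    · rw [h x hx, zero_pow (qq_ne_zero p)]
  · intro h x _
    have := h x
    rw [sumOn_clsSet_pow_qq] at this
    exact (pow_eq_zero_iff (qq_ne_zero p)).1 this

/-- **KSH-[POW]** (2), `_of` form -/
theorem pow_qq_mem_TT_iff_of {k : Type*} [Field k] (p : ℕ) [Fact p.Prime] [CharP k p]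
    (hqq1 : ∀ g : G, ¬ p ∣ orderOf (g ^ qq p G))
    (hqq2 : ∀ g : G, ¬ p ∣ orderOf g → g ^ qq p G = g)
    (a : MonoidAlgebra k G) : a ^ qq p G ∈ TT k p G ↔ a ∈ TT k p G := by
  rw [mem_TT, mem_TT]
  constructor
  · intro h x hx
    have := h x hx
    rw [sumOn_secSet_pow_qq p hqq1 hqq2] at this
    exact (pow_eq_zero_iff (qq_ne_zero p)).1 this
  · intro h x hx
    rw [sumOn_secSet_pow_qq p hqq1 hqq2, h x hx, zero_pow (qq_ne_zero p)]

theorem two_le_qq (p : ℕ) [hp : Fact p.Prime] : 2 ≤ qq p G := by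
  have hcard : Fintype.card G ≠ 0 := Fintype.card_ne_zero
  have h1 : 0 < Nat.totient (ordCompl[p] (Fintype.card G)) :=
    Nat.totient_pos.2 (Nat.ordCompl_pos p hcard)
  have h2 : 0 < Nat.totient (ordCompl[p] (Fintype.card G)) *
      ((Fintype.card G).factorization p + 1) := Nat.mul_pos h1 (Nat.succ_pos _)
  calc 2 ≤ p := hp.out.two_le
    _ = p ^ 1 := (pow_one p).symm
    _ ≤ qq p G := Nat.pow_le_pow_right hp.out.pos h2

/-- **KSH-[NIL]** (1), `_of` form -/
theorem mem_TT_of_isNilpotent_of {k : Type*} [Field k] (p : ℕ) [Fact p.Prime] [CharP k p]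
    (hqq1 : ∀ g : G, ¬ p ∣ orderOf (g ^ qq p G))
    (hqq2 : ∀ g : G, ¬ p ∣ orderOf g → g ^ qq p G = g)
    (a : MonoidAlgebra k G) (ha : IsNilpotent a) : a ∈ TT k p G := by
  obtain ⟨n, hn⟩ := ha
  have hdesc : ∀ j : ℕ, ∀ b : MonoidAlgebra k G, b ^ (qq p G) ^ j ∈ TT k p G → b ∈ TT k p G := by
    intro j
    induction j with
    | zero => intro b hb; simpa using hb
    | succ j ih =>
      intro b hb
      rw [pow_succ, pow_mul] at hb
      exact ih b ((pow_qq_mem_TT_iff_of p hqq1 hqq2 _).1 hb)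
  apply hdesc n a
  have hle : n ≤ (qq p G) ^ n := (Nat.lt_pow_self (two_le_qq p)).le
  have : a ^ (qq p G) ^ n = 0 := pow_eq_zero_of_le hle hn
  rw [this]
  exact (TT k p G).zero_mem

/-- **KSH-[CLE]** (exact) -/
theorem commSpace_le_TT {k : Type*} [Field k] (p : ℕ) [Fact p.Prime] :
    commSpace k (MonoidAlgebra k G) ≤ TT k p G := by
  unfold commSpace
  rw [Submodule.span_le]
  rintro c ⟨a, b, rfl⟩
  show a * b - b * a ∈ TT k p G
  rw [mem_TT]
  intro x _
  rw [sumOn_sub', sumOn_mul_comm'' (secSet p x) (secSet_conj p x) a b, sub_self]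

/-- **KSH-[NIL]** (2), `_of` form -/
theorem jacobson_le_TT_of {k : Type*} [Field k] (p : ℕ) [Fact p.Prime] [CharP k p]
    (hqq1 : ∀ g : G, ¬ p ∣ orderOf (g ^ qq p G))
    (hqq2 : ∀ g : G, ¬ p ∣ orderOf g → g ^ qq p G = g)
    (a : MonoidAlgebra k G) (ha : a ∈ Ring.jacobson (MonoidAlgebra k G)) : a ∈ TT k p G := by
  apply mem_TT_of_isNilpotent_of p hqq1 hqq2
  have : IsArtinianRing (MonoidAlgebra k G) := IsArtinianRing.of_finite k _
  obtain ⟨n, hn⟩ := IsSemiprimaryRing.isNilpotent (R := MonoidAlgebra k G)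
  refine ⟨n, ?_⟩
  have h1 : a ^ n ∈ (Ring.jacobson (MonoidAlgebra k G)) ^ n := Ideal.pow_mem_pow ha n
  rw [hn] at h1
  exact h1

end Cfsg.Agent.Lib.Helper74.KSH
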