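import Mathlib
import Cfsg.Agent.Lib.Helper16.KSH.Defs

/-!
# KSH-[QQ] (hedge, helper74): the exponent `qq p G`

`g ^ qq p G` is `p`-regular, and equals `g` for `p`-regular `g`.
-/

set_option autoImplicit false

namespace Cfsg.Agent.Lib.Helper74.KSH

open Cfsg Cfsg.Agent.Lib.Helper16.KSH

universe u

variable {G : Type u} [Group G] [Fintype G]

/-- **KSH-[QQ]** (1) -/
theorem not_dvd_orderOf_pow_qq (p : ℕ) [hp : Fact p.Prime] (g : G) :
    ¬ p ∣ orderOf (g ^ qq p G) := by
  have hcard : Fintype.card G ≠ 0 := Fintype.card_ne_zero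
  set n := Fintype.card G with hn
  set m := ordCompl[p] n with hm
  set v := n.factorization p with hv
  have hnm : p ^ v * m = n := Nat.ordProj_mul_ordCompl_eq_self n p
  have hpm : ¬ p ∣ m := Nat.not_dvd_ordCompl hp.out hcard
  have hle : v ≤ Nat.totient m * (v + 1) := by
    have h1 : 0 < Nat.totient m := Nat.totient_pos.2 (Nat.ordCompl_pos p hcard)
    nlinarith
  -- `(g ^ q) ^ m = 1`
  have hpow : (g ^ qq p G) ^ m = 1 := by
    rw [← pow_mul]
    apply orderOf_dvd_iff_pow_eq_one.1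
    have h1 : orderOf g ∣ n := orderOf_dvd_card
    refine h1.trans ?_
    rw [← hnm]
    exact Nat.mul_dvd_mul (pow_dvd_pow p hle) dvd_rfl
  intro hdvd
  exact hpm (hdvd.trans (orderOf_dvd_of_pow_eq_one hpow))

/-- **KSH-[QQ]** (2) -/
theorem pow_qq_of_reg (p : ℕ) [hp : Fact p.Prime] (g : G) (hg : ¬ p ∣ orderOf g) :
    g ^ qq p G = g := by
  have hcard : Fintype.card G ≠ 0 := Fintype.card_ne_zero
  set n := Fintype.card G with hn
  set m := ordCompl[p] n with hm
  set v := n.factorization p with hv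
  have hnm : p ^ v * m = n := Nat.ordProj_mul_ordCompl_eq_self n p
  have hpm : ¬ p ∣ m := Nat.not_dvd_ordCompl hp.out hcard
  have hcop : Nat.Coprime (orderOf g) (p ^ v) :=
    Nat.Coprime.pow_right _ ((Nat.Prime.coprime_iff_not_dvd hp.out).2 hg).symm
  have hom : orderOf g ∣ m := by
    have h1 : orderOf g ∣ p ^ v * m := hnm ▸ orderOf_dvd_card
    exact hcop.dvd_of_dvd_mul_left h1
  have hpmc : Nat.Coprime p m := (Nat.Prime.coprime_iff_not_dvd hp.out).2 hpm
  have hmod : qq p G ≡ 1 [MOD m] := by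
    have h1 : p ^ Nat.totient m ≡ 1 [MOD m] := Nat.ModEq.pow_totient hpmc
    have h2 := h1.pow (v + 1)
    rw [one_pow, ← pow_mul] at h2
    exact h2
  have hmod' : qq p G ≡ 1 [MOD orderOf g] := hmod.of_dvd hom
  have := (pow_eq_pow_iff_modEq (x := g)).2 hmod'
  rw [this, pow_one]

end Cfsg.Agent.Lib.Helper74.KSH
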