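import Mathlib
import Cfsg.Agent.Lib.Helper74.KshPow
import Cfsg.Agent.Lib.Helper74.KshQq

/-!
# KSH-[POW] (2) and KSH-[NIL], exact skeleton statements (helper74)
-/

set_option autoImplicit false

namespace Cfsg.Agent.Lib.Helper74.KSH

open Cfsg Cfsg.Agent.Lib.Helper41.PIM Cfsg.Agent.Lib.Helper16.KSH

universe u

variable {G : Type u} [Group G] [Fintype G]

/-- **KSH-[POW]** (2), exact -/
theorem pow_qq_mem_TT_iff {k : Type*} [Field k] (p : ℕ) [Fact p.Prime] [CharP k p]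
    (a : MonoidAlgebra k G) : a ^ qq p G ∈ TT k p G ↔ a ∈ TT k p G :=
  pow_qq_mem_TT_iff_of p (not_dvd_orderOf_pow_qq p) (pow_qq_of_reg p) a

/-- **KSH-[NIL]** (1), exact -/
theorem mem_TT_of_isNilpotent {k : Type*} [Field k] (p : ℕ) [Fact p.Prime] [CharP k p]
    (a : MonoidAlgebra k G) (ha : IsNilpotent a) : a ∈ TT k p G :=
  mem_TT_of_isNilpotent_of p (not_dvd_orderOf_pow_qq p) (pow_qq_of_reg p) a ha

/-- **KSH-[NIL]** (2), exact -/
theorem jacobson_le_TT {k : Type*} [Field k] (p : ℕ) [Fact p.Prime] [CharP k p]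
    (a : MonoidAlgebra k G) (ha : a ∈ Ring.jacobson (MonoidAlgebra k G)) : a ∈ TT k p G :=
  jacobson_le_TT_of p (not_dvd_orderOf_pow_qq p) (pow_qq_of_reg p) a ha

/-- **KSH-[POW]** (1), with only [COMM] as hypothesis -/
theorem mem_TT_iff_pow_mem_commSpace_of_comm {k : Type*} [Field k] (p : ℕ) [Fact p.Prime] [CharP k p]
    (hcomm : ∀ a : MonoidAlgebra k G,
      a ∈ commSpace k (MonoidAlgebra k G) ↔ ∀ x : G, sumOn (clsSet x) a = 0)
    (a : MonoidAlgebra k G) : a ∈ TT k p G ↔ a ^ qq p G ∈ commSpace k (MonoidAlgebra k G) :=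
  mem_TT_iff_pow_mem_commSpace_of p (not_dvd_orderOf_pow_qq p) hcomm a

end Cfsg.Agent.Lib.Helper74.KSH
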