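import Mathlib
import Cfsg.Agent.Lib.Helper74.KshPowExact
import Cfsg.Agent.Lib.Helper25.KshComm

/-!
# KSH-[POW] (1), exact skeleton statement (helper74; uses helper25's [COMM])
-/

set_option autoImplicit false

namespace Cfsg.Agent.Lib.Helper74.KSH

open Cfsg Cfsg.Agent.Lib.Helper41.PIM Cfsg.Agent.Lib.Helper16.KSH

universe u

variable {G : Type u} [Group G] [Fintype G]

/-- **KSH-[POW]** (1), exact -/
theorem mem_TT_iff_pow_mem_commSpace {k : Type*} [Field k] (p : ℕ) [Fact p.Prime] [CharP k p]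
    (a : MonoidAlgebra k G) : a ∈ TT k p G ↔ a ^ qq p G ∈ commSpace k (MonoidAlgebra k G) :=
  mem_TT_iff_pow_mem_commSpace_of_comm p
    (fun b => Cfsg.Agent.Lib.Helper16.KSH.H25.mem_commSpace_iff b) a

end Cfsg.Agent.Lib.Helper74.KSH
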