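import Mathlib
import Cfsg.Prelude.Def_GeometricClasses
import Cfsg.Agent.Lib.Helper55.Oe.Defs
import Cfsg.Agent.Lib.Helper55.Oe.Between
import Cfsg.Agent.Lib.Helper74.OeRowKit
import Cfsg.Agent.Lib.Helper19.OeGPerp
import Cfsg.Agent.Lib.Helper19.OeGEven
import Cfsg.Agent.Lib.Helper36.OeTensorAlt
import Cfsg.Agent.Lib.Helper45.OeEFrame
import Cfsg.Agent.Lib.Helper45.OeESwap
import Cfsg.Agent.Lib.Helper94.OrthFrameBridge
import Cfsg.Agent.Lib.Helper94.OrthFrameBridge2
import Cfsg.Agent.Lib.Helper24.BhrC3Div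

/-!
# Project ASCHOE (helper55), row `Ω₁₀⁻` = S5850 in `_of` form (helper74)

`row10M_of`: the statement of S5850 from the CORE theorem and the leaf modules of the two ASCHOE
sheets that are not yet on main, taken as hypotheses (specialised to the given `F`, `Q`, `H`).
-/

set_option autoImplicit false
set_option linter.unusedSectionVars false
set_option linter.unusedVariables false
set_option linter.style.haveILetI false
set_option maxHeartbeats 1600000

namespace Cfsg.Agent.Lib.Helper74.OeRow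

open Cfsg Cfsg.Geo Cfsg.Agent.Lib.Helper55.Oe
open scoped MatrixGroups Matrix Kronecker

variable {F : Type*} [Field F] [Fintype F]

/-- the conclusion of S5850 -/
def Concl10M (Q : (Fin 10 → F) → F) (H : Subgroup (Matrix.GeneralLinearGroup (Fin 10) F)) : Prop :=
    (∃ W : Submodule F (Fin 10 → F), W ≠ ⊥ ∧ Cfsg.Geo.IsTotallySingularQuad Q W ∧ H = Cfsg.Geo.subspaceStabilizer W ⊓ Cfsg.Geo.omegaGL Q) ∨
    (Odd (Fintype.card F) ∧ ∃ W : Submodule F (Fin 10 → F), W ≠ ⊥ ∧ W ≠ ⊤ ∧ Odd (Module.finrank F W) ∧ 2 * Module.finrank F W ≠ 10 ∧ Cfsg.Geo.IsNondegenerateOn (QuadraticMap.polar Q) W ∧ H = Cfsg.Geo.subspaceStabilizer W ⊓ Cfsg.Geo.omegaGL Q) ∨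
    (∃ W : Submodule F (Fin 10 → F), Module.finrank F W = 2 ∧ Cfsg.Geo.IsNondegenerateOn (QuadraticMap.polar Q) W ∧ ¬ Cfsg.Geo.IsPlusTypeOn Q W ∧ H = Cfsg.Geo.subspaceStabilizer W ⊓ Cfsg.Geo.omegaGL Q) ∨
    (4 ≤ Fintype.card F ∧ ∃ W : Submodule F (Fin 10 → F), Module.finrank F W = 2 ∧ Cfsg.Geo.IsNondegenerateOn (QuadraticMap.polar Q) W ∧ Cfsg.Geo.IsPlusTypeOn Q W ∧ H = Cfsg.Geo.subspaceStabilizer W ⊓ Cfsg.Geo.omegaGL Q) ∨
    (∃ W : Submodule F (Fin 10 → F), Module.finrank F W = 4 ∧ Cfsg.Geo.IsNondegenerateOn (QuadraticMap.polar Q) W ∧ H = Cfsg.Geo.subspaceStabilizer W ⊓ Cfsg.Geo.omegaGL Q) ∨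
    (¬ Odd (Fintype.card F) ∧ ∃ v : (Fin 10 → F), Q v ≠ 0 ∧ H = Cfsg.Geo.subspaceStabilizer (Submodule.span F {v}) ⊓ Cfsg.Geo.omegaGL Q) ∨
    ((∃ p : ℕ, p.Prime ∧ Fintype.card F = p ∧ (p % 4 = 3)) ∧ ∃ D : Fin 10 → Submodule F (Fin 10 → F), Cfsg.Geo.IsOrthogonalMDecomposition Q 1 D ∧ H = Cfsg.Geo.decompositionStabilizer D ⊓ Cfsg.Geo.omegaGL Q) ∨
    (Fintype.card F ≠ 3 ∧ ∃ D : Fin 5 → Submodule F (Fin 10 → F), Cfsg.Geo.IsOrthogonalMDecomposition Q 2 D ∧ H = Cfsg.Geo.decompositionStabilizer D ⊓ Cfsg.Geo.omegaGL Q) ∨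
    (Fintype.card F % 4 = 3 ∧ ∃ D : Fin 2 → Submodule F (Fin 10 → F), Cfsg.Geo.IsOrthogonalMDecomposition Q 5 D ∧ H = Cfsg.Geo.decompositionStabilizer D ⊓ Cfsg.Geo.omegaGL Q) ∨
    (Fintype.card F % 4 = 1 ∧ ∃ D : Fin 2 → Submodule F (Fin 10 → F), Cfsg.Geo.IsNondegenerateMDecomposition (QuadraticMap.polar Q) 5 D ∧ ¬ Cfsg.Geo.AreIsometricFor Q (D 0) (D 1) ∧ H = Cfsg.Geo.decompositionStabilizer D ⊓ Cfsg.Geo.omegaGL Q) ∨
    (Odd (Fintype.card F) ∧ ∃ K : Subalgebra F (Matrix (Fin 10) (Fin 10) F), Cfsg.Geo.IsFieldSubalgebra 2 K ∧ Cfsg.Geo.IsSelfAdjointFor (QuadraticMap.polar Q) K ∧ H = Cfsg.Geo.subalgebraNormalizer K ⊓ Cfsg.Geo.omegaGL Q) ∨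
    (∃ K : Subalgebra F (Matrix (Fin 10) (Fin 10) F), Cfsg.Geo.IsFieldSubalgebra 2 K ∧ Cfsg.Geo.IsAdjointClosedFor (QuadraticMap.polar Q) K ∧ ¬ Cfsg.Geo.IsSelfAdjointFor (QuadraticMap.polar Q) K ∧ (∀ k ∈ K, ∃ c : F, ∀ v : (Fin 10 → F), Q (Matrix.mulVec k v) = c * Q v) ∧ H = Cfsg.Geo.subalgebraNormalizer K ⊓ Cfsg.Geo.omegaGL Q) ∨
    (∃ (F₀ : Subfield F) (r : ℕ) (P : Matrix.GeneralLinearGroup (Fin 10) F) (ζ : F), r.Prime ∧ Odd r ∧ Fintype.card F = Nat.card F₀ ^ r ∧ ζ ≠ 0 ∧ Cfsg.Geo.IsQuadFormRationalStructure (fun v : Fin 10 → F => ζ * Q v) F₀ P ∧ H = Cfsg.Geo.subfieldSubgroup F₀ P ⊓ Cfsg.Geo.omegaGL Q) ∨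
    Cfsg.Geo.InOrthogonalResidualClass H

/-- the modules of the ASCHOE sheets used by the row `Ω₁₀⁻`, for fixed `F`, `Q`, `H` -/
structure Mods10M (Q : (Fin 10 → F) → F) (H : Subgroup (GL (Fin 10) F)) : Prop where
  core : GeoOE Q H
  irr : ActsIrreducibly (matrixSet (omegaGL Q))
  pdec : ∀ {t : ℕ} (m : ℕ) (D : Fin t → Submodule F (Fin 10 → F)),
    IsNondegenerateMDecomposition (QuadraticMap.polar Q) m D →
      ¬ omegaGL Q ≤ decompositionStabilizer D
  pfield : ∀ K : Subalgebra F (Matrix (Fin 10) (Fin 10) F), IsFieldSubalgebra 2 K →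
    ¬ omegaGL Q ≤ subalgebraNormalizer K
  psub : ∀ F₀ : Subfield F, F₀ ≠ ⊤ → ∀ P : GL (Fin 10) F, ¬ omegaGL Q ≤ subfieldSubgroup F₀ P
  tframe : Odd (Fintype.card F) → ∀ {t : ℕ} (D : Fin t → Submodule F (Fin 10 → F)),
    IsOrthogonalMDecomposition Q 1 D →
      (IsPlusTypeOn Q ⊤ ↔ (Even 5 ∨ Fintype.card F % 4 = 1))
  thalves : Odd (Fintype.card F) → ∀ D : Fin 2 → Submodule F (Fin 10 → F),
    IsNondegenerateMDecomposition (QuadraticMap.polar Q) 5 D →
      (IsPlusTypeOn Q ⊤ ↔ (AreIsometricFor Q (D 0) (D 1) ↔ Fintype.card F % 4 = 1))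
  tsub2 : ∀ F₀ : Subfield F, Fintype.card F = Nat.card F₀ ^ 2 → ∀ (P : GL (Fin 10) F) (ζ : F),
    ζ ≠ 0 → IsQuadFormRationalStructure (fun v : Fin 10 → F => ζ * Q v) F₀ P → IsPlusTypeOn Q ⊤
  tf2 : (2 : F) = 0 → ∀ K : Subalgebra F (Matrix (Fin 10) (Fin 10) F), IsFieldSubalgebra 2 K →
    IsSelfAdjointFor (QuadraticMap.polar Q) K → False
  et2 : (2 : F) ≠ 0 → ∀ (e : Fin 10 ≃ Fin 2 × Fin 5) (P : GL (Fin 10) F)
    (f₁ : (Fin 2 → F) → (Fin 2 → F) → F) (f₂ : (Fin 5 → F) → (Fin 5 → F) → F),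
    IsSymmetricForm f₁ → IsSymmetricForm f₂ →
    IsTensorFormStructure id (QuadraticMap.polar Q) f₁ f₂ e P →
    H ≤ tensorProductSubgroup 2 5 e P → OutTSPair Q H ∨ OutFieldU Q H
  efh : ∀ K : Subalgebra F (Matrix (Fin 10) (Fin 10) F), IsFieldSubalgebra 5 K →
    IsSelfAdjointFor (QuadraticMap.polar Q) K → H ≤ subalgebraNormalizer K →
    OutTSPair Q H ∨ OutFieldU Q H

section Row

variable {Q : (Fin 10 → F) → F} {H : Subgroup (GL (Fin 10) F)}

/-- case: a non-degenerate subspace -/
theorem concl10M_of_outND (hQ : IsNondegenerateQuadraticForm Q) (hminus : ¬ IsPlusTypeOn Q ⊤)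
    (hH : IsMaximalIn (omegaGL Q) H) (M : Mods10M Q H) (h : OutND Q H) : Concl10M Q H := by
  classical
  have hI : H ≤ isometryGroup F Q := hH.1.le.trans (omegaGL_le_isometryGroup Q)
  -- reduce to `finrank W ≤ 5`
  have key : ∀ W : Submodule F (Fin 10 → F), W ≠ ⊥ → W ≠ ⊤ →
      IsNondegenerateOn (QuadraticMap.polar Q) W → H ≤ subspaceStabilizer W →
      Module.finrank F W ≤ 5 → Concl10M Q H := by
    intro W hW0 hWtop hWnd hHW hle5
    have hprop : ¬ omegaGL Q ≤ subspaceStabilizer W :=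
      not_le_subspaceStabilizer_of_irreducible M.irr hW0 hWtop
    have hEq : H = subspaceStabilizer W ⊓ omegaGL Q := eq_inf_of_isMaximalIn hH hHW hprop
    have hpos : 0 < Module.finrank F W := by
      rw [Module.finrank_pos_iff_exists_ne_zero]
      by_contra hcon
      apply hW0
      rw [eq_bot_iff]
      intro w hw
      by_contra hw0
      exact hcon ⟨⟨w, hw⟩, fun h => hw0 (by simpa using congrArg Subtype.val h)⟩
    have hodd_of : Odd (Module.finrank F W) → Odd (Fintype.card F) := by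
      intro ho
      apply odd_card_of_two_ne_zero
      intro h2
      have := even_finrank_of_nondegenerate_char_two hQ h2 W hWnd
      exact (Nat.not_even_iff_odd.2 ho) this
    obtain hk | hk | hk | hk | hk : Module.finrank F W = 1 ∨ Module.finrank F W = 2 ∨
        Module.finrank F W = 3 ∨ Module.finrank F W = 4 ∨ Module.finrank F W = 5 := by omega
    · right; left
      exact ⟨hodd_of (by rw [hk]; decide), W, hW0, hWtop, by rw [hk]; decide, by rw [hk]; decide,
        hWnd, hEq⟩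
    · by_cases hp : IsPlusTypeOn Q W
      · by_cases hq : 4 ≤ Fintype.card F
        · right; right; right; left
          exact ⟨hq, W, hk, hWnd, hp, hEq⟩
        · exfalso
          exact false_of_exists_between hH hHW
            (exists_between_plus_plane hQ (by norm_num) (by omega) W hk hWnd hp)
      · right; right; left
        exact ⟨W, hk, hWnd, hp, hEq⟩
    · right; left
      exact ⟨hodd_of (by rw [hk]; decide), W, hW0, hWtop, by rw [hk]; decide, by rw [hk]; decide,
        hWnd, hEq⟩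
    · right; right; right; right; left
      exact ⟨W, hk, hWnd, hEq⟩
    · -- two halves
      have hodd : Odd (Fintype.card F) := hodd_of (by rw [hk]; decide)
      obtain ⟨W', hW'nd, horth, hinf, hsup, hdim, -, hstab⟩ :=
        exists_perp_of_nondegenerate hQ W hWnd
      have hk' : Module.finrank F W' = 5 := by omega
      have hHW' : H ≤ subspaceStabilizer W' := fun g hg => hstab ⟨hHW hg, hI hg⟩
      have hD : IsNondegenerateMDecomposition (QuadraticMap.polar Q) 5 ![W, W'] :=
        isNondegenerateMDecomposition_pair (by norm_num) hWnd hW'nd horth hinf hsup hk hk'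
      have hHD : H ≤ decompositionStabilizer ![W, W'] := le_decompositionStabilizer_pair hHW hHW'
      have hEqD : H = decompositionStabilizer ![W, W'] ⊓ omegaGL Q :=
        eq_inf_of_isMaximalIn hH hHD (M.pdec 5 _ hD)
      have hT := M.thalves hodd ![W, W'] hD
      have hmod : Fintype.card F % 4 = 1 ∨ Fintype.card F % 4 = 3 := by
        rcases hodd with ⟨j, hj⟩
        omega
      by_cases hiso : AreIsometricFor Q ((![W, W'] : Fin 2 → Submodule F (Fin 10 → F)) 0)
          ((![W, W'] : Fin 2 → Submodule F (Fin 10 → F)) 1)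
      · have h3 : Fintype.card F % 4 = 3 := by
          rcases hmod with h1 | h3
          · exact absurd (hT.2 ⟨fun _ => h1, fun _ => hiso⟩) hminus
          · exact h3
        right; right; right; right; right; right; right; right; left
        refine ⟨h3, ![W, W'], ⟨hD, ?_⟩, hEqD⟩
        intro i j
        fin_cases i <;> fin_cases j
        · exact areIsometricFor_refl Q _
        · exact hiso
        · exact areIsometricFor_symm hiso
        · exact areIsometricFor_refl Q _
      · have h1 : Fintype.card F % 4 = 1 := by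
          rcases hmod with h1 | h3
          · exact h1
          · exfalso
            apply hminus
            apply hT.2
            constructor
            · intro h; exact absurd h hiso
            · intro h; omega
        right; right; right; right; right; right; right; right; right; left
        exact ⟨h1, ![W, W'], hD, hiso, hEqD⟩
  obtain ⟨W, hW0, hWtop, hWnd, hHW⟩ := h
  by_cases hle : Module.finrank F W ≤ 5
  · exact key W hW0 hWtop hWnd hHW hle
  · obtain ⟨W', hW'nd, horth, hinf, hsup, hdim, -, hstab⟩ :=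
      exists_perp_of_nondegenerate hQ W hWnd
    have hHW' : H ≤ subspaceStabilizer W' := fun g hg => hstab ⟨hHW hg, hI hg⟩
    have hW'0 : W' ≠ ⊥ := by
      intro h
      rw [h, sup_bot_eq] at hsup
      exact hWtop hsup
    have hW'top : W' ≠ ⊤ := by
      intro h
      rw [h, inf_top_eq] at hinf
      exact hW0 hinf
    exact key W' hW'0 hW'top hW'nd hHW' (by omega)


/-- case: a unitary-type field of degree 2 -/
theorem concl10M_of_outFieldU (hH : IsMaximalIn (omegaGL Q) H) (M : Mods10M Q H)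
    (h : OutFieldU Q H) : Concl10M Q H := by
  obtain ⟨K, hK, hadj, hnsa, hsim, hHK⟩ := h
  right; right; right; right; right; right; right; right; right; right; right; left
  exact ⟨K, hK, hadj, hnsa, hsim, eq_inf_of_isMaximalIn hH hHK (M.pfield K hK)⟩

/-- case: a totally singular subspace -/
theorem concl10M_of_outTS (hQ : IsNondegenerateQuadraticForm Q)
    (hH : IsMaximalIn (omegaGL Q) H) (M : Mods10M Q H) (h : OutTS Q H) : Concl10M Q H := by
  obtain ⟨W, hW0, hWts, hHW⟩ := h
  left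
  exact ⟨W, hW0, hWts, eq_inf_of_isMaximalIn hH hHW
    (not_le_subspaceStabilizer_of_irreducible M.irr hW0
      (ne_top_of_isTotallySingularQuad hQ (by norm_num) hWts))⟩

/-- case: a non-singular vector in characteristic 2 -/
theorem concl10M_of_outNS (hQ : IsNondegenerateQuadraticForm Q)
    (hH : IsMaximalIn (omegaGL Q) H) (M : Mods10M Q H) (h : OutNS Q H) : Concl10M Q H := by
  obtain ⟨h2, v, hv, hHv⟩ := h
  have hv0 : v ≠ 0 := by
    rintro rfl
    apply hv
    have := hQ.smul 0 (0 : Fin 10 → F)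
    rw [zero_smul] at this
    rw [this]
    ring
  have hbot : Submodule.span F {v} ≠ ⊥ := by
    rw [Ne, Submodule.span_singleton_eq_bot]
    exact hv0
  have htop : Submodule.span F {v} ≠ ⊤ := by
    intro h
    have h1 : Module.finrank F (Submodule.span F {v}) = 1 := finrank_span_singleton hv0
    rw [h, finrank_top, Module.finrank_fin_fun] at h1
    omega
  right; right; right; right; right; left
  exact ⟨not_odd_card_of_two_eq_zero h2, v, hv, eq_inf_of_isMaximalIn hH hHv
    (not_le_subspaceStabilizer_of_irreducible M.irr hbot htop)⟩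

/-- case: an orthogonal decomposition into isometric blocks -/
theorem concl10M_of_outDec (hQ : IsNondegenerateQuadraticForm Q) (hminus : ¬ IsPlusTypeOn Q ⊤)
    (hH : IsMaximalIn (omegaGL Q) H) (M : Mods10M Q H) (h : OutDec Q H) : Concl10M Q H := by
  classical
  have hI : H ≤ isometryGroup F Q := hH.1.le.trans (omegaGL_le_isometryGroup Q)
  obtain ⟨t, m, D, hD, hHD⟩ := h
  have hmul : t * m = 10 := isMDecomposition_mul_eq hD.decomp.decomp
  have ht2 : 2 ≤ t := hD.decomp.decomp.two_le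
  have hm0 : 0 < m := hD.decomp.decomp.pos
  have hcases : (t = 2 ∧ m = 5) ∨ (t = 5 ∧ m = 2) ∨ (t = 10 ∧ m = 1) := by
    have htd : t ∣ 10 := ⟨m, hmul.symm⟩
    have ht10 : t ≤ 10 := Nat.le_of_dvd (by norm_num) htd
    interval_cases t <;> omega
  have hEq : H = decompositionStabilizer D ⊓ omegaGL Q :=
    eq_inf_of_isMaximalIn hH hHD (M.pdec m D hD.decomp)
  have hodd_of : Odd m → Odd (Fintype.card F) := by
    intro ho
    apply odd_card_of_two_ne_zero
    intro h2
    have hex : ∃ i : Fin t, True := ⟨⟨0, by omega⟩, trivial⟩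
    obtain ⟨i, -⟩ := hex
    have := even_finrank_of_nondegenerate_char_two hQ h2 (D i) (hD.decomp.nondegenerate i)
    rw [hD.decomp.decomp.finrank_eq i] at this
    exact (Nat.not_even_iff_odd.2 ho) this
  rcases hcases with ⟨rfl, rfl⟩ | ⟨rfl, rfl⟩ | ⟨rfl, rfl⟩
  · -- two isometric halves
    have hodd : Odd (Fintype.card F) := hodd_of (by decide)
    have hT := M.thalves hodd D hD.decomp
    have hmod : Fintype.card F % 4 = 1 ∨ Fintype.card F % 4 = 3 := by
      rcases hodd with ⟨j, hj⟩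
      omega
    have h3 : Fintype.card F % 4 = 3 := by
      rcases hmod with h1 | h3
      · exact absurd (hT.2 ⟨fun _ => h1, fun _ => hD.isometric 0 1⟩) hminus
      · exact h3
    right; right; right; right; right; right; right; right; left
    exact ⟨h3, D, hD, hEq⟩
  · -- five planes
    by_cases hq : Fintype.card F = 3
    · exfalso
      by_cases hp : IsPlusTypeOn Q (D 0)
      · have hplus : ∀ i, IsPlusTypeOn Q (D i) := fun i =>
          Cfsg.Agent.Lib.Helper94.isPlusTypeOn_of_isometric (hD.isometric 0 i) hp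
        exact false_of_exists_between hH hHD
          (Cfsg.Agent.Lib.Helper94.exists_between_hypPlanes hQ (Or.inr (Or.inl hq)) D hD hplus
            le_rfl)
      · have hnot : ∀ i, ¬ IsPlusTypeOn Q (D i) := fun i hpi => hp
          (Cfsg.Agent.Lib.Helper94.isPlusTypeOn_of_isometric (hD.isometric i 0) hpi)
        exact false_of_exists_between hH hHD
          (Cfsg.Agent.Lib.Helper94.exists_between_orthDecomp hQ hq D hD
            (by rw [Module.finrank_fin_fun]; norm_num) (Or.inr ⟨rfl, hnot⟩))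
    · right; right; right; right; right; right; right; left
      exact ⟨hq, D, hD, hEq⟩
  · -- an orthogonal frame
    have hodd : Odd (Fintype.card F) := hodd_of (by decide)
    have hT := M.tframe hodd D hD
    have hmod : Fintype.card F % 4 = 1 ∨ Fintype.card F % 4 = 3 := by
      rcases hodd with ⟨j, hj⟩
      omega
    have h3 : Fintype.card F % 4 = 3 := by
      rcases hmod with h1 | h3
      · exact absurd (hT.2 (Or.inr h1)) hminus
      · exact h3
    by_cases hprime : (Fintype.card F).Prime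
    · right; right; right; right; right; right; left
      exact ⟨⟨Fintype.card F, hprime, rfl, h3⟩, D, hD, hEq⟩
    · obtain ⟨F₀, r, hr, hrodd, hcard⟩ := exists_odd_prime_subfield h3 hprime
      obtain ⟨P, ζ, hζ, hrat, hle⟩ := exists_subfield_of_frame hQ hodd D hD F₀
      have hHS : H ≤ subfieldSubgroup F₀ P := fun g hg => hle ⟨hHD hg, hI hg⟩
      right; right; right; right; right; right; right; right; right; right; right; right; left
      exact ⟨F₀, r, P, ζ, hr, hrodd, hcard, hζ, hrat, eq_inf_of_isMaximalIn hH hHS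
        (M.psub F₀ (subfield_ne_top_of_card F₀ r hr.two_le hcard) P)⟩

/-- case: a self-adjoint field of prime degree -/
theorem concl10M_of_outFieldSA (hminus : ¬ IsPlusTypeOn Q ⊤)
    (hH : IsMaximalIn (omegaGL Q) H) (M : Mods10M Q H) (h : OutFieldSA Q H) : Concl10M Q H := by
  obtain ⟨r, K, hr, hK, hsa, hHK⟩ := h
  have hdvd : r ∣ 10 := Cfsg.Agent.Lib.Helper99.Asch.dvd_of_isFieldSubalgebra r K hK
  have hr25 : r = 2 ∨ r = 5 := by
    have hle : r ≤ 10 := Nat.le_of_dvd (by norm_num) hdvd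
    have h2 := hr.two_le
    interval_cases r <;> first | omega | (exfalso; revert hr; decide)
  rcases hr25 with rfl | rfl
  · by_cases h2 : (2 : F) = 0
    · exact (M.tf2 h2 K hK hsa).elim
    · right; right; right; right; right; right; right; right; right; right; left
      exact ⟨odd_card_of_two_ne_zero h2, K, hK, hsa,
        eq_inf_of_isMaximalIn hH hHK (M.pfield K hK)⟩
  · rcases M.efh K hK hsa hHK with hp | hu
    · exact absurd (isPlusTypeOn_top_of_outTSPair hp) hminus
    · exact concl10M_of_outFieldU hH M hu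

/-- case: a tensor decomposition into symmetric forms -/
theorem concl10M_of_outTensorSym (hminus : ¬ IsPlusTypeOn Q ⊤)
    (hH : IsMaximalIn (omegaGL Q) H) (M : Mods10M Q H) (h : OutTensorSym Q H) : Concl10M Q H := by
  obtain ⟨h2, n₁, n₂, e, P, f₁, f₂, hn₁, hn₂, hs₁, hs₂, hT, hle⟩ := h
  have hmul : 10 = n₁ * n₂ := card_eq_mul_of_equiv e
  have hcases : (n₁ = 2 ∧ n₂ = 5) ∨ (n₁ = 5 ∧ n₂ = 2) := by
    have htd : n₁ ∣ 10 := ⟨n₂, hmul⟩
    have ht10 : n₁ ≤ 10 := Nat.le_of_dvd (by norm_num) htd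
    interval_cases n₁ <;> omega
  have hfin : OutTSPair Q H ∨ OutFieldU Q H := by
    rcases hcases with ⟨rfl, rfl⟩ | ⟨rfl, rfl⟩
    · exact M.et2 h2 e P f₁ f₂ hs₁ hs₂ hT hle
    · obtain ⟨hT', heq, -⟩ := tensor_swap (QuadraticMap.polar Q) 5 2 e P f₁ f₂ hT
      exact M.et2 h2 (e.trans (Equiv.prodComm (Fin 5) (Fin 2))) P f₂ f₁ hs₂ hs₁ hT'
        (hle.trans heq.le)
  rcases hfin with hp | hu
  · exact absurd (isPlusTypeOn_top_of_outTSPair hp) hminus
  · exact concl10M_of_outFieldU hH M hu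

/-- case: a subfield group -/
theorem concl10M_of_outSubfield (hminus : ¬ IsPlusTypeOn Q ⊤)
    (hH : IsMaximalIn (omegaGL Q) H) (M : Mods10M Q H) (h : OutSubfield Q H) : Concl10M Q H := by
  obtain ⟨F₀, r, P, ζ, hr, hcard, hζ, hrat, hle⟩ := h
  rcases hr.eq_two_or_odd' with rfl | hodd
  · exact absurd (M.tsub2 F₀ hcard P ζ hζ hrat) hminus
  · right; right; right; right; right; right; right; right; right; right; right; right; left
    exact ⟨F₀, r, P, ζ, hr, hodd, hcard, hζ, hrat, eq_inf_of_isMaximalIn hH hle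
      (M.psub F₀ (subfield_ne_top_of_card F₀ r hr.two_le hcard) P)⟩

/-- **ASCHOE-[ROW-10M]** in `_of` form: the statement of S5850 from the modules `Mods10M`. -/
theorem row10M_of (hQ : IsNondegenerateQuadraticForm Q) (hminus : ¬ IsPlusTypeOn Q ⊤)
    (hH : IsMaximalIn (omegaGL Q) H) (M : Mods10M Q H) : Concl10M Q H := by
  rcases M.core with hTS | hND | hNS | hDec | hPair | hSA | hU | hTSym | hTAlt | hSub | h8 | hRes
  · exact concl10M_of_outTS hQ hH M hTS
  · exact concl10M_of_outND hQ hminus hH M hND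
  · exact concl10M_of_outNS hQ hH M hNS
  · exact concl10M_of_outDec hQ hminus hH M hDec
  · exact absurd (isPlusTypeOn_top_of_outTSPair hPair) hminus
  · exact concl10M_of_outFieldSA hminus hH M hSA
  · exact concl10M_of_outFieldU hH M hU
  · exact concl10M_of_outTensorSym hminus hH M hTSym
  · obtain ⟨n₁, n₂, e, P, f₁, f₂, -, -, h₁, h₂, hT, hpure, -⟩ := hTAlt
    exact absurd (isPlusTypeOn_top_of_tensorAlt hQ n₁ n₂ e P f₁ f₂ h₁ h₂ hT hpure) hminus
  · exact concl10M_of_outSubfield hminus hH M hSub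
  · exact absurd h8.1 (by norm_num)
  · right; right; right; right; right; right; right; right; right; right; right; right; right
    exact hRes

end Row

end Cfsg.Agent.Lib.Helper74.OeRow
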