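import Mathlib
import Cfsg.Agent.Lib.Helper74.PF127Final
import Cfsg.Agent.Lib.Helper60.PFTwelveG4

/-!
# Peterfalvi (12.7) in the world where all maximal subgroups are of Type I (helper74 + helper60)

`typeI_frobenius_of_all`: if every maximal subgroup of the minimal simple group of odd order `G`
is of (book) Type I, then every maximal subgroup `L` is a Frobenius group with kernel `L_F`.
Group part: helper60 (`group_part`); character part: helper74 (`char_part`).
-/

set_option autoImplicit false
set_option linter.unusedSectionVars false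
set_option linter.style.haveILetI false

namespace Cfsg.Agent.Lib.Helper74.PF127

open Cfsg Cfsg.Agent.Lib.Helper4.PF

universe u

theorem typeI_frobenius_of_all {G : Type u} [Group G] [Finite G] (hG : IsMinSimpleOddOrder G)
    (bg : BookBGData G) (pf8 : BookPF8Data G)
    (hσ : ∀ M : Subgroup G, IsCoatom M → LitTypeI M → sigmaCore M = fittingHallOf M)
    (hall : ∀ M : Subgroup G, IsCoatom M → LitTypeI M) :
    ∀ L : Subgroup G, IsCoatom L → LitTypeI L → IsFrobWithFittingHall L := by
  classical
  haveI : Fintype G := Fintype.ofFinite G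
  intro L₀ hL₀ hL₀I
  by_contra hnot
  obtain ⟨p, M, L, T, x, o⟩ := Cfsg.Agent.Lib.Helper60.PF12G.group_part hG bg hσ
    (fun L _ hL _ _ _ => hall L hL) ⟨L₀, hL₀, hL₀I, hnot⟩
  have hlitAM : litA M = {a | a ∈ M ∧ a ≠ 1 ∧ ∃ z ∈ fittingHallOf M, z ≠ 1 ∧ a * z = z * a} :=
    Cfsg.Agent.Lib.Helper64.PF12.litA_eq_of_typeF o.hMI.1
  refine char_part hG.2.1 bg pf8 hall M L o.hM o.hL o.hfrob x p o.hp o.x_ord o.x_M o.x_H o.hpK ?_
    T o.T_le o.T_norm o.T_comm o.T_x ?_ ((fittingHallOf L).relIndex L) o.card_L o.e_ge o.e_dvd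
    o.e_le o.card_H o.card_M_le
  · intro i hi h hh
    have h1 := o.coset_litA i hi h hh
    rw [hlitAM] at h1
    exact ⟨o.coset_cent i hi h hh, h1.2.1, h1.2.2⟩
  · have := o.T_idx
    omega

end Cfsg.Agent.Lib.Helper74.PF127
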