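import Mathlib
import Cfsg.Agent.Lib.Helper64.PFElevenStructOf
import Cfsg.Agent.Lib.Helper46.PFTenVCS
import Cfsg.Agent.Lib.Helper24.PFTenMain
import Cfsg.Agent.Lib.Helper26.PF13Book1543
import Cfsg.Agent.Lib.Helper26.PFEightC

/-!
# Peterfalvi section 11, final `struct34_of_pair` (helper74, backup of helper64's PFElevenFinal)

For the member `M` of a pair `PairHyp M T W₁ W₂ U V` with `M` of Type III or IV, the record
`Struct34 M W₁ U W₂` of (11.5)-(11.7) FOR THE DATA OF THE PAIR: helper64's `struct34_of` fed with the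
coherence system of (10.2) (helper46/helper51) and the non-coherence (10.8) (helper24).
-/

set_option autoImplicit false
set_option linter.unusedSectionVars false
set_option linter.unusedVariables false

namespace Cfsg.Agent.Lib.Helper74.PF11

open Cfsg Cfsg.Agent.Lib.Helper4.PF Cfsg.Agent.Lib.Helper64.PF11 Cfsg.Agent.Lib.Helper24.PFCyc

universe u

variable {G : Type u} [Group G] [Fintype G]

/-- the data of the pair inherit `U ≠ ⊥`, `|W₁|` prime, `|W₂|` prime from ANY Type III / IV data -/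
theorem pair_data_facts (hG : IsMinSimpleOddOrder G) (bg : BookBGData G)
    {M T W₁ W₂ U V : Subgroup G} (ph : PairHyp M T W₁ W₂ U V)
    (h34 : IsOfTypeIII M ∨ IsOfTypeIV M) :
    U ≠ ⊥ ∧ (Nat.card W₁).Prime ∧ (Nat.card W₂).Prime := by
  have hsolv : Group.IsSolvable ↥⁅M, M⁆ := by
    apply hG.2.2.2
    intro htop
    exact ph.hS.1 (top_le_iff.1 (htop ▸ Subgroup.commutator_le_self M))
  have hP := ph.hSP
  have hU : U ≠ ⊥ := by
    have key : ∀ {W₁' U' W₂' : Subgroup G}, IsTypePWith M W₁' U' W₂' → U' ≠ ⊥ → U ≠ ⊥ := by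
      intro W₁' U' W₂' hP' hU' h0
      obtain ⟨c, -, hc⟩ := Cfsg.Agent.Lib.Helper26.PFEight.exists_conj_of_typeP hsolv hP hP'
      rw [h0, Subgroup.map_bot] at hc
      exact hU' hc
    rcases h34 with ⟨W₁', U', W₂', hP', hU', -⟩ | ⟨W₁', U', W₂', hP', hU', -⟩
    · exact key hP' hU'
    · exact key hP' hU'
  have hq : (Nat.card W₁).Prime :=
    Cfsg.Agent.Lib.Helper26.PF13Book.card_W₁_prime_of_type hP
      (h34.elim (fun h => Or.inr (Or.inl h)) (fun h => Or.inr (Or.inr h)))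
  have hnII : ¬ IsOfTypeII M := fun hII =>
    Cfsg.Agent.Lib.Helper26.PFEight.not_typeIII_or_IV_of_typeII hsolv hII h34
  have hp : (Nat.card W₂).Prime := bg.w2prime M W₁ U W₂ ph.hS hP hnII
  exact ⟨hU, hq, hp⟩

/-- **Peterfalvi (11.5)-(11.7)** for the member `M` (of Type III or IV) of a pair, with the data of
the pair. -/
theorem struct34_of_pair (hG : IsMinSimpleOddOrder G) (bg : BookBGData G) (pf8 : BookPF8Data G)
    {M T W₁ W₂ U V : Subgroup G} (ph : PairHyp M T W₁ W₂ U V)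
    (h34 : IsOfTypeIII M ∨ IsOfTypeIV M) : Struct34 M W₁ U W₂ := by
  classical
  let _ : Fintype ↥M := Fintype.ofFinite _
  obtain ⟨hU, hq, hp⟩ := pair_data_facts hG bg ph h34
  have h345 : IsOfTypeIII M ∨ IsOfTypeIV M ∨ IsOfTypeV M :=
    h34.elim Or.inl (fun h => Or.inr (Or.inl h))
  obtain ⟨R, hS⟩ :=
    Cfsg.Agent.Lib.Helper46.PF10V.exists_coherenceSystem_of_typeIIItoV hG bg pf8 M ph.hS h345
  have hnc := pf10_noncoherent hG bg pf8 ph h345
  exact struct34_of ph.hSP hU hq hp hG.1 (Cfsg.Agent.Lib.Helper24.PFCyc.tauM M) R hS hnc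

end Cfsg.Agent.Lib.Helper74.PF11
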