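import Mathlib
import Cfsg.Agent.Lib.Helper74.BrauerV

set_option autoImplicit false

namespace Cfsg.Agent.Lib.Helper74

open Cfsg

universe u

section QEGroup

variable {H : Type u} [Group H] [Finite H] {p : ℕ} [hp : Fact p.Prime]

/-- data of a `p`-quasi-elementary group: a cyclic normal `p'`-subgroup of `p`-power index -/
structure IsQE (p : ℕ) (C : Subgroup H) : Prop where
  normal : C.Normal
  cyclic : IsCyclic C
  coprime : Nat.Coprime (Nat.card C) p
  index : ∃ k : ℕ, C.index = p ^ k

/-- the central part `Z = C_C(P)` -/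
def qeZ (C P : Subgroup H) : Subgroup H := C ⊓ Subgroup.centralizer (P : Set H)

theorem qe_isComplement' {C : Subgroup H} (hC : IsQE p C) (P : Sylow p H) :
    Subgroup.IsComplement' C (P : Subgroup H) := by
  obtain ⟨k, hk⟩ := hC.index
  have hPcard : Nat.card P = p ^ (Nat.card H).factorization p := P.card_eq_multiplicity
  have hmul := C.card_mul_index
  -- |P| = index of C
  have hfac : (Nat.card H).factorization p = k := by
    rw [← hmul, hk, Nat.factorization_mul (Nat.card_pos.ne') (pow_ne_zero _ hp.out.ne_zero)]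
    have h1 : (Nat.card C).factorization p = 0 :=
      Nat.factorization_eq_zero_of_not_dvd (fun h => by
        have := Nat.Coprime.eq_one_of_dvd hC.coprime.symm h
        exact hp.out.one_lt.ne' this)
    simp [h1, hp.out.factorization_self]
  apply Subgroup.isComplement'_of_coprime
  · rw [hPcard, hfac, ← hk]; exact hmul
  · rw [hPcard]; exact Nat.Coprime.pow_right _ hC.coprime

theorem qe_sup_eq_top {C : Subgroup H} (hC : IsQE p C) (P : Sylow p H) :
    C ⊔ (P : Subgroup H) = ⊤ :=
  (qe_isComplement' hC P).sup_eq_top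

theorem qeZ_le_center {C : Subgroup H} (hC : IsQE p C) (P : Sylow p H) :
    qeZ C (P : Subgroup H) ≤ Subgroup.center H := by
  intro z hz
  have hz1 : z ∈ C := hz.1
  have hz2 : z ∈ Subgroup.centralizer ((P : Subgroup H) : Set H) := hz.2
  have := hC.cyclic
  have h1 : C ≤ Subgroup.centralizer ({z} : Set H) := by
    intro c hc
    rw [Subgroup.mem_centralizer_singleton_iff]
    have hcomm : (⟨c, hc⟩ : C) * ⟨z, hz1⟩ = ⟨z, hz1⟩ * ⟨c, hc⟩ := mul_comm' _ _
    exact congrArg Subtype.val hcomm
  have h2 : (P : Subgroup H) ≤ Subgroup.centralizer ({z} : Set H) := by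
    intro u hu
    rw [Subgroup.mem_centralizer_singleton_iff]
    exact (Subgroup.mem_centralizer_iff.mp hz2 u hu)
  have h3 : (⊤ : Subgroup H) ≤ Subgroup.centralizer ({z} : Set H) := by
    rw [← qe_sup_eq_top hC P]; exact sup_le h1 h2
  rw [Subgroup.mem_center_iff]
  intro g
  have := h3 (Subgroup.mem_top g)
  rw [Subgroup.mem_centralizer_singleton_iff] at this
  exact this

end QEGroup

end Cfsg.Agent.Lib.Helper74
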