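import Mathlib
import Cfsg.Agent.Lib.Helper74.QEGroup

set_option autoImplicit false

namespace Cfsg.Agent.Lib.Helper74

open Cfsg

universe u

section QEGroup2

variable {H : Type u} [Group H] [Finite H] {p : ℕ} [hp : Fact p.Prime]

omit [Finite H] in
theorem normal_of_le_center' {Z : Subgroup H} (hZ : Z ≤ Subgroup.center H) : Z.Normal := by
  refine ⟨fun n hn g => ?_⟩
  have := Subgroup.mem_center_iff.mp (hZ hn) g
  rw [this, mul_inv_cancel_right]
  exact hn

/-- the `p`-elementary subgroup `E = Z × P` of a `p`-quasi-elementary group -/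
def qeE (C P : Subgroup H) : Subgroup H := qeZ C P ⊔ P

theorem qeZ_inf_eq_bot {C : Subgroup H} (hC : IsQE p C) (P : Sylow p H) :
    qeZ C (P : Subgroup H) ⊓ (P : Subgroup H) = ⊥ := by
  have hdisj := (qe_isComplement' hC P).disjoint
  rw [eq_bot_iff]
  intro x hx
  have h1 : x ∈ C := hx.1.1
  have h2 : x ∈ (P : Subgroup H) := hx.2
  exact (Subgroup.disjoint_def.mp hdisj h1 h2) ▸ Subgroup.mem_bot.mpr rfl

theorem isElementary_qeE {C : Subgroup H} (hC : IsQE p C) (P : Sylow p H) :
    IsElementary p (qeE C (P : Subgroup H)) := by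
  classical
  set Z := qeZ C (P : Subgroup H) with hZ
  set E := qeE C (P : Subgroup H) with hE
  have hZcenter : Z ≤ Subgroup.center H := qeZ_le_center hC P
  have hZn : Z.Normal := normal_of_le_center' hZcenter
  have hZC : Z ≤ C := inf_le_left
  -- `Z` is cyclic
  have := hC.cyclic
  have hZcyc : IsCyclic Z := by
    have h1 : IsCyclic (Z.subgroupOf C) := inferInstance
    exact isCyclic_of_surjective (Subgroup.subgroupOfEquivOfLe hZC).toMonoidHom
      (Subgroup.subgroupOfEquivOfLe hZC).surjective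
  obtain ⟨z₀, hz₀⟩ := hZcyc.exists_generator
  have hzp : Subgroup.zpowers (z₀ : H) = Z := by
    have h1 : Subgroup.zpowers z₀ = ⊤ := by
      rw [eq_top_iff]; intro x _; exact hz₀ x
    have := congrArg (Subgroup.map Z.subtype) h1
    rw [MonoidHom.map_zpowers, ← MonoidHom.range_eq_map, Subgroup.range_subtype] at this
    exact this
  have hz₀E : (z₀ : H) ∈ E := (le_sup_left : Z ≤ E) z₀.2
  refine ⟨⟨z₀, hz₀E⟩, ?_, ?_, ?_⟩
  · rw [Subgroup.mem_center_iff]
    intro g
    apply Subtype.ext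
    exact Subgroup.mem_center_iff.mp (hZcenter z₀.2) g
  · have h1 : orderOf (⟨(z₀ : H), hz₀E⟩ : E) = orderOf (z₀ : H) := Subgroup.orderOf_mk _ _
    rw [h1, ← Nat.card_zpowers, hzp]
    exact Nat.Coprime.coprime_dvd_left (Subgroup.card_dvd_of_le hZC) hC.coprime
  · have hzpE : Subgroup.zpowers (⟨(z₀ : H), hz₀E⟩ : E) = Z.subgroupOf E := by
      apply Subgroup.map_injective E.subtype_injective
      rw [MonoidHom.map_zpowers, Subgroup.subgroupOf_map_subtype]
      show Subgroup.zpowers (z₀ : H) = Z ⊓ E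
      rw [hzp]
      exact (inf_eq_left.mpr (le_sup_left : Z ≤ E)).symm
    rw [hzpE, ← Subgroup.relIndex, hE, qeE, ← hZ, Subgroup.relIndex_sup_left,
      ← Subgroup.inf_relIndex_right, qeZ_inf_eq_bot hC P, Subgroup.relIndex_bot_left]
    exact ⟨_, P.card_eq_multiplicity⟩

end QEGroup2

end Cfsg.Agent.Lib.Helper74
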