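import Mathlib.RepresentationTheory.Character
import Mathlib.RepresentationTheory.Irreducible
import Mathlib.LinearAlgebra.Matrix.ToLin
import Mathlib.LinearAlgebra.Matrix.Trace
import Mathlib.Analysis.Complex.Basic

/-!
# Schur orthogonality of matrix coefficients (helper74)

For a representation `ρ` of a group `G` on a coordinate space `Fin n → k` we write
`matOf ρ g` for the matrix of `ρ g`.  Main results (for `ρ` irreducible, `k` algebraically closed):

* `schur_scalar`: a matrix commuting with all `matOf ρ g` is a scalar matrix;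
* `sum_conj_eq`: `n • ∑ g, X g * A * X g⁻¹ = (|G| * tr A) • 1`;
* `sum_entry_smul_inv`: `n • ∑ g, X g i j • X g⁻¹ = |G| • single j i 1`.
-/

set_option autoImplicit false

namespace Cfsg.Agent.Lib.Helper74

open Matrix

variable {G : Type*} [Group G] {k : Type*} [Field k] {n : ℕ}

/-- The matrix of `ρ g` in the standard basis. -/
noncomputable def matOf (ρ : Representation k G (Fin n → k)) (g : G) : Matrix (Fin n) (Fin n) k :=
  LinearMap.toMatrix' (ρ g)

theorem matOf_one (ρ : Representation k G (Fin n → k)) : matOf ρ 1 = 1 := by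
  simp [matOf]

theorem matOf_mul (ρ : Representation k G (Fin n → k)) (g h : G) :
    matOf ρ (g * h) = matOf ρ g * matOf ρ h := by
  simp [matOf, LinearMap.toMatrix'_mul]

theorem matOf_inv_mul (ρ : Representation k G (Fin n → k)) (g : G) :
    matOf ρ g⁻¹ * matOf ρ g = 1 := by
  rw [← matOf_mul, inv_mul_cancel, matOf_one]

theorem matOf_mul_inv (ρ : Representation k G (Fin n → k)) (g : G) :
    matOf ρ g * matOf ρ g⁻¹ = 1 := by
  rw [← matOf_mul, mul_inv_cancel, matOf_one]

theorem trace_matOf (ρ : Representation k G (Fin n → k)) (g : G) :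
    (matOf ρ g).trace = ρ.character g := by
  simp [matOf, Representation.character, LinearMap.trace_eq_matrix_trace k (Pi.basisFun k (Fin n)),
    LinearMap.toMatrix_eq_toMatrix']

theorem toLin'_matOf (ρ : Representation k G (Fin n → k)) (g : G) :
    Matrix.toLin' (matOf ρ g) = ρ g := by
  simp [matOf]

/-- Schur's lemma in matrix form. -/
theorem schur_scalar [IsAlgClosed k] (ρ : Representation k G (Fin n → k)) [ρ.IsIrreducible]
    (A : Matrix (Fin n) (Fin n) k) (hA : ∀ g, matOf ρ g * A = A * matOf ρ g) :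
    ∃ c : k, A = c • (1 : Matrix (Fin n) (Fin n) k) := by
  let T : Representation.IntertwiningMap ρ ρ :=
    ⟨Matrix.toLin' A, fun g => by
      rw [← toLin'_matOf, ← Matrix.toLin'_mul, ← Matrix.toLin'_mul, hA]⟩
  obtain ⟨c, hc⟩ :=
    (Representation.IsIrreducible.algebraMap_intertwiningMap_bijective_of_isAlgClosed (ρ := ρ)).2 T
  refine ⟨c, ?_⟩
  have h1 : (c • (1 : Representation.IntertwiningMap ρ ρ)).toLinearMap = T.toLinearMap := by
    rw [← hc]; rfl
  have h2 : c • (LinearMap.id : (Fin n → k) →ₗ[k] (Fin n → k)) = Matrix.toLin' A := by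
    rw [Representation.IntertwiningMap.toLinearMap_smul] at h1
    exact h1
  have h3 := congrArg LinearMap.toMatrix' h2
  simp at h3
  exact h3.symm

/-- The averaged conjugate of a matrix commutes with the representation. -/
theorem sum_conj_comm [Fintype G] (ρ : Representation k G (Fin n → k))
    (A : Matrix (Fin n) (Fin n) k) (h : G) :
    matOf ρ h * (∑ g, matOf ρ g * A * matOf ρ g⁻¹) = (∑ g, matOf ρ g * A * matOf ρ g⁻¹) * matOf ρ h := by
  rw [Finset.mul_sum, Finset.sum_mul]
  refine Fintype.sum_equiv (Equiv.mulLeft h) _ _ (fun g => ?_)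
  simp only [Equiv.coe_mulLeft, _root_.mul_inv_rev, matOf_mul]
  simp only [Matrix.mul_assoc, matOf_inv_mul, Matrix.mul_one]

/-- Schur orthogonality: the averaged conjugate of `A` is the scalar `|G| tr A / n`. -/
theorem sum_conj_eq [Fintype G] [IsAlgClosed k] (ρ : Representation k G (Fin n → k))
    [ρ.IsIrreducible] (A : Matrix (Fin n) (Fin n) k) :
    (n : k) • ∑ g, matOf ρ g * A * matOf ρ g⁻¹ =
      ((Fintype.card G : k) * A.trace) • (1 : Matrix (Fin n) (Fin n) k) := by
  obtain ⟨c, hc⟩ := schur_scalar ρ (∑ g, matOf ρ g * A * matOf ρ g⁻¹) (sum_conj_comm ρ A)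
  have htr : (∑ g, matOf ρ g * A * matOf ρ g⁻¹).trace = (Fintype.card G : k) * A.trace := by
    rw [Matrix.trace_sum]
    have : ∀ g : G, (matOf ρ g * A * matOf ρ g⁻¹).trace = A.trace := by
      intro g
      rw [Matrix.trace_mul_comm, ← Matrix.mul_assoc, matOf_inv_mul, Matrix.one_mul]
    simp [this]
  rw [hc] at htr ⊢
  simp only [Matrix.trace_smul, Matrix.trace_one, Fintype.card_fin, smul_eq_mul] at htr
  rw [← htr, smul_smul, mul_comm]

/-- Schur orthogonality of matrix coefficients, entry form. -/
theorem sum_entry_mul_entry [Fintype G] [IsAlgClosed k] (ρ : Representation k G (Fin n → k))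
    [ρ.IsIrreducible] (i j k' l : Fin n) :
    (n : k) * ∑ g, matOf ρ g i j * matOf ρ g⁻¹ k' l =
      if i = l ∧ j = k' then (Fintype.card G : k) else 0 := by
  have h := sum_conj_eq ρ (Matrix.single j k' (1 : k))
  have h2 := congrFun (congrFun h i) l
  simp only [Matrix.smul_apply, Matrix.sum_apply, smul_eq_mul, Matrix.one_apply] at h2
  have h3 : ∀ g : G, (matOf ρ g * Matrix.single j k' (1 : k) * matOf ρ g⁻¹) i l
      = matOf ρ g i j * matOf ρ g⁻¹ k' l := by
    intro g
    rw [Matrix.mul_apply, Finset.sum_eq_single k']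
    · rw [Matrix.mul_single_apply_same, mul_one]
    · intro b _ hb
      rw [Matrix.mul_single_apply_of_ne _ _ _ _ _ hb, zero_mul]
    · intro hk
      exact absurd (Finset.mem_univ k') hk
  simp only [h3] at h2
  rw [h2]
  by_cases hjk : j = k'
  · subst hjk
    by_cases hil : i = l
    · simp [hil]
    · simp [hil]
  · simp [hjk, Matrix.trace_single_eq_of_ne _ _ _ hjk]

end Cfsg.Agent.Lib.Helper74
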