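import Mathlib
import Cfsg.Prelude.Def_OddOrderChar
import Cfsg.Prelude.Def_OddOrderLocal
import Cfsg.Agent.Lib.Helper74.SibleyExc
import Cfsg.Agent.Lib.Helper74.SibleyAdd

set_option autoImplicit false
set_option linter.unusedSectionVars false
set_option linter.style.haveILetI false

namespace Cfsg.Agent.Lib.Helper74

open Cfsg Cfsg.Agent.Lib.Helper78 Cfsg.Agent.Lib.Helper75 Cfsg.Agent.Lib.Helper25.CohDescent

universe u

section Step4

variable {G : Type u} [Group G] [Fintype G] (H L W₁ : Subgroup G) [Fintype L]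

/-- **Step 4 of Sibley's theorem**: if `A ∪ B` is coherent (`A = S([K,K])`, `B = S ∖ S(Z)` the
irreducible characters of `L` nontrivial on the normal subgroup `Z ≤ K` with `|Z| ≥ 3`), then so is
`S`. -/
theorem sibley_step4 (hHL : H ≤ L) (hW₁L : W₁ ≤ L) (hW1 : W₁ ≠ ⊥)
    (hHn : ∀ x ∈ L, ∀ h ∈ H, x * h * x⁻¹ ∈ H)
    (hinf : H ⊓ W₁ = ⊥) (hsup : H ⊔ W₁ = L)
    (hfpf : ∀ w ∈ W₁, w ≠ 1 → ∀ h ∈ H, w * h = h * w → h = 1)
    (hTI : IsTISubset (H : Set G)) (hN : Subgroup.normalizer (H : Set G) = L)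
    (Z : Subgroup L) [hZn : Z.Normal] (hZK : Z ≤ H.subgroupOf L) (hZ3 : 3 ≤ Nat.card Z)
    (hBeq : inducedIrrAbove (H.subgroupOf L) ⊥ \ inducedIrrAbove (H.subgroupOf L) Z =
      {χ | IsIrrCharacter L χ ∧ ∃ z ∈ Z, χ z ≠ χ 1})
    (hAne : (inducedIrrAbove (H.subgroupOf L) ⁅H.subgroupOf L, H.subgroupOf L⁆).Nonempty)
    (hAB : IsCoherent (inducedIrrAbove (H.subgroupOf L) ⁅H.subgroupOf L, H.subgroupOf L⁆ ∪
      (inducedIrrAbove (H.subgroupOf L) ⊥ \ inducedIrrAbove (H.subgroupOf L) Z)) {1}ᶜ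
      (fun α : L → ℂ => indFun L α)) :
    IsCoherent (inducedIrrAbove (H.subgroupOf L) ⊥) {1}ᶜ (fun α : L → ℂ => indFun L α) := by
  classical
  haveI hKn := subgroupOf_normal_of_conj H L hHn
  have hC := frobK_centralizer_le H L W₁ hHL hW₁L hHn hsup hfpf
  have hKL := subgroupOf_lt_top H L W₁ hW₁L hW1 hinf
  have hiso := sibley_isLinearIsometryOn H L hHL hHn hTI hN hC
  set K : Subgroup L := H.subgroupOf L with hKdef
  have hirr : ∀ ξ ∈ inducedIrrAbove K ⊥, IsIrrCharacter L ξ :=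
    fun ξ hξ => sibleyS_isIrrCharacter K hC hξ
  obtain ⟨ψ₀, hψ₀⟩ := hAne
  -- the finite set `B`
  have hBfin : (inducedIrrAbove K ⊥ \ inducedIrrAbove K Z).Finite :=
    ((Set.finite_range (Subtype.val : IrrCharacter L → L → ℂ)).subset
      (fun ξ hξ => ⟨⟨ξ, hirr ξ hξ.1⟩, rfl⟩))
  have hTf : ∀ ξ, ξ ∈ hBfin.toFinset ↔ IsIrrCharacter L ξ ∧ ∃ z ∈ Z, ξ z ≠ ξ 1 := by
    intro ξ
    rw [Set.Finite.mem_toFinset, hBeq]
    rfl
  apply sibley_add L (inducedIrrAbove K ⊥)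
    (inducedIrrAbove K ⁅K, K⁆ ∪ (inducedIrrAbove K ⊥ \ inducedIrrAbove K Z)) hirr
    (Set.union_subset (sibleyA_subset K) Set.sdiff_subset) hiso.1 hiso.2 hAB K.index ψ₀
    (Or.inl hψ₀) (sibleyA_degree K hψ₀) hBfin.toFinset
    (by rw [Set.Finite.coe_toFinset]; exact Set.subset_union_right) (2 * Z.index)
    (fun d hd => two_mul_index_le_sum Z hZ3 _ hTf d hd)
  intro χ hχS hχT
  have hχA : χ ∉ inducedIrrAbove K ⁅K, K⁆ := fun h => hχT (Or.inl h)
  have hχZ : χ ∈ inducedIrrAbove K Z := by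
    by_contra h
    exact hχT (Or.inr ⟨hχS, h⟩)
  obtain ⟨θ, hθ, hθ1, hθZ, rfl⟩ := hχZ
  have hχirr := hirr _ hχS
  have htriv : ∀ z ∈ Z, indFun K θ z = indFun K θ 1 := fun z hz =>
    indFun_eq_of_forall_eq K Z hZK θ hθZ z hz
  have hne1 : indFun K θ ≠ fun _ => 1 := by
    intro h
    obtain ⟨x, -, hx⟩ := SetLike.exists_of_lt hKL
    have h0 := sibleyS_vanish K hχS x hx
    rw [h] at h0
    exact one_ne_zero h0
  have hsq := charDegree_sq_succ_le_index Z hχirr htriv hne1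
  have hdeg : charDegree (indFun K θ) = K.index * charDegree θ :=
    charDegree_indFun K (IsIrrCharacter.isCharacter hθ)
  have hpos : 0 < charDegree θ := IsIrrCharacter.charDegree_pos hθ
  have hepos : 0 < K.index := Nat.pos_of_ne_zero K.index_ne_zero_of_finite
  refine ⟨charDegree (indFun K θ),
    IsCharacter.apply_one_eq_charDegree (IsIrrCharacter.isCharacter hχirr), ?_, ?_⟩
  · rw [hdeg]; exact Dvd.intro _ rfl
  · rw [hdeg] at hsq ⊢
    nlinarith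

end Step4

end Cfsg.Agent.Lib.Helper74
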