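import Mathlib
import Cfsg.Agent.Lib.Helper74.TaketaAux

set_option autoImplicit false

namespace Cfsg.Agent.Lib.Helper74

open Cfsg Cfsg.Agent.Lib.Helper78 Cfsg.Agent.Lib.Helper75
open scoped ComplexConjugate

universe u

section Taketa2

variable {G : Type u} [Group G] [Fintype G]

/-- constituents of a permutation character `(1_H)^G` of degree `d ≥ 2` have degree `< d` -/
theorem charDegree_lt_of_constituent_indFun_one (H : Subgroup G) {d : ℕ} (hd : H.index = d)
    (hd2 : 2 ≤ d) (ψ : IrrCharacter G)
    (hψ : classInner (indFun H (fun _ => (1 : ℂ))) (ψ : G → ℂ) ≠ 0) :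
    charDegree (ψ : G → ℂ) < d := by
  classical
  have : Fintype H := Fintype.ofFinite H
  set π : G → ℂ := indFun H (fun _ => (1 : ℂ)) with hπ
  have hπc : IsCharacter G π :=
    Cfsg.Agent.S0148.result H _ (IsIrrCharacter.isCharacter (isIrrCharacter_one (G := H)))
  choose m hm using fun φ : IrrCharacter G => IsCharacter.exists_nat_classInner hπc φ
  have hexp := IsCharacter.eq_sum_irr hπc
  -- degrees
  have hdeg : ∑ φ : IrrCharacter G, m φ * charDegree (φ : G → ℂ) = d := by
    have h1 := congrFun hexp 1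
    rw [hπ, indFun_one, hd] at h1
    simp only [Finset.sum_apply, Pi.smul_apply, smul_eq_mul, mul_one] at h1
    have h2 : ∀ φ : IrrCharacter G, classInner (indFun H fun _ => (1 : ℂ)) (φ : G → ℂ) * (φ : G → ℂ) 1
        = ((m φ * charDegree (φ : G → ℂ) : ℕ) : ℂ) := by
      intro φ
      rw [← hπ, hm φ, IsCharacter.apply_one_eq_charDegree (IsIrrCharacter.isCharacter φ.2)]
      push_cast; ring
    simp only [h2] at h1
    have h3 : ((d : ℕ) : ℂ) = ((∑ φ : IrrCharacter G, m φ * charDegree (φ : G → ℂ) : ℕ) : ℂ) := by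
      rw [h1]; push_cast; rfl
    exact_mod_cast h3.symm
  let one' : IrrCharacter G := ⟨fun _ => 1, isIrrCharacter_one⟩
  have hm1 : m one' = 1 := by
    have h1 : classInner π (one' : G → ℂ) = 1 := by
      rw [hπ, frobenius_reciprocity H _ (isClassFunction_irr one')]
      exact classInner_irr_self (isIrrCharacter_one (G := H))
    rw [hm one'] at h1
    exact_mod_cast h1
  have hmψ : m ψ ≠ 0 := by
    intro h0
    apply hψ
    rw [hm ψ, h0]; simp
  have hone_deg : charDegree (one' : G → ℂ) = 1 := by
    simp [charDegree, one']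
  by_cases hψ1 : ψ = one'
  · rw [hψ1, hone_deg]; omega
  · have h2 : m one' * charDegree (one' : G → ℂ) + m ψ * charDegree (ψ : G → ℂ)
        ≤ ∑ φ : IrrCharacter G, m φ * charDegree (φ : G → ℂ) := by
      have := Finset.add_le_sum (f := fun φ : IrrCharacter G => m φ * charDegree (φ : G → ℂ))
        (s := Finset.univ) (fun _ _ => Nat.zero_le _) (Finset.mem_univ one') (Finset.mem_univ ψ)
        (fun h => hψ1 h.symm)
      simpa using this
    rw [hdeg, hm1, hone_deg] at h2
    have h3 : charDegree (ψ : G → ℂ) ≤ m ψ * charDegree (ψ : G → ℂ) :=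
      Nat.le_mul_of_pos_left _ (Nat.pos_of_ne_zero hmψ)
    omega

end Taketa2

end Cfsg.Agent.Lib.Helper74
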