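import Mathlib
import Cfsg.Agent.Lib.Helper74.TaketaDeg

set_option autoImplicit false

namespace Cfsg.Agent.Lib.Helper74

open Cfsg Cfsg.Agent.Lib.Helper78 Cfsg.Agent.Lib.Helper75
open scoped ComplexConjugate commutatorElement

universe u

section Taketa3

variable {G : Type u} [Group G] [Fintype G]

theorem taketa_aux
    (hM : ∀ χ : G → ℂ, IsIrrCharacter G χ → ∃ (H : Subgroup G) (lam : H →* ℂˣ),
      χ = indFun H (fun h => (lam h : ℂ))) :
    ∀ d : ℕ, ∀ χ : G → ℂ, IsIrrCharacter G χ → charDegree χ ≤ d →
      ∀ g ∈ derivedSeries G d, χ g = χ 1 := by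
  classical
  intro d
  induction d using Nat.strong_induction_on with
  | _ d ih =>
    intro χ hχ hdeg g hg
    have hχc := IsIrrCharacter.isCharacter hχ
    have hpos := IsIrrCharacter.charDegree_pos hχ
    rcases Nat.lt_or_eq_of_le hdeg with hlt | heq
    · -- smaller degree: use the induction hypothesis
      exact ih _ hlt χ hχ le_rfl g (derivedSeries_antitone G hlt.le hg)
    · by_cases hd1 : d = 1
      · -- linear character
        subst hd1
        have h1 : χ 1 = 1 := by
          rw [IsCharacter.apply_one_eq_charDegree hχc, heq]; simp
        have hgc : g ∈ commutator G := by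
          rw [derivedSeries_one] at hg; exact hg
        have := Cfsg.Agent.Lib.Helper77.linear_character_eq_one_of_mem_commutator ⟨χ, hχ⟩ h1 g hgc
        rw [h1]; exact this
      · have hd2 : 2 ≤ d := by omega
        obtain ⟨H, lam, hχeq⟩ := hM χ hχ
        have : Fintype H := Fintype.ofFinite H
        -- degree = index
        have hidx : H.index = d := by
          have h1 := IsCharacter.apply_one_eq_charDegree hχc
          rw [heq] at h1
          have h2 := congrFun hχeq 1
          rw [indFun_one, h1] at h2
          simp only [map_one, Units.val_one, mul_one] at h2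
          exact_mod_cast h2.symm
        -- the permutation character is constant on `D = G^(d-1)`
        set π : G → ℂ := indFun H (fun _ => (1 : ℂ)) with hπ
        have hπc : IsCharacter G π :=
          Cfsg.Agent.S0148.result H _ (IsIrrCharacter.isCharacter (isIrrCharacter_one (G := H)))
        have hπD : ∀ x ∈ derivedSeries G (d - 1), π x = π 1 := by
          intro x hx
          have hexp := IsCharacter.eq_sum_irr hπc
          rw [hexp]
          simp only [Finset.sum_apply, Pi.smul_apply, smul_eq_mul]
          apply Finset.sum_congr rfl
          intro ψ _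
          by_cases h0 : classInner π (ψ : G → ℂ) = 0
          · rw [h0, zero_mul, zero_mul]
          · have hlt := charDegree_lt_of_constituent_indFun_one H hidx hd2 ψ h0
            have := ih (d - 1) (by omega) ψ ψ.2 (by omega) x hx
            rw [this]
        have hDH : derivedSeries G (d - 1) ≤ H := fun x hx =>
          mem_of_indFun_one_eq H (hπD x hx)
        -- `G^(d)` lies in the kernel of `lam`
        have hsucc : derivedSeries G d = ⁅derivedSeries G (d - 1), derivedSeries G (d - 1)⁆ := by
          have : d = (d - 1) + 1 := by omega
          conv_lhs => rw [this, derivedSeries_succ]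
        have hker : derivedSeries G d ≤ (MonoidHom.ker lam).map H.subtype := by
          rw [hsucc, Subgroup.commutator_le]
          intro a ha b hb
          refine ⟨⁅(⟨a, hDH ha⟩ : H), ⟨b, hDH hb⟩⁆, ?_, rfl⟩
          rw [SetLike.mem_coe, MonoidHom.mem_ker, map_commutatorElement]
          exact commutatorElement_eq_one_iff_commute.mpr (Commute.all _ _)
        have hDdH : derivedSeries G d ≤ H := by
          intro x hx
          obtain ⟨y, _, rfl⟩ := hker hx
          exact y.2
        have hlam : ∀ h : H, (h : G) ∈ derivedSeries G d →
            (fun h : H => ((lam h : ℂˣ) : ℂ)) h = (fun h : H => ((lam h : ℂˣ) : ℂ)) 1 := by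
          intro h hh
          obtain ⟨y, hy, hyh⟩ := hker hh
          have : y = h := Subtype.ext hyh
          subst this
          have : lam y = 1 := MonoidHom.mem_ker.mp hy
          simp [this]
        rw [hχeq]
        exact indFun_eq_of_mem_normal H _ (derivedSeries G d) hDdH hlam hg

/-- **Taketa's theorem**: M-groups are solvable. -/
theorem taketa
    (hM : ∀ χ : G → ℂ, IsIrrCharacter G χ → ∃ (H : Subgroup G) (lam : H →* ℂˣ),
      χ = indFun H (fun h => (lam h : ℂ))) : Group.IsSolvable G := by
  classical
  rw [Group.isSolvable_def]
  refine ⟨∑ χ : IrrCharacter G, charDegree (χ : G → ℂ), ?_⟩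
  rw [eq_bot_iff]
  intro g hg
  rw [Subgroup.mem_bot]
  have hconj : IsConj g 1 := by
    apply isConj_of_forall_irr_eq
    intro χ
    apply taketa_aux hM _ χ χ.2 _ g hg
    exact Finset.single_le_sum (f := fun χ : IrrCharacter G => charDegree (χ : G → ℂ))
      (fun _ _ => Nat.zero_le _) (Finset.mem_univ χ)
  exact isConj_one_left.mp hconj

end Taketa3

end Cfsg.Agent.Lib.Helper74
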